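import Mathlib

set_option autoImplicit false

namespace Cfsg.Agent.Helper10

open scoped Pointwise

variable {G : Type*} [Group G] [Finite G] {p : ℕ} [Fact p.Prime]

/-- Sylow's theorem inside a subgroup `C` containing a Sylow `p`-subgroup `P` of `G`: every `p`-subgroup
of `C` is conjugate by an element of `C` into `P`. -/
theorem exists_conj_le_sylow_of_le (P : Sylow p G) (C R : Subgroup G) (hPC : (P : Subgroup G) ≤ C)
    (hR : IsPGroup p ↥R) (hRC : R ≤ C) :
    ∃ c ∈ C, ∀ r ∈ R, c * r * c⁻¹ ∈ (P : Subgroup G) := by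
  let P' : Sylow p ↥C := P.subtype hPC
  have hR' : IsPGroup p ↥(R.subgroupOf C) := hR.comap_subtype
  obtain ⟨Q', hQ'⟩ := hR'.exists_le_sylow
  obtain ⟨c, hc⟩ := MulAction.exists_smul_eq ↥C Q' P'
  refine ⟨c, c.2, ?_⟩
  intro r hr
  have hrQ : (⟨r, hRC hr⟩ : ↥C) ∈ (Q' : Subgroup ↥C) := hQ' (by rw [Subgroup.mem_subgroupOf]; exact hr)
  have h1 : (MulAut.conj c) • (⟨r, hRC hr⟩ : ↥C) ∈ ((c • Q' : Sylow p ↥C) : Subgroup ↥C) := by
    rw [Sylow.coe_subgroup_smul]
    exact Subgroup.smul_mem_pointwise_smul _ _ _ hrQ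
  rw [hc] at h1
  have h2 : (MulAut.conj c) • (⟨r, hRC hr⟩ : ↥C) ∈ (P : Subgroup G).subgroupOf C := by
    have : ((P' : Sylow p ↥C) : Subgroup ↥C) = (P : Subgroup G).subgroupOf C := rfl
    rw [← this]; exact h1
  rw [Subgroup.mem_subgroupOf] at h2
  simpa [MulAut.smul_def, MulAut.conj_apply] using h2

/-- Two Sylow `p`-subgroups of `G` contained in `C` are conjugate in `C`. -/
theorem exists_conj_eq_sylow_of_le (P Q : Sylow p G) (C : Subgroup G) (hPC : (P : Subgroup G) ≤ C)
    (hQC : (Q : Subgroup G) ≤ C) :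
    ∃ c ∈ C, (Q : Subgroup G).map (MulAut.conj c).toMonoidHom = (P : Subgroup G) := by
  obtain ⟨c, hcC, hc⟩ := exists_conj_le_sylow_of_le P C Q hPC Q.2 hQC
  refine ⟨c, hcC, ?_⟩
  have hle : (Q : Subgroup G).map (MulAut.conj c).toMonoidHom ≤ (P : Subgroup G) := by
    rintro _ ⟨r, hr, rfl⟩
    simpa [MulAut.conj_apply] using hc r hr
  -- equal cardinalities
  have hcard : Nat.card ↥((Q : Subgroup G).map (MulAut.conj c).toMonoidHom) = Nat.card ↥(P : Subgroup G) := by
    rw [Subgroup.card_map_of_injective (MulAut.conj c).injective]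
    exact Sylow.card_eq_multiplicity Q ▸ (Sylow.card_eq_multiplicity P).symm
  exact Subgroup.eq_of_le_of_card_ge hle (le_of_eq hcard.symm)

end Cfsg.Agent.Helper10

namespace Cfsg.Agent.Helper10

open scoped Pointwise

theorem mem_normalizer_of_map_conj_eq {G : Type*} [Group G] {P : Subgroup G} {n : G}
    (h : P.map (MulAut.conj n).toMonoidHom = P) : n ∈ Subgroup.normalizer (P : Set G) := by
  rw [Subgroup.mem_normalizer_iff]
  intro x
  constructor
  · intro hx
    rw [← h]
    exact ⟨x, hx, by simp [MulAut.conj_apply]⟩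
  · intro hx
    rw [← h] at hx
    obtain ⟨y, hy, hyx⟩ := hx
    have : y = x := by
      have : n * y * n⁻¹ = n * x * n⁻¹ := by simpa [MulAut.conj_apply] using hyx
      simpa using this
    rw [← this]; exact hy

theorem map_conj_eq_of_mem_normalizer {G : Type*} [Group G] {P : Subgroup G} {n : G}
    (h : n ∈ Subgroup.normalizer (P : Set G)) : P.map (MulAut.conj n).toMonoidHom = P := by
  ext x
  constructor
  · rintro ⟨y, hy, rfl⟩
    have := (Subgroup.mem_normalizer_iff.1 h y).1 hy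
    simpa [MulAut.conj_apply] using this
  · intro hx
    refine ⟨n⁻¹ * x * n, ?_, by simp [MulAut.conj_apply, mul_assoc]⟩
    have := (Subgroup.mem_normalizer_iff.1 (Subgroup.inv_mem _ h) x).1 hx
    simpa using this

theorem sylow_smul_coe_eq_map {G : Type*} [Group G] {p : ℕ} (P : Sylow p G) (g : G) :
    ((g • P : Sylow p G) : Subgroup G) = (P : Subgroup G).map (MulAut.conj g).toMonoidHom := by
  rw [Sylow.coe_subgroup_smul]
  rfl

end Cfsg.Agent.Helper10
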