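import Mathlib
import Cfsg.Prelude.Def_Transfer
import Cfsg.Agent.Helper10.SylowSub

set_option autoImplicit false

namespace Cfsg.Agent.Helper10

open Cfsg

variable {H : Type*} [Group H]

theorem pResidual_map_le (p : ℕ) (f : H ≃* H) : (pResidual p H).map f.toMonoidHom ≤ pResidual p H := by
  unfold pResidual
  rw [MonoidHom.map_closure]
  apply Subgroup.closure_mono
  rintro _ ⟨g, hg, rfl⟩
  show Nat.Coprime (orderOf (f g)) p
  rw [MulEquiv.orderOf_eq]
  exact hg

instance pResidual_normal (p : ℕ) : (pResidual p H).Normal := by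
  constructor
  intro n hn g
  have := pResidual_map_le p (MulAut.conj g) (Subgroup.mem_map_of_mem _ hn)
  simpa [MulAut.conj_apply] using this

theorem mem_pResidual_of_coprime {p : ℕ} {g : H} (hg : Nat.Coprime (orderOf g) p) : g ∈ pResidual p H :=
  Subgroup.subset_closure hg

theorem isPGroup_quotient_pResidual [Finite H] (p : ℕ) [hp : Fact p.Prime] :
    IsPGroup p (H ⧸ pResidual p H) := by
  intro q
  obtain ⟨g, rfl⟩ := QuotientGroup.mk_surjective q
  have hpos : 0 < orderOf g := orderOf_pos g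
  obtain ⟨a, b, hb, hab⟩ := Nat.exists_eq_pow_mul_and_not_dvd hpos.ne' p hp.out.ne_one
  refine ⟨a, ?_⟩
  rw [← QuotientGroup.mk_pow, QuotientGroup.eq_one_iff]
  apply mem_pResidual_of_coprime
  have hpa : p ^ a ≠ 0 := pow_ne_zero _ hp.out.ne_zero
  rw [orderOf_pow' g hpa, hab]
  have : Nat.gcd (p ^ a * b) (p ^ a) = p ^ a := Nat.gcd_eq_right (Dvd.intro _ rfl)
  rw [this, Nat.mul_div_cancel_left _ (Nat.pos_of_ne_zero hpa)]
  exact ((Nat.Prime.coprime_iff_not_dvd hp.out).2 hb).symm

theorem sylow_sup_pResidual [Finite H] {p : ℕ} [hp : Fact p.Prime] (R : Sylow p H) :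
    (R : Subgroup H) ⊔ pResidual p H = ⊤ := by
  rw [← Subgroup.index_eq_one]
  have h1 : ((R : Subgroup H) ⊔ pResidual p H).index ∣ (R : Subgroup H).index :=
    Subgroup.index_dvd_of_le le_sup_left
  have h2 : ((R : Subgroup H) ⊔ pResidual p H).index ∣ (pResidual p H).index :=
    Subgroup.index_dvd_of_le le_sup_right
  obtain ⟨k, hk⟩ := (IsPGroup.iff_card).1 (isPGroup_quotient_pResidual (H := H) p)
  have h3 : (pResidual p H).index = p ^ k := by
    rw [Subgroup.index_eq_card]; exact hk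
  rw [h3] at h2
  have hcop : Nat.Coprime (R : Subgroup H).index (p ^ k) := by
    apply Nat.Coprime.pow_right
    exact ((Nat.Prime.coprime_iff_not_dvd hp.out).2 R.not_dvd_index).symm
  exact Nat.eq_one_of_dvd_coprimes hcop h1 h2

theorem exists_sylow_mul_pResidual [Finite H] {p : ℕ} [hp : Fact p.Prime] (R : Sylow p H) (h : H) :
    ∃ s ∈ (R : Subgroup H), ∃ u ∈ pResidual p H, h = s * u := by
  have hh : h ∈ (R : Subgroup H) ⊔ pResidual p H := by rw [sylow_sup_pResidual]; exact Subgroup.mem_top h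
  have := (Subgroup.mul_normal (R : Subgroup H) (pResidual p H)) ▸ (show h ∈ (((R : Subgroup H) ⊔ pResidual p H : Subgroup H) : Set H) from hh)
  obtain ⟨s, hs, u, hu, rfl⟩ := Set.mem_mul.1 this
  exact ⟨s, hs, u, hu, rfl⟩


/-- Sylow: a `p`-subgroup can be conjugated into a given Sylow `p`-subgroup by an element of `O^p(H)`. -/
theorem exists_pResidual_conj_le_sylow [Finite H] {p : ℕ} [hp : Fact p.Prime] (R : Sylow p H)
    (X : Subgroup H) (hX : IsPGroup p ↥X) :
    ∃ u ∈ pResidual p H, ∀ x ∈ X, u * x * u⁻¹ ∈ (R : Subgroup H) := by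
  obtain ⟨n, -, hn⟩ := exists_conj_le_sylow_of_le R ⊤ X le_top hX le_top
  obtain ⟨s, hs, u, hu, rfl⟩ := exists_sylow_mul_pResidual R n
  refine ⟨u, hu, fun x hx => ?_⟩
  have h1 := hn x hx
  have h2 : u * x * u⁻¹ = s⁻¹ * (s * u * x * (s * u)⁻¹) * s := by group
  rw [h2]
  exact (R : Subgroup H).mul_mem ((R : Subgroup H).mul_mem ((R : Subgroup H).inv_mem hs) h1) hs

end Cfsg.Agent.Helper10
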