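import Mathlib

set_option autoImplicit false

namespace Cfsg.Agent.Helper10

variable {G : Type*} [Group G]

/-- `A ≤ N(B)` in terms of conjugates. -/
theorem le_normalizer_iff_conj_mem {A B : Subgroup G} :
    A ≤ Subgroup.normalizer (B : Set G) ↔ ∀ a ∈ A, ∀ b ∈ B, a * b * a⁻¹ ∈ B := by
  constructor
  · intro h a ha b hb
    exact (Subgroup.mem_normalizer_iff.1 (h ha) b).1 hb
  · intro h a ha
    rw [Subgroup.mem_normalizer_iff]
    intro b
    constructor
    · exact h a ha b
    · intro hb
      have := h a⁻¹ (A.inv_mem ha) _ hb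
      simpa [mul_assoc] using this

section
variable (Q : Subgroup G)

theorem map_subtype_le_iff {A B : Subgroup ↥Q} : A.map Q.subtype ≤ B.map Q.subtype ↔ A ≤ B :=
  Subgroup.map_le_map_iff_of_injective Q.subtype_injective

theorem map_subtype_eq_bot_iff {A : Subgroup ↥Q} : A.map Q.subtype = ⊥ ↔ A = ⊥ :=
  Subgroup.map_eq_bot_iff_of_injective A Q.subtype_injective

theorem le_centralizer_map_subtype_iff {A B : Subgroup ↥Q} :
    A.map Q.subtype ≤ Subgroup.centralizer ((B.map Q.subtype : Subgroup G) : Set G) ↔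
      A ≤ Subgroup.centralizer (B : Set ↥Q) := by
  rw [← Subgroup.commutator_eq_bot_iff_le_centralizer, ← Subgroup.commutator_eq_bot_iff_le_centralizer,
    ← Subgroup.map_commutator, map_subtype_eq_bot_iff]

theorem le_normalizer_map_subtype_iff {A B : Subgroup ↥Q} :
    A.map Q.subtype ≤ Subgroup.normalizer ((B.map Q.subtype : Subgroup G) : Set G) ↔
      A ≤ Subgroup.normalizer (B : Set ↥Q) := by
  rw [le_normalizer_iff_conj_mem, le_normalizer_iff_conj_mem]
  constructor
  · intro h a ha b hb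
    have := h a (Subgroup.mem_map_of_mem _ ha) b (Subgroup.mem_map_of_mem _ hb)
    obtain ⟨c, hc, hc'⟩ := this
    have : c = a * b * a⁻¹ := Subtype.ext (by simpa using hc')
    rw [← this]; exact hc
  · rintro h _ ⟨a, ha, rfl⟩ _ ⟨b, hb, rfl⟩
    exact ⟨a * b * a⁻¹, h a ha b hb, by simp⟩

theorem map_subtype_inf_centralizer (B : Subgroup ↥Q) :
    (B ⊓ Subgroup.centralizer (B : Set ↥Q)).map Q.subtype =
      B.map Q.subtype ⊓ Subgroup.centralizer ((B.map Q.subtype : Subgroup G) : Set G) := by
  apply le_antisymm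
  · apply le_inf
    · exact Subgroup.map_mono inf_le_left
    · rw [le_centralizer_map_subtype_iff]; exact inf_le_right
  · rintro x ⟨⟨b, hb, rfl⟩, hx⟩
    refine ⟨b, ⟨hb, ?_⟩, rfl⟩
    intro c hc
    have := hx (Q.subtype c) (Subgroup.mem_map_of_mem _ hc)
    exact Subtype.ext (by simpa using this)

theorem exists_eq_map_subtype_of_le {A' : Subgroup G} (h : A' ≤ Q) :
    (A'.subgroupOf Q).map Q.subtype = A' :=
  Subgroup.map_subgroupOf_eq_of_le h

end

end Cfsg.Agent.Helper10
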