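import Mathlib
import Cfsg.Prelude.Def_ConjugacyFunctors
import Cfsg.Agent.Helper14.Conj
import Cfsg.Agent.Helper11.SylowInter
import Cfsg.Agent.S2014

set_option autoImplicit false

namespace Cfsg.Agent.Helper10

open Subgroup

variable {G : Type*} [Group G]

/-- right conjugate of a set: `A^g = g⁻¹ A g` -/
def rc (g : G) (A : Set G) : Set G := (fun a => g⁻¹ * a * g) '' A

theorem mem_rc {g : G} {A : Set G} {y : G} : y ∈ rc g A ↔ g * y * g⁻¹ ∈ A := by
  constructor
  · rintro ⟨a, ha, rfl⟩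
    simpa [mul_assoc] using ha
  · intro h
    exact ⟨g * y * g⁻¹, h, by group⟩

theorem rc_one (A : Set G) : rc 1 A = A := by
  ext y; rw [mem_rc]; simp

theorem rc_mul (g h : G) (A : Set G) : rc (g * h) A = rc h (rc g A) := by
  ext y
  rw [mem_rc, mem_rc, mem_rc]
  have : g * h * y * (g * h)⁻¹ = g * (h * y * h⁻¹) * g⁻¹ := by group
  rw [this]

theorem rc_inv_rc (g : G) (A : Set G) : rc g⁻¹ (rc g A) = A := by
  rw [← rc_mul, mul_inv_cancel, rc_one]

theorem rc_rc_inv (g : G) (A : Set G) : rc g (rc g⁻¹ A) = A := by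
  rw [← rc_mul, inv_mul_cancel, rc_one]

theorem rc_mono (g : G) {A B : Set G} (h : A ⊆ B) : rc g A ⊆ rc g B :=
  Set.image_mono h

theorem rc_coe (g : G) (T : Subgroup G) :
    rc g (T : Set G) = ((T.map (Cfsg.Agent.Helper14.cj g⁻¹) : Subgroup G) : Set G) := by
  ext y
  rw [mem_rc, SetLike.mem_coe, SetLike.mem_coe, Cfsg.Agent.Helper14.mem_map_cj]
  simp

theorem rc_of_mem_normalizer {g : G} {T : Subgroup G} (hg : g ∈ normalizer (T : Set G)) :
    rc g (T : Set G) = T := by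
  ext y
  rw [mem_rc, SetLike.mem_coe, SetLike.mem_coe]
  exact (Subgroup.mem_normalizer_iff.mp hg y).symm

/-- decomposition of a conjugation along a family -/
def Dec (𝓕 : Set (Subgroup G)) : Set G → List (Subgroup G × G) → Prop
  | _, [] => True
  | A, (T, x) :: l => T ∈ 𝓕 ∧ x ∈ normalizer (T : Set G) ∧ A ⊆ T ∧ Dec 𝓕 (rc x A) l

def lprod (l : List (Subgroup G × G)) : G := (l.map Prod.snd).prod

theorem lprod_nil : lprod ([] : List (Subgroup G × G)) = 1 := rfl

theorem lprod_cons (T : Subgroup G) (x : G) (l : List (Subgroup G × G)) :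
    lprod ((T, x) :: l) = x * lprod l := by
  simp [lprod]

theorem lprod_append (l₁ l₂ : List (Subgroup G × G)) :
    lprod (l₁ ++ l₂) = lprod l₁ * lprod l₂ := by
  simp [lprod]

theorem Dec.mono {𝓕 : Set (Subgroup G)} {l : List (Subgroup G × G)} :
    ∀ {A B : Set G}, B ⊆ A → Dec 𝓕 A l → Dec 𝓕 B l := by
  induction l with
  | nil => intro A B _ _; trivial
  | cons a l ih =>
    obtain ⟨T, x⟩ := a
    intro A B hBA h
    exact ⟨h.1, h.2.1, hBA.trans h.2.2.1, ih (rc_mono x hBA) h.2.2.2⟩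

theorem Dec.append {𝓕 : Set (Subgroup G)} {l₁ l₂ : List (Subgroup G × G)} :
    ∀ {A : Set G}, Dec 𝓕 A l₁ → Dec 𝓕 (rc (lprod l₁) A) l₂ → Dec 𝓕 A (l₁ ++ l₂) := by
  induction l₁ with
  | nil =>
    intro A _ h2
    rw [lprod_nil, rc_one] at h2
    exact h2
  | cons a l ih =>
    obtain ⟨T, x⟩ := a
    intro A h1 h2
    rw [lprod_cons, rc_mul] at h2
    exact ⟨h1.1, h1.2.1, h1.2.2.1, ih h1.2.2.2 h2⟩

def linv (l : List (Subgroup G × G)) : List (Subgroup G × G) :=
  (l.map (fun a => (a.1, a.2⁻¹))).reverse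

theorem linv_cons (T : Subgroup G) (x : G) (l : List (Subgroup G × G)) :
    linv ((T, x) :: l) = linv l ++ [(T, x⁻¹)] := by
  simp [linv]

theorem lprod_linv (l : List (Subgroup G × G)) : lprod (linv l) = (lprod l)⁻¹ := by
  induction l with
  | nil => simp [linv, lprod]
  | cons a l ih =>
    obtain ⟨T, x⟩ := a
    rw [linv_cons, lprod_append, ih, lprod_cons, lprod_cons, lprod_nil, mul_one, mul_inv_rev]

theorem Dec.inv {𝓕 : Set (Subgroup G)} {l : List (Subgroup G × G)} :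
    ∀ {A : Set G}, Dec 𝓕 A l → Dec 𝓕 (rc (lprod l) A) (linv l) := by
  induction l with
  | nil => intro A _; trivial
  | cons a l ih =>
    obtain ⟨T, x⟩ := a
    intro A h
    rw [linv_cons, lprod_cons, rc_mul]
    apply Dec.append (ih h.2.2.2)
    rw [lprod_linv, rc_inv_rc]
    refine ⟨h.1, inv_mem h.2.1, ?_, trivial⟩
    rw [← rc_of_mem_normalizer h.2.1]
    exact rc_mono x h.2.2.1

theorem Dec.aux {𝓕 : Set (Subgroup G)} {l : List (Subgroup G × G)} :
    ∀ {A : Set G}, Dec 𝓕 A l →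
      (∀ (i : ℕ) (h : i < l.length), l[i].1 ∈ 𝓕 ∧ l[i].2 ∈ normalizer ((l[i].1 : Subgroup G) : Set G)) ∧
      (∀ h : 0 < l.length, A ⊆ l[0].1) ∧
      ∀ (i : ℕ) (h : i + 1 < l.length), rc (((l.map Prod.snd).take (i + 1)).prod) A ⊆ l[i + 1].1 := by
  induction l with
  | nil =>
    intro A _
    refine ⟨?_, ?_, ?_⟩
    · intro i h; simp at h
    · intro h; simp at h
    · intro i h; simp at h
  | cons a l ih =>
    obtain ⟨T, x⟩ := a
    intro A h
    obtain ⟨ih1, ih2, ih3⟩ := ih h.2.2.2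
    refine ⟨?_, ?_, ?_⟩
    · intro i hi
      cases i with
      | zero => exact ⟨h.1, h.2.1⟩
      | succ j =>
        simp only [List.length_cons, Nat.add_lt_add_iff_right] at hi
        simpa using ih1 j hi
    · intro _
      simpa using h.2.2.1
    · intro i hi
      simp only [List.length_cons, Nat.add_lt_add_iff_right] at hi
      simp only [List.map_cons, List.take_succ_cons, List.prod_cons, List.getElem_cons_succ]
      rw [rc_mul]
      cases i with
      | zero =>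
        simp only [List.take_zero, List.prod_nil, rc_one]
        exact ih2 hi
      | succ j =>
        exact ih3 j hi

theorem Dec.to_family {𝓕 : Set (Subgroup G)} {l : List (Subgroup G × G)} {A : Set G}
    (hd : Dec 𝓕 A l) :
    ∃ (n : ℕ) (T : Fin n → Subgroup G) (x : Fin n → G), (List.ofFn x).prod = lprod l ∧
      (∀ i, T i ∈ 𝓕) ∧ (∀ i, x i ∈ Subgroup.normalizer ((T i : Subgroup G) : Set G)) ∧
      (∀ h : 0 < n, A ⊆ T ⟨0, h⟩) ∧
      ∀ (i : Fin n) (h : i.val + 1 < n),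
        (fun a => (((List.ofFn x).take (i.val + 1)).prod)⁻¹ * a * ((List.ofFn x).take (i.val + 1)).prod) '' A ⊆
          T ⟨i.val + 1, h⟩ := by
  obtain ⟨h1, h2, h3⟩ := Dec.aux hd
  have hx : List.ofFn (fun i : Fin l.length => (l[(i : ℕ)]).2) = l.map Prod.snd :=
    List.ofFn_getElem_eq_map l Prod.snd
  refine ⟨l.length, fun i => (l[(i : ℕ)]).1, fun i => (l[(i : ℕ)]).2, ?_, ?_, ?_, ?_, ?_⟩
  · rw [hx]; rfl
  · intro i; exact (h1 i i.2).1
  · intro i; exact (h1 i i.2).2
  · intro h; exact h2 h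
  · intro i h
    rw [hx]
    exact h3 i h

theorem card_map_cj (T : Subgroup G) (g : G) :
    Nat.card ↥(T.map (Cfsg.Agent.Helper14.cj g)) = Nat.card ↥T :=
  (Nat.card_congr (T.equivMapOfInjective _ (Cfsg.Agent.Helper14.cj_injective g)).toEquiv).symm

/-- Alperin-type theorem: if every subgroup of `S` is conjugate to an extremal member of `𝓕`, then
every conjugation between subgroups of `S` decomposes along `𝓕`. -/
theorem exists_dec_of_extremal [Finite G] {p : ℕ} [Fact p.Prime] (S : Sylow p G)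
    (𝓕 : Set (Subgroup G)) (h𝓕 : ∀ U ∈ 𝓕, U ≤ (S : Subgroup G))
    (h : ∀ T : Subgroup G, T ≤ (S : Subgroup G) → ∃ U ∈ 𝓕,
      (∃ g : G, T.map (MulAut.conj g).toMonoidHom = U) ∧
      ¬ p ∣ ((S : Subgroup G) ⊓ Subgroup.normalizer ((U : Subgroup G) : Set G)).relIndex
        (Subgroup.normalizer ((U : Subgroup G) : Set G))) :
    ∀ (n : ℕ) (T : Subgroup G), T ≤ (S : Subgroup G) →
      Nat.card ↥(S : Subgroup G) - Nat.card ↥T = n →
      ∀ g : G, T.map (Cfsg.Agent.Helper14.cj g⁻¹) ≤ (S : Subgroup G) →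
      ∃ l : List (Subgroup G × G), Dec 𝓕 (T : Set G) l ∧ lprod l = g := by
  intro n
  induction n using Nat.strong_induction_on with
  | _ n ih =>
  intro T hTS hn g hg
  by_cases hTeq : T = (S : Subgroup G)
  · subst hTeq
    obtain ⟨U, hU, ⟨g₀, hg₀⟩, -⟩ := h (S : Subgroup G) le_rfl
    have hUS : U = (S : Subgroup G) := by
      apply Subgroup.eq_of_le_of_card_ge (h𝓕 U hU)
      rw [← hg₀, card_map_cj]
    have hgN : g ∈ normalizer (((S : Subgroup G) : Subgroup G) : Set G) := by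
      have h1 : (S : Subgroup G).map (Cfsg.Agent.Helper14.cj g⁻¹) = (S : Subgroup G) := by
        apply Subgroup.eq_of_le_of_card_ge hg
        rw [card_map_cj]
      have := Cfsg.Agent.Helper14.mem_normalizer_iff_map_cj.mpr h1
      simpa using inv_mem this
    refine ⟨[((S : Subgroup G), g)], ⟨hUS ▸ hU, hgN, le_rfl, trivial⟩, ?_⟩
    rw [lprod_cons, lprod_nil, mul_one]
  · have hTlt : T < (S : Subgroup G) := lt_of_le_of_ne hTS hTeq
    have hcardlt : Nat.card ↥T < Nat.card ↥(S : Subgroup G) := by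
      by_contra hcon
      push Not at hcon
      exact hTeq (Subgroup.eq_of_le_of_card_ge hTS hcon)
    -- the general step for a subgroup T' < S conjugate to U
    obtain ⟨U, hU, ⟨x, hx⟩, hext⟩ := h T hTS
    have step : ∀ (T' : Subgroup G), T' ≤ (S : Subgroup G) → Nat.card ↥T' = Nat.card ↥T →
        ∀ y : G, T'.map (MulAut.conj y).toMonoidHom = U →
        ∃ g₁ : G, T'.map (MulAut.conj g₁).toMonoidHom = U ∧
          ∃ l : List (Subgroup G × G), Dec 𝓕 (T' : Set G) l ∧ lprod l = g₁⁻¹ := by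
      intro T' hT'S hcard y hy
      obtain ⟨g₁, hg₁, hg₁N, -⟩ := Cfsg.Agent.S2014.result p S T' U hT'S (h𝓕 U hU) hext y hy
      refine ⟨g₁, hg₁, ?_⟩
      have hT'lt : T' < (S : Subgroup G) := by
        refine lt_of_le_of_ne hT'S ?_
        intro heq
        rw [heq] at hcard
        omega
      have hlt := Cfsg.Agent.Helper11.lt_inf_normalizer (S : Subgroup G) T' S.2 hT'lt
      have hcard2 : Nat.card ↥T' < Nat.card ↥((S : Subgroup G) ⊓ normalizer (T' : Set G)) := by
        by_contra hcon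
        push Not at hcon
        exact hlt.ne (Subgroup.eq_of_le_of_card_ge hlt.le hcon)
      have hle : Nat.card ↥((S : Subgroup G) ⊓ normalizer (T' : Set G)) ≤ Nat.card ↥(S : Subgroup G) :=
        Subgroup.card_le_of_le inf_le_left
      have hmeas : Nat.card ↥(S : Subgroup G) - Nat.card ↥((S : Subgroup G) ⊓ normalizer (T' : Set G)) < n := by
        omega
      have hconj : ((S : Subgroup G) ⊓ normalizer (T' : Set G)).map (Cfsg.Agent.Helper14.cj g₁⁻¹⁻¹) ≤ (S : Subgroup G) := by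
        rw [inv_inv]
        exact hg₁N.trans inf_le_left
      obtain ⟨l, hl, hlp⟩ := ih _ hmeas _ inf_le_left rfl g₁⁻¹ hconj
      exact ⟨l, hl.mono (by intro a ha; exact hlt.le ha), hlp⟩
    obtain ⟨g₁, hg₁, l₁, hl₁, hlp₁⟩ := step T hTS rfl x hx
    -- T' = T^g
    have hT'card : Nat.card ↥(T.map (Cfsg.Agent.Helper14.cj g⁻¹)) = Nat.card ↥T := card_map_cj T g⁻¹
    have hy : (T.map (Cfsg.Agent.Helper14.cj g⁻¹)).map (MulAut.conj (x * g)).toMonoidHom = U := by
      have := Cfsg.Agent.Helper14.map_cj_mul T (x * g) g⁻¹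
      rw [mul_assoc, mul_inv_cancel, mul_one] at this
      rw [← hx]
      exact this
    obtain ⟨g₂, hg₂, l₂, hl₂, hlp₂⟩ := step _ hg hT'card (x * g) hy
    -- m = g₁ g g₂⁻¹ normalizes U
    have hm : g₁ * g * g₂⁻¹ ∈ normalizer (U : Set G) := by
      have h1 : U.map (Cfsg.Agent.Helper14.cj (g₁ * g * g₂⁻¹)⁻¹) = U := by
        have e : (g₁ * g * g₂⁻¹)⁻¹ = g₂ * (g⁻¹ * g₁⁻¹) := by group
        rw [e, ← Cfsg.Agent.Helper14.map_cj_mul, ← Cfsg.Agent.Helper14.map_cj_mul]
        have e2 : U.map (Cfsg.Agent.Helper14.cj g₁⁻¹) = T := by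
          rw [← hg₁]
          exact Cfsg.Agent.Helper14.map_cj_map_cj_inv T g₁
        rw [e2]
        exact hg₂
      have := Cfsg.Agent.Helper14.mem_normalizer_iff_map_cj.mpr h1
      simpa using inv_mem this
    -- assemble
    have hU1 : rc (lprod l₁) (T : Set G) = (U : Set G) := by
      rw [hlp₁, rc_coe, inv_inv]
      exact congrArg _ hg₁
    have hU2 : rc (lprod l₂) ((T.map (Cfsg.Agent.Helper14.cj g⁻¹) : Subgroup G) : Set G) = (U : Set G) := by
      rw [hlp₂, rc_coe, inv_inv]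
      exact congrArg _ hg₂
    have hinv := hl₂.inv
    rw [hU2] at hinv
    refine ⟨l₁ ++ ((U, g₁ * g * g₂⁻¹) :: linv l₂), ?_, ?_⟩
    · apply Dec.append hl₁
      rw [hU1]
      refine ⟨hU, hm, le_rfl, ?_⟩
      rw [rc_of_mem_normalizer hm]
      exact hinv
    · rw [lprod_append, lprod_cons, lprod_linv, hlp₁, hlp₂]
      group

/-- set version of `exists_dec_of_extremal` -/
theorem exists_dec_of_extremal_set [Finite G] {p : ℕ} [Fact p.Prime] (S : Sylow p G)
    (𝓕 : Set (Subgroup G)) (h𝓕 : ∀ U ∈ 𝓕, U ≤ (S : Subgroup G))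
    (h : ∀ T : Subgroup G, T ≤ (S : Subgroup G) → ∃ U ∈ 𝓕,
      (∃ g : G, T.map (MulAut.conj g).toMonoidHom = U) ∧
      ¬ p ∣ ((S : Subgroup G) ⊓ Subgroup.normalizer ((U : Subgroup G) : Set G)).relIndex
        (Subgroup.normalizer ((U : Subgroup G) : Set G)))
    (A : Set G) (g : G) (hAS : A ⊆ (S : Subgroup G)) (hAg : rc g A ⊆ (S : Subgroup G)) :
    ∃ l : List (Subgroup G × G), Dec 𝓕 A l ∧ lprod l = g := by
  have hT : Subgroup.closure A ≤ (S : Subgroup G) := (Subgroup.closure_le _).mpr hAS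
  have hTg : (Subgroup.closure A).map (Cfsg.Agent.Helper14.cj g⁻¹) ≤ (S : Subgroup G) := by
    rw [MonoidHom.map_closure, Subgroup.closure_le]
    rintro _ ⟨a, ha, rfl⟩
    apply hAg
    exact ⟨a, ha, by simp⟩
  obtain ⟨l, hl, hlp⟩ := exists_dec_of_extremal S 𝓕 h𝓕 h _ _ hT rfl g hTg
  exact ⟨l, hl.mono Subgroup.subset_closure, hlp⟩

end Cfsg.Agent.Helper10
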