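import Mathlib
import Cfsg.Prelude.Def_ConjugacyFunctors
import Cfsg.Agent.Helper14.Conj
import Cfsg.Agent.Helper11.SylowInter
import Cfsg.Agent.Helper10.SylowSub

set_option autoImplicit false

namespace Cfsg.Agent.Helper10

open Subgroup Cfsg.Agent.Helper14

variable {G : Type*} [Group G]

/-- `U` is extremal in `S` for the prime `p`. -/
def IsExt (p : ℕ) (S U : Subgroup G) : Prop :=
  ¬ p ∣ (S ⊓ normalizer (U : Set G)).relIndex (normalizer (U : Set G))

theorem relIndex_map_cj (H K : Subgroup G) (x : G) :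
    (H.map (cj x)).relIndex (K.map (cj x)) = H.relIndex K :=
  Subgroup.relIndex_map_map_of_injective H K (cj_injective x)

/-- a `p`-subgroup `K ≤ N` containing `H` with `p ∤ |N : H|` equals `H` -/
theorem eq_of_le_of_not_dvd_relIndex [Finite G] {p : ℕ} [hp : Fact p.Prime] {H K N : Subgroup G}
    (hHK : H ≤ K) (hKN : K ≤ N) (hK : IsPGroup p ↥K) (h : ¬ p ∣ H.relIndex N) : H = K := by
  apply le_antisymm hHK
  rw [← Subgroup.relIndex_eq_one]
  have h1 := Subgroup.relIndex_mul_relIndex H K N hHK hKN
  obtain ⟨n, hn⟩ := hK.index (H.subgroupOf K)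
  change H.relIndex K = p ^ n at hn
  cases n with
  | zero => simpa using hn
  | succ m =>
    exfalso
    apply h
    rw [← h1, hn, pow_succ]
    exact Dvd.dvd.mul_right (Dvd.intro_left _ rfl) _

section tower

variable (W : Subgroup G → Subgroup G) (S T : Subgroup G)

/-- `P i = N_S(t i)` -/
def towerN (i : ℕ) : Subgroup G := S ⊓ normalizer ((Cfsg.functorTower W S T i : Subgroup G) : Set G)

theorem functorTower_zero : Cfsg.functorTower W S T 0 = T := rfl

theorem functorTower_succ (i : ℕ) : Cfsg.functorTower W S T (i + 1) = W (towerN W S T i) := rfl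

theorem towerN_le (i : ℕ) : towerN W S T i ≤ S := inf_le_left

variable {W S T}

theorem towerN_isPGroup {p : ℕ} (hS : IsPGroup p ↥S) (i : ℕ) : IsPGroup p ↥(towerN W S T i) :=
  hS.to_le inf_le_left

theorem functorTower_le {p : ℕ} (hW : Cfsg.IsConjugacyFunctor p W) (hS : IsPGroup p ↥S)
    (hT : T ≤ S) (i : ℕ) : Cfsg.functorTower W S T i ≤ S := by
  cases i with
  | zero => exact hT
  | succ j =>
    rw [functorTower_succ]
    exact ((hW _ (towerN_isPGroup hS j)).1).trans inf_le_left

theorem functorTower_le_towerN {p : ℕ} (hW : Cfsg.IsConjugacyFunctor p W) (hS : IsPGroup p ↥S)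
    (hT : T ≤ S) (i : ℕ) : Cfsg.functorTower W S T i ≤ towerN W S T i :=
  le_inf (functorTower_le hW hS hT i) Subgroup.le_normalizer

/-- `N_S(P)` normalizes `W(P)` -/
theorem normalizer_le_normalizer_functor {p : ℕ} (hW : Cfsg.IsConjugacyFunctor p W)
    {P : Subgroup G} (hP : IsPGroup p ↥P) :
    normalizer (P : Set G) ≤ normalizer ((W P : Subgroup G) : Set G) := by
  intro g hg
  rw [mem_normalizer_iff_map_cj] at hg ⊢
  have := (hW P hP).2.2 g
  change W (P.map (cj g)) = (W P).map (cj g) at this
  rw [hg] at this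
  exact this.symm

theorem towerN_mono_succ {p : ℕ} (hW : Cfsg.IsConjugacyFunctor p W) (hS : IsPGroup p ↥S) (i : ℕ) :
    S ⊓ normalizer ((towerN W S T i : Subgroup G) : Set G) ≤ towerN W S T (i + 1) := by
  refine le_inf inf_le_left ?_
  rw [functorTower_succ]
  exact inf_le_right.trans (normalizer_le_normalizer_functor hW (towerN_isPGroup hS i))

theorem towerN_le_succ {p : ℕ} (hW : Cfsg.IsConjugacyFunctor p W) (hS : IsPGroup p ↥S) (i : ℕ) :
    towerN W S T i ≤ towerN W S T (i + 1) :=
  (le_inf (towerN_le W S T i) Subgroup.le_normalizer).trans (towerN_mono_succ hW hS i)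

theorem towerN_mono {p : ℕ} (hW : Cfsg.IsConjugacyFunctor p W) (hS : IsPGroup p ↥S) :
    Monotone (towerN W S T) :=
  monotone_nat_of_le_succ (towerN_le_succ hW hS)

theorem towerN_eq_of_eq {p : ℕ} (hW : Cfsg.IsConjugacyFunctor p W) (hS : IsPGroup p ↥S) {i : ℕ}
    (h : towerN W S T i = S) : ∀ j, i ≤ j → towerN W S T j = S := by
  intro j hij
  exact le_antisymm (towerN_le W S T j) (le_of_eq_of_le h.symm (towerN_mono (T := T) hW hS hij))

theorem card_towerN_ge [Finite G] {p : ℕ} [Fact p.Prime] (hW : Cfsg.IsConjugacyFunctor p W)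
    (hS : IsPGroup p ↥S) (i : ℕ) :
    towerN W S T i = S ∨ i + 1 ≤ Nat.card ↥(towerN W S T i) := by
  induction i with
  | zero => right; exact Nat.card_pos
  | succ j ih =>
    rcases ih with h | h
    · left; exact towerN_eq_of_eq hW hS h _ (Nat.le_succ j)
    · by_cases hj : towerN W S T j = S
      · left; exact towerN_eq_of_eq hW hS hj _ (Nat.le_succ j)
      · right
        have hlt : towerN W S T j < S := lt_of_le_of_ne (towerN_le W S T j) hj
        have h1 := Cfsg.Agent.Helper11.lt_inf_normalizer S (towerN W S T j) hS hlt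
        have h2 := h1.trans_le (towerN_mono_succ hW hS j)
        have h3 : Nat.card ↥(towerN W S T j) < Nat.card ↥(towerN W S T (j + 1)) := by
          by_contra hcon
          push Not at hcon
          exact h2.ne (Subgroup.eq_of_le_of_card_ge h2.le hcon)
        omega

theorem towerN_eq_top_of_ge [Finite G] {p : ℕ} [Fact p.Prime] (hW : Cfsg.IsConjugacyFunctor p W)
    (hS : IsPGroup p ↥S) {i : ℕ} (hi : Nat.card ↥S ≤ i) : towerN W S T i = S := by
  rcases card_towerN_ge (T := T) hW hS i with h | h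
  · exact h
  · have := Subgroup.card_le_of_le (towerN_le W S T i)
    omega

theorem functorTower_eq_of_ge [Finite G] {p : ℕ} [Fact p.Prime] (hW : Cfsg.IsConjugacyFunctor p W)
    (hS : IsPGroup p ↥S) {i : ℕ} (hi : Nat.card ↥S + 1 ≤ i) : Cfsg.functorTower W S T i = W S := by
  obtain ⟨j, rfl⟩ : ∃ j, i = j + 1 := ⟨i - 1, by omega⟩
  rw [functorTower_succ, towerN_eq_top_of_ge hW hS (by omega)]

end tower

/-- `W(S)` is extremal for a Sylow subgroup `S`. -/
theorem isExt_functor_sylow [Finite G] {p : ℕ} [Fact p.Prime] (S : Sylow p G)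
    {W : Subgroup G → Subgroup G} (hW : Cfsg.IsConjugacyFunctor p W) :
    IsExt p (S : Subgroup G) (W (S : Subgroup G)) := by
  unfold IsExt
  have hle : (S : Subgroup G) ≤ normalizer ((W (S : Subgroup G) : Subgroup G) : Set G) :=
    Subgroup.le_normalizer.trans (normalizer_le_normalizer_functor hW S.2)
  rw [inf_of_le_left hle]
  intro hdvd
  exact S.not_dvd_index (hdvd.trans (Subgroup.relIndex_dvd_index_of_le hle))

/-- existence of an extremal conjugate, carrying `N_S(U)` into `S` -/
theorem exists_isExt_conj [Finite G] {p : ℕ} [Fact p.Prime] (S : Sylow p G) (U : Subgroup G) :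
    ∃ x : G, ((S : Subgroup G) ⊓ normalizer (U : Set G)).map (cj x) ≤ (S : Subgroup G) ∧
      IsExt p (S : Subgroup G) (U.map (cj x)) := by
  -- a Sylow subgroup R of N(U) containing N_S(U)
  have hpg : IsPGroup p ↥(((S : Subgroup G) ⊓ normalizer (U : Set G)).subgroupOf (normalizer (U : Set G))) :=
    (S.2.to_le inf_le_left).comap_subtype
  obtain ⟨R, hR⟩ := hpg.exists_le_sylow
  have hRpg : IsPGroup p ↥((R : Subgroup ↥(normalizer (U : Set G))).map (normalizer (U : Set G)).subtype) :=
    R.2.map _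
  obtain ⟨x, -, hx⟩ := exists_conj_le_sylow_of_le S ⊤ _ le_top hRpg le_top
  refine ⟨x, ?_, ?_⟩
  · rintro _ ⟨y, hy, rfl⟩
    apply hx
    exact ⟨⟨y, hy.2⟩, hR (by rw [Subgroup.mem_subgroupOf]; exact hy), rfl⟩
  · unfold IsExt
    rw [← map_cj_normalizer]
    set R' := (R : Subgroup ↥(normalizer (U : Set G))).map (normalizer (U : Set G)).subtype with hR'
    have hR'N : R' ≤ normalizer (U : Set G) := by
      rintro _ ⟨y, -, rfl⟩; exact y.2
    have hle : R'.map (cj x) ≤ (S : Subgroup G) ⊓ (normalizer (U : Set G)).map (cj x) := by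
      apply le_inf
      · rintro _ ⟨y, hy, rfl⟩; exact hx y hy
      · exact Subgroup.map_mono hR'N
    intro hdvd
    have h1 := Subgroup.relIndex_dvd_of_le_left ((normalizer (U : Set G)).map (cj x)) hle
    rw [Subgroup.inf_relIndex_right] at hdvd
    rw [Subgroup.inf_relIndex_right, relIndex_map_cj] at h1
    have h2 : R'.relIndex (normalizer (U : Set G)) = (R : Subgroup ↥(normalizer (U : Set G))).index := by
      rw [hR', Subgroup.relIndex]
      congr 1
      exact Subgroup.comap_map_eq_self_of_injective (Subgroup.subtype_injective _) _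
    rw [h2] at h1
    exact R.not_dvd_index (hdvd.trans h1)

/-- conjugating an extremal subgroup by `x` carrying `N_S(U)` into `S` -/
theorem isExt_conj [Finite G] {p : ℕ} [Fact p.Prime] (S : Sylow p G) {U : Subgroup G} {x : G}
    (hU : IsExt p (S : Subgroup G) U)
    (hx : ((S : Subgroup G) ⊓ normalizer (U : Set G)).map (cj x) ≤ (S : Subgroup G)) :
    (S : Subgroup G) ⊓ normalizer ((U.map (cj x) : Subgroup G) : Set G) =
      ((S : Subgroup G) ⊓ normalizer (U : Set G)).map (cj x) ∧
    IsExt p (S : Subgroup G) (U.map (cj x)) := by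
  have hHK : ((S : Subgroup G) ⊓ normalizer (U : Set G)).map (cj x) ≤
      (S : Subgroup G) ⊓ normalizer ((U.map (cj x) : Subgroup G) : Set G) := by
    apply le_inf hx
    rw [← map_cj_normalizer]
    exact Subgroup.map_mono inf_le_right
  have hrel : ¬ p ∣ (((S : Subgroup G) ⊓ normalizer (U : Set G)).map (cj x)).relIndex
      (normalizer ((U.map (cj x) : Subgroup G) : Set G)) := by
    rw [← map_cj_normalizer, relIndex_map_cj]
    exact hU
  have heq := eq_of_le_of_not_dvd_relIndex hHK inf_le_right (S.2.to_le inf_le_left) hrel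
  refine ⟨heq.symm, ?_⟩
  unfold IsExt
  rw [← heq]
  exact hrel

theorem tower_conj [Finite G] {p : ℕ} [Fact p.Prime] (S : Sylow p G)
    {W : Subgroup G → Subgroup G} (hW : Cfsg.IsConjugacyFunctor p W) {T : Subgroup G} (x : G) (k : ℕ)
    (hk : (towerN W (S : Subgroup G) T k).map (cj x) ≤ (S : Subgroup G))
    (hext : ∀ i < k, IsExt p (S : Subgroup G) (Cfsg.functorTower W (S : Subgroup G) T i)) :
    ∀ i ≤ k, Cfsg.functorTower W (S : Subgroup G) (T.map (cj x)) i =
        (Cfsg.functorTower W (S : Subgroup G) T i).map (cj x) ∧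
      (i < k → towerN W (S : Subgroup G) (T.map (cj x)) i = (towerN W (S : Subgroup G) T i).map (cj x) ∧
        IsExt p (S : Subgroup G) (Cfsg.functorTower W (S : Subgroup G) (T.map (cj x)) i)) := by
  have claim : ∀ i, i < k → Cfsg.functorTower W (S : Subgroup G) (T.map (cj x)) i =
        (Cfsg.functorTower W (S : Subgroup G) T i).map (cj x) →
      towerN W (S : Subgroup G) (T.map (cj x)) i = (towerN W (S : Subgroup G) T i).map (cj x) ∧
        IsExt p (S : Subgroup G) (Cfsg.functorTower W (S : Subgroup G) (T.map (cj x)) i) := by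
    intro i hi heq
    have hle : ((S : Subgroup G) ⊓ normalizer ((Cfsg.functorTower W (S : Subgroup G) T i : Subgroup G) : Set G)).map (cj x) ≤
        (S : Subgroup G) :=
      (Subgroup.map_mono (towerN_mono hW S.2 hi.le)).trans hk
    obtain ⟨h1, h2⟩ := isExt_conj S (hext i hi) hle
    unfold towerN
    rw [heq]
    exact ⟨h1, h2⟩
  intro i
  induction i with
  | zero =>
    intro _
    exact ⟨rfl, fun h0 => claim 0 h0 rfl⟩
  | succ j ih =>
    intro hj
    obtain ⟨ih1, ih2⟩ := ih (by omega)
    obtain ⟨ih3, -⟩ := ih2 (by omega)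
    have heq : Cfsg.functorTower W (S : Subgroup G) (T.map (cj x)) (j + 1) =
        (Cfsg.functorTower W (S : Subgroup G) T (j + 1)).map (cj x) := by
      rw [functorTower_succ, functorTower_succ, ih3]
      exact (hW _ (towerN_isPGroup S.2 j)).2.2 x
    exact ⟨heq, fun h => claim (j + 1) h heq⟩

theorem exists_conj_isExt_lt [Finite G] {p : ℕ} [Fact p.Prime] (S : Sylow p G)
    {W : Subgroup G → Subgroup G} (hW : Cfsg.IsConjugacyFunctor p W) {T : Subgroup G}
    (hT : T ≤ (S : Subgroup G)) :
    ∀ k : ℕ, ∃ g : G, T.map (cj g) ≤ (S : Subgroup G) ∧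
      ∀ i < k, IsExt p (S : Subgroup G) (Cfsg.functorTower W (S : Subgroup G) (T.map (cj g)) i) := by
  intro k
  induction k with
  | zero =>
    refine ⟨1, ?_, fun i hi => absurd hi (Nat.not_lt_zero i)⟩
    rw [map_cj_one]; exact hT
  | succ k ih =>
    obtain ⟨g, hg, hext⟩ := ih
    obtain ⟨x, hx1, hx2⟩ := exists_isExt_conj S
      (Cfsg.functorTower W (S : Subgroup G) (T.map (cj g)) k)
    have htc := tower_conj S hW (T := T.map (cj g)) x k hx1 hext
    have hmap : T.map (cj (x * g)) = (T.map (cj g)).map (cj x) := (map_cj_mul T x g).symm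
    refine ⟨x * g, ?_, ?_⟩
    · rw [hmap]
      have h1 : T.map (cj g) ≤ towerN W (S : Subgroup G) (T.map (cj g)) k :=
        (functorTower_le_towerN hW S.2 hg 0).trans (towerN_mono hW S.2 (Nat.zero_le k))
      exact (Subgroup.map_mono h1).trans hx1
    · intro i hi
      rw [hmap]
      by_cases hik : i < k
      · exact ((htc i hik.le).2 hik).2
      · have : i = k := by omega
        subst this
        rw [(htc i le_rfl).1]
        exact hx2

/-- every subgroup of `S` has a well-placed conjugate -/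
theorem exists_isWellPlaced_conj [Finite G] {p : ℕ} [Fact p.Prime] (S : Sylow p G)
    {W : Subgroup G → Subgroup G} (hW : Cfsg.IsConjugacyFunctor p W) {T : Subgroup G}
    (hT : T ≤ (S : Subgroup G)) :
    ∃ g : G, Cfsg.IsWellPlaced p W (S : Subgroup G) (T.map (MulAut.conj g).toMonoidHom) := by
  obtain ⟨g, hg, hext⟩ := exists_conj_isExt_lt S hW hT (Nat.card ↥(S : Subgroup G) + 1)
  refine ⟨g, hg, ?_⟩
  intro i
  by_cases hi : i < Nat.card ↥(S : Subgroup G) + 1
  · exact hext i hi
  · have h1 : Cfsg.functorTower W (S : Subgroup G) (T.map (cj g)) i = W (S : Subgroup G) :=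
      functorTower_eq_of_ge hW S.2 (by omega)
    change IsExt p (S : Subgroup G) (Cfsg.functorTower W (S : Subgroup G) (T.map (cj g)) i)
    rw [h1]
    exact isExt_functor_sylow S hW

theorem functorTower_shift (W : Subgroup G → Subgroup G) (S T : Subgroup G) (i : ℕ) :
    Cfsg.functorTower W S (Cfsg.functorTower W S T 1) i = Cfsg.functorTower W S T (i + 1) := by
  induction i with
  | zero => rfl
  | succ j ih =>
    show W (S ⊓ normalizer ((Cfsg.functorTower W S (Cfsg.functorTower W S T 1) j : Subgroup G) : Set G)) =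
      W (S ⊓ normalizer ((Cfsg.functorTower W S T (j + 1) : Subgroup G) : Set G))
    rw [ih]

theorem isWellPlaced_shift {p : ℕ} {W : Subgroup G → Subgroup G}
    (hW : Cfsg.IsConjugacyFunctor p W) {S T : Subgroup G} (hS : IsPGroup p ↥S)
    (h : Cfsg.IsWellPlaced p W S T) : Cfsg.IsWellPlaced p W S (Cfsg.functorTower W S T 1) := by
  refine ⟨functorTower_le hW hS h.1 1, ?_⟩
  intro i
  rw [functorTower_shift]
  exact h.2 (i + 1)

/-- the family of well-placed subgroups satisfies the hypothesis of the Alperin-type theorem -/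
theorem wellPlaced_family_hyp [Finite G] {p : ℕ} [Fact p.Prime] (S : Sylow p G)
    {W : Subgroup G → Subgroup G} (hW : Cfsg.IsConjugacyFunctor p W) :
    ∀ T : Subgroup G, T ≤ (S : Subgroup G) →
      ∃ U ∈ {T : Subgroup G | Cfsg.IsWellPlaced p W (S : Subgroup G) T},
        (∃ g : G, T.map (MulAut.conj g).toMonoidHom = U) ∧
        ¬ p ∣ ((S : Subgroup G) ⊓ Subgroup.normalizer ((U : Subgroup G) : Set G)).relIndex
          (Subgroup.normalizer ((U : Subgroup G) : Set G)) := by
  intro T hT
  obtain ⟨g, hg⟩ := exists_isWellPlaced_conj S hW hT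
  exact ⟨_, hg, ⟨g, rfl⟩, hg.2 0⟩

end Cfsg.Agent.Helper10
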