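import Mathlib
import Cfsg.Prelude.Def_ConjugacyFunctors
import Cfsg.Agent.Helper10.ConjFamily
import Cfsg.Agent.Helper10.WellPlaced

set_option autoImplicit false

namespace Cfsg.Agent.Helper10

open Subgroup Cfsg.Agent.Helper14

variable {G : Type*} [Group G]

/-- two "Sylow" `p`-subgroups of `H` are conjugate in `H` -/
theorem exists_conj_eq_of_not_dvd_relIndex [Finite G] {p : ℕ} [Fact p.Prime] {H T R : Subgroup G}
    (hT : T ≤ H) (hR : R ≤ H) (hTp : IsPGroup p ↥T) (hRp : IsPGroup p ↥R)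
    (hTi : ¬ p ∣ T.relIndex H) (hRi : ¬ p ∣ R.relIndex H) : ∃ u ∈ H, T.map (cj u) = R := by
  have hTp' : IsPGroup p ↥(T.subgroupOf H) := hTp.comap_subtype
  have hRp' : IsPGroup p ↥(R.subgroupOf H) := hRp.comap_subtype
  let T' : Sylow p ↥H := hTp'.toSylow hTi
  let R' : Sylow p ↥H := hRp'.toSylow hRi
  obtain ⟨u, hu⟩ := MulAction.exists_smul_eq ↥H T' R'
  refine ⟨u, u.2, ?_⟩
  have h1 := sylow_smul_map H T' u
  rw [hu] at h1
  have hT'' : (T' : Subgroup ↥H).map H.subtype = T := by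
    change (T.subgroupOf H).map H.subtype = T
    rw [Subgroup.subgroupOf_map_subtype, inf_of_le_left hT]
  have hR'' : (R' : Subgroup ↥H).map H.subtype = R := by
    change (R.subgroupOf H).map H.subtype = R
    rw [Subgroup.subgroupOf_map_subtype, inf_of_le_left hR]
  rw [hT'', hR''] at h1
  exact h1.symm

/-- `ControlsStrongFusionIn` holds for every Sylow subgroup of `H`. -/
theorem controlsStrongFusionIn_sylow [Finite G] {p : ℕ} [Fact p.Prime]
    {W : Subgroup G → Subgroup G} (hW : Cfsg.IsConjugacyFunctor p W) {H : Subgroup G}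
    (hc : Cfsg.ControlsStrongFusionIn p W H) {R : Subgroup G} (hR : R ≤ H) (hRp : IsPGroup p ↥R)
    (hRi : ¬ p ∣ R.relIndex H) :
    ∀ (A : Set G) (h : G), h ∈ H → A ⊆ R → (fun a => h * a * h⁻¹) '' A ⊆ R →
      ∃ x ∈ H ⊓ normalizer ((W R : Subgroup G) : Set G), ∀ a ∈ A, x * a * x⁻¹ = h * a * h⁻¹ := by
  obtain ⟨T, hT, hTp, hTi, hfus⟩ := hc
  obtain ⟨u, hu, huT⟩ := exists_conj_eq_of_not_dvd_relIndex hT hR hTp hRp hTi hRi
  intro A h hh hA hAh
  -- transport to T
  have hA' : (fun a => u⁻¹ * a * u⁻¹⁻¹) '' A ⊆ T := by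
    rintro _ ⟨a, ha, rfl⟩
    have := hA ha
    rw [← huT, SetLike.mem_coe, mem_map_cj] at this
    simpa using this
  have hh' : u⁻¹ * h * u ∈ H := H.mul_mem (H.mul_mem (H.inv_mem hu) hh) hu
  have hAh' : (fun a => (u⁻¹ * h * u) * a * (u⁻¹ * h * u)⁻¹) '' ((fun a => u⁻¹ * a * u⁻¹⁻¹) '' A) ⊆ T := by
    rintro _ ⟨_, ⟨a, ha, rfl⟩, rfl⟩
    have := hAh ⟨a, ha, rfl⟩
    rw [← huT, SetLike.mem_coe, mem_map_cj] at this
    have e : u⁻¹ * h * u * (u⁻¹ * a * u⁻¹⁻¹) * (u⁻¹ * h * u)⁻¹ = u⁻¹ * (h * a * h⁻¹) * u := by group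
    change u⁻¹ * h * u * (u⁻¹ * a * u⁻¹⁻¹) * (u⁻¹ * h * u)⁻¹ ∈ T
    rw [e]
    exact this
  obtain ⟨x', hx', hx'A⟩ := hfus _ _ hh' hA' hAh'
  refine ⟨u * x' * u⁻¹, ⟨H.mul_mem (H.mul_mem hu hx'.1) (H.inv_mem hu), ?_⟩, ?_⟩
  · rw [← huT]
    have hWc : W (T.map (cj u)) = (W T).map (cj u) := (hW T hTp).2.2 u
    rw [hWc, ← map_cj_normalizer]
    exact ⟨x', hx'.2, rfl⟩
  · intro a ha
    have := hx'A (u⁻¹ * a * u⁻¹⁻¹) ⟨a, ha, rfl⟩
    have e1 : u * x' * u⁻¹ * a * (u * x' * u⁻¹)⁻¹ = u * (x' * (u⁻¹ * a * u⁻¹⁻¹) * x'⁻¹) * u⁻¹ := by group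
    rw [e1, this]
    group

/-- climbing the tower of a well-placed subgroup -/
theorem climb_tower [Finite G] {p : ℕ} [Fact p.Prime] (S : Sylow p G)
    {W : Subgroup G → Subgroup G} (hW : Cfsg.IsConjugacyFunctor p W)
    (hloc : ∀ T : Subgroup G, T ≠ ⊥ → Cfsg.IsWellPlaced p W (S : Subgroup G) T →
      Cfsg.ControlsStrongFusionIn p W (Subgroup.normalizer ((T : Subgroup G) : Set G))) :
    ∀ (n : ℕ) (T : Subgroup G), T ≠ ⊥ → Cfsg.IsWellPlaced p W (S : Subgroup G) T →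
      Nat.card ↥(S : Subgroup G) - Nat.card ↥((S : Subgroup G) ⊓ normalizer (T : Set G)) = n →
      ∀ (A : Set G) (y : G), y ∈ normalizer (T : Set G) →
        A ⊆ ((S : Subgroup G) ⊓ normalizer (T : Set G) : Subgroup G) →
        (fun a => y * a * y⁻¹) '' A ⊆ ((S : Subgroup G) ⊓ normalizer (T : Set G) : Subgroup G) →
        ∃ z ∈ normalizer ((W (S : Subgroup G) : Subgroup G) : Set G), ∀ a ∈ A, z * a * z⁻¹ = y * a * y⁻¹ := by
  intro n
  induction n using Nat.strong_induction_on with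
  | _ n ih =>
  intro T hTne hTwp hn A y hy hA hAy
  have hRle : (S : Subgroup G) ⊓ normalizer (T : Set G) ≤ normalizer (T : Set G) := inf_le_right
  have hRp : IsPGroup p ↥((S : Subgroup G) ⊓ normalizer (T : Set G) : Subgroup G) := S.2.to_le inf_le_left
  have hRi : ¬ p ∣ ((S : Subgroup G) ⊓ normalizer (T : Set G)).relIndex (normalizer (T : Set G)) := hTwp.2 0
  obtain ⟨x, hx, hxA⟩ := controlsStrongFusionIn_sylow hW (hloc T hTne hTwp) hRle hRp hRi A y hy hA hAy
  by_cases hRS : (S : Subgroup G) ⊓ normalizer (T : Set G) = (S : Subgroup G)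
  · rw [hRS] at hx
    exact ⟨x, hx.2, hxA⟩
  · -- climb
    have hT1wp := isWellPlaced_shift hW S.2 hTwp
    have hT1eq : Cfsg.functorTower W (S : Subgroup G) T 1 = W ((S : Subgroup G) ⊓ normalizer (T : Set G)) := rfl
    have hTR : T ≤ (S : Subgroup G) ⊓ normalizer (T : Set G) := le_inf hTwp.1 Subgroup.le_normalizer
    have hRne : (S : Subgroup G) ⊓ normalizer (T : Set G) ≠ ⊥ := by
      intro h
      apply hTne
      rw [eq_bot_iff, ← h]
      exact hTR
    have hT1ne : Cfsg.functorTower W (S : Subgroup G) T 1 ≠ ⊥ := by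
      rw [hT1eq]
      exact (hW _ hRp).2.1 hRne
    have hlt : (S : Subgroup G) ⊓ normalizer (T : Set G) < (S : Subgroup G) := lt_of_le_of_ne inf_le_left hRS
    have hgrow := Cfsg.Agent.Helper11.lt_inf_normalizer (S : Subgroup G) _ S.2 hlt
    have hle1 : (S : Subgroup G) ⊓ normalizer (((S : Subgroup G) ⊓ normalizer (T : Set G) : Subgroup G) : Set G) ≤
        (S : Subgroup G) ⊓ normalizer ((Cfsg.functorTower W (S : Subgroup G) T 1 : Subgroup G) : Set G) := by
      rw [hT1eq]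
      exact inf_le_inf_left _ (normalizer_le_normalizer_functor hW hRp)
    have hlt2 := hgrow.trans_le hle1
    have hcard : Nat.card ↥((S : Subgroup G) ⊓ normalizer (T : Set G) : Subgroup G) <
        Nat.card ↥((S : Subgroup G) ⊓ normalizer ((Cfsg.functorTower W (S : Subgroup G) T 1 : Subgroup G) : Set G) : Subgroup G) := by
      by_contra hcon
      push Not at hcon
      exact hlt2.ne (Subgroup.eq_of_le_of_card_ge hlt2.le hcon)
    have hcardS : Nat.card ↥((S : Subgroup G) ⊓ normalizer ((Cfsg.functorTower W (S : Subgroup G) T 1 : Subgroup G) : Set G) : Subgroup G) ≤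
        Nat.card ↥(S : Subgroup G) := Subgroup.card_le_of_le inf_le_left
    have hmeas : Nat.card ↥(S : Subgroup G) -
        Nat.card ↥((S : Subgroup G) ⊓ normalizer ((Cfsg.functorTower W (S : Subgroup G) T 1 : Subgroup G) : Set G) : Subgroup G) < n := by
      omega
    have hxT1 : x ∈ normalizer ((Cfsg.functorTower W (S : Subgroup G) T 1 : Subgroup G) : Set G) := by
      rw [hT1eq]; exact hx.2
    have hA1 : A ⊆ ((S : Subgroup G) ⊓ normalizer ((Cfsg.functorTower W (S : Subgroup G) T 1 : Subgroup G) : Set G) : Subgroup G) :=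
      fun a ha => hlt2.le (hA ha)
    have hAx1 : (fun a => x * a * x⁻¹) '' A ⊆
        ((S : Subgroup G) ⊓ normalizer ((Cfsg.functorTower W (S : Subgroup G) T 1 : Subgroup G) : Set G) : Subgroup G) := by
      rintro _ ⟨a, ha, rfl⟩
      apply hlt2.le
      apply hAy
      exact ⟨a, ha, (hxA a ha).symm⟩
    obtain ⟨z, hz, hzA⟩ := ih _ hmeas _ hT1ne hT1wp rfl A x hxT1 hA1 hAx1
    exact ⟨z, hz, fun a ha => (hzA a ha).trans (hxA a ha)⟩

/-- along a decomposition by well-placed subgroups -/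
theorem fusion_of_dec [Finite G] {p : ℕ} [Fact p.Prime] (S : Sylow p G)
    {W : Subgroup G → Subgroup G} (hW : Cfsg.IsConjugacyFunctor p W)
    (hloc : ∀ T : Subgroup G, T ≠ ⊥ → Cfsg.IsWellPlaced p W (S : Subgroup G) T →
      Cfsg.ControlsStrongFusionIn p W (Subgroup.normalizer ((T : Subgroup G) : Set G)))
    (l : List (Subgroup G × G)) :
    ∀ A : Set G, Dec {T : Subgroup G | Cfsg.IsWellPlaced p W (S : Subgroup G) T} A l →
      ∃ z ∈ normalizer ((W (S : Subgroup G) : Subgroup G) : Set G),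
        ∀ a ∈ A, z⁻¹ * a * z = (lprod l)⁻¹ * a * lprod l := by
  induction l with
  | nil =>
    intro A _
    exact ⟨1, one_mem _, fun a _ => by simp [lprod_nil]⟩
  | cons b l ih =>
    obtain ⟨T, x⟩ := b
    intro A hd
    obtain ⟨hTwp, hxT, hAT, hd'⟩ := hd
    obtain ⟨z', hz', hz'A⟩ := ih _ hd'
    have hTwp' : Cfsg.IsWellPlaced p W (S : Subgroup G) T := hTwp
    by_cases hTne : T = ⊥
    · refine ⟨z', hz', ?_⟩
      intro a ha
      have : a = 1 := by
        have := hAT ha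
        rw [hTne] at this
        exact this
      subst this
      simp
    · have hTR : T ≤ (S : Subgroup G) ⊓ normalizer (T : Set G) := le_inf hTwp'.1 Subgroup.le_normalizer
      have hA1 : A ⊆ ((S : Subgroup G) ⊓ normalizer (T : Set G) : Subgroup G) := fun a ha => hTR (hAT ha)
      have hA2 : (fun a => x⁻¹ * a * x⁻¹⁻¹) '' A ⊆ ((S : Subgroup G) ⊓ normalizer (T : Set G) : Subgroup G) := by
        rintro _ ⟨a, ha, rfl⟩
        apply hTR
        have := (Subgroup.mem_normalizer_iff.mp (inv_mem hxT) a).mp (hAT ha)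
        exact this
      obtain ⟨z₁, hz₁, hz₁A⟩ := climb_tower S hW hloc _ T hTne hTwp' rfl A x⁻¹ (inv_mem hxT) hA1 hA2
      refine ⟨z₁⁻¹ * z', mul_mem (inv_mem hz₁) hz', ?_⟩
      intro a ha
      have h1 := hz₁A a ha
      have h2 := hz'A (x⁻¹ * a * x) ⟨a, ha, rfl⟩
      rw [lprod_cons]
      have e1 : (z₁⁻¹ * z')⁻¹ * a * (z₁⁻¹ * z') = z'⁻¹ * (z₁ * a * z₁⁻¹) * z' := by group
      have e2 : (x * lprod l)⁻¹ * a * (x * lprod l) = (lprod l)⁻¹ * (x⁻¹ * a * x) * lprod l := by group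
      rw [e1, e2, h1, ← h2]
      simp

/-- local-to-global control of strong fusion via well-placed subgroups -/
theorem controlsStrongFusion_of_wellPlaced [Finite G] {p : ℕ} [Fact p.Prime] (S : Sylow p G)
    {W : Subgroup G → Subgroup G} (hW : Cfsg.IsConjugacyFunctor p W)
    (hloc : ∀ T : Subgroup G, T ≠ ⊥ → Cfsg.IsWellPlaced p W (S : Subgroup G) T →
      Cfsg.ControlsStrongFusionIn p W (Subgroup.normalizer ((T : Subgroup G) : Set G))) :
    Cfsg.ControlsStrongFusionIn p W ⊤ := by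
  refine ⟨(S : Subgroup G), le_top, S.2, ?_, ?_⟩
  · rw [Subgroup.relIndex_top_right]
    exact S.not_dvd_index
  · intro A h _ hA hAh
    have hAg : rc h⁻¹ A ⊆ (S : Subgroup G) := by
      rintro _ ⟨a, ha, rfl⟩
      have := hAh ⟨a, ha, rfl⟩
      simpa using this
    obtain ⟨l, hl, hlp⟩ := exists_dec_of_extremal_set S
      {T : Subgroup G | Cfsg.IsWellPlaced p W (S : Subgroup G) T} (fun U hU => hU.1)
      (wellPlaced_family_hyp S hW) A h⁻¹ hA hAg
    obtain ⟨z, hz, hzA⟩ := fusion_of_dec S hW hloc l A hl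
    refine ⟨z⁻¹, ⟨Subgroup.mem_top _, Subgroup.inv_mem _ hz⟩, ?_⟩
    intro a ha
    have := hzA a ha
    rw [hlp] at this
    simpa using this

end Cfsg.Agent.Helper10
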