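import Mathlib
import Cfsg.Prelude.Def_ConjugacyFunctors
import Cfsg.Prelude.Def_CaseTheorems
import Cfsg.Prelude.Def_Transfer

set_option autoImplicit false

/-! # Sections of a group as a class of groups, and basic API for `Cfsg.inducedFunctor` -/

namespace Cfsg.Agent.Helper10

universe u

open Subgroup

/-- `X` is a homomorphic image of a subgroup of `G`, i.e. isomorphic to a section of `G`. -/
def IsSec (G : Type u) [Group G] (X : Type u) [Group X] : Prop :=
  ∃ (K : Subgroup G) (f : ↥K →* X), Function.Surjective f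

section IsSec

variable {G : Type u} [Group G] {X : Type u} [Group X] {Y : Type u} [Group Y]

theorem IsSec.refl : IsSec G G :=
  ⟨⊤, (⊤ : Subgroup G).subtype, fun g => ⟨⟨g, Subgroup.mem_top g⟩, rfl⟩⟩

theorem IsSec.of_surjective (h : IsSec G X) (f : X →* Y) (hf : Function.Surjective f) :
    IsSec G Y := by
  obtain ⟨K, f₀, hf₀⟩ := h
  exact ⟨K, f.comp f₀, hf.comp hf₀⟩

theorem IsSec.quotient (h : IsSec G X) (N : Subgroup X) [N.Normal] : IsSec G (X ⧸ N) :=
  h.of_surjective (QuotientGroup.mk' N) (QuotientGroup.mk'_surjective N)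

theorem IsSec.of_equiv (h : IsSec G X) (e : X ≃* Y) : IsSec G Y :=
  h.of_surjective e.toMonoidHom e.surjective

theorem IsSec.subgroup (h : IsSec G X) (M : Subgroup X) : IsSec G ↥M := by
  obtain ⟨K, f, hf⟩ := h
  refine ⟨(M.comap f).map K.subtype,
    (f.subgroupComap M).comp
      (Subgroup.equivMapOfInjective (M.comap f) K.subtype K.subtype_injective).symm.toMonoidHom, ?_⟩
  exact (MonoidHom.subgroupComap_surjective_of_surjective f M hf).comp
    (Subgroup.equivMapOfInjective (M.comap f) K.subtype K.subtype_injective).symm.surjective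

theorem IsSec.exists_equiv (h : IsSec G X) :
    ∃ (K R : Subgroup G) (_ : (R.subgroupOf K).Normal), Nonempty (X ≃* ↥K ⧸ R.subgroupOf K) := by
  obtain ⟨K, f, hf⟩ := h
  have hker : (f.ker.map K.subtype).subgroupOf K = f.ker :=
    Subgroup.comap_map_eq_self_of_injective K.subtype_injective f.ker
  have hn : ((f.ker.map K.subtype).subgroupOf K).Normal := by rw [hker]; infer_instance
  refine ⟨K, f.ker.map K.subtype, hn, ⟨?_⟩⟩
  exact ((QuotientGroup.quotientMulEquivOfEq hker).trans
    (QuotientGroup.quotientKerEquivOfSurjective f hf)).symm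

theorem isSec_section (K R : Subgroup G) [hR : (R.subgroupOf K).Normal] :
    IsSec G (↥K ⧸ R.subgroupOf K) :=
  ⟨K, QuotientGroup.mk' (R.subgroupOf K), QuotientGroup.mk'_surjective _⟩

end IsSec

end Cfsg.Agent.Helper10
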