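import Mathlib
import Cfsg.Prelude.Def_ConjugacyFunctors
import Cfsg.Prelude.Def_CaseTheorems
import Cfsg.Prelude.Def_Transfer
import Cfsg.Agent.Helper10.SecClass
import Cfsg.Agent.Helper10.SylowSub
import Cfsg.Agent.Helper10.Fusion
import Cfsg.Agent.Helper21.NPCSections
import Cfsg.Agent.Helper9.NPCSub
import Cfsg.Agent.Helper9.NPC
import Cfsg.Agent.Helper14.PCore

set_option autoImplicit false

/-! # Basic API for `Cfsg.inducedFunctor` of an isomorphism-invariant `p`-group functor,
and transport of normal `p`-complements -/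

namespace Cfsg.Agent.Helper10

universe u

open Subgroup

section NPC

variable {p : ℕ} [Fact p.Prime]

theorem npc_of_injective {A B : Type*} [Group A] [Group B] [Finite B] (f : A →* B)
    (hf : Function.Injective f) (h : Cfsg.HasNormalPComplement p B) :
    Cfsg.HasNormalPComplement p A := by
  have h1 : Cfsg.HasNormalPComplement p ↥f.range :=
    Cfsg.Agent.Helper9.hasNormalPComplement_subgroup h f.range
  exact Cfsg.Agent.Helper21.NPCSections.npc_of_surjective
    (MonoidHom.ofInjective hf).symm.toMonoidHom (MonoidHom.ofInjective hf).symm.surjective h1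

theorem npc_of_le {X : Type*} [Group X] [Finite X] {H K : Subgroup X} (hle : H ≤ K)
    (h : Cfsg.HasNormalPComplement p ↥K) : Cfsg.HasNormalPComplement p ↥H :=
  npc_of_injective (Subgroup.inclusion hle) (Subgroup.inclusion_injective hle) h

theorem npc_of_equiv {A B : Type*} [Group A] [Group B] [Finite A] (e : A ≃* B)
    (h : Cfsg.HasNormalPComplement p A) : Cfsg.HasNormalPComplement p B :=
  Cfsg.Agent.Helper21.NPCSections.npc_of_surjective e.toMonoidHom e.surjective h

theorem npc_of_top {X : Type*} [Group X] [Finite X]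
    (h : Cfsg.HasNormalPComplement p ↥(⊤ : Subgroup X)) : Cfsg.HasNormalPComplement p X :=
  npc_of_equiv Subgroup.topEquiv h

end NPC

section IndFun

variable {p : ℕ} [Fact p.Prime] {W : ∀ (Q : Type u) [Group Q], Subgroup Q}
variable {X : Type u} [Group X] {Y : Type u} [Group Y]

theorem iF_le (T : Subgroup X) : Cfsg.inducedFunctor W T ≤ T := by
  unfold Cfsg.inducedFunctor
  exact Subgroup.map_subtype_le _

theorem iF_isPGroup {T : Subgroup X} (hT : IsPGroup p ↥T) :
    IsPGroup p ↥(Cfsg.inducedFunctor W T) :=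
  hT.to_le (iF_le T)

/-- `inducedFunctor` commutes with any homomorphism that is injective on the `p`-group `T`. -/
theorem iF_map_of_injOn (hW : Cfsg.IsCharPFunctor.{u} p W) [Finite X] (f : X →* Y)
    {T : Subgroup X} (hT : IsPGroup p ↥T) (hinj : ∀ t ∈ T, f t = 1 → t = 1) :
    (Cfsg.inducedFunctor W T).map f = Cfsg.inducedFunctor W (T.map f) := by
  have hbij : Function.Bijective (f.subgroupMap T) := by
    refine ⟨?_, f.subgroupMap_surjective T⟩
    rw [injective_iff_map_eq_one]
    intro t ht
    have h1 : f (t : X) = 1 := congrArg Subtype.val ht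
    exact Subtype.ext (hinj _ t.2 h1)
  let φ : ↥T ≃* ↥(T.map f) := MulEquiv.ofBijective (f.subgroupMap T) hbij
  have h2 := hW.2 ↥T ↥(T.map f) hT φ
  unfold Cfsg.inducedFunctor
  rw [← h2, Subgroup.map_map, Subgroup.map_map]
  rfl

theorem iF_map_equiv (hW : Cfsg.IsCharPFunctor.{u} p W) [Finite X] (e : X ≃* Y)
    {T : Subgroup X} (hT : IsPGroup p ↥T) :
    (Cfsg.inducedFunctor W T).map e.toMonoidHom = Cfsg.inducedFunctor W (T.map e.toMonoidHom) :=
  iF_map_of_injOn hW e.toMonoidHom hT (fun t _ h => by simpa using h)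

theorem iF_map_conj (hW : Cfsg.IsCharPFunctor.{u} p W) [Finite X] (g : X)
    {T : Subgroup X} (hT : IsPGroup p ↥T) :
    (Cfsg.inducedFunctor W T).map (MulAut.conj g).toMonoidHom =
      Cfsg.inducedFunctor W (T.map (MulAut.conj g).toMonoidHom) :=
  iF_map_equiv hW (MulAut.conj g) hT

theorem iF_map_subtype (hW : Cfsg.IsCharPFunctor.{u} p W) [Finite X] (M : Subgroup X)
    {R : Subgroup ↥M} (hR : IsPGroup p ↥R) :
    (Cfsg.inducedFunctor W R).map M.subtype = Cfsg.inducedFunctor W (R.map M.subtype) :=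
  iF_map_of_injOn hW M.subtype hR (fun t _ h => by
    apply Subtype.ext
    simpa using h)

theorem normalizer_le_normalizer_iF (hW : Cfsg.IsCharPFunctor.{u} p W) [Finite X]
    {T : Subgroup X} (hT : IsPGroup p ↥T) :
    normalizer (T : Set X) ≤ normalizer ((Cfsg.inducedFunctor W T : Subgroup X) : Set X) := by
  intro g hg
  apply mem_normalizer_of_map_conj_eq
  rw [iF_map_conj hW g hT, map_conj_eq_of_mem_normalizer hg]

theorem iF_ne_bot (hW : Cfsg.IsCharPFunctor.{u} p W) [Finite X]
    {T : Subgroup X} (hT : IsPGroup p ↥T) (hne : T ≠ ⊥) : Cfsg.inducedFunctor W T ≠ ⊥ := by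
  have hnt : Nontrivial ↥T := (Subgroup.nontrivial_iff_ne_bot T).2 hne
  have h1 := hW.1 ↥T hT hnt
  unfold Cfsg.inducedFunctor
  rw [Ne, Subgroup.map_eq_bot_iff_of_injective _ T.subtype_injective]
  exact h1

theorem iF_normal_of_normal (hW : Cfsg.IsCharPFunctor.{u} p W) [Finite X]
    {T : Subgroup X} (hT : IsPGroup p ↥T) (hn : T.Normal) :
    (Cfsg.inducedFunctor W T).Normal := by
  rw [← Subgroup.normalizer_eq_top_iff, eq_top_iff]
  refine le_trans ?_ (normalizer_le_normalizer_iF hW hT)
  rw [Subgroup.normalizer_eq_top_iff.2 hn]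

end IndFun

end Cfsg.Agent.Helper10
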