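import Mathlib
import Cfsg.Agent.Helper10.IndFunctor
import Cfsg.Agent.Lead.PiHallNormal
import Cfsg.Agent.Helper23.Basic
import Cfsg.Agent.Helper23.PSeries

set_option autoImplicit false
set_option linter.unusedSectionVars false

/-! # More API: normalizers modulo a normal `p'`-subgroup, conjugation invariance -/

namespace Cfsg.Agent.Helper10

universe u

open Subgroup
open Cfsg.Agent.Helper14 (cj)

section Coprime

variable {p : ℕ} [Fact p.Prime] {X : Type*} [Group X] [Finite X]

/-- the image of the normalizer of a `p`-subgroup modulo a normal `p'`-subgroup is the normalizer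
of the image -/
theorem normalizer_map_mk_of_coprime (D : Subgroup X) [D.Normal] (hD : (Nat.card D).Coprime p)
    {U : Subgroup X} (hU : IsPGroup p ↥U) :
    normalizer ((U.map (QuotientGroup.mk' D) : Subgroup (X ⧸ D)) : Set (X ⧸ D)) =
      (normalizer (U : Set X)).map (QuotientGroup.mk' D) := by
  have hp : p.Prime := Fact.out
  apply le_antisymm
  · intro y hy
    obtain ⟨x, rfl⟩ := QuotientGroup.mk'_surjective D y
    -- the conjugate of U by x lies in U ⊔ D
    have hUx : U.map (cj x) ≤ U ⊔ D := by
      rintro _ ⟨u, hu, rfl⟩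
      have h1 : (QuotientGroup.mk' D) x * (QuotientGroup.mk' D) u * ((QuotientGroup.mk' D) x)⁻¹ ∈
          U.map (QuotientGroup.mk' D) :=
        (Subgroup.mem_normalizer_iff.1 hy _).1 ⟨u, hu, rfl⟩
      obtain ⟨u', hu', hu'e⟩ := h1
      have h2 : u'⁻¹ * (x * u * x⁻¹) ∈ D := by
        rw [← QuotientGroup.eq]
        rw [← map_inv, ← map_mul, ← map_mul] at hu'e
        exact hu'e
      have h3 : x * u * x⁻¹ = u' * (u'⁻¹ * (x * u * x⁻¹)) := by group
      change x * u * x⁻¹ ∈ U ⊔ D
      rw [h3]
      exact Subgroup.mul_mem _ (Subgroup.mem_sup_left hu') (Subgroup.mem_sup_right h2)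
    have hidx : ¬ p ∣ U.relIndex (U ⊔ D) := by
      rw [Cfsg.Agent.Lead.relIndex_sup_of_normal_right]
      intro hdvd
      have h1 : p ∣ Nat.card D := hdvd.trans (Subgroup.relIndex_dvd_card U D)
      exact (Nat.Prime.coprime_iff_not_dvd hp).1 hD.symm h1
    have hcard : Nat.card ↥(U.map (cj x)) = Nat.card ↥U :=
      Subgroup.card_map_of_injective (Cfsg.Agent.Helper14.cj_injective x)
    have hidx' : ¬ p ∣ (U.map (cj x)).relIndex (U ⊔ D) := by
      have e1 := Cfsg.Agent.Lead.card_eq_relIndex_mul_card hUx
      have e2 := Cfsg.Agent.Lead.card_eq_relIndex_mul_card (le_sup_left : U ≤ U ⊔ D)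
      rw [hcard] at e1
      have hpos : 0 < Nat.card ↥U := Nat.card_pos
      have : (U.map (cj x)).relIndex (U ⊔ D) = U.relIndex (U ⊔ D) :=
        Nat.eq_of_mul_eq_mul_right hpos (e1.symm.trans e2)
      rw [this]
      exact hidx
    obtain ⟨m, hm, hme⟩ := exists_conj_eq_of_not_dvd_relIndex (p := p) hUx
      (le_sup_left : U ≤ U ⊔ D) (hU.map _) hU hidx' hidx
    -- m = u d
    have hm' : m ∈ ((U ⊔ D : Subgroup X) : Set X) := hm
    rw [Subgroup.mul_normal] at hm'
    obtain ⟨u, hu, d, hd, rfl⟩ := Set.mem_mul.1 hm'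
    -- so d x normalizes U
    have hdx : d * x ∈ normalizer (U : Set X) := by
      apply mem_normalizer_of_map_conj_eq
      change U.map (cj (d * x)) = U
      have h1 : U.map (cj (u * d * x)) = U := by
        rw [← Cfsg.Agent.Helper14.map_cj_mul]
        exact hme
      have h2 : U.map (cj (d * x)) = (U.map (cj (u * d * x))).map (cj u⁻¹) := by
        rw [Cfsg.Agent.Helper14.map_cj_mul]
        congr 2
        group
      rw [h2, h1]
      exact Cfsg.Agent.Helper14.map_cj_eq_self_of_mem (U.inv_mem hu)
    refine ⟨d * x, hdx, ?_⟩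
    rw [map_mul]
    have : (QuotientGroup.mk' D) d = 1 := (QuotientGroup.eq_one_iff d).2 hd
    rw [this, one_mul]
  · exact Subgroup.le_normalizer_map _

end Coprime

section Transport

variable {p : ℕ} [Fact p.Prime] {W : ∀ (Q : Type u) [Group Q], Subgroup Q}
variable {X : Type u} [Group X] [Finite X]

theorem npc_normalizer_iF_conj (hW : Cfsg.IsCharPFunctor.{u} p W) {T : Subgroup X}
    (hT : IsPGroup p ↥T) (g : X)
    (h : Cfsg.HasNormalPComplement p
      ↥(normalizer ((Cfsg.inducedFunctor W T : Subgroup X) : Set X))) :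
    Cfsg.HasNormalPComplement p
      ↥(normalizer ((Cfsg.inducedFunctor W (T.map (cj g)) : Subgroup X) : Set X)) := by
  have h1 : Cfsg.inducedFunctor W (T.map (cj g)) = (Cfsg.inducedFunctor W T).map (cj g) :=
    (iF_map_conj hW g hT).symm
  rw [h1, ← Cfsg.Agent.Helper14.map_cj_normalizer]
  exact npc_of_equiv ((MulAut.conj g).subgroupMap _) h

theorem npc_normalizer_iF_sylow (hW : Cfsg.IsCharPFunctor.{u} p W) (T T' : Sylow p X)
    (h : Cfsg.HasNormalPComplement p
      ↥(normalizer ((Cfsg.inducedFunctor W (T : Subgroup X) : Subgroup X) : Set X))) :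
    Cfsg.HasNormalPComplement p
      ↥(normalizer ((Cfsg.inducedFunctor W (T' : Subgroup X) : Subgroup X) : Set X)) := by
  obtain ⟨g, hg⟩ := MulAction.exists_smul_eq X T T'
  have h1 : (T' : Subgroup X) = (T : Subgroup X).map (cj g) := by
    rw [← hg]
    exact sylow_smul_coe_eq_map T g
  rw [h1]
  exact npc_normalizer_iF_conj hW T.2 g h

/-- extension of a normal `p'`-subgroup by a group with a normal `p`-complement -/
theorem npc_of_quotient_coprime {X : Type*} [Group X] [Finite X] (D : Subgroup X) [D.Normal]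
    (hD : (Nat.card D).Coprime p) (h : Cfsg.HasNormalPComplement p (X ⧸ D)) :
    Cfsg.HasNormalPComplement p X := by
  have hp : p.Prime := Fact.out
  obtain ⟨P, K, hKn, hc⟩ := h
  have hK'n : (K.comap (QuotientGroup.mk' D)).Normal := hKn.comap _
  have hcard := Cfsg.Agent.Helper23.card_comap_mk' D K
  have hKc : (Nat.card K).Coprime p := by
    have h1 : (P : Subgroup (X ⧸ D)).index = Nat.card K := hc.index_eq_card
    rw [← h1]
    exact ((Nat.Prime.coprime_iff_not_dvd hp).mpr P.not_dvd_index).symm
  obtain ⟨n, hn⟩ := IsPGroup.iff_card.mp P.2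
  have hidx : (K.comap (QuotientGroup.mk' D)).index = p ^ n := by
    rw [Subgroup.index_comap_of_surjective _ (QuotientGroup.mk'_surjective _), ← hn]
    exact hc.symm.index_eq_card
  exact Cfsg.Agent.Helper21.NPCSections.npc_of_normal_coprime _ hK'n
    (by rw [hcard]; exact Nat.Coprime.mul_left hD hKc) n hidx

/-- normalizers in a subgroup embed in ambient normalizers -/
theorem npc_normalizer_of_subtype {X : Type*} [Group X] [Finite X] (M : Subgroup X)
    (V : Subgroup ↥M)
    (h : Cfsg.HasNormalPComplement p ↥(normalizer ((V.map M.subtype : Subgroup X) : Set X))) :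
    Cfsg.HasNormalPComplement p ↥(normalizer (V : Set ↥M)) := by
  let f : ↥(normalizer (V : Set ↥M)) →* ↥(normalizer ((V.map M.subtype : Subgroup X) : Set X)) :=
    (M.subtype.comp (normalizer (V : Set ↥M)).subtype).codRestrict _
      (fun x => Subgroup.le_normalizer_map M.subtype ⟨x.1, x.2, rfl⟩)
  apply npc_of_injective f _ h
  intro a b hab
  have h1 : ((f a : X)) = (f b : X) := congrArg Subtype.val hab
  apply Subtype.ext
  apply Subtype.ext
  exact h1

/-- normalizers of full preimages surject onto normalizers in the quotient -/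
theorem npc_normalizer_of_comap {X : Type*} [Group X] [Finite X] (N : Subgroup X) [N.Normal]
    (V : Subgroup (X ⧸ N))
    (h : Cfsg.HasNormalPComplement p
      ↥(normalizer ((V.comap (QuotientGroup.mk' N) : Subgroup X) : Set X))) :
    Cfsg.HasNormalPComplement p ↥(normalizer (V : Set (X ⧸ N))) := by
  have h1 : normalizer ((V.comap (QuotientGroup.mk' N) : Subgroup X) : Set X) =
      (normalizer (V : Set (X ⧸ N))).comap (QuotientGroup.mk' N) :=
    (Subgroup.comap_normalizer_eq_of_surjective V (QuotientGroup.mk'_surjective N)).symm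
  rw [h1] at h
  exact Cfsg.Agent.Helper21.NPCSections.npc_of_surjective
    ((QuotientGroup.mk' N).subgroupComap _)
    (MonoidHom.subgroupComap_surjective_of_surjective _ _ (QuotientGroup.mk'_surjective N)) h

/-- normalizers modulo a normal `p'`-subgroup -/
theorem npc_normalizer_map_mk_of_coprime {X : Type*} [Group X] [Finite X] (D : Subgroup X)
    [D.Normal] (hD : (Nat.card D).Coprime p) {U : Subgroup X} (hU : IsPGroup p ↥U)
    (h : Cfsg.HasNormalPComplement p ↥(normalizer (U : Set X))) :
    Cfsg.HasNormalPComplement p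
      ↥(normalizer ((U.map (QuotientGroup.mk' D) : Subgroup (X ⧸ D)) : Set (X ⧸ D))) := by
  rw [normalizer_map_mk_of_coprime D hD hU]
  exact Cfsg.Agent.Helper21.NPCSections.npc_of_surjective
    ((QuotientGroup.mk' D).subgroupMap _) (MonoidHom.subgroupMap_surjective _ _) h

end Transport

end Cfsg.Agent.Helper10
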