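import Mathlib
import Cfsg.Prelude.Def_Transfer
import Cfsg.Agent.Helper9.NPC

set_option autoImplicit false

namespace Cfsg.Agent.Helper10

open Subgroup
open scoped Pointwise

/-- `O^p(O^p(X)) = O^p(X)`. -/
theorem pResidual_pResidual_eq_top {X : Type*} [Group X] (p : ℕ) :
    Cfsg.pResidual p ↥(Cfsg.pResidual p X) = ⊤ := by
  rw [eq_top_iff]
  rintro ⟨x, hx⟩ -
  have key : ∀ y ∈ Cfsg.pResidual p X, ∀ hy : y ∈ Cfsg.pResidual p X,
      (⟨y, hy⟩ : ↥(Cfsg.pResidual p X)) ∈ Cfsg.pResidual p ↥(Cfsg.pResidual p X) := by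
    intro y hy
    unfold Cfsg.pResidual at hy
    induction hy using Subgroup.closure_induction with
    | mem z hz =>
      intro hz'
      apply Cfsg.Agent.Helper9.mem_pResidual_of_coprime
      change Nat.Coprime (orderOf z) p at hz
      rwa [Subgroup.orderOf_mk]
    | one => intro _; exact one_mem _
    | mul a b ha hb iha ihb =>
      intro hab
      have ha' : a ∈ Cfsg.pResidual p X := ha
      have hb' : b ∈ Cfsg.pResidual p X := hb
      have := mul_mem (iha ha') (ihb hb')
      exact this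
    | inv a ha iha =>
      intro hai
      have ha' : a ∈ Cfsg.pResidual p X := ha
      have := inv_mem (iha ha')
      exact this
  exact key x hx hx

/-- If the elements of `P ∩ O^p(X)` commute with `O^p(X)`, then `X` has a normal
`p`-complement. -/
theorem hasNormalPComplement_of_central {X : Type*} [Group X] [Finite X] {p : ℕ} [Fact p.Prime]
    (P : Sylow p X)
    (hc : ∀ x ∈ (P : Subgroup X) ⊓ Cfsg.pResidual p X, ∀ r ∈ Cfsg.pResidual p X, x * r = r * x) :
    Cfsg.HasNormalPComplement p X := by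
  rw [Cfsg.Agent.Helper9.hasNormalPComplement_iff_inf_pResidual P]
  set R := Cfsg.pResidual p X with hR
  -- any Sylow of R is central
  obtain ⟨Q⟩ : Nonempty (Sylow p ↥R) := inferInstance
  have hQc : ∀ q ∈ (Q : Subgroup ↥R), ∀ r : ↥R, q * r = r * q := by
    intro q hq r
    -- the image of Q in X is a p-group, so lies in a conjugate of P
    have hpg : IsPGroup p ((Q : Subgroup ↥R).map R.subtype) := Q.2.map _
    obtain ⟨P', hP'⟩ := hpg.exists_le_sylow
    obtain ⟨g, rfl⟩ := MulAction.exists_smul_eq X P P'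
    have hqm : (q : X) ∈ ((g • P : Sylow p X) : Subgroup X) := hP' ⟨q, hq, rfl⟩
    rw [Sylow.coe_subgroup_smul, Subgroup.mem_pointwise_smul_iff_inv_smul_mem] at hqm
    simp only [MulAut.smul_def, MulAut.conj_inv_apply] at hqm
    have h1 : g⁻¹ * (q : X) * g ∈ R := by
      have := (inferInstance : R.Normal).conj_mem (q : X) q.2 g⁻¹
      simpa using this
    have h2 : g⁻¹ * (r : X) * g ∈ R := by
      have := (inferInstance : R.Normal).conj_mem (r : X) r.2 g⁻¹
      simpa using this
    have h3 := hc _ ⟨hqm, h1⟩ _ h2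
    apply Subtype.ext
    simp only [Subgroup.coe_mul]
    have e1 : (q : X) * r = g * ((g⁻¹ * (q : X) * g) * (g⁻¹ * (r : X) * g)) * g⁻¹ := by group
    have e2 : (r : X) * q = g * ((g⁻¹ * (r : X) * g) * (g⁻¹ * (q : X) * g)) * g⁻¹ := by group
    rw [e1, e2, h3]
  -- Burnside transfer
  have hle : normalizer (Q : Set ↥R) ≤ centralizer (Q : Set ↥R) := by
    intro r _
    rw [Subgroup.mem_centralizer_iff]
    intro q hq
    exact hQc q hq r
  have hcompl := MonoidHom.ker_transferSylow_isComplement' Q hle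
  have hK := Cfsg.Agent.Helper9.normal_complement_eq_pResidual Q _ hcompl
  have hK2 : (MonoidHom.transferSylow Q hle).ker = ⊤ := hK.trans (pResidual_pResidual_eq_top p)
  rw [hK2] at hcompl
  have hQbot : (Q : Subgroup ↥R) = ⊥ := by
    have := hcompl.disjoint.eq_bot
    simpa using this
  -- so R is a p'-group
  have hRcop : (Nat.card ↥R).Coprime p := by
    rw [Nat.coprime_comm, (Fact.out : p.Prime).coprime_iff_not_dvd]
    intro hdvd
    have := Q.ne_bot_of_dvd_card hdvd
    exact this hQbot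
  rw [eq_bot_iff]
  intro x hx
  rw [Subgroup.mem_bot]
  have hx1 : orderOf x ∣ Nat.card ↥R := by
    have := orderOf_dvd_natCard (⟨x, hx.2⟩ : ↥R)
    rwa [Subgroup.orderOf_mk] at this
  obtain ⟨k, hk⟩ := (IsPGroup.iff_orderOf.mp P.2) ⟨x, hx.1⟩
  rw [Subgroup.orderOf_mk] at hk
  have h1 : orderOf x ∣ p ^ k := by rw [hk]
  have := Nat.eq_one_of_dvd_coprimes (Nat.Coprime.pow_right k hRcop) hx1 h1
  rwa [orderOf_eq_one_iff] at this

end Cfsg.Agent.Helper10
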