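import Mathlib
import Cfsg.Prelude.Def_Local
import Cfsg.Agent.Helper19.Cores
import Cfsg.Agent.Helper14.Conj
import Cfsg.Agent.Helper10.NPCentral

set_option autoImplicit false

namespace Cfsg.Agent.Helper10

open Subgroup
open scoped Pointwise

section

variable {G : Type*} [Group G]

/-- `N_G(A) ⊓ N_G(B) ≤ N_G(A ⊔ B)`. -/
theorem mem_normalizer_sup {A B : Subgroup G} {n : G} (hA : n ∈ normalizer (A : Set G))
    (hB : n ∈ normalizer (B : Set G)) : n ∈ normalizer ((A ⊔ B : Subgroup G) : Set G) := by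
  rw [mem_normalizer_iff_map_conj_eq] at hA hB ⊢
  rw [Subgroup.map_sup, hA, hB]

theorem pPrimeCore_le_pPrimePCore (p : ℕ) : Cfsg.pPrimeCore p G ≤ Cfsg.pPrimePCore p G := by
  intro x hx
  unfold Cfsg.pPrimePCore
  rw [Subgroup.mem_comap]
  have : (QuotientGroup.mk' (Cfsg.pPrimeCore p G)) x = 1 := by
    rw [QuotientGroup.mk'_apply, QuotientGroup.eq_one_iff]; exact hx
  rw [this]; exact one_mem _

instance pPrimePCore_normal (p : ℕ) : (Cfsg.pPrimePCore p G).Normal := by
  unfold Cfsg.pPrimePCore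
  infer_instance

theorem le_pPrimeCore {p : ℕ} {N : Subgroup G} (hN : N.Normal) (h : (Nat.card N).Coprime p) :
    N ≤ Cfsg.pPrimeCore p G :=
  le_sSup ⟨hN, h⟩

end

section fin

variable {G : Type*} [Group G] [Finite G] {p : ℕ} [hp : Fact p.Prime]

theorem sylow_inf_pPrimeCore (S : Sylow p G) : (S : Subgroup G) ⊓ Cfsg.pPrimeCore p G = ⊥ := by
  apply (Subgroup.disjoint_of_coprime_natCard _).eq_bot
  obtain ⟨k, hk⟩ := IsPGroup.iff_card.mp S.2
  rw [hk]
  exact (Nat.Coprime.pow_right k (Cfsg.Agent.Helper19.pPrimeCore_coprime (G := G) p)).symm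

/-- `O_{p',p}(G) ≤ S O_{p'}(G)`, elementwise. -/
theorem exists_mul_of_mem_pPrimePCore (S : Sylow p G) {x : G} (hx : x ∈ Cfsg.pPrimePCore p G) :
    ∃ s ∈ (S : Subgroup G), ∃ k ∈ Cfsg.pPrimeCore p G, x = s * k := by
  unfold Cfsg.pPrimePCore at hx
  rw [Subgroup.mem_comap] at hx
  have hsurj : Function.Surjective (QuotientGroup.mk' (Cfsg.pPrimeCore p G)) :=
    QuotientGroup.mk'_surjective _
  let S' : Sylow p (G ⧸ Cfsg.pPrimeCore p G) := S.mapSurjective hsurj
  have hle : Cfsg.pCore p (G ⧸ Cfsg.pPrimeCore p G) ≤ (S' : Subgroup _) := by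
    have hpg : IsPGroup p ↥(Cfsg.pCore p (G ⧸ Cfsg.pPrimeCore p G)) :=
      Cfsg.Agent.Helper19.pCore_isPGroup p
    exact hpg.le_sylow_of_normal S'
  have h1 := hle hx
  rw [Sylow.coe_mapSurjective] at h1
  obtain ⟨s, hs, hsx⟩ := h1
  refine ⟨s, hs, s⁻¹ * x, ?_, by group⟩
  have : (QuotientGroup.mk' (Cfsg.pPrimeCore p G)) (s⁻¹ * x) = 1 := by
    rw [map_mul, map_inv, hsx]; group
  rwa [QuotientGroup.mk'_apply, QuotientGroup.eq_one_iff] at this

omit [Finite G] hp in
/-- If `S O_{p'}(G)` is normal then it lies in `O_{p',p}(G)`. -/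
theorem sylow_sup_le_pPrimePCore (S : Sylow p G)
    (hn : ((S : Subgroup G) ⊔ Cfsg.pPrimeCore p G).Normal) :
    (S : Subgroup G) ⊔ Cfsg.pPrimeCore p G ≤ Cfsg.pPrimePCore p G := by
  have hsurj : Function.Surjective (QuotientGroup.mk' (Cfsg.pPrimeCore p G)) :=
    QuotientGroup.mk'_surjective _
  have hmn : (((S : Subgroup G) ⊔ Cfsg.pPrimeCore p G).map
      (QuotientGroup.mk' (Cfsg.pPrimeCore p G))).Normal := hn.map _ hsurj
  have hmeq : ((S : Subgroup G) ⊔ Cfsg.pPrimeCore p G).map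
      (QuotientGroup.mk' (Cfsg.pPrimeCore p G)) =
      (S : Subgroup G).map (QuotientGroup.mk' (Cfsg.pPrimeCore p G)) := by
    rw [Subgroup.map_sup, QuotientGroup.map_mk'_self, sup_bot_eq]
  have hpg : IsPGroup p ↥(((S : Subgroup G) ⊔ Cfsg.pPrimeCore p G).map
      (QuotientGroup.mk' (Cfsg.pPrimeCore p G))) := by
    rw [hmeq]; exact S.2.map _
  have hle : ((S : Subgroup G) ⊔ Cfsg.pPrimeCore p G).map
      (QuotientGroup.mk' (Cfsg.pPrimeCore p G)) ≤ Cfsg.pCore p (G ⧸ Cfsg.pPrimeCore p G) :=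
    le_sSup ⟨hmn, hpg⟩
  unfold Cfsg.pPrimePCore
  rw [← Subgroup.map_le_iff_le_comap]
  exact hle

/-- Structure of the centralizer of a Sylow `p`-subgroup: `C_G(S) = Z(S) × D` with `D` a
`p'`-group normalized by `N_G(S)`. -/
theorem exists_centralizer_sylow_decomp (S : Sylow p G) :
    ∃ D : Subgroup G, (Nat.card D).Coprime p ∧
      (∀ n ∈ normalizer ((S : Subgroup G) : Set G), n ∈ normalizer (D : Set G)) ∧
      ∀ x ∈ centralizer ((S : Subgroup G) : Set G), ∃ z ∈ (S : Subgroup G), ∃ d ∈ D, x = d * z := by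
  obtain ⟨C, hC⟩ : ∃ C : Subgroup G, C = centralizer ((S : Subgroup G) : Set G) := ⟨_, rfl⟩
  have hCN : C ≤ normalizer ((S : Subgroup G) : Set G) := by
    rw [hC]; exact Subgroup.centralizer_le_normalizer _
  -- every p-subgroup of C lies in S
  have hpS : ∀ Q : Sylow p ↥C, ∀ q ∈ (Q : Subgroup ↥C), (q : G) ∈ (S : Subgroup G) := by
    intro Q q hq
    have hpg : IsPGroup p ((Q : Subgroup ↥C).map C.subtype) := Q.2.map _
    have h1 := hpg.inf_normalizer_sylow S
    have h2 : (q : G) ∈ (Q : Subgroup ↥C).map C.subtype ⊓ normalizer (S : Set G) :=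
      ⟨⟨q, hq, rfl⟩, hCN q.2⟩
    rw [h1] at h2
    exact h2.2
  obtain ⟨Q⟩ : Nonempty (Sylow p ↥C) := inferInstance
  have hnpc : Cfsg.HasNormalPComplement p ↥C := by
    apply hasNormalPComplement_of_central Q
    intro x hx r _
    have hxS := hpS Q x hx.1
    have hr : (r : G) ∈ centralizer ((S : Subgroup G) : Set G) := hC ▸ r.2
    rw [Subgroup.mem_centralizer_iff] at hr
    apply Subtype.ext
    simp only [Subgroup.coe_mul]
    exact hr _ hxS
  rw [Cfsg.Agent.Helper9.hasNormalPComplement_iff Q] at hnpc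
  obtain ⟨N, hNn, hNc⟩ := hnpc
  have hNeq := Cfsg.Agent.Helper9.normal_complement_eq_pResidual Q N hNc
  refine ⟨N.map C.subtype, ?_, ?_, ?_⟩
  · rw [← Nat.card_congr (N.equivMapOfInjective C.subtype C.subtype_injective).toEquiv]
    rw [← hNc.index_eq_card]
    exact ((Fact.out : p.Prime).coprime_iff_not_dvd.mpr Q.not_dvd_index).symm
  · intro n hn
    have hnC : ∀ c ∈ C, n * c * n⁻¹ ∈ C := by
      intro c hc
      have : n ∈ normalizer (C : Set G) := by
        have := Cfsg.Agent.Helper14.map_cj_centralizer (S : Subgroup G) n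
        rw [Cfsg.Agent.Helper14.mem_normalizer_iff_map_cj.mp hn, ← hC] at this
        exact Cfsg.Agent.Helper14.mem_normalizer_iff_map_cj.mpr this
      exact (Subgroup.mem_normalizer_iff.mp this c).mp hc
    have hnC' : ∀ c ∈ C, n⁻¹ * c * n ∈ C := by
      intro c hc
      have hn' := inv_mem hn
      have : n⁻¹ ∈ normalizer (C : Set G) := by
        have := Cfsg.Agent.Helper14.map_cj_centralizer (S : Subgroup G) n⁻¹
        rw [Cfsg.Agent.Helper14.mem_normalizer_iff_map_cj.mp hn', ← hC] at this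
        exact Cfsg.Agent.Helper14.mem_normalizer_iff_map_cj.mpr this
      simpa using (Subgroup.mem_normalizer_iff.mp this c).mp hc
    -- conjugation by m ∈ N_G(S) maps N into N
    have key : ∀ m : G, (∀ c ∈ C, m * c * m⁻¹ ∈ C) → ∀ d ∈ N.map C.subtype, m * d * m⁻¹ ∈ N.map C.subtype := by
      intro m hm d hd
      obtain ⟨d', hd', rfl⟩ := hd
      rw [hNeq] at hd' ⊢
      unfold Cfsg.pResidual at hd'
      induction hd' using Subgroup.closure_induction with
      | mem z hz =>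
        change Nat.Coprime (orderOf z) p at hz
        refine ⟨⟨m * (z : G) * m⁻¹, hm _ z.2⟩, ?_, rfl⟩
        apply Cfsg.Agent.Helper9.mem_pResidual_of_coprime
        rw [Subgroup.orderOf_mk]
        have : orderOf (m * (z : G) * m⁻¹) = orderOf (z : G) := by
          have := orderOf_injective (MulAut.conj m).toMonoidHom (MulAut.conj m).injective (z : G)
          simpa using this
        rw [this, Subgroup.orderOf_coe]
        exact hz
      | one => simp
      | mul a b _ _ iha ihb =>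
        have : m * (C.subtype (a * b)) * m⁻¹ = (m * C.subtype a * m⁻¹) * (m * C.subtype b * m⁻¹) := by
          rw [map_mul]; group
        rw [this]
        exact mul_mem iha ihb
      | inv a _ iha =>
        have : m * (C.subtype a⁻¹) * m⁻¹ = (m * C.subtype a * m⁻¹)⁻¹ := by
          rw [map_inv]; group
        rw [this]
        exact inv_mem iha
    rw [Subgroup.mem_normalizer_iff]
    intro d
    constructor
    · exact key n hnC d
    · intro h
      have := key n⁻¹ (by intro c hc; simpa using hnC' c hc) _ h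
      simpa [mul_assoc] using this
  · intro x hx
    rw [← hC] at hx
    have htop := hNc.sup_eq_top
    have hxm : (⟨x, hx⟩ : ↥C) ∈ N ⊔ (Q : Subgroup ↥C) := by rw [htop]; trivial
    have : ((N ⊔ (Q : Subgroup ↥C) : Subgroup ↥C) : Set ↥C) = (N : Set ↥C) * (Q : Set ↥C) :=
      Subgroup.normal_mul N (Q : Subgroup ↥C)
    have hxm' : (⟨x, hx⟩ : ↥C) ∈ (N : Set ↥C) * (Q : Set ↥C) := by
      rw [← this]; exact hxm
    obtain ⟨d, hd, q, hq, hdq⟩ := Set.mem_mul.mp hxm'
    refine ⟨(q : G), hpS Q q hq, (d : G), ⟨d, hd, rfl⟩, ?_⟩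
    have := congrArg Subtype.val hdq
    simpa using this.symm

end fin

end Cfsg.Agent.Helper10
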