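import Mathlib
import Cfsg.Prelude.Def_Local
import Cfsg.Agent.Helper17.SolvRad

set_option autoImplicit false
set_option linter.unusedSectionVars false
set_option linter.unusedVariables false

/-! # Finite solvable groups are `p`-solvable (in the chain sense of `Cfsg.IsPSolvable`) -/

namespace Cfsg.Agent.Helper10

open Subgroup Cfsg

universe u

/-- Pull back a `p`-solvable chain along the quotient by a normal subgroup of `p`-power order or
of order prime to `p`. -/
theorem isPSolvable_of_quotient' {G : Type*} [Group G] {p : ℕ} (K : Subgroup G) [K.Normal]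
    (hK : (∃ m : ℕ, Nat.card K = p ^ m) ∨ (Nat.card K).Coprime p)
    (h : Cfsg.IsPSolvable p (G ⧸ K)) : Cfsg.IsPSolvable p G := by
  obtain ⟨n, H, h0, hlast, hmono, hnorm, hstep⟩ := h
  have hsurj := QuotientGroup.mk'_surjective K
  refine ⟨n + 1, Fin.cons ⊥ (fun i => (H i).comap (QuotientGroup.mk' K)), ?_, ?_, ?_, ?_, ?_⟩
  · rfl
  · have : Fin.last (n + 1) = (Fin.last n).succ := rfl
    rw [this, Fin.cons_succ, hlast, Subgroup.comap_top]
  · rw [Fin.monotone_iff_le_succ]
    intro i
    refine Fin.cases ?_ (fun j => ?_) i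
    · rw [Fin.castSucc_zero, Fin.cons_zero]
      exact bot_le
    · rw [← Fin.succ_castSucc, Fin.cons_succ, Fin.cons_succ]
      exact Subgroup.comap_mono (hmono (Fin.castSucc_le_succ j))
  · intro i
    refine Fin.cases ?_ (fun j => ?_) i
    · rw [Fin.cons_zero]; infer_instance
    · rw [Fin.cons_succ]
      have := hnorm j
      infer_instance
  · intro i
    refine Fin.cases ?_ (fun j => ?_) i
    · rw [Fin.castSucc_zero, Fin.cons_zero, Fin.cons_succ, h0, Subgroup.relIndex_bot_left]
      have : (⊥ : Subgroup (G ⧸ K)).comap (QuotientGroup.mk' K) = K := by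
        have h1 : (QuotientGroup.mk' K).ker = K := QuotientGroup.ker_mk' K
        exact h1
      rw [this]
      exact hK
    · rw [← Fin.succ_castSucc, Fin.cons_succ, Fin.cons_succ]
      have hrel : ((H j.castSucc).comap (QuotientGroup.mk' K)).relIndex
          ((H j.succ).comap (QuotientGroup.mk' K)) = (H j.castSucc).relIndex (H j.succ) := by
        rw [Subgroup.relIndex_comap, Subgroup.map_comap_eq_self_of_surjective hsurj]
      rw [hrel]
      exact hstep j

/-- A nontrivial finite solvable group has a nontrivial normal subgroup which is a `p`-group or a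
`p'`-group. -/
theorem exists_normal_pGroup_or_coprime {G : Type*} [Group G] [Finite G] [Nontrivial G]
    (hs : Group.IsSolvable G) (p : ℕ) [hp : Fact p.Prime] :
    ∃ N : Subgroup G, N.Normal ∧ N ≠ ⊥ ∧
      ((∃ m : ℕ, Nat.card N = p ^ m) ∨ (Nat.card N).Coprime p) := by
  have htop : (⊤ : Subgroup G) ≠ ⊥ := top_ne_bot
  have hstop : Group.IsSolvable (⊤ : Subgroup G) :=
    Group.isSolvable_of_isSolvable_injective (f := (⊤ : Subgroup G).subtype)
      (subtype_injective _)
  obtain ⟨M, hMn, hMne, hMc⟩ :=
    Cfsg.Agent.Helper17.exists_normal_abelian (Nat.card (⊤ : Subgroup G)) ⊤ inferInstance htop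
      hstop rfl
  by_cases hdvd : p ∣ Nat.card M
  · -- the `p`-torsion of `M`
    obtain ⟨a, ha⟩ : ∃ a : ℕ, a = (Nat.card M).factorization p := ⟨_, rfl⟩
    let N : Subgroup G :=
      { carrier := {m | m ∈ M ∧ m ^ (p ^ a) = 1}
        mul_mem' := by
          rintro x y ⟨hx, hx'⟩ ⟨hy, hy'⟩
          refine ⟨M.mul_mem hx hy, ?_⟩
          have hc : Commute x y := hMc x hx y hy
          rw [hc.mul_pow, hx', hy', one_mul]
        one_mem' := ⟨M.one_mem, one_pow _⟩
        inv_mem' := by
          rintro x ⟨hx, hx'⟩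
          exact ⟨M.inv_mem hx, by rw [inv_pow, hx', inv_one]⟩ }
    have hNM : N ≤ M := fun x hx => hx.1
    have hNn : N.Normal := by
      refine ⟨fun x hx g => ⟨hMn.conj_mem x hx.1 g, ?_⟩⟩
      rw [conj_pow, hx.2, mul_one, mul_inv_cancel]
    have hNp : IsPGroup p N := by
      intro x
      refine ⟨a, ?_⟩
      apply Subtype.ext
      rw [Subgroup.coe_pow]
      exact x.2.2
    have hNne : N ≠ ⊥ := by
      obtain ⟨x, hx⟩ := exists_prime_orderOf_dvd_card' (G := M) p hdvd
      have ha1 : 1 ≤ a := by
        rw [ha]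
        exact (hp.out.factorization_pos_of_dvd Nat.card_pos.ne' hdvd)
      have hx1 : (x : G) ^ (p ^ a) = 1 := by
        have h1 : x ^ p = 1 := by rw [← hx]; exact pow_orderOf_eq_one x
        have h2 : (x : G) ^ p = 1 := by
          have := congrArg (fun z : M => (z : G)) h1
          simpa using this
        obtain ⟨b, rfl⟩ : ∃ b, a = b + 1 := ⟨a - 1, by omega⟩
        rw [pow_succ', pow_mul, h2, one_pow]
      have hxN : (x : G) ∈ N := ⟨x.2, hx1⟩
      intro hbot
      rw [hbot, mem_bot] at hxN
      have : x = 1 := Subtype.ext hxN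
      rw [this, orderOf_one] at hx
      exact hp.out.one_lt.ne hx
    exact ⟨N, hNn, hNne, Or.inl (IsPGroup.iff_card.1 hNp)⟩
  · refine ⟨M, hMn, hMne, Or.inr ?_⟩
    rw [Nat.coprime_comm, Nat.Prime.coprime_iff_not_dvd hp.out]
    exact hdvd

theorem isPSolvable_of_isSolvable_aux (p : ℕ) [hp : Fact p.Prime] :
    ∀ (n : ℕ) (G : Type u) [Group G] [Finite G], Nat.card G = n → Group.IsSolvable G →
      Cfsg.IsPSolvable p G := by
  intro n
  induction n using Nat.strong_induction_on with
  | _ n ih =>
    intro G _ _ hn hs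
    by_cases htriv : Subsingleton G
    · refine ⟨0, fun _ => ⊥, rfl, ?_, fun _ _ _ => le_rfl, fun _ => inferInstance, ?_⟩
      · exact Subsingleton.elim _ _
      · intro i; exact i.elim0
    · rw [not_subsingleton_iff_nontrivial] at htriv
      obtain ⟨N, hNn, hNne, hN⟩ := exists_normal_pGroup_or_coprime hs p
      have hlt : Nat.card (G ⧸ N) < n := by
        rw [← hn, ← Subgroup.index_eq_card, ← Subgroup.index_mul_card N]
        have h1 : 1 < Nat.card N := by
          rw [Subgroup.one_lt_card_iff_ne_bot]; exact hNne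
        have h2 : 0 < N.index := Nat.pos_of_ne_zero (Subgroup.index_ne_zero_of_finite)
        nlinarith
      have hq := ih _ hlt (G ⧸ N) rfl inferInstance
      exact isPSolvable_of_quotient' N hN hq

/-- A finite solvable group is `p`-solvable. -/
theorem isPSolvable_of_isSolvable {G : Type u} [Group G] [Finite G] (p : ℕ) [hp : Fact p.Prime]
    (hs : Group.IsSolvable G) : Cfsg.IsPSolvable p G :=
  isPSolvable_of_isSolvable_aux p _ G rfl hs

end Cfsg.Agent.Helper10
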