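import Mathlib
import Cfsg.Agent.Helper10.IndFunctor2
import Cfsg.Agent.Helper10.PConstrained
import Cfsg.Agent.Helper10.SolvPSolv
import Cfsg.Agent.Helper11.SylowInter
import Cfsg.Agent.Helper23.HallHigman
import Cfsg.Agent.S0071

set_option autoImplicit false
set_option linter.unusedSectionVars false
set_option linter.unusedVariables false

/-! # Thompson-type reduction for normal `p`-complements, in functor form -/

namespace Cfsg.Agent.Helper10

universe u

open Subgroup
open Cfsg.Agent.Helper14 (cj)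

section Basic

theorem card_subgroup_lt_of_ne_top {X : Type*} [Group X] [Finite X] {H : Subgroup X}
    (hH : H ≠ ⊤) : Nat.card ↥H < Nat.card X := by
  have h1 := H.card_mul_index
  have h2 : H.index ≠ 1 := fun h => hH (index_eq_one.mp h)
  have h3 : H.index ≠ 0 := index_ne_zero_of_finite
  have h4 : 2 ≤ H.index := by omega
  have h5 : 0 < Nat.card H := Nat.card_pos
  nlinarith

theorem card_quotient_lt_of_ne_bot {X : Type*} [Group X] [Finite X] {N : Subgroup X} [N.Normal]
    (hN : N ≠ ⊥) : Nat.card (X ⧸ N) < Nat.card X := by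
  have h1 := N.card_mul_index
  rw [Subgroup.index_eq_card] at h1
  have h2 : 1 < Nat.card ↥N := (Subgroup.one_lt_card_iff_ne_bot N).2 hN
  have h3 : 0 < Nat.card (X ⧸ N) := Nat.card_pos
  nlinarith

theorem card_subgroup_lt_of_lt {X : Type*} [Group X] [Finite X] {H K : Subgroup X} (h : H < K) :
    Nat.card ↥H < Nat.card ↥K := by
  refine lt_of_le_of_ne (Subgroup.card_le_of_le h.le) ?_
  intro e
  exact h.ne (Subgroup.eq_of_le_of_card_ge h.le e.ge)

theorem isPSolvable_of_card_pow {G : Type*} [Group G] {p m : ℕ} (h : Nat.card G = p ^ m) :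
    Cfsg.IsPSolvable p G := by
  refine ⟨1, ![⊥, ⊤], rfl, rfl, ?_, ?_, ?_⟩
  · rw [Fin.monotone_iff_le_succ]
    intro i
    fin_cases i
    exact bot_le
  · intro i
    fin_cases i
    · exact (inferInstance : (⊥ : Subgroup G).Normal)
    · exact (inferInstance : (⊤ : Subgroup G).Normal)
  · intro i
    fin_cases i
    left
    refine ⟨m, ?_⟩
    change (⊥ : Subgroup G).relIndex ⊤ = p ^ m
    rw [Subgroup.relIndex_bot_left, Subgroup.card_top, h]

theorem isPSolvable_of_npc {X : Type*} [Group X] [Finite X] {p : ℕ} [Fact p.Prime]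
    (h : Cfsg.HasNormalPComplement p X) : Cfsg.IsPSolvable p X := by
  have hp : p.Prime := Fact.out
  obtain ⟨S, K, hKn, hc⟩ := h
  have hKc : (Nat.card K).Coprime p := by
    have h1 : (S : Subgroup X).index = Nat.card K := hc.index_eq_card
    rw [← h1]
    exact ((Nat.Prime.coprime_iff_not_dvd hp).mpr S.not_dvd_index).symm
  apply isPSolvable_of_quotient' K (Or.inr hKc)
  obtain ⟨m, hm⟩ := IsPGroup.iff_card.mp S.2
  apply isPSolvable_of_card_pow (m := m)
  rw [← Subgroup.index_eq_card, ← hm]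
  exact hc.symm.index_eq_card

end Basic

section Main

variable {p : ℕ} [Fact p.Prime] {W : ∀ (Q : Type u) [Group Q], Subgroup Q}

/-- a nonidentity `p`-subgroup whose normalizer has no normal `p`-complement -/
def BadSub (p : ℕ) {X : Type*} [Group X] (H : Subgroup X) : Prop :=
  IsPGroup p ↥H ∧ H ≠ ⊥ ∧ ¬ Cfsg.HasNormalPComplement p ↥(normalizer (H : Set X))

/-- Frobenius: no normal `p`-complement gives a bad `p`-subgroup -/
theorem exists_badSub {X : Type*} [Group X] [Finite X] (h : ¬ Cfsg.HasNormalPComplement p X) :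
    ∃ Q : Subgroup X, BadSub p Q := by
  obtain ⟨T⟩ : Nonempty (Sylow p X) := inferInstance
  have h1 : ¬ ∃ N : Subgroup X, N.Normal ∧ N.IsComplement' (T : Subgroup X) :=
    fun h' => h ((Cfsg.Agent.Helper9.hasNormalPComplement_iff T).2 h')
  rw [Cfsg.Agent.S0071.result T] at h1
  push Not at h1
  obtain ⟨Q, hQT, g, hg, hcop, hgC⟩ := h1
  refine ⟨Q, T.2.to_le hQT, ?_, ?_⟩
  · rintro rfl
    apply hgC
    rw [Subgroup.mem_centralizer_iff]
    intro x hx
    have hx' : x ∈ (⊥ : Subgroup X) := hx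
    rw [Subgroup.mem_bot] at hx'
    rw [hx']
    simp
  · intro hN
    apply hgC
    rw [Subgroup.mem_centralizer_iff]
    intro x hx
    have hx' : x ∈ Q := hx
    have hDn : (Q.subgroupOf (normalizer (Q : Set X))).Normal := Subgroup.normal_in_normalizer
    have hDp : IsPGroup p ↥(Q.subgroupOf (normalizer (Q : Set X))) :=
      (T.2.to_le hQT).comap_subtype
    have hord : (orderOf (⟨g, hg⟩ : ↥(normalizer (Q : Set X)))).Coprime p := by
      have : orderOf (⟨g, hg⟩ : ↥(normalizer (Q : Set X))) = orderOf g :=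
        (Subgroup.orderOf_coe (⟨g, hg⟩ : ↥(normalizer (Q : Set X)))).symm
      rw [this]
      exact hcop
    have h2 := Cfsg.Agent.Helper9.commute_of_hasNormalPComplement hN
      (Q.subgroupOf (normalizer (Q : Set X))) hDp ⟨g, hg⟩ hord
      ⟨x, Subgroup.le_normalizer hx'⟩ (Subgroup.mem_subgroupOf.2 hx')
    have h3 := congrArg Subtype.val h2
    exact h3.symm

/-- step 1: the hypothesis passes to the quotient by `O_{p'}(X)` -/
theorem step_pPrimeCore (hW : Cfsg.IsCharPFunctor.{u} p W) {X : Type u} [Group X] [Finite X]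
    (T : Sylow p X)
    (hT : Cfsg.HasNormalPComplement p
      ↥(normalizer ((Cfsg.inducedFunctor W (T : Subgroup X) : Subgroup X) : Set X))) :
    Cfsg.HasNormalPComplement p ↥(normalizer ((Cfsg.inducedFunctor W
      ((T.mapSurjective (QuotientGroup.mk'_surjective (Cfsg.pPrimeCore p X)) :
        Sylow p (X ⧸ Cfsg.pPrimeCore p X)) : Subgroup (X ⧸ Cfsg.pPrimeCore p X)) :
          Subgroup (X ⧸ Cfsg.pPrimeCore p X)) : Set (X ⧸ Cfsg.pPrimeCore p X))) := by
  have hDc := Cfsg.Agent.Helper23.pPrimeCore_card_coprime p X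
  rw [Sylow.coe_mapSurjective]
  have hinj : ∀ t ∈ (T : Subgroup X), (QuotientGroup.mk' (Cfsg.pPrimeCore p X)) t = 1 → t = 1 := by
    intro t ht h1
    have h2 : t ∈ Cfsg.pPrimeCore p X := (QuotientGroup.eq_one_iff t).1 h1
    have h3 : t ∈ (T : Subgroup X) ⊓ Cfsg.pPrimeCore p X := ⟨ht, h2⟩
    rw [sylow_inf_pPrimeCore T] at h3
    exact Subgroup.mem_bot.1 h3
  rw [← iF_map_of_injOn hW (QuotientGroup.mk' (Cfsg.pPrimeCore p X)) T.2 hinj]
  exact npc_normalizer_map_mk_of_coprime _ hDc (iF_isPGroup T.2) hT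

/-- step 4: a bad subgroup that is not normal produces a bad subgroup whose normalizer has a
larger `p`-part -/
theorem step_grow (hW : Cfsg.IsCharPFunctor.{u} p W) {X : Type u} [Group X] [Finite X]
    (hTall : ∀ T' : Sylow p X, Cfsg.HasNormalPComplement p
      ↥(normalizer ((Cfsg.inducedFunctor W (T' : Subgroup X) : Subgroup X) : Set X)))
    (N H : Subgroup X) (hN : N = normalizer (H : Set X)) (hH : IsPGroup p ↥H) (hHne : H ≠ ⊥)
    (R : Sylow p ↥N)
    (hR : ¬ Cfsg.HasNormalPComplement p ↥(normalizer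
        ((Cfsg.inducedFunctor W (R : Subgroup ↥N) : Subgroup ↥N) : Set ↥N))) :
    ∃ U : Subgroup X, BadSub p U ∧
      (Nat.card ↥N).factorization p < (Nat.card ↥(normalizer (U : Set X))).factorization p := by
  have hp : p.Prime := Fact.out
  have hR'p : IsPGroup p ↥((R : Subgroup ↥N).map N.subtype) := R.2.map _
  have h2 : ¬ Cfsg.HasNormalPComplement p ↥(normalizer ((Cfsg.inducedFunctor W
      ((R : Subgroup ↥N).map N.subtype) : Subgroup X) : Set X)) := by
    intro h
    apply hR
    apply npc_normalizer_of_subtype N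
    rw [iF_map_subtype hW N R.2]
    exact h
  have hHN : H ≤ N := hN ▸ Subgroup.le_normalizer
  have hHR' : H ≤ (R : Subgroup ↥N).map N.subtype := by
    have hn : (H.subgroupOf N).Normal := by
      subst hN
      exact Subgroup.normal_in_normalizer
    have h3 : H.subgroupOf N ≤ (R : Subgroup ↥N) :=
      IsPGroup.le_sylow_of_normal (N := H.subgroupOf N) hH.comap_subtype R
    intro x hx
    exact ⟨⟨x, hHN hx⟩, h3 (Subgroup.mem_subgroupOf.2 hx), rfl⟩
  have hR'ne : (R : Subgroup ↥N).map N.subtype ≠ ⊥ := by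
    intro h
    rw [h] at hHR'
    exact hHne (le_bot_iff.1 hHR')
  refine ⟨Cfsg.inducedFunctor W ((R : Subgroup ↥N).map N.subtype),
    ⟨iF_isPGroup hR'p, iF_ne_bot hW hR'p hR'ne, h2⟩, ?_⟩
  have hcardR' : Nat.card ↥((R : Subgroup ↥N).map N.subtype) =
      p ^ ((Nat.card ↥N).factorization p) := by
    rw [Subgroup.card_map_of_injective N.subtype_injective]
    exact R.card_eq_multiplicity
  obtain ⟨T', hT'⟩ := hR'p.exists_le_sylow
  by_cases hRT : (R : Subgroup ↥N).map N.subtype = (T' : Subgroup X)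
  · exfalso
    apply h2
    rw [hRT]
    exact hTall T'
  · have hlt' : (R : Subgroup ↥N).map N.subtype < (T' : Subgroup X) := lt_of_le_of_ne hT' hRT
    have hgrow := Cfsg.Agent.Helper11.lt_inf_normalizer (T' : Subgroup X) _ T'.2 hlt'
    have hR''p : IsPGroup p ↥((T' : Subgroup X) ⊓ normalizer
        (((R : Subgroup ↥N).map N.subtype : Subgroup X) : Set X)) := T'.2.to_le inf_le_left
    obtain ⟨k, hk⟩ := IsPGroup.iff_card.mp hR''p
    have hcardlt := card_subgroup_lt_of_lt hgrow
    rw [hcardR', hk] at hcardlt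
    have hvk : (Nat.card ↥N).factorization p < k :=
      (Nat.pow_lt_pow_iff_right hp.one_lt).1 hcardlt
    have hle : (T' : Subgroup X) ⊓ normalizer
        (((R : Subgroup ↥N).map N.subtype : Subgroup X) : Set X) ≤
        normalizer ((Cfsg.inducedFunctor W ((R : Subgroup ↥N).map N.subtype) : Subgroup X) : Set X) :=
      inf_le_right.trans (normalizer_le_normalizer_iF hW hR'p)
    have hdvd := Subgroup.card_dvd_of_le hle
    rw [hk] at hdvd
    have hk' := (Nat.Prime.pow_dvd_iff_le_factorization hp Nat.card_pos.ne').1 hdvd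
    omega

/-- step 7: the normalizer hypothesis for the quotient by a normal `p`-subgroup `P` -/
theorem step_quot (hW : Cfsg.IsCharPFunctor.{u} p W) {X : Type u} [Group X] [Finite X]
    (P : Subgroup X) [P.Normal] (hPp : IsPGroup p ↥P) (T : Sylow p X)
    (hPT : P ≤ (T : Subgroup X)) (hPT' : P ≠ (T : Subgroup X))
    (hgood : ∀ L : Subgroup X, IsPGroup p ↥L → P < L → (T : Subgroup X) ≤ normalizer (L : Set X) →
      Cfsg.HasNormalPComplement p ↥(normalizer (L : Set X))) :
    Cfsg.HasNormalPComplement p ↥(normalizer ((Cfsg.inducedFunctor W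
      ((T.mapSurjective (QuotientGroup.mk'_surjective P) : Sylow p (X ⧸ P)) : Subgroup (X ⧸ P)) :
        Subgroup (X ⧸ P)) : Set (X ⧸ P))) := by
  have hTbp : IsPGroup p ↥((T.mapSurjective (QuotientGroup.mk'_surjective P) :
      Sylow p (X ⧸ P)) : Subgroup (X ⧸ P)) :=
    (T.mapSurjective (QuotientGroup.mk'_surjective P)).2
  have hTbne : ((T.mapSurjective (QuotientGroup.mk'_surjective P) :
      Sylow p (X ⧸ P)) : Subgroup (X ⧸ P)) ≠ ⊥ := by
    intro h
    rw [Sylow.coe_mapSurjective] at h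
    apply hPT'
    apply le_antisymm hPT
    intro t ht
    have h1 : (QuotientGroup.mk' P) t ∈ (T : Subgroup X).map (QuotientGroup.mk' P) := ⟨t, ht, rfl⟩
    rw [h, Subgroup.mem_bot] at h1
    exact (QuotientGroup.eq_one_iff t).1 h1
  have hVne := iF_ne_bot hW hTbp hTbne
  apply npc_normalizer_of_comap P
  apply hgood
  · apply (iF_isPGroup hTbp).comap_of_ker_isPGroup
    rw [QuotientGroup.ker_mk']
    exact hPp
  · refine lt_of_le_of_ne (Cfsg.Agent.Helper23.le_comap_mk' P _) ?_
    intro h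
    apply hVne
    have h1 : (⊥ : Subgroup (X ⧸ P)).comap (QuotientGroup.mk' P) = P := by
      rw [MonoidHom.comap_bot, QuotientGroup.ker_mk']
    exact (Subgroup.comap_injective (QuotientGroup.mk'_surjective P) (h1.trans h)).symm
  · -- `T` normalizes the preimage
    rw [← Subgroup.comap_normalizer_eq_of_surjective _ (QuotientGroup.mk'_surjective P)]
    intro t ht
    rw [Subgroup.mem_comap]
    apply normalizer_le_normalizer_iF hW hTbp
    apply Subgroup.le_normalizer
    rw [Sylow.coe_mapSurjective]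
    exact ⟨t, ht, rfl⟩

/-- step 8: `p`-constraint -/
theorem step_constrained {X : Type*} [Group X] [Finite X] (hO : Cfsg.pPrimeCore p X = ⊥)
    (h : Cfsg.HasNormalPComplement p (X ⧸ Cfsg.pCore p X)) :
    centralizer ((Cfsg.pCore p X : Subgroup X) : Set X) ≤ Cfsg.pCore p X := by
  apply Cfsg.Agent.Helper23.centralizer_pCore_le_of_isPSolvable _ hO
  have hPp : IsPGroup p ↥(Cfsg.pCore p X) := Cfsg.Agent.Helper14.pCore_isPGroup p
  obtain ⟨m, hm⟩ := IsPGroup.iff_card.mp hPp
  exact isPSolvable_of_quotient' (Cfsg.pCore p X) (Or.inl ⟨m, hm⟩) (isPSolvable_of_npc h)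

/-- step 9: the Sylow subgroup is a maximal subgroup -/
theorem step_coatom {X : Type*} [Group X] [Finite X] (T : Sylow p X)
    (hnpc : ¬ Cfsg.HasNormalPComplement p X)
    (hcent : centralizer ((Cfsg.pCore p X : Subgroup X) : Set X) ≤ Cfsg.pCore p X)
    (hM : ∀ M : Subgroup X, (T : Subgroup X) ≤ M → M ≠ ⊤ → Cfsg.HasNormalPComplement p ↥M) :
    IsCoatom (T : Subgroup X) := by
  have hPT : Cfsg.pCore p X ≤ (T : Subgroup X) := Cfsg.Agent.Helper14.pCore_le_sylow p T
  refine ⟨?_, ?_⟩
  · intro hTtop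
    apply hnpc
    refine ⟨T, ⊥, inferInstance, ?_⟩
    rw [hTtop]
    exact Subgroup.isComplement'_bot_top
  · intro M hTM
    by_contra hMtop
    have hMnpc := hM M hTM.le hMtop
    obtain ⟨Q', hQ'n, hQ'c⟩ :=
      (Cfsg.Agent.Helper9.hasNormalPComplement_iff (T.subtype hTM.le)).1 hMnpc
    have hdisj : Q' ⊓ ((T.subtype hTM.le : Sylow p ↥M) : Subgroup ↥M) = ⊥ := hQ'c.disjoint.eq_bot
    have hQ'bot : Q' = ⊥ := by
      rw [eq_bot_iff]
      intro q hq
      have hqC : (q : X) ∈ centralizer ((Cfsg.pCore p X : Subgroup X) : Set X) := by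
        rw [Subgroup.mem_centralizer_iff]
        intro x hx
        have hx' : x ∈ Cfsg.pCore p X := hx
        have hxM : x ∈ M := hTM.le (hPT hx')
        have h1 : (⟨x, hxM⟩ : ↥M) * q * (⟨x, hxM⟩ : ↥M)⁻¹ * q⁻¹ ∈ Q' :=
          Q'.mul_mem (hQ'n.conj_mem q hq _) (Q'.inv_mem hq)
        have h2 : x * (q : X) * x⁻¹ * (q : X)⁻¹ ∈ Cfsg.pCore p X := by
          have h3 : (q : X) * x⁻¹ * (q : X)⁻¹ ∈ Cfsg.pCore p X :=
            (inferInstance : (Cfsg.pCore p X).Normal).conj_mem _ (Subgroup.inv_mem _ hx') _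
          have e : x * (q : X) * x⁻¹ * (q : X)⁻¹ = x * ((q : X) * x⁻¹ * (q : X)⁻¹) := by group
          rw [e]
          exact Subgroup.mul_mem _ hx' h3
        have h4 : (⟨x, hxM⟩ : ↥M) * q * (⟨x, hxM⟩ : ↥M)⁻¹ * q⁻¹ ∈
            ((T.subtype hTM.le : Sylow p ↥M) : Subgroup ↥M) := by
          rw [Sylow.coe_subtype, Subgroup.mem_subgroupOf]
          exact hPT h2
        have h5 : (⟨x, hxM⟩ : ↥M) * q * (⟨x, hxM⟩ : ↥M)⁻¹ * q⁻¹ ∈
            Q' ⊓ ((T.subtype hTM.le : Sylow p ↥M) : Subgroup ↥M) := ⟨h1, h4⟩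
        rw [hdisj, Subgroup.mem_bot] at h5
        have h6 := congrArg Subtype.val h5
        simp only [Subgroup.coe_mul, Subgroup.coe_inv, Subgroup.coe_one] at h6
        have e : x * (q : X) = (x * (q : X) * x⁻¹ * (q : X)⁻¹) * ((q : X) * x) := by group
        rw [e, h6, one_mul]
      have hqT : q ∈ ((T.subtype hTM.le : Sylow p ↥M) : Subgroup ↥M) := by
        rw [Sylow.coe_subtype, Subgroup.mem_subgroupOf]
        exact hPT (hcent hqC)
      have h7 : q ∈ Q' ⊓ ((T.subtype hTM.le : Sylow p ↥M) : Subgroup ↥M) := ⟨hq, hqT⟩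
      rw [hdisj] at h7
      exact h7
    rw [hQ'bot] at hQ'c
    have hTMtop : ((T.subtype hTM.le : Sylow p ↥M) : Subgroup ↥M) = ⊤ :=
      Subgroup.isComplement'_bot_left.1 hQ'c
    apply hTM.not_ge
    intro m hm
    have h8 : (⟨m, hm⟩ : ↥M) ∈ ((T.subtype hTM.le : Sylow p ↥M) : Subgroup ↥M) := by
      rw [hTMtop]
      exact Subgroup.mem_top _
    rw [Sylow.coe_subtype, Subgroup.mem_subgroupOf] at h8
    exact h8

theorem thompson_reduction (hW : Cfsg.IsCharPFunctor.{u} p W)
    (𝒞 : ∀ (Y : Type u) [Group Y], Prop)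
    (hsub : ∀ (Y : Type u) [Group Y], 𝒞 Y → ∀ M : Subgroup Y, 𝒞 ↥M)
    (hquot : ∀ (Y : Type u) [Group Y], 𝒞 Y → ∀ (N : Subgroup Y) [N.Normal], 𝒞 (Y ⧸ N))
    (Hfin : ∀ (Y : Type u) [Group Y] [Finite Y], 𝒞 Y →
      centralizer ((Cfsg.pCore p Y : Subgroup Y) : Set Y) ≤ Cfsg.pCore p Y →
      Cfsg.HasNormalPComplement p (Y ⧸ Cfsg.pCore p Y) →
      ∀ T : Sylow p Y, IsCoatom (T : Subgroup Y) → ¬ Cfsg.HasNormalPComplement p Y →
      Cfsg.HasNormalPComplement p
        ↥(normalizer ((Cfsg.inducedFunctor W (T : Subgroup Y) : Subgroup Y) : Set Y)) → False) :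
    ∀ (n : ℕ) (X : Type u) [Group X] [Finite X], Nat.card X = n → 𝒞 X → ∀ T : Sylow p X,
      Cfsg.HasNormalPComplement p
        ↥(normalizer ((Cfsg.inducedFunctor W (T : Subgroup X) : Subgroup X) : Set X)) →
      Cfsg.HasNormalPComplement p X := by
  intro n
  induction n using Nat.strong_induction_on with
  | _ n ih =>
  intro X _ _ hn hX T hT
  by_contra hnpc
  have hp : p.Prime := Fact.out
  have hTall : ∀ T' : Sylow p X, Cfsg.HasNormalPComplement p
      ↥(normalizer ((Cfsg.inducedFunctor W (T' : Subgroup X) : Subgroup X) : Set X)) :=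
    fun T' => npc_normalizer_iF_sylow hW T T' hT
  have IH : ∀ (Y : Type u) [Group Y] [Finite Y], Nat.card Y < Nat.card X → 𝒞 Y →
      ∀ T' : Sylow p Y, Cfsg.HasNormalPComplement p
        ↥(normalizer ((Cfsg.inducedFunctor W (T' : Subgroup Y) : Subgroup Y) : Set Y)) →
      Cfsg.HasNormalPComplement p Y := by
    intro Y _ _ hlt hY T' hT'
    exact ih (Nat.card Y) (hn ▸ hlt) Y rfl hY T' hT'
  -- (1) `O_{p'}(X) = 1`
  have hO : Cfsg.pPrimeCore p X = ⊥ := by
    by_contra hO
    apply hnpc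
    have hDc := Cfsg.Agent.Helper23.pPrimeCore_card_coprime p X
    apply npc_of_quotient_coprime (Cfsg.pPrimeCore p X) hDc
    have hlt : Nat.card (X ⧸ Cfsg.pPrimeCore p X) < Nat.card X := card_quotient_lt_of_ne_bot hO
    exact IH _ hlt (hquot X hX _) _ (step_pPrimeCore hW T hT)
  -- (2),(3) a maximal bad subgroup
  obtain ⟨Q, hbadQ⟩ := exists_badSub (p := p) hnpc
  obtain ⟨H, hHbad, hHmax⟩ := Set.exists_max_image {H : Subgroup X | BadSub p H}
    (fun H : Subgroup X => (Nat.card ↥(normalizer (H : Set X))).factorization p * (Nat.card X + 1)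
      + Nat.card ↥H) (Set.toFinite _) ⟨Q, hbadQ⟩
  have hv : ∀ H' : Subgroup X, BadSub p H' →
      (Nat.card ↥(normalizer (H' : Set X))).factorization p ≤
        (Nat.card ↥(normalizer (H : Set X))).factorization p := by
    intro H' hH'
    by_contra hlt
    push Not at hlt
    have h1 := hHmax H' hH'
    beta_reduce at h1
    have h2 : Nat.card ↥H ≤ Nat.card X := Subgroup.card_le_card_group H
    nlinarith
  have hc : ∀ H' : Subgroup X, BadSub p H' →
      (Nat.card ↥(normalizer (H' : Set X))).factorization p =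
        (Nat.card ↥(normalizer (H : Set X))).factorization p → Nat.card ↥H' ≤ Nat.card ↥H := by
    intro H' hH' he
    have h1 := hHmax H' hH'
    beta_reduce at h1
    rw [he] at h1
    omega
  -- (4) `H` is normal
  have hHn : normalizer (H : Set X) = ⊤ := by
    by_contra hne
    have hlt : Nat.card ↥(normalizer (H : Set X)) < Nat.card X := card_subgroup_lt_of_ne_top hne
    obtain ⟨R⟩ : Nonempty (Sylow p ↥(normalizer (H : Set X))) := inferInstance
    have h1 : ¬ Cfsg.HasNormalPComplement p ↥(normalizer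
        ((Cfsg.inducedFunctor W (R : Subgroup ↥(normalizer (H : Set X))) :
          Subgroup ↥(normalizer (H : Set X))) : Set ↥(normalizer (H : Set X)))) :=
      fun h => hHbad.2.2 (IH _ hlt (hsub X hX _) R h)
    obtain ⟨U, hUbad, hUlt⟩ := step_grow hW hTall (normalizer (H : Set X)) H rfl hHbad.1
      hHbad.2.1 R h1
    have := hv U hUbad
    omega
  have hHnorm : H.Normal := Subgroup.normalizer_eq_top_iff.1 hHn
  -- (5) pass to `O_p(X)`
  have hPp : IsPGroup p ↥(Cfsg.pCore p X) := Cfsg.Agent.Helper14.pCore_isPGroup p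
  have hHP : H ≤ Cfsg.pCore p X := Cfsg.Agent.Helper14.le_pCore p hHnorm hHbad.1
  have hPne : Cfsg.pCore p X ≠ ⊥ := by
    intro h
    rw [h] at hHP
    exact hHbad.2.1 (le_bot_iff.1 hHP)
  have hvH : (Nat.card ↥(normalizer (H : Set X))).factorization p =
      (Nat.card X).factorization p := by
    rw [hHn, Subgroup.card_top]
  have hPT : Cfsg.pCore p X ≤ (T : Subgroup X) := Cfsg.Agent.Helper14.pCore_le_sylow p T
  -- (6) `O_p(X) ≠ T`
  have hPT' : Cfsg.pCore p X ≠ (T : Subgroup X) := by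
    intro h
    apply hnpc
    have hTn : (T : Subgroup X).Normal := h ▸ (inferInstance : (Cfsg.pCore p X).Normal)
    have h1 := iF_normal_of_normal hW T.2 hTn
    have hN : normalizer ((Cfsg.inducedFunctor W (T : Subgroup X) : Subgroup X) : Set X) = ⊤ :=
      Subgroup.normalizer_eq_top_iff.2 h1
    rw [hN] at hT
    exact npc_of_top hT
  -- (7) the quotient by `O_p(X)` has a normal `p`-complement
  have hquotNPC : Cfsg.HasNormalPComplement p (X ⧸ Cfsg.pCore p X) := by
    have hlt : Nat.card (X ⧸ Cfsg.pCore p X) < Nat.card X := card_quotient_lt_of_ne_bot hPne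
    apply IH _ hlt (hquot X hX _)
      (T.mapSurjective (QuotientGroup.mk'_surjective (Cfsg.pCore p X)))
    apply step_quot hW (Cfsg.pCore p X) hPp T hPT hPT'
    intro L hLp hPL hTL
    by_contra hLn
    have hLbad : BadSub p L := ⟨hLp, fun h => by rw [h] at hPL; exact not_lt_bot hPL, hLn⟩
    have h1 := hv L hLbad
    have h2 : (Nat.card X).factorization p ≤
        (Nat.card ↥(normalizer (L : Set X))).factorization p := by
      have hdvd := Subgroup.card_dvd_of_le hTL
      rw [T.card_eq_multiplicity] at hdvd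
      exact (Nat.Prime.pow_dvd_iff_le_factorization hp Nat.card_pos.ne').1 hdvd
    have h3 := hc L hLbad (by omega)
    have h4 := card_subgroup_lt_of_lt hPL
    have h5 := Subgroup.card_le_of_le hHP
    omega
  -- (8) `p`-constraint
  have hcent := step_constrained hO hquotNPC
  -- (9) `T` is a maximal subgroup
  have hTco : IsCoatom (T : Subgroup X) := by
    apply step_coatom T hnpc hcent
    intro M hTM hMtop
    have hltM : Nat.card ↥M < Nat.card X := card_subgroup_lt_of_ne_top hMtop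
    apply IH ↥M hltM (hsub X hX M) (T.subtype hTM)
    apply npc_normalizer_of_subtype M
    rw [iF_map_subtype hW M (T.subtype hTM).2]
    have h1 : ((T.subtype hTM : Sylow p ↥M) : Subgroup ↥M).map M.subtype = (T : Subgroup X) := by
      rw [Sylow.coe_subtype, Subgroup.subgroupOf_map_subtype]
      exact inf_eq_left.2 hTM
    rw [h1]
    exact hT
  exact Hfin X hX hcent hquotNPC T hTco hnpc hT

end Main

end Cfsg.Agent.Helper10
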