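import Mathlib
import Cfsg.Agent.Helper10.IndFunctor2
import Cfsg.Agent.Helper10.ThompsonNPC

set_option autoImplicit false
set_option linter.unusedSectionVars false
set_option linter.unusedVariables false

/-! # Control of transfer in all sections gives a normal subgroup of index `p` -/

namespace Cfsg.Agent.Helper10

universe u

open Subgroup
open Cfsg.Agent.Helper14 (cj)

section Abelian

/-- a finite commutative group of order divisible by `p` has a subgroup of index `p` -/
theorem exists_index_eq_prime_of_comm {A : Type*} [CommGroup A] [Finite A] {p : ℕ} [Fact p.Prime]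
    (hdvd : p ∣ Nat.card A) : ∃ B : Subgroup A, B.index = p := by
  have hp : p.Prime := Fact.out
  have hQp : IsPGroup p (A ⧸ (powMonoidHom p : A →* A).range) := by
    intro q
    obtain ⟨a, rfl⟩ := QuotientGroup.mk_surjective q
    refine ⟨1, ?_⟩
    rw [pow_one, ← QuotientGroup.mk_pow]
    exact (QuotientGroup.eq_one_iff _).2 ⟨a, rfl⟩
  obtain ⟨k, hk⟩ := IsPGroup.iff_card.mp hQp
  have hk0 : k ≠ 0 := by
    rintro rfl
    rw [pow_zero, ← Subgroup.index_eq_card, Subgroup.index_eq_one] at hk
    have hsurj : Function.Surjective (powMonoidHom p : A →* A) := MonoidHom.range_eq_top.1 hk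
    have hinj : Function.Injective (powMonoidHom p : A →* A) :=
      Finite.injective_iff_surjective.2 hsurj
    obtain ⟨y, hy⟩ := exists_prime_orderOf_dvd_card' p hdvd
    have h1 : (powMonoidHom p : A →* A) y = (powMonoidHom p : A →* A) 1 := by
      simp only [powMonoidHom_apply, one_pow]
      rw [← hy]
      exact pow_orderOf_eq_one y
    have h2 := hinj h1
    rw [h2, orderOf_one] at hy
    exact hp.one_lt.ne hy
  obtain ⟨M, hM⟩ := Sylow.exists_subgroup_card_pow_prime p
    (show p ^ (k - 1) ∣ Nat.card (A ⧸ (powMonoidHom p : A →* A).range) from by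
      rw [hk]; exact pow_dvd_pow p (Nat.sub_le k 1))
  refine ⟨M.comap (QuotientGroup.mk' _), ?_⟩
  rw [Subgroup.index_comap_of_surjective _ (QuotientGroup.mk'_surjective _)]
  have h1 := M.card_mul_index
  rw [hM, hk] at h1
  have h2 : p ^ k = p ^ (k - 1) * p := by
    rw [← pow_succ]
    congr 1
    omega
  rw [h2] at h1
  exact Nat.eq_of_mul_eq_mul_left (pow_pos hp.pos _) h1

/-- a Sylow `p`-subgroup outside the derived subgroup gives a normal subgroup of index `p` -/
theorem exists_normal_index_eq_prime {G : Type*} [Group G] [Finite G] {p : ℕ} [Fact p.Prime]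
    (S : Sylow p G) (h : ¬ (S : Subgroup G) ≤ commutator G) :
    ∃ N : Subgroup G, N.Normal ∧ N.index = p := by
  have hp : p.Prime := Fact.out
  obtain ⟨s, hsS, hsC⟩ := SetLike.not_le_iff_exists.1 h
  have hdvd : p ∣ Nat.card (Abelianization G) := by
    have h1 : (Abelianization.of s) ≠ 1 := by
      intro h1
      apply hsC
      rw [← Abelianization.ker_of]
      exact h1
    obtain ⟨j, hj⟩ := (S.2.map (Abelianization.of : G →* Abelianization G))
      ⟨Abelianization.of s, ⟨s, hsS, rfl⟩⟩
    have hj' : (Abelianization.of s) ^ p ^ j = 1 := congrArg Subtype.val hj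
    have h2 : orderOf (Abelianization.of s) ∣ p ^ j := orderOf_dvd_of_pow_eq_one hj'
    obtain ⟨i, hi, hi'⟩ := (Nat.dvd_prime_pow hp).1 h2
    have hi0 : i ≠ 0 := by
      rintro rfl
      rw [pow_zero, orderOf_eq_one_iff] at hi'
      exact h1 hi'
    have h3 : p ∣ orderOf (Abelianization.of s) := by
      rw [hi']
      exact dvd_pow_self p hi0
    exact h3.trans (orderOf_dvd_natCard _)
  obtain ⟨B, hB⟩ := exists_index_eq_prime_of_comm hdvd
  refine ⟨B.comap Abelianization.of, inferInstance, ?_⟩
  have hsurj : Function.Surjective (Abelianization.of : G →* Abelianization G) :=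
    QuotientGroup.mk'_surjective (commutator G)
  rw [Subgroup.index_comap_of_surjective _ hsurj]
  exact hB

end Abelian

section Lift

variable {p : ℕ} [Fact p.Prime] {X : Type*} [Group X]

/-- lifting elements of order prime to `p` modulo a normal `p`-subgroup by taking a power -/
theorem exists_pow_coprime_lift (U : Subgroup X) [U.Normal] (hU : IsPGroup p ↥U) (g : X)
    (hg : (orderOf ((QuotientGroup.mk' U) g)).Coprime p) :
    ∃ k : ℕ, (QuotientGroup.mk' U) (g ^ k) = (QuotientGroup.mk' U) g ∧
      (orderOf (g ^ k)).Coprime p := by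
  have hp : p.Prime := Fact.out
  by_cases ho : orderOf ((QuotientGroup.mk' U) g) = 1
  · refine ⟨0, ?_, ?_⟩
    · rw [pow_zero, map_one]
      exact (orderOf_eq_one_iff.1 ho).symm
    · rw [pow_zero, orderOf_one]
      exact Nat.coprime_one_left p
  · have hgo : g ^ orderOf ((QuotientGroup.mk' U) g) ∈ U := by
      rw [← QuotientGroup.eq_one_iff, ← QuotientGroup.mk'_apply, map_pow]
      exact pow_orderOf_eq_one _
    obtain ⟨j, hj⟩ := hU ⟨_, hgo⟩
    have hj' : (g ^ orderOf ((QuotientGroup.mk' U) g)) ^ p ^ j = 1 := congrArg Subtype.val hj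
    have hcop : (p ^ j).Coprime (orderOf ((QuotientGroup.mk' U) g)) :=
      (Nat.Coprime.pow_right j hg).symm
    have ho0 : orderOf ((QuotientGroup.mk' U) g) ≠ 0 := by
      intro h0
      rw [h0] at hg
      rw [Nat.coprime_zero_left] at hg
      exact hp.one_lt.ne' hg
    have ho1 : 1 < orderOf ((QuotientGroup.mk' U) g) := by omega
    obtain ⟨s, -, hs⟩ := Nat.exists_mul_mod_eq_one_of_coprime hcop ho1
    refine ⟨p ^ j * s, ?_, ?_⟩
    · rw [map_pow, ← pow_mod_orderOf, hs, pow_one]
    · apply Nat.Coprime.coprime_dvd_left _ hg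
      apply orderOf_dvd_of_pow_eq_one
      rw [← pow_mul, mul_comm, pow_mul, pow_mul, hj', one_pow]

end Lift

section Main

variable {p : ℕ} [Fact p.Prime] {W : ∀ (Q : Type u) [Group Q], Subgroup Q}

/-- the useful half of control of transfer, for a given `p`-subgroup -/
def CT (W : ∀ (Q : Type u) [Group Q], Subgroup Q) {Y : Type u} [Group Y] (T : Subgroup Y) : Prop :=
  T ⊓ commutator Y ≤
    ⁅normalizer ((Cfsg.inducedFunctor W T : Subgroup Y) : Set Y),
      normalizer ((Cfsg.inducedFunctor W T : Subgroup Y) : Set Y)⁆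

theorem ct_of_controlsTransferIn {Y : Type u} [Group Y] [Finite Y]
    (h : Cfsg.ControlsTransferIn p (Cfsg.inducedFunctor (G := Y) W) ⊤) :
    ∃ T : Sylow p Y, CT W (T : Subgroup Y) := by
  obtain ⟨T, -, hTp, hidx, heq⟩ := h
  rw [Subgroup.relIndex_top_right] at hidx
  refine ⟨hTp.toSylow hidx, ?_⟩
  change T ⊓ commutator Y ≤ _
  rw [_root_.commutator_def, heq, top_inf_eq]
  exact inf_le_right

theorem ct_map_equiv (hW : Cfsg.IsCharPFunctor.{u} p W) {Z Y : Type u} [Group Z] [Group Y]
    [Finite Z] (e : Z ≃* Y) {T : Subgroup Z} (hT : IsPGroup p ↥T) (h : CT W T) :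
    CT W (T.map e.toMonoidHom) := by
  unfold CT at h ⊢
  have h1 : commutator Y = (commutator Z).map e.toMonoidHom := by
    rw [_root_.commutator_def, _root_.commutator_def, Subgroup.map_commutator,
      Subgroup.map_top_of_surjective _ e.surjective]
  rw [h1, ← Subgroup.map_inf _ _ _ e.injective, ← iF_map_equiv hW e hT,
    ← Subgroup.map_equiv_normalizer_eq, ← Subgroup.map_commutator]
  exact Subgroup.map_mono h

theorem ct_all (hW : Cfsg.IsCharPFunctor.{u} p W) {Y : Type u} [Group Y] [Finite Y]
    (h : ∃ T : Sylow p Y, CT W (T : Subgroup Y)) : ∀ T : Sylow p Y, CT W (T : Subgroup Y) := by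
  obtain ⟨T, hT⟩ := h
  intro T'
  obtain ⟨g, hg⟩ := MulAction.exists_smul_eq Y T T'
  have h1 : (T' : Subgroup Y) = (T : Subgroup Y).map (MulAut.conj g).toMonoidHom := by
    rw [← hg]
    exact sylow_smul_coe_eq_map T g
  rw [h1]
  exact ct_map_equiv hW (MulAut.conj g) T.2 hT

theorem ct_of_equiv (hW : Cfsg.IsCharPFunctor.{u} p W) {Z Y : Type u} [Group Z] [Group Y]
    [Finite Z] (e : Z ≃* Y) (h : ∃ T : Sylow p Z, CT W (T : Subgroup Z)) :
    ∃ T : Sylow p Y, CT W (T : Subgroup Y) := by
  obtain ⟨T, hT⟩ := h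
  have hes : Function.Surjective e.toMonoidHom := e.surjective
  refine ⟨T.mapSurjective hes, ?_⟩
  rw [Sylow.coe_mapSurjective]
  exact ct_map_equiv hW e T.2 hT

/-- normal Sylow subgroup centralized by all `p'`-elements is not inside the derived subgroup -/
theorem not_le_commutator_of_normal_sylow {X : Type*} [Group X] [Finite X] (T : Sylow p X)
    (hTn : (T : Subgroup X).Normal) (hTne : (T : Subgroup X) ≠ ⊥)
    (hC : ∀ g : X, (orderOf g).Coprime p → g ∈ centralizer ((T : Subgroup X) : Set X)) :
    ¬ (T : Subgroup X) ≤ commutator X := by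
  intro hle
  have hp : p.Prime := Fact.out
  obtain ⟨N, hNn, hc⟩ := (Cfsg.Agent.S0071.result T).2 (by
    intro Q hQT g _ hcop
    exact Subgroup.centralizer_le hQT (hC g hcop))
  obtain ⟨k, hk⟩ := IsPGroup.iff_card.mp T.2
  have hcard : Nat.card (X ⧸ N) = p ^ k := by
    rw [← Subgroup.index_eq_card, ← hk]
    exact hc.symm.index_eq_card
  have hQp : IsPGroup p (X ⧸ N) := IsPGroup.of_card hcard
  have hnil : Group.IsNilpotent (X ⧸ N) := hQp.isNilpotent
  have hsolv : Group.IsSolvable (X ⧸ N) := inferInstance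
  have hnt : Nontrivial (X ⧸ N) := by
    rw [← Finite.one_lt_card_iff_nontrivial, hcard, ← hk]
    exact (Subgroup.one_lt_card_iff_ne_bot _).2 hTne
  have hlt := Group.IsSolvable.commutator_lt_top_of_nontrivial (X ⧸ N)
  apply hlt.ne
  rw [eq_top_iff]
  intro q _
  obtain ⟨x, rfl⟩ := QuotientGroup.mk'_surjective N q
  have hx : x ∈ ((N ⊔ (T : Subgroup X) : Subgroup X) : Set X) := by
    rw [hc.sup_eq_top]
    exact Subgroup.mem_top x
  rw [Subgroup.normal_mul] at hx
  obtain ⟨n, hn, t, ht, rfl⟩ := Set.mem_mul.1 hx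
  have h1 : (QuotientGroup.mk' N) (n * t) = (QuotientGroup.mk' N) t := by
    have hn1 : (QuotientGroup.mk' N) n = 1 := (QuotientGroup.eq_one_iff n).2 hn
    rw [map_mul, hn1, one_mul]
  rw [h1]
  have h2 : commutator (X ⧸ N) = (commutator X).map (QuotientGroup.mk' N) := by
    rw [_root_.commutator_def, _root_.commutator_def, Subgroup.map_commutator,
      Subgroup.map_top_of_surjective _ (QuotientGroup.mk'_surjective N)]
  rw [h2]
  exact ⟨t, hle ht, rfl⟩

theorem transfer_main (hW : Cfsg.IsCharPFunctor.{u} p W)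
    (𝒞 : ∀ (Y : Type u) [Group Y], Prop)
    (hsub : ∀ (Y : Type u) [Group Y], 𝒞 Y → ∀ M : Subgroup Y, 𝒞 ↥M)
    (hquot : ∀ (Y : Type u) [Group Y], 𝒞 Y → ∀ (N : Subgroup Y) [N.Normal], 𝒞 (Y ⧸ N))
    (Hct : ∀ (Y : Type u) [Group Y] [Finite Y], 𝒞 Y → ∀ T : Sylow p Y, CT W (T : Subgroup Y)) :
    ∀ (n : ℕ) (X : Type u) [Group X] [Finite X], Nat.card X = n → 𝒞 X → ∀ T : Sylow p X,
      (T : Subgroup X) ≠ ⊥ →
      (∀ g ∈ normalizer ((T : Subgroup X) : Set X), (orderOf g).Coprime p →
        g ∈ centralizer ((T : Subgroup X) : Set X)) →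
      ¬ (T : Subgroup X) ≤ commutator X := by
  intro n
  induction n using Nat.strong_induction_on with
  | _ n ih =>
  intro X _ _ hn hX T hTne hNC hle
  have hp : p.Prime := Fact.out
  have hUne : Cfsg.inducedFunctor W (T : Subgroup X) ≠ ⊥ := iF_ne_bot hW T.2 hTne
  have hUp : IsPGroup p ↥(Cfsg.inducedFunctor W (T : Subgroup X)) := iF_isPGroup T.2
  have hct := Hct X hX T
  have hTN : (T : Subgroup X) ≤ ⁅normalizer ((Cfsg.inducedFunctor W (T : Subgroup X) :
      Subgroup X) : Set X), normalizer ((Cfsg.inducedFunctor W (T : Subgroup X) :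
      Subgroup X) : Set X)⁆ := fun t ht => hct ⟨ht, hle ht⟩
  by_cases hNtop : normalizer ((Cfsg.inducedFunctor W (T : Subgroup X) : Subgroup X) : Set X) = ⊤
  · have hUn : (Cfsg.inducedFunctor W (T : Subgroup X)).Normal :=
      Subgroup.normalizer_eq_top_iff.1 hNtop
    by_cases hTU : (T : Subgroup X) ≤ Cfsg.inducedFunctor W (T : Subgroup X)
    · have hTeq : Cfsg.inducedFunctor W (T : Subgroup X) = (T : Subgroup X) :=
        le_antisymm (iF_le _) hTU
      have hTn : (T : Subgroup X).Normal := hTeq ▸ hUn
      refine not_le_commutator_of_normal_sylow T hTn hTne ?_ hle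
      intro g hcop
      apply hNC g _ hcop
      rw [Subgroup.normalizer_eq_top_iff.2 hTn]
      exact Subgroup.mem_top g
    · have hlt : Nat.card (X ⧸ Cfsg.inducedFunctor W (T : Subgroup X)) < Nat.card X :=
        card_quotient_lt_of_ne_bot hUne
      have hcoe : ((T.mapSurjective (QuotientGroup.mk'_surjective
          (Cfsg.inducedFunctor W (T : Subgroup X))) :
            Sylow p (X ⧸ Cfsg.inducedFunctor W (T : Subgroup X))) :
            Subgroup (X ⧸ Cfsg.inducedFunctor W (T : Subgroup X))) =
          (T : Subgroup X).map (QuotientGroup.mk' (Cfsg.inducedFunctor W (T : Subgroup X))) :=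
        Sylow.coe_mapSurjective _ _
      refine ih _ (hn ▸ hlt) (X ⧸ Cfsg.inducedFunctor W (T : Subgroup X)) rfl (hquot X hX _)
        (T.mapSurjective (QuotientGroup.mk'_surjective (Cfsg.inducedFunctor W (T : Subgroup X))))
        ?_ ?_ ?_
      · rw [hcoe]
        intro h
        apply hTU
        intro t ht
        have h1 : (QuotientGroup.mk' (Cfsg.inducedFunctor W (T : Subgroup X))) t ∈
            (T : Subgroup X).map (QuotientGroup.mk' (Cfsg.inducedFunctor W (T : Subgroup X))) :=
          ⟨t, ht, rfl⟩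
        rw [h, Subgroup.mem_bot] at h1
        exact (QuotientGroup.eq_one_iff t).1 h1
      · rw [hcoe]
        intro gb hgb hcop
        obtain ⟨g, rfl⟩ := QuotientGroup.mk'_surjective _ gb
        obtain ⟨k, hk1, hk2⟩ := exists_pow_coprime_lift _ hUp g hcop
        have hgN : g ∈ normalizer ((T : Subgroup X) : Set X) := by
          have h1 : g ∈ (normalizer (((T : Subgroup X).map
              (QuotientGroup.mk' (Cfsg.inducedFunctor W (T : Subgroup X))) :
                Subgroup (X ⧸ Cfsg.inducedFunctor W (T : Subgroup X))) :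
                Set (X ⧸ Cfsg.inducedFunctor W (T : Subgroup X)))).comap
              (QuotientGroup.mk' (Cfsg.inducedFunctor W (T : Subgroup X))) := hgb
          rw [Subgroup.comap_normalizer_eq_of_surjective _ (QuotientGroup.mk'_surjective _),
            Subgroup.comap_map_eq, QuotientGroup.ker_mk', sup_eq_left.2 (iF_le _)] at h1
          exact h1
        have hgk := hNC (g ^ k) (Subgroup.pow_mem _ hgN k) hk2
        rw [← hk1]
        rw [Subgroup.mem_centralizer_iff]
        rintro _ ⟨t, ht, rfl⟩
        have h2 := Subgroup.mem_centralizer_iff.1 hgk t ht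
        rw [← map_mul, ← map_mul, h2]
      · rw [hcoe]
        have h2 : commutator (X ⧸ Cfsg.inducedFunctor W (T : Subgroup X)) =
            (commutator X).map (QuotientGroup.mk' (Cfsg.inducedFunctor W (T : Subgroup X))) := by
          rw [_root_.commutator_def, _root_.commutator_def, Subgroup.map_commutator,
            Subgroup.map_top_of_surjective _ (QuotientGroup.mk'_surjective _)]
        rw [h2]
        exact Subgroup.map_mono hle
  · have hTNle : (T : Subgroup X) ≤ normalizer ((Cfsg.inducedFunctor W (T : Subgroup X) :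
        Subgroup X) : Set X) :=
      Subgroup.le_normalizer.trans (normalizer_le_normalizer_iF hW T.2)
    have hlt : Nat.card ↥(normalizer ((Cfsg.inducedFunctor W (T : Subgroup X) :
        Subgroup X) : Set X)) < Nat.card X := card_subgroup_lt_of_ne_top hNtop
    refine ih _ (hn ▸ hlt) _ rfl (hsub X hX _) (T.subtype hTNle) ?_ ?_ ?_
    · rw [Sylow.coe_subtype]
      intro h
      apply hTne
      rw [eq_bot_iff]
      intro t ht
      have h1 : (⟨t, hTNle ht⟩ : ↥(normalizer ((Cfsg.inducedFunctor W (T : Subgroup X) :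
          Subgroup X) : Set X))) ∈ (T : Subgroup X).subgroupOf _ := Subgroup.mem_subgroupOf.2 ht
      rw [h, Subgroup.mem_bot] at h1
      exact Subgroup.mem_bot.2 (congrArg Subtype.val h1)
    · rw [Sylow.coe_subtype]
      intro g hg hcop
      have hgN : (g : X) ∈ normalizer ((T : Subgroup X) : Set X) := by
        rw [Subgroup.mem_normalizer_iff]
        intro x
        constructor
        · intro hx
          have hx' : (⟨x, hTNle hx⟩ : ↥(normalizer ((Cfsg.inducedFunctor W (T : Subgroup X) :
              Subgroup X) : Set X))) ∈ (T : Subgroup X).subgroupOf _ :=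
            Subgroup.mem_subgroupOf.2 hx
          have := (Subgroup.mem_normalizer_iff.1 hg _).1 hx'
          exact Subgroup.mem_subgroupOf.1 this
        · intro hx
          have hxN : x ∈ normalizer ((Cfsg.inducedFunctor W (T : Subgroup X) :
              Subgroup X) : Set X) := by
            have h1 := hTNle hx
            have e : x = (g : X)⁻¹ * ((g : X) * x * (g : X)⁻¹) * (g : X) := by group
            rw [e]
            exact Subgroup.mul_mem _ (Subgroup.mul_mem _ (Subgroup.inv_mem _ g.2) h1) g.2
          have hx' : g * (⟨x, hxN⟩ : ↥(normalizer ((Cfsg.inducedFunctor W (T : Subgroup X) :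
              Subgroup X) : Set X))) * g⁻¹ ∈ (T : Subgroup X).subgroupOf _ :=
            Subgroup.mem_subgroupOf.2 hx
          have := (Subgroup.mem_normalizer_iff.1 hg _).2 hx'
          exact Subgroup.mem_subgroupOf.1 this
      have hcop' : (orderOf (g : X)).Coprime p := by
        rw [Subgroup.orderOf_coe]
        exact hcop
      have hgC := hNC (g : X) hgN hcop'
      rw [Subgroup.mem_centralizer_iff]
      intro t ht
      have ht' : (t : X) ∈ (T : Subgroup X) := Subgroup.mem_subgroupOf.1 ht
      have := Subgroup.mem_centralizer_iff.1 hgC (t : X) ht'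
      exact Subtype.ext this
    · rw [Sylow.coe_subtype]
      intro t ht
      have ht' : (t : X) ∈ (T : Subgroup X) := Subgroup.mem_subgroupOf.1 ht
      have h1 := hTN ht'
      rw [← Subgroup.map_subtype_commutator] at h1
      obtain ⟨c, hc, hce⟩ := h1
      have : c = t := Subtype.ext hce
      rw [← this]
      exact hc

end Main

end Cfsg.Agent.Helper10
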