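import Mathlib
import Cfsg.Agent.Helper10.SubTransfer

set_option autoImplicit false

namespace Cfsg.Agent.Helper10

open MulAction

/-- A nontrivial normal subgroup of a finite `p`-group meets the centre nontrivially. -/
theorem exists_ne_one_mem_inf_center {G : Type*} [Group G] [Finite G] {p : ℕ} [Fact p.Prime] (hG : IsPGroup p G)
    (N : Subgroup G) [N.Normal] (hN : N ≠ ⊥) : ∃ z ∈ N, z ≠ 1 ∧ z ∈ Subgroup.center G := by
  have h1 : (1 : N) ∈ fixedPoints (ConjAct G) N := by
    intro g
    exact smul_one g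
  have dvd : p ∣ Nat.card N := by
    have hNp : IsPGroup p N := hG.to_subgroup N
    have : Nontrivial N := (Subgroup.nontrivial_iff_ne_bot N).2 hN
    obtain ⟨n, hn0, hn⟩ := hNp.nontrivial_iff_card.mp inferInstance
    exact hn.symm ▸ dvd_pow_self _ (ne_of_gt hn0)
  obtain ⟨b, hb, hb1⟩ :=
    (hG.of_equiv ConjAct.toConjAct).exists_fixed_point_of_prime_dvd_card_of_fixed_point N dvd h1
  refine ⟨b, b.2, ?_, ?_⟩
  · intro h; exact hb1 (Subtype.ext h.symm)
  · rw [Subgroup.mem_center_iff]
    intro g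
    have := hb (ConjAct.toConjAct g)
    have h2 : g * (b : G) * g⁻¹ = b := by
      have := congrArg Subtype.val this
      simpa [ConjAct.Subgroup.val_conj_smul, ConjAct.smul_def] using this
    calc g * b = g * b * g⁻¹ * g := by group
      _ = b * g := by rw [h2]

variable {G : Type*} [Group G]

/-- the normalizer of `B` normalizes the centralizer of `B` -/
theorem conj_mem_centralizer_of_mem_normalizer {B : Subgroup G} {n c : G}
    (hn : n ∈ Subgroup.normalizer (B : Set G)) (hc : c ∈ Subgroup.centralizer (B : Set G)) :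
    n * c * n⁻¹ ∈ Subgroup.centralizer (B : Set G) := by
  rw [Subgroup.mem_centralizer_iff]
  intro b hb
  have hb' : n⁻¹ * b * n ∈ B := by
    have := (Subgroup.mem_normalizer_iff.1 (Subgroup.inv_mem _ hn) b).1 hb
    simpa using this
  have := (Subgroup.mem_centralizer_iff.1 hc) _ hb'
  calc b * (n * c * n⁻¹) = n * ((n⁻¹ * b * n) * c) * n⁻¹ := by group
    _ = n * (c * (n⁻¹ * b * n)) * n⁻¹ := by rw [this]
    _ = n * c * n⁻¹ * b := by group

/-- In a finite `p`-group, if `C(B) ≰ B` there is `x ∈ C(B) \ B` with `[N(B), x] ≤ B`. -/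
theorem exists_centralizer_elt_normalizer_comm {p : ℕ} [Fact p.Prime] [Finite G] (hG : IsPGroup p G)
    (B : Subgroup G) (h : ¬ Subgroup.centralizer (B : Set G) ≤ B) :
    ∃ x ∈ Subgroup.centralizer (B : Set G), x ∉ B ∧
      ∀ n ∈ Subgroup.normalizer (B : Set G), n * x * n⁻¹ * x⁻¹ ∈ B := by
  classical
  set N := Subgroup.normalizer (B : Set G) with hN
  set C := Subgroup.centralizer (B : Set G) with hC
  have hCN : C ≤ N := Subgroup.centralizer_le_normalizer _
  have hBN : B ≤ N := Subgroup.le_normalizer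
  have hBnorm : (B.subgroupOf N).Normal := Subgroup.normal_in_normalizer
  let π := QuotientGroup.mk' (B.subgroupOf N)
  let C' : Subgroup ↥N := C.subgroupOf N
  have hC'norm : C'.Normal := by
    constructor
    intro c hc n
    rw [Subgroup.mem_subgroupOf] at hc ⊢
    have := conj_mem_centralizer_of_mem_normalizer n.2 hc
    simpa using this
  let D : Subgroup (↥N ⧸ B.subgroupOf N) := C'.map π
  have hDnorm : D.Normal := Subgroup.Normal.map hC'norm π (QuotientGroup.mk'_surjective _)
  have hD : D ≠ ⊥ := by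
    intro hD
    apply h
    intro c hc
    have hcN : c ∈ N := hCN hc
    have : π ⟨c, hcN⟩ ∈ D := Subgroup.mem_map_of_mem π (show (⟨c, hcN⟩ : ↥N) ∈ C' from hc)
    rw [hD, Subgroup.mem_bot] at this
    have := (QuotientGroup.eq_one_iff (⟨c, hcN⟩ : ↥N)).1 this
    exact this
  have hQp : IsPGroup p (↥N ⧸ B.subgroupOf N) := (hG.to_subgroup N).to_quotient _
  obtain ⟨z, hzD, hz1, hzc⟩ := exists_ne_one_mem_inf_center hQp D hD
  obtain ⟨x', hx'C, rfl⟩ := hzD
  refine ⟨(x' : G), hx'C, ?_, ?_⟩
  · intro hxB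
    apply hz1
    exact (QuotientGroup.eq_one_iff x').2 hxB
  · intro n hn
    have h1 := (Subgroup.mem_center_iff.1 hzc) (π ⟨n, hn⟩)
    have h2 : π (⟨n, hn⟩ * x' * ⟨n, hn⟩⁻¹ * x'⁻¹) = 1 := by
      rw [map_mul, map_mul, map_mul, map_inv, map_inv, h1]
      group
    have := (QuotientGroup.eq_one_iff _).1 h2
    rw [Subgroup.mem_subgroupOf] at this
    simpa using this


/-- In a finite `p`-group, for normal subgroups `C`, `D` with `D ≰ C` there is `x ∈ D \ C` central modulo `C`. -/
theorem exists_mem_not_mem_central_mod {p : ℕ} [Fact p.Prime] [Finite G] (hG : IsPGroup p G)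
    (C D : Subgroup G) [hC : C.Normal] [hD : D.Normal] (h : ¬ D ≤ C) :
    ∃ x ∈ D, x ∉ C ∧ ∀ g : G, g * x * g⁻¹ * x⁻¹ ∈ C := by
  classical
  let π := QuotientGroup.mk' C
  let D' : Subgroup (G ⧸ C) := D.map π
  have hD'n : D'.Normal := Subgroup.Normal.map hD π (QuotientGroup.mk'_surjective _)
  have hD' : D' ≠ ⊥ := by
    intro hbot
    apply h
    intro d hd
    have : π d ∈ D' := Subgroup.mem_map_of_mem π hd
    rw [hbot, Subgroup.mem_bot] at this
    exact (QuotientGroup.eq_one_iff d).1 this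
  have hQp : IsPGroup p (G ⧸ C) := hG.to_quotient C
  obtain ⟨z, hzD, hz1, hzc⟩ := exists_ne_one_mem_inf_center hQp D' hD'
  obtain ⟨x, hxD, rfl⟩ := hzD
  refine ⟨x, hxD, ?_, ?_⟩
  · intro hxC
    exact hz1 ((QuotientGroup.eq_one_iff x).2 hxC)
  · intro g
    have h1 := (Subgroup.mem_center_iff.1 hzc) (π g)
    have h2 : π (g * x * g⁻¹ * x⁻¹) = 1 := by
      rw [map_mul, map_mul, map_mul, map_inv, map_inv, h1]
      group
    exact (QuotientGroup.eq_one_iff _).1 h2

end Cfsg.Agent.Helper10
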