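import Mathlib
import Cfsg.Agent.Lead.Coprime

set_option autoImplicit false
open Pointwise

/-! # Fixed points of a coprime action on cosets: `C_{K/N}(A)` is covered by `C_K(A)` when
`(|A|, |N|) = 1` (no coprimality with `K` needed, only trivial action on `K/N`). -/

namespace Cfsg.Agent.Helper10

open Subgroup
open Cfsg.Agent.Lead (sz_conj_rel mem_conj_smul_iff card_conj_smul)

/-- If `A` acts trivially on `K / N`, `N ≤ K` normal in `K`, `A`-invariant and of order coprime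
to `|A|` (`A` or `N` solvable), then every coset `kN` contains an element centralizing `A`. -/
theorem exists_centralizing_in_coset {G : Type*} [Group G] [Finite G] {A K N : Subgroup G}
    (hNK : N ≤ K) (hKN : K ≤ normalizer (N : Set G)) (hAN : A ≤ normalizer (N : Set G))
    (hcop : (Nat.card A).Coprime (Nat.card N))
    (hsolv : Group.IsSolvable A ∨ Group.IsSolvable N)
    (hfix : ∀ a ∈ A, ∀ k ∈ K, a * k * a⁻¹ * k⁻¹ ∈ N)
    {k : G} (hk : k ∈ K) : ∃ c ∈ K ⊓ centralizer (A : Set G), k⁻¹ * c ∈ N := by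
  obtain ⟨B, hB⟩ : ∃ B : Subgroup G, B = MulAut.conj k • A := ⟨_, rfl⟩
  have hBle : B ≤ N ⊔ A := by
    intro x hx
    rw [hB, mem_conj_smul_iff] at hx
    have hx' : x = ((k⁻¹ * x * k * k * (k⁻¹ * x * k)⁻¹ * k⁻¹)⁻¹ * (k⁻¹ * x * k)) := by group
    rw [hx']
    apply (N ⊔ A).mul_mem
    · apply (N ⊔ A).inv_mem
      exact (le_sup_left : N ≤ N ⊔ A) (hfix _ hx k hk)
    · exact (le_sup_right : A ≤ N ⊔ A) hx
  have hBcard : Nat.card B = Nat.card A := by rw [hB]; exact card_conj_smul k A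
  obtain ⟨n, hn, hnA⟩ := sz_conj_rel hAN hcop hsolv hBle hBcard
  have hdNA : N ⊓ A = ⊥ := (disjoint_of_coprime_natCard hcop.symm).eq_bot
  have hxK : n⁻¹ * k ∈ K := K.mul_mem (K.inv_mem (hNK hn)) hk
  have hxnorm : n⁻¹ * k ∈ normalizer (A : Set G) := by
    rw [mem_normalizer_iff]
    intro a
    have h1 : ∀ y, y ∈ MulAut.conj n • A ↔ y ∈ MulAut.conj k • A := fun y => by rw [hnA, hB]
    have h2 := h1 (k * a * k⁻¹)
    rw [mem_conj_smul_iff, mem_conj_smul_iff] at h2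
    have e1 : n⁻¹ * (k * a * k⁻¹) * n = n⁻¹ * k * a * (n⁻¹ * k)⁻¹ := by group
    have e2 : k⁻¹ * (k * a * k⁻¹) * k = a := by group
    rw [e1, e2] at h2
    exact h2.symm
  have hxC : n⁻¹ * k ∈ centralizer (A : Set G) := by
    rw [mem_centralizer_iff]
    intro a ha
    have ha' : a ∈ A := ha
    have h1 : a * (n⁻¹ * k) * a⁻¹ * (n⁻¹ * k)⁻¹ ∈ N := hfix a ha' _ hxK
    have h2 : a * (n⁻¹ * k) * a⁻¹ * (n⁻¹ * k)⁻¹ ∈ A := by
      have : (n⁻¹ * k) * a⁻¹ * (n⁻¹ * k)⁻¹ ∈ A :=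
        (mem_normalizer_iff.mp hxnorm a⁻¹).mp (A.inv_mem ha')
      have h3 : a * (n⁻¹ * k) * a⁻¹ * (n⁻¹ * k)⁻¹ = a * ((n⁻¹ * k) * a⁻¹ * (n⁻¹ * k)⁻¹) := by
        group
      rw [h3]; exact A.mul_mem ha' this
    have h3 : a * (n⁻¹ * k) * a⁻¹ * (n⁻¹ * k)⁻¹ ∈ N ⊓ A := ⟨h1, h2⟩
    rw [hdNA, mem_bot] at h3
    have : a * (n⁻¹ * k) = (a * (n⁻¹ * k) * a⁻¹ * (n⁻¹ * k)⁻¹) * ((n⁻¹ * k) * a) := by group
    rw [this, h3, one_mul]
  refine ⟨n⁻¹ * k, ⟨hxK, hxC⟩, ?_⟩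
  have : k⁻¹ * (n⁻¹ * k) = k⁻¹ * n⁻¹ * k⁻¹⁻¹ := by group
  rw [this]
  exact (mem_normalizer_iff.mp (hKN (K.inv_mem hk)) n⁻¹).mp (N.inv_mem hn)

end Cfsg.Agent.Helper10
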