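import Mathlib
import Cfsg.Prelude.Def_Solvable
import Cfsg.Prelude.Def_CaseTheorems
import Cfsg.Agent.S0010

set_option autoImplicit false

namespace Cfsg.Agent.Helper10

open Cfsg

variable {G : Type*} [Group G]

theorem pCore_le_sylow [Finite G] (p : ℕ) [Fact p.Prime] (P : Sylow p G) : pCore p G ≤ P := by
  rw [Cfsg.Agent.S0010.result p]
  exact iInf_le _ P

theorem pCore_isPGroup [Finite G] (p : ℕ) [Fact p.Prime] : IsPGroup p ↥(pCore p G) := by
  obtain ⟨P⟩ : Nonempty (Sylow p G) := inferInstance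
  exact P.2.to_le (pCore_le_sylow p P)

theorem le_pCore_of_normal_pGroup (p : ℕ) {N : Subgroup G} (hN : N.Normal) (hp : IsPGroup p ↥N) :
    N ≤ pCore p G := le_sSup ⟨hN, hp⟩

end Cfsg.Agent.Helper10
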