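import Mathlib
import Cfsg.Prelude.Def_OddOrderLocal
import Cfsg.Agent.Helper21.BG10b
import Cfsg.Agent.Helper1.PLenSeries
import Cfsg.Agent.Helper21.ExpSix
import Cfsg.Agent.S1450
import Cfsg.Agent.S1459

/-!
# B&G Corollary 10.7(a): every proper subgroup has `p`-length one (conditional form)

Relative to the *statements* of the Uniqueness Theorem (S1403), Lemma 10.1(a) (S1404),
Lemma 10.4 (S1407) and Theorem 3.6 (S1444).
-/

set_option autoImplicit false
set_option linter.unusedSectionVars false
set_option linter.unusedVariables false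
set_option linter.style.haveILetI false

namespace Cfsg.Agent.Helper10.BG10

open Subgroup Cfsg
open Cfsg.Agent.Helper21.BG10 (Uniq96 Ctl101)

universe u

/-- the statement of B&G Theorem 3.6 (= S1444), at universe `u` -/
def Thm36 : Prop :=
  ∀ (X : Type u) [Group X] [Finite X] [Group.IsSolvable X], Odd (Nat.card X) →
    ∀ (H R R₀ : Subgroup X) [H.Normal], (Nat.card H).Coprime H.index →
      Subgroup.IsComplement' H R → R₀ ≤ R → (Nat.card R₀).Prime →
      IsZGroup ↥(H ⊓ Subgroup.centralizer (R₀ : Set X)) →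
      ∀ (p : ℕ) [Fact p.Prime], Cfsg.PLengthLE p 1 ↥⁅H, R⁆

/-- the statement of B&G Lemma 10.4 (= S1407) -/
def Lem104 (G : Type u) [Group G] : Prop :=
  ∀ (M : Subgroup G), IsCoatom M → Cfsg.alphaCore M ≠ ⊥ → ∀ (p : ℕ) [Fact p.Prime],
    p ∣ Nat.card M → p ∉ Cfsg.sigma M → ∀ P : Sylow p M,
    ∃ x : G, x ∈ ((Subgroup.center ↥(P : Subgroup M)).map (P : Subgroup M).subtype).map M.subtype ∧
      orderOf x = p ∧
      IsZGroup ↥(Cfsg.alphaCore M ⊓ Subgroup.centralizer ({x} : Set G)) ∧
      ¬ (Subgroup.centralizer ({x} : Set G) ≤ M ∧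
        ∀ L : Subgroup G, IsCoatom L → Subgroup.centralizer ({x} : Set G) ≤ L → L = M)

section generic

variable {X : Type u} [Group X] [Finite X]

/-- a subgroup whose order is coprime to the index of a normal subgroup lies in it -/
theorem le_of_coprime_card_index {H N : Subgroup X} [N.Normal]
    (h : (Nat.card H).Coprime N.index) : H ≤ N := by
  intro x hx
  have h1 : orderOf (QuotientGroup.mk' N x) ∣ Nat.card H := by
    refine (orderOf_map_dvd (QuotientGroup.mk' N) x).trans ?_
    have := orderOf_dvd_natCard (⟨x, hx⟩ : H)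
    rwa [Subgroup.orderOf_mk] at this
  have h2 : orderOf (QuotientGroup.mk' N x) ∣ N.index := by
    rw [Subgroup.index_eq_card]
    exact orderOf_dvd_natCard _
  have h3 : orderOf (QuotientGroup.mk' N x) = 1 := Nat.eq_one_of_dvd_coprimes h h1 h2
  rw [orderOf_eq_one_iff] at h3
  exact (QuotientGroup.eq_one_iff x).mp h3

theorem centralizer_zpowers_eq (x : X) :
    Subgroup.centralizer ((Subgroup.zpowers x : Subgroup X) : Set X) =
      Subgroup.centralizer ({x} : Set X) := by
  apply le_antisymm
  · apply Subgroup.centralizer_le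
    intro y hy
    rw [Set.mem_singleton_iff] at hy
    rw [hy]
    exact Subgroup.mem_zpowers x
  · intro g hg
    rw [Subgroup.mem_centralizer_iff]
    rintro _ ⟨k, rfl⟩
    have h1 : x * g = g * x := (Subgroup.mem_centralizer_iff.mp hg) x rfl
    have h2 : Commute x g := h1
    exact (h2.zpow_left k).eq

/-- any subgroup of the right order is a complement of a normal Hall subgroup -/
theorem isComplement'_of_card_eq_index {H R : Subgroup X} (hcop : (Nat.card H).Coprime H.index)
    (hR : Nat.card R = H.index) : Subgroup.IsComplement' H R := by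
  apply Subgroup.isComplement'_of_card_mul_and_disjoint
  · rw [hR]
    exact H.card_mul_index
  · rw [disjoint_iff]
    rw [← Subgroup.card_eq_one]
    have h1 : Nat.card (H ⊓ R : Subgroup X) ∣ Nat.card H := Subgroup.card_dvd_of_le inf_le_left
    have h2 : Nat.card (H ⊓ R : Subgroup X) ∣ H.index := by
      rw [← hR]
      exact Subgroup.card_dvd_of_le inf_le_right
    exact Nat.eq_one_of_dvd_coprimes hcop h1 h2

/-- an element of prime order `q ∤ |H|` lies in some complement of the normal Hall subgroup `H` -/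
theorem exists_complement_mem {H : Subgroup X} [H.Normal] (hcop : (Nat.card H).Coprime H.index)
    {q : ℕ} [hq : Fact q.Prime] (hqH : ¬ q ∣ Nat.card H) {x : X} (hx : orderOf x = q) :
    ∃ R : Subgroup X, Subgroup.IsComplement' H R ∧ x ∈ R := by
  obtain ⟨R₁, hR₁⟩ := Subgroup.exists_right_complement'_of_coprime hcop
  have hR₁card : Nat.card R₁ = H.index := by
    have h1 := hR₁.card_mul_card
    have h2 := H.card_mul_index
    have hpos : 0 < Nat.card H := Nat.card_pos
    exact Nat.eq_of_mul_eq_mul_left hpos (h1.trans h2.symm)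
  -- a Sylow `q`-subgroup of `R₁` is a Sylow `q`-subgroup of `X`
  obtain ⟨Q₁⟩ : Nonempty (Sylow q R₁) := inferInstance
  have hQcard : Nat.card ((Q₁ : Subgroup R₁).map R₁.subtype) = q ^ (Nat.card X).factorization q := by
    rw [Subgroup.card_map_of_injective R₁.subtype_injective, Q₁.card_eq_multiplicity]
    congr 1
    have h1 : Nat.card X = Nat.card H * Nat.card R₁ := by
      rw [hR₁card]; exact H.card_mul_index.symm
    rw [h1, Nat.factorization_mul Nat.card_pos.ne' Nat.card_pos.ne']
    simp only [Finsupp.coe_add, Pi.add_apply]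
    rw [Nat.factorization_eq_zero_of_not_dvd hqH, zero_add]
  set Q : Sylow q X := Sylow.ofCard _ hQcard with hQ
  have hxq : IsPGroup q (Subgroup.zpowers x) := by
    apply IsPGroup.of_card (n := 1)
    rw [Nat.card_zpowers, hx, pow_one]
  obtain ⟨S, hS⟩ := hxq.exists_le_sylow
  obtain ⟨g, hg⟩ := MulAction.exists_smul_eq X Q S
  refine ⟨R₁.map (MulAut.conj g).toMonoidHom, ?_, ?_⟩
  · apply isComplement'_of_card_eq_index hcop
    rw [Subgroup.card_map_of_injective (MulAut.conj g).injective, hR₁card]
  · have hxS : x ∈ (S : Subgroup X) := hS (Subgroup.mem_zpowers x)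
    rw [← hg, Sylow.coe_subgroup_smul, Subgroup.mem_pointwise_smul_iff_inv_smul_mem] at hxS
    have hconj : (MulAut.conj g)⁻¹ • x = g⁻¹ * x * g := by
      simp [MulAut.smul_def]
    rw [hconj] at hxS
    have hxQ : g⁻¹ * x * g ∈ ((Q₁ : Subgroup R₁).map R₁.subtype) := hxS
    obtain ⟨y, hy, hyx⟩ := hxQ
    refine ⟨y, y.2, ?_⟩
    have h1 : (R₁.subtype y : X) = g⁻¹ * x * g := hyx
    simp only [MulEquiv.coe_toMonoidHom, MulAut.conj_apply]
    have h2 : (y : X) = g⁻¹ * x * g := h1
    rw [h2]
    group

end generic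

section generic2

variable {X : Type u} [Group X] [Finite X]

/-- core of B&G Corollary 10.7(a): a normal Hall subgroup `H ≤ X'` of the solvable group `X` of
odd order, such that some element `x` of prime order `q ∤ |H|` has `C_H(x)` a `Z`-group, has
`p`-length one (given Theorem 3.6). -/
theorem pLengthLE_one_of_hall [Group.IsSolvable X] (h36 : Thm36.{u}) (hodd : Odd (Nat.card X))
    {H : Subgroup X} [H.Normal] (hcop : (Nat.card H).Coprime H.index) (hHX : H ≤ commutator X)
    {q : ℕ} [hq : Fact q.Prime] (hqH : ¬ q ∣ Nat.card H) {x : X} (hx : orderOf x = q)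
    (hZ : IsZGroup ↥(H ⊓ Subgroup.centralizer ({x} : Set X))) (p : ℕ) [Fact p.Prime] :
    Cfsg.PLengthLE p 1 ↥H := by
  obtain ⟨R, hR, hxR⟩ := exists_complement_mem hcop hqH hx
  have hR₀ : Subgroup.zpowers x ≤ R := by
    rw [Subgroup.zpowers_le]; exact hxR
  have hR₀p : (Nat.card (Subgroup.zpowers x)).Prime := by
    rw [Nat.card_zpowers, hx]; exact hq.out
  have hZ' : IsZGroup ↥(H ⊓ Subgroup.centralizer ((Subgroup.zpowers x : Subgroup X) : Set X)) := by
    rw [centralizer_zpowers_eq]; exact hZ
  have h1 := h36 X hodd H R (Subgroup.zpowers x) hcop hR hR₀ hR₀p hZ' p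
  have h2 := (Cfsg.Agent.S1459.result (G := X)).1 H R inferInstance hcop hR hHX
  have h3 : ⁅H, R⁆ = H := h2.1.symm
  exact Cfsg.Agent.Helper1.PLen.pLengthLE_of_mulEquiv h1 (MulEquiv.subgroupCongr h3)

end generic2

end Cfsg.Agent.Helper10.BG10
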