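import Mathlib
import Cfsg.Agent.Helper10.BG10A

/-!
# B&G Corollary 10.7(a) (conditional form): maximal subgroups have `p`-length one
-/

set_option autoImplicit false
set_option linter.unusedSectionVars false
set_option linter.unusedVariables false
set_option linter.style.haveILetI false

namespace Cfsg.Agent.Helper10.BG10

open Subgroup Cfsg
open Cfsg.Agent.Helper21.BG10 (Uniq96 Ctl101 alpha_subset_sigma thm_10_2
  sylow_le_commutator_of_mem_sigma)

universe u

variable {G : Type u} [Group G] [Finite G]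

/-- if every prime divisor of `|M|` lies in `σ(M)` then `M` is perfect -/
theorem commutator_index_coprime_of_sigma (hG : Cfsg.IsMinSimpleOddOrder G) (h101 : Ctl101 G)
    {M : Subgroup G} (hM : IsCoatom M) {r : ℕ} (hr : r.Prime) (hrσ : r ∈ Cfsg.sigma M) :
    ¬ r ∣ (commutator M).index := by
  haveI : Fact r.Prime := ⟨hr⟩
  obtain ⟨P, hP, -⟩ := sylow_le_commutator_of_mem_sigma hG h101 hM hrσ
  intro hd
  exact P.not_dvd_index (hd.trans (Subgroup.index_dvd_of_le hP))

theorem pLengthLE_one_coatom (hG : Cfsg.IsMinSimpleOddOrder G) (h96 : Uniq96 G) (h101 : Ctl101 G)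
    (h104 : Lem104 G) (h36 : Thm36.{u}) {M : Subgroup G} (hM : IsCoatom M)
    (p : ℕ) [hp : Fact p.Prime] : Cfsg.PLengthLE p 1 ↥M := by
  haveI hMsolv : Group.IsSolvable M := hG.2.2.2 M hM.1
  have hoddM : Odd (Nat.card M) := Odd.of_dvd_nat hG.1 (Subgroup.card_subgroup_dvd_card M)
  by_cases hr : Cfsg.PRankLE p 2 M
  · by_cases hpM : p ∣ Nat.card M
    · obtain ⟨_, _, _, _, _, hidx⟩ := Cfsg.Agent.S1450.result hoddM p hpM hr
      apply Cfsg.Agent.Helper21.ExpSix.pLengthLE_one_of_index
      have h1 : (Cfsg.pPrimePCore p M).index = (Cfsg.pCore p (M ⧸ Cfsg.pPrimeCore p M)).index := by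
        unfold Cfsg.pPrimePCore
        exact Subgroup.index_comap_of_surjective _ (QuotientGroup.mk'_surjective _)
      rwa [← h1]
    · have h0 : Cfsg.PLengthLE p 0 ↥M :=
        Cfsg.Agent.Helper1.PLen.pLengthLE_zero_of_coprime
          ((Nat.Prime.coprime_iff_not_dvd hp.out).mpr hpM).symm
      exact Cfsg.Agent.Lead.PLengthLE.mono h0 (by norm_num)
  · have hpα : p ∈ Cfsg.alpha M := ⟨hp.out, hr⟩
    obtain ⟨hHall, -, -, -, -⟩ := thm_10_2 hG h96 h101 M hM
    have hασ := alpha_subset_sigma hG h96 hM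
    have hpM : p ∣ Nat.card M := (hασ hpα).2.1
    set H₀ : Subgroup M := Cfsg.piCore (Cfsg.alpha M) M with hH₀
    haveI : H₀.Normal := by
      haveI := Cfsg.Agent.Helper19.piCore_characteristic (G := M) (Cfsg.alpha M)
      infer_instance
    have hαcore : Cfsg.alphaCore M = H₀.map M.subtype := rfl
    have hcardH : Nat.card H₀ = Nat.card (Cfsg.alphaCore M) := by
      rw [hαcore, Subgroup.card_map_of_injective M.subtype_injective]
    have hidxH : H₀.index = (Cfsg.alphaCore M).relIndex M := by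
      rw [hαcore]
      unfold Subgroup.relIndex Subgroup.subgroupOf
      rw [Subgroup.comap_map_eq_self_of_injective M.subtype_injective]
    have hHα : ∀ r : ℕ, r.Prime → r ∣ Nat.card H₀ → r ∈ Cfsg.alpha M := by
      intro r hr hd
      exact hHall.2.1 r hr (hcardH ▸ hd)
    have hcop : (Nat.card H₀).Coprime H₀.index := by
      apply Nat.coprime_of_dvd
      intro r hr hd1 hd2
      exact hHall.2.2 r hr (hHα r hr hd1) (hidxH ▸ hd2)
    have hpidx : ¬ p ∣ H₀.index := by
      rw [hidxH]; exact hHall.2.2 p hp.out hpα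
    have hpH : p ∣ Nat.card H₀ := by
      have h1 := H₀.card_mul_index
      rw [← h1] at hpM
      rcases (Nat.Prime.dvd_mul hp.out).mp hpM with h | h
      · exact h
      · exact absurd h hpidx
    have hαne : Cfsg.alphaCore M ≠ ⊥ := by
      intro h
      have h1 : Nat.card (Cfsg.alphaCore M) = 1 := Subgroup.card_eq_one.mpr h
      rw [hcardH, h1] at hpH
      exact hp.out.one_lt.ne' (Nat.dvd_one.mp hpH)
    -- `M_α ≤ M'`
    have hHcomm : H₀ ≤ commutator M := by
      apply le_of_coprime_card_index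
      apply Nat.coprime_of_dvd
      intro r hr hd1 hd2
      exact commutator_index_coprime_of_sigma hG h101 hM hr (hασ (hHα r hr hd1)) hd2
    -- a prime outside `σ(M)`
    have hex : ∃ q : ℕ, q.Prime ∧ q ∣ Nat.card M ∧ q ∉ Cfsg.sigma M := by
      by_contra hcon
      push Not at hcon
      have hnt : Nontrivial M := by
        rw [← Finite.one_lt_card_iff_nontrivial]
        exact lt_of_lt_of_le hp.out.one_lt (Nat.le_of_dvd Nat.card_pos hpM)
      have h1 : commutator M < ⊤ := Group.IsSolvable.commutator_lt_top_of_nontrivial M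
      apply h1.ne
      rw [← Subgroup.index_eq_one]
      by_contra hne
      obtain ⟨r, hr, hrd⟩ := Nat.exists_prime_and_dvd hne
      have hrM : r ∣ Nat.card M := hrd.trans (Subgroup.index_dvd_card _)
      exact commutator_index_coprime_of_sigma hG h101 hM hr (hcon r hr hrM) hrd
    obtain ⟨q, hq, hqM, hqσ⟩ := hex
    haveI : Fact q.Prime := ⟨hq⟩
    obtain ⟨Q⟩ : Nonempty (Sylow q M) := inferInstance
    obtain ⟨x, hxmem, hxord, hZ, -⟩ := h104 M hM hαne q hqM hqσ Q
    obtain ⟨y, -, rfl⟩ := hxmem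
    have hyord : orderOf y = q := by
      rw [← hxord]
      exact (Subgroup.orderOf_coe y).symm
    have hqH : ¬ q ∣ Nat.card H₀ := fun hd => hqσ (hασ (hHα q hq hd))
    have hZ' : IsZGroup ↥(H₀ ⊓ Subgroup.centralizer ({y} : Set M)) := by
      let f : ↥(H₀ ⊓ Subgroup.centralizer ({y} : Set M)) →*
          ↥(Cfsg.alphaCore M ⊓ Subgroup.centralizer ({M.subtype y} : Set G)) :=
        MonoidHom.codRestrict (M.subtype.comp (H₀ ⊓ Subgroup.centralizer ({y} : Set M)).subtype) _
          (by
            intro z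
            refine ⟨⟨z.1, z.2.1, rfl⟩, ?_⟩
            show _ ∈ Subgroup.centralizer ({M.subtype y} : Set G)
            rw [Subgroup.mem_centralizer_singleton_iff]
            have h1 := Subgroup.mem_centralizer_singleton_iff.mp z.2.2
            have h2 := congrArg Subtype.val h1
            simpa using h2)
      have hf : Function.Injective f := by
        intro a b hab
        have h1 : ((f a : ↥(Cfsg.alphaCore M ⊓ Subgroup.centralizer ({M.subtype y} : Set G))) : G) =
            ((f b : ↥(Cfsg.alphaCore M ⊓ Subgroup.centralizer ({M.subtype y} : Set G))) : G) := by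
          rw [hab]
        have h2 : ((a : M) : G) = ((b : M) : G) := h1
        exact Subtype.ext (Subtype.ext h2)
      haveI := hZ
      exact IsZGroup.of_injective hf
    have h1 : Cfsg.PLengthLE p 1 ↥H₀ :=
      pLengthLE_one_of_hall h36 hoddM hcop hHcomm hqH hyord hZ' p
    have h0 : Cfsg.PLengthLE p 0 (M ⧸ H₀) := by
      apply Cfsg.Agent.Helper1.PLen.pLengthLE_zero_of_coprime
      rw [← Subgroup.index_eq_card]
      exact ((Nat.Prime.coprime_iff_not_dvd hp.out).mpr hpidx).symm
    exact Cfsg.Agent.Helper1.PLen.pLengthLE_of_extension H₀ h1 h0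

/-- **B&G Corollary 10.7(a)** (= S1410), relative to 9.6, 10.1(a), 10.4 and 3.6 -/
theorem cor_10_7_a (hG : Cfsg.IsMinSimpleOddOrder G) (h96 : Uniq96 G) (h101 : Ctl101 G)
    (h104 : Lem104 G) (h36 : Thm36.{u}) (p : ℕ) [hp : Fact p.Prime] (H : Subgroup G)
    (hH : H ≠ ⊤) : Cfsg.PLengthLE p 1 ↥H := by
  obtain ⟨M, hM, hHM⟩ := (eq_top_or_exists_le_coatom H).resolve_left hH
  have h1 := pLengthLE_one_coatom hG h96 h101 h104 h36 hM p
  have h2 := Cfsg.Agent.Helper1.PLen.pLengthLE_subgroup h1 (H.subgroupOf M)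
  exact Cfsg.Agent.Helper1.PLen.pLengthLE_of_mulEquiv h2 (Subgroup.subgroupOfEquivOfLe hHM)

end Cfsg.Agent.Helper10.BG10
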