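import Mathlib
import Cfsg.Agent.Helper10.BG10B
import Cfsg.Agent.S1461
import Cfsg.Agent.Lead.TT7

/-!
# B&G Corollary 10.7(b) (conditional form): `P = [P, V]` and `P ≤ N_G(P)'`
-/

set_option autoImplicit false
set_option linter.unusedSectionVars false
set_option linter.unusedVariables false
set_option linter.style.haveILetI false

namespace Cfsg.Agent.Helper10.BG10

open Subgroup Cfsg
open Cfsg.Agent.Helper21.BG10 (Uniq96 Ctl101 alpha_subset_sigma thm_10_2
  sylow_le_commutator_of_mem_sigma)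

universe u

variable {G : Type u} [Group G] [Finite G]

theorem sylow_ne_top (hG : Cfsg.IsMinSimpleOddOrder G) {p : ℕ} [hp : Fact p.Prime] (P : Sylow p G) :
    (P : Subgroup G) ≠ ⊤ := by
  intro h
  have hS : IsSimpleGroup G := hG.2.1
  have hpG : IsPGroup p G := by
    intro g
    obtain ⟨k, hk⟩ := P.isPGroup' ⟨g, by rw [h]; exact Subgroup.mem_top g⟩
    exact ⟨k, congrArg Subtype.val hk⟩
  haveI : Group.IsNilpotent G := hpG.isNilpotent
  have hsolv : Group.IsSolvable G := inferInstance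
  apply hG.2.2.1
  exact ⟨⟨IsSimpleGroup.comm_iff_isSolvable.mpr hsolv⟩⟩

/-- the Sylow `p`-subgroup `P` of `G` as a Sylow subgroup of a subgroup `M ≥ P`, with the
coercion computed -/
theorem sylow_subtype_map {p : ℕ} [hp : Fact p.Prime] (P : Sylow p G) {M : Subgroup G}
    (hPM : (P : Subgroup G) ≤ M) :
    ((P.subtype hPM : Sylow p M) : Subgroup M).map M.subtype = (P : Subgroup G) := by
  rw [Sylow.coe_subtype]
  exact Subgroup.map_subgroupOf_eq_of_le hPM

/-- if `N_G(P) ≤ M` then `p ∈ σ(M)` -/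
theorem mem_sigma_of_normalizer_le {p : ℕ} [hp : Fact p.Prime] (P : Sylow p G)
    (hP1 : (P : Subgroup G) ≠ ⊥) {M : Subgroup G}
    (hNM : Subgroup.normalizer ((P : Subgroup G) : Set G) ≤ M) : p ∈ Cfsg.sigma M := by
  have hPM : (P : Subgroup G) ≤ M := Subgroup.le_normalizer.trans hNM
  refine ⟨hp.out, ?_, P.subtype hPM, ?_⟩
  · obtain ⟨k, hk⟩ := IsPGroup.iff_card.mp P.isPGroup'
    have hk0 : k ≠ 0 := by
      rintro rfl
      rw [pow_zero] at hk
      exact hP1 (Subgroup.card_eq_one.mp hk)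
    exact ((dvd_pow_self p hk0).trans (hk ▸ dvd_rfl)).trans (Subgroup.card_dvd_of_le hPM)
  · rw [sylow_subtype_map P hPM]
    exact hNM

/-- all Sylow `p`-subgroups of `M` lie in `M'` for `p ∈ σ(M)` -/
theorem sylow_le_commutator_all (hG : Cfsg.IsMinSimpleOddOrder G) (h101 : Ctl101 G)
    {M : Subgroup G} (hM : IsCoatom M) {p : ℕ} [hp : Fact p.Prime] (hpσ : p ∈ Cfsg.sigma M)
    (P' : Sylow p M) : (P' : Subgroup M) ≤ commutator M := by
  obtain ⟨P₁, hP₁, -⟩ := sylow_le_commutator_of_mem_sigma hG h101 hM hpσ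
  obtain ⟨g, hg⟩ := MulAction.exists_smul_eq M P₁ P'
  intro x hx
  rw [← hg, Sylow.coe_subgroup_smul, Subgroup.mem_pointwise_smul_iff_inv_smul_mem] at hx
  have h1 := hP₁ hx
  have h2 : (MulAut.conj g)⁻¹ • x = g⁻¹ * x * g := by simp [MulAut.smul_def]
  rw [h2] at h1
  have h3 := (inferInstance : (commutator M).Normal).conj_mem _ h1 g
  have h4 : g * (g⁻¹ * x * g) * g⁻¹ = x := by group
  rwa [h4] at h3

/-- **B&G Corollary 10.7(b)**, first half: `P ≤ N_G(P)'` -/
theorem sylow_le_commutator_normalizer (hG : Cfsg.IsMinSimpleOddOrder G) (h96 : Uniq96 G)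
    (h101 : Ctl101 G) (h104 : Lem104 G) (h36 : Thm36.{u}) (p : ℕ) [hp : Fact p.Prime]
    (P : Sylow p G) :
    (P : Subgroup G) ≤ ⁅Subgroup.normalizer ((P : Subgroup G) : Set G),
      Subgroup.normalizer ((P : Subgroup G) : Set G)⁆ := by
  by_cases hP1 : (P : Subgroup G) = ⊥
  · rw [hP1]; exact bot_le
  have hPtop := sylow_ne_top hG P
  have hNtop := Cfsg.Agent.Lead.TT.normalizer_ne_top_of_simple hG.2.1 hP1 hPtop
  obtain ⟨M, hM, hNM⟩ := (eq_top_or_exists_le_coatom _).resolve_left hNtop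
  have hPM : (P : Subgroup G) ≤ M := Subgroup.le_normalizer.trans hNM
  have hpσ := mem_sigma_of_normalizer_le P hP1 hNM
  haveI hMsolv : Group.IsSolvable M := hG.2.2.2 M hM.1
  set P' : Sylow p M := P.subtype hPM with hP'
  have hP'c := sylow_le_commutator_all hG h101 hM hpσ P'
  have hpl := pLengthLE_one_coatom hG h96 h101 h104 h36 hM p
  obtain ⟨h1, -, -⟩ := Cfsg.Agent.S1461.result p hpl P'
  have h2 := h1 hP'c
  have h3 := Subgroup.map_mono (f := M.subtype) h2
  rw [sylow_subtype_map P hPM, Subgroup.map_commutator] at h3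
  refine h3.trans (Subgroup.commutator_mono ?_ ?_) <;>
  · have h4 := Subgroup.le_normalizer_map (H := (P' : Subgroup M)) M.subtype
    rw [sylow_subtype_map P hPM] at h4
    exact h4

/-- **B&G Corollary 10.7(b)** (= S1411), relative to 9.6, 10.1(a), 10.4 and 3.6 -/
theorem cor_10_7_b (hG : Cfsg.IsMinSimpleOddOrder G) (h96 : Uniq96 G)
    (h101 : Ctl101 G) (h104 : Lem104 G) (h36 : Thm36.{u}) (p : ℕ) [hp : Fact p.Prime]
    (P : Sylow p G) (V : Subgroup G)
    (hV : Cfsg.IsComplIn (P : Subgroup G) V (Subgroup.normalizer ((P : Subgroup G) : Set G))) :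
    (P : Subgroup G) = ⁅(P : Subgroup G), V⁆ ∧
      (P : Subgroup G) ≤ ⁅Subgroup.normalizer ((P : Subgroup G) : Set G),
        Subgroup.normalizer ((P : Subgroup G) : Set G)⁆ := by
  have hmain := sylow_le_commutator_normalizer hG h96 h101 h104 h36 p P
  refine ⟨?_, hmain⟩
  by_cases hP1 : (P : Subgroup G) = ⊥
  · rw [hP1, Subgroup.commutator_bot_left]
  have hPtop := sylow_ne_top hG P
  set N : Subgroup G := Subgroup.normalizer ((P : Subgroup G) : Set G) with hN
  have hNtop : N ≠ ⊤ := Cfsg.Agent.Lead.TT.normalizer_ne_top_of_simple hG.2.1 hP1 hPtop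
  haveI hNsolv : Group.IsSolvable N := hG.2.2.2 N hNtop
  obtain ⟨hPN, hVN, hPV, hprod⟩ := hV
  set H : Subgroup N := (P : Subgroup G).subgroupOf N with hH
  set K : Subgroup N := V.subgroupOf N with hK
  haveI hHn : H.Normal := Subgroup.normal_in_normalizer
  have hHmap : H.map N.subtype = (P : Subgroup G) := Subgroup.map_subgroupOf_eq_of_le hPN
  have hKmap : K.map N.subtype = V := Subgroup.map_subgroupOf_eq_of_le hVN
  have hcardH : Nat.card H = Nat.card (P : Subgroup G) := by
    rw [← hHmap, Subgroup.card_map_of_injective N.subtype_injective]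
  have hcop : (Nat.card H).Coprime H.index := by
    obtain ⟨k, hk⟩ := IsPGroup.iff_card.mp P.isPGroup'
    rw [hcardH, hk]
    apply Nat.Coprime.pow_left
    rw [Nat.Prime.coprime_iff_not_dvd hp.out]
    intro hd
    have h1 : H.index ∣ (P : Subgroup G).index := by
      have := Subgroup.relIndex_mul_index hPN
      exact Dvd.intro _ this
    exact P.not_dvd_index (hd.trans h1)
  have hcompl : Subgroup.IsComplement' H K := by
    apply Subgroup.isComplement'_of_disjoint_and_mul_eq_univ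
    · rw [disjoint_iff, eq_bot_iff]
      rintro x ⟨hx1, hx2⟩
      have h1 : (x : G) ∈ (P : Subgroup G) ⊓ V := ⟨hx1, hx2⟩
      rw [hPV, Subgroup.mem_bot] at h1
      rw [Subgroup.mem_bot]
      exact Subtype.ext h1
    · ext n
      simp only [Set.mem_univ, iff_true]
      obtain ⟨a, ha, b, hb, hab⟩ := hprod n.1 n.2
      refine ⟨⟨a, hPN ha⟩, ha, ⟨b, hVN hb⟩, hb, ?_⟩
      exact Subtype.ext hab.symm
  have hHc : H ≤ commutator N := by
    intro x hx
    have h1 : (x : G) ∈ ⁅N, N⁆ := hmain hx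
    rw [← Subgroup.map_subtype_commutator] at h1
    obtain ⟨y, hy, hyx⟩ := h1
    have : y = x := Subtype.ext hyx
    rwa [← this]
  have hres := ((Cfsg.Agent.S1459.result (G := ↥N)).1 H K hHn hcop hcompl hHc).1
  have h2 := congrArg (Subgroup.map N.subtype) hres
  rw [Subgroup.map_commutator, hHmap, hKmap] at h2
  exact h2

end Cfsg.Agent.Helper10.BG10
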