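import Mathlib
import Cfsg.Agent.Helper10.ConjFamily
import Cfsg.Agent.Helper10.WellPlaced
import Cfsg.Agent.Helper14.SylowIn
import Cfsg.Agent.Helper14.WeaklyClosed

set_option autoImplicit false

namespace Cfsg.Agent.Helper10

open Subgroup Cfsg.Agent.Helper14

variable {G : Type*} [Group G]

theorem isSylowIn_of_not_dvd_relIndex [Finite G] {p : ℕ} [Fact p.Prime] {U H : Subgroup G}
    (hUH : U ≤ H) (hU : IsPGroup p ↥U) (h : ¬ p ∣ U.relIndex H) : IsSylowIn p U H :=
  ⟨hUH, hU, fun _ hQH hQ hUQ => (eq_of_le_of_not_dvd_relIndex hUQ hQH hQ h).symm⟩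

theorem not_dvd_relIndex_of_isSylowIn [Finite G] {p : ℕ} [Fact p.Prime] {U H : Subgroup G}
    (h : IsSylowIn p U H) : ¬ p ∣ U.relIndex H :=
  (h.toSylow).not_dvd_index

theorem card_lt_of_lt [Finite G] {H K : Subgroup G} (h : H < K) : Nat.card ↥H < Nat.card ↥K := by
  refine lt_of_le_of_ne (Subgroup.card_le_of_le h.le) ?_
  intro heq
  exact h.ne (Subgroup.eq_of_le_of_card_ge h.le heq.ge)

/-- tame intersections of `P` -/
def tameFam (p : ℕ) (P : Sylow p G) : Set (Subgroup G) :=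
  {T | ∃ Q : Sylow p G, T = (P : Subgroup G) ⊓ (Q : Subgroup G) ∧ IsExt p (P : Subgroup G) T ∧
    IsExt p (Q : Subgroup G) T}

theorem tameFam_le {p : ℕ} {P : Sylow p G} {T : Subgroup G} (h : T ∈ tameFam p P) :
    T ≤ (P : Subgroup G) := by
  obtain ⟨Q, rfl, -⟩ := h
  exact inf_le_left

/-- the factors are `p`-elements, except possibly those normalizing `P` -/
def PEl (p : ℕ) (P : Subgroup G) (l : List (Subgroup G × G)) : Prop :=
  ∀ e ∈ l, e.1 = P ∨ ∃ k : ℕ, orderOf e.2 = p ^ k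

theorem PEl.append {p : ℕ} {P : Subgroup G} {l₁ l₂ : List (Subgroup G × G)}
    (h1 : PEl p P l₁) (h2 : PEl p P l₂) : PEl p P (l₁ ++ l₂) := by
  intro e he
  rcases List.mem_append.mp he with h | h
  · exact h1 e h
  · exact h2 e h

theorem PEl.linv {p : ℕ} {P : Subgroup G} {l : List (Subgroup G × G)}
    (h : PEl p P l) : PEl p P (linv l) := by
  intro e he
  unfold Cfsg.Agent.Helper10.linv at he
  rw [List.mem_reverse, List.mem_map] at he
  obtain ⟨a, ha, rfl⟩ := he
  rcases h a ha with h1 | ⟨k, hk⟩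
  · exact Or.inl h1
  · exact Or.inr ⟨k, by rw [orderOf_inv]; exact hk⟩

theorem Dec.rc_subset {𝓕 : Set (Subgroup G)} {S : Subgroup G} (h𝓕 : ∀ T ∈ 𝓕, T ≤ S)
    {l : List (Subgroup G × G)} :
    ∀ {A : Set G}, A ⊆ (S : Set G) → Dec 𝓕 A l → rc (lprod l) A ⊆ (S : Set G) := by
  induction l with
  | nil =>
    intro A hA _
    rw [lprod_nil, rc_one]
    exact hA
  | cons a l ih =>
    obtain ⟨T, x⟩ := a
    intro A _ h
    rw [lprod_cons, rc_mul]
    apply ih _ h.2.2.2
    calc rc x A ⊆ rc x (T : Set G) := rc_mono x h.2.2.1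
      _ = (T : Set G) := rc_of_mem_normalizer h.2.1
      _ ⊆ (S : Set G) := h𝓕 T h.1

/-- Alperin's relation between Sylow subgroups (relative to `P`) -/
def ARel (p : ℕ) (P : Sylow p G) (R Q : Subgroup G) : Prop :=
  ∃ l : List (Subgroup G × G),
    Dec (tameFam p P) ((((P : Subgroup G) ⊓ R : Subgroup G)) : Set G) l ∧ PEl p (P : Subgroup G) l ∧
      R.map (cj (lprod l)⁻¹) = Q

theorem ARel.refl {p : ℕ} (P : Sylow p G) (R : Subgroup G) : ARel p P R R := by
  refine ⟨[], trivial, ?_, ?_⟩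
  · intro e he
    simp at he
  · rw [lprod_nil, inv_one, map_cj_one]

theorem ARel.trans {p : ℕ} {P : Sylow p G} {R Q S : Subgroup G} (h1 : ARel p P R Q)
    (h2 : ARel p P Q S) : ARel p P R S := by
  obtain ⟨l₁, hd₁, he₁, hq₁⟩ := h1
  obtain ⟨l₂, hd₂, he₂, hq₂⟩ := h2
  refine ⟨l₁ ++ l₂, Dec.append hd₁ (hd₂.mono ?_), he₁.append he₂, ?_⟩
  · intro y hy
    refine Subgroup.mem_inf.mpr ⟨?_, ?_⟩
    · exact Dec.rc_subset (fun T hT => tameFam_le hT)
        (fun z hz => (Subgroup.mem_inf.mp hz).1) hd₁ hy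
    · rw [← hq₁]
      have h3 : rc (lprod l₁) ((((P : Subgroup G) ⊓ R : Subgroup G)) : Set G) ⊆
          rc (lprod l₁) (R : Set G) :=
        rc_mono _ (fun z hz => (Subgroup.mem_inf.mp hz).2)
      have h4 := h3 hy
      rw [rc_coe] at h4
      exact h4
  · rw [lprod_append, mul_inv_rev, ← map_cj_mul, hq₁, hq₂]

theorem ARel.exists_of_le {p : ℕ} {P : Sylow p G} {R Q R' : Subgroup G} (h : ARel p P R Q)
    (hle : (P : Subgroup G) ⊓ R' ≤ (P : Subgroup G) ⊓ R) :
    ∃ x : G, R.map (cj x⁻¹) = Q ∧ ARel p P R' (R'.map (cj x⁻¹)) := by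
  obtain ⟨l, hd, he, hq⟩ := h
  exact ⟨lprod l, hq, l, hd.mono (fun z hz => hle hz), he, rfl⟩

theorem sylow_coe_eq_of_le {p : ℕ} {P Q : Sylow p G} (h : (P : Subgroup G) ≤ (Q : Subgroup G)) :
    (Q : Subgroup G) = (P : Subgroup G) :=
  P.is_maximal' Q.isPGroup' h

theorem isExt_self [Finite G] {p : ℕ} [Fact p.Prime] (P : Sylow p G) :
    IsExt p (P : Subgroup G) (P : Subgroup G) := by
  unfold IsExt
  rw [inf_of_le_left Subgroup.le_normalizer]
  intro hdvd
  exact P.not_dvd_index (hdvd.trans (Subgroup.relIndex_dvd_index_of_le Subgroup.le_normalizer))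

theorem self_mem_tameFam [Finite G] {p : ℕ} [Fact p.Prime] (P : Sylow p G) :
    (P : Subgroup G) ∈ tameFam p P :=
  ⟨P, (inf_idem _).symm, isExt_self P, isExt_self P⟩

/-- `IsExt` from a Sylow subgroup of the normalizer contained in `S` -/
theorem isExt_of_isSylowIn_le [Finite G] {p : ℕ} [Fact p.Prime] {S D S₀ : Subgroup G}
    (h₀ : IsSylowIn p S₀ (normalizer (D : Set G))) (hle : S₀ ≤ S) : IsExt p S D := by
  unfold IsExt
  intro hdvd
  have h1 : S₀ ≤ S ⊓ normalizer (D : Set G) := le_inf hle h₀.1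
  exact not_dvd_relIndex_of_isSylowIn h₀
    (hdvd.trans (Subgroup.relIndex_dvd_of_le_left (normalizer (D : Set G)) h1))

/-- the second step of Alperin's induction -/
theorem arel_step2 [Finite G] {p : ℕ} [Fact p.Prime] (P Q : Sylow p G)
    (hne : (Q : Subgroup G) ≠ (P : Subgroup G))
    (hext : IsExt p (P : Subgroup G) ((P : Subgroup G) ⊓ (Q : Subgroup G)))
    (IH : ∀ R : Sylow p G, Nat.card ↥((P : Subgroup G) ⊓ (Q : Subgroup G)) <
      Nat.card ↥((P : Subgroup G) ⊓ (R : Subgroup G)) → ARel p P (R : Subgroup G) (P : Subgroup G)) :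
    ARel p P (Q : Subgroup G) (P : Subgroup G) := by
  obtain ⟨D, hD⟩ : ∃ D : Subgroup G, D = (P : Subgroup G) ⊓ (Q : Subgroup G) := ⟨_, rfl⟩
  rw [← hD] at hext IH
  have hDP : D ≤ (P : Subgroup G) := hD ▸ inf_le_left
  have hDQ' : D ≤ (Q : Subgroup G) := hD ▸ inf_le_right
  have hDQ : D < (Q : Subgroup G) := by
    refine lt_of_le_of_ne hDQ' ?_
    intro h
    apply hne
    have : (Q : Subgroup G) ≤ (P : Subgroup G) := h ▸ hDP
    exact (sylow_coe_eq_of_le this).symm
  have hgrow := Cfsg.Agent.Helper11.lt_inf_normalizer (Q : Subgroup G) D Q.2 hDQ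
  obtain ⟨T₀, hT₀, hle₀⟩ := exists_isSylowIn_ge (p := p)
    (inf_le_right : (Q : Subgroup G) ⊓ normalizer (D : Set G) ≤ normalizer (D : Set G))
    (Q.2.to_le inf_le_left)
  obtain ⟨T, hT⟩ := hT₀.2.1.exists_le_sylow
  have hDT : D ≤ (T : Subgroup G) := hgrow.le.trans (hle₀.trans hT)
  have hDPT : D ≤ (P : Subgroup G) ⊓ (T : Subgroup G) := le_inf hDP hDT
  by_cases hPT : (P : Subgroup G) ⊓ (T : Subgroup G) = D
  · -- the tame case
    have hDtame : D ∈ tameFam p P := ⟨T, hPT.symm, hext, isExt_of_isSylowIn_le hT₀ hT⟩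
    have hP₀ : IsSylowIn p ((P : Subgroup G) ⊓ normalizer (D : Set G)) (normalizer (D : Set G)) :=
      isSylowIn_of_not_dvd_relIndex inf_le_right (P.2.to_le inf_le_left) hext
    obtain ⟨K, hK⟩ : ∃ K : Subgroup G, K = Subgroup.closure
      {y : G | y ∈ normalizer (D : Set G) ∧ ∃ k : ℕ, orderOf y = p ^ k} := ⟨_, rfl⟩
    have hKN : K ≤ normalizer (D : Set G) := by
      rw [hK, Subgroup.closure_le]
      intro y hy
      exact hy.1
    have hpK : ∀ U : Subgroup G, U ≤ normalizer (D : Set G) → IsPGroup p ↥U → U ≤ K := by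
      intro U hU hp y hy
      rw [hK]
      apply Subgroup.subset_closure
      refine ⟨hU hy, ?_⟩
      obtain ⟨k, hk⟩ := (IsPGroup.iff_orderOf.mp hp) ⟨y, hy⟩
      exact ⟨k, by rw [← hk, Subgroup.orderOf_mk]⟩
    have hP₀K : IsSylowIn p ((P : Subgroup G) ⊓ normalizer (D : Set G)) K :=
      ⟨hpK _ inf_le_right hP₀.2.1, hP₀.2.1,
        fun Q' hQ'K hQ' hle => hP₀.2.2 Q' (hQ'K.trans hKN) hQ' hle⟩
    have hT₀K : IsSylowIn p T₀ K :=
      ⟨hpK _ hT₀.1 hT₀.2.1, hT₀.2.1,
        fun Q' hQ'K hQ' hle => hT₀.2.2 Q' (hQ'K.trans hKN) hQ' hle⟩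
    obtain ⟨y, hyK, hy⟩ := hT₀K.exists_conj hP₀K
    -- chains for elements of K
    have hchain : ∀ z ∈ K, ∃ l : List (Subgroup G × G), Dec (tameFam p P) (D : Set G) l ∧
        PEl p (P : Subgroup G) l ∧ lprod l = z := by
      intro z hz
      rw [hK] at hz
      induction hz using Subgroup.closure_induction with
      | mem z hz =>
        refine ⟨[(D, z)], ⟨hDtame, hz.1, subset_rfl, trivial⟩, ?_, ?_⟩
        · intro e he
          rw [List.mem_singleton] at he
          subst he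
          exact Or.inr hz.2
        · rw [lprod_cons, lprod_nil, mul_one]
      | one =>
        refine ⟨[], trivial, ?_, rfl⟩
        intro e he
        simp at he
      | mul a b ha hb iha ihb =>
        obtain ⟨l₁, hd₁, he₁, hl₁⟩ := iha
        obtain ⟨l₂, hd₂, he₂, hl₂⟩ := ihb
        refine ⟨l₁ ++ l₂, Dec.append hd₁ ?_, he₁.append he₂, ?_⟩
        · rw [hl₁, rc_of_mem_normalizer (hKN (hK ▸ ha))]
          exact hd₂
        · rw [lprod_append, hl₁, hl₂]
      | inv a ha iha =>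
        obtain ⟨l, hd, he, hl⟩ := iha
        refine ⟨linv l, ?_, he.linv, ?_⟩
        · have h1 := hd.inv
          rw [hl, rc_of_mem_normalizer (hKN (hK ▸ ha))] at h1
          exact h1
        · rw [lprod_linv, hl]
    obtain ⟨l, hd, he, hl⟩ := hchain y⁻¹ (K.inv_mem hyK)
    have hrel1 : ARel p P (Q : Subgroup G) ((y • Q : Sylow p G) : Subgroup G) := by
      refine ⟨l, ?_, he, ?_⟩
      · rw [← hD]; exact hd
      · rw [hl, inv_inv, sylow_smul_coe]
    apply hrel1.trans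
    apply IH
    have h1 : ((Q : Subgroup G) ⊓ normalizer (D : Set G)).map (cj y) ≤
        (P : Subgroup G) ⊓ ((y • Q : Sylow p G) : Subgroup G) := by
      apply le_inf
      · calc ((Q : Subgroup G) ⊓ normalizer (D : Set G)).map (cj y) ≤ T₀.map (cj y) :=
            Subgroup.map_mono hle₀
          _ = (P : Subgroup G) ⊓ normalizer (D : Set G) := hy.symm
          _ ≤ (P : Subgroup G) := inf_le_left
      · rw [sylow_smul_coe]
        exact Subgroup.map_mono inf_le_left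
    calc Nat.card ↥D < Nat.card ↥((Q : Subgroup G) ⊓ normalizer (D : Set G)) := card_lt_of_lt hgrow
      _ = Nat.card ↥(((Q : Subgroup G) ⊓ normalizer (D : Set G)).map (cj y)) := (card_map_cj _ _).symm
      _ ≤ _ := Subgroup.card_le_of_le h1
  · -- `P ∩ T > D`
    have hlt : D < (P : Subgroup G) ⊓ (T : Subgroup G) := lt_of_le_of_ne hDPT (Ne.symm hPT)
    have hrelT := IH T (card_lt_of_lt hlt)
    obtain ⟨x, hx, hrel⟩ := hrelT.exists_of_le (R' := (Q : Subgroup G))
      (by rw [← hD]; exact hDPT)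
    have hrel1 : ARel p P (Q : Subgroup G) ((x⁻¹ • Q : Sylow p G) : Subgroup G) := by
      rw [sylow_smul_coe]; exact hrel
    apply hrel1.trans
    apply IH
    have h1 : ((Q : Subgroup G) ⊓ (T : Subgroup G)).map (cj x⁻¹) ≤
        (P : Subgroup G) ⊓ ((x⁻¹ • Q : Sylow p G) : Subgroup G) := by
      apply le_inf
      · rw [← hx]; exact Subgroup.map_mono inf_le_right
      · rw [sylow_smul_coe]; exact Subgroup.map_mono inf_le_left
    have h2 : (Q : Subgroup G) ⊓ normalizer (D : Set G) ≤ (Q : Subgroup G) ⊓ (T : Subgroup G) :=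
      le_inf inf_le_left (hle₀.trans hT)
    calc Nat.card ↥D < Nat.card ↥((Q : Subgroup G) ⊓ normalizer (D : Set G)) := card_lt_of_lt hgrow
      _ ≤ Nat.card ↥((Q : Subgroup G) ⊓ (T : Subgroup G)) := Subgroup.card_le_of_le h2
      _ = Nat.card ↥(((Q : Subgroup G) ⊓ (T : Subgroup G)).map (cj x⁻¹)) := (card_map_cj _ _).symm
      _ ≤ _ := Subgroup.card_le_of_le h1

/-- Alperin: every Sylow subgroup is related to `P` -/
theorem arel_main [Finite G] {p : ℕ} [Fact p.Prime] (P : Sylow p G) :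
    ∀ (n : ℕ) (Q : Sylow p G),
      Nat.card ↥(P : Subgroup G) - Nat.card ↥((P : Subgroup G) ⊓ (Q : Subgroup G)) = n →
      ARel p P (Q : Subgroup G) (P : Subgroup G) := by
  intro n
  induction n using Nat.strong_induction_on with
  | _ n ih =>
  intro Q hn
  by_cases hne : (Q : Subgroup G) = (P : Subgroup G)
  · rw [hne]; exact ARel.refl P _
  have hcardle : ∀ R : Sylow p G, Nat.card ↥((P : Subgroup G) ⊓ (R : Subgroup G)) ≤
      Nat.card ↥(P : Subgroup G) := fun R => Subgroup.card_le_of_le inf_le_left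
  have IH : ∀ R : Sylow p G, Nat.card ↥((P : Subgroup G) ⊓ (Q : Subgroup G)) <
      Nat.card ↥((P : Subgroup G) ⊓ (R : Subgroup G)) →
      ARel p P (R : Subgroup G) (P : Subgroup G) := by
    intro R hR
    have := hcardle R
    exact ih _ (by omega) R rfl
  obtain ⟨D, hD⟩ : ∃ D : Subgroup G, D = (P : Subgroup G) ⊓ (Q : Subgroup G) := ⟨_, rfl⟩
  rw [← hD] at IH
  have hDP' : D ≤ (P : Subgroup G) := hD ▸ inf_le_left
  have hDQ' : D ≤ (Q : Subgroup G) := hD ▸ inf_le_right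
  have hDP : D < (P : Subgroup G) := by
    refine lt_of_le_of_ne hDP' ?_
    intro h
    apply hne
    have : (P : Subgroup G) ≤ (Q : Subgroup G) := h ▸ hDQ'
    exact sylow_coe_eq_of_le this
  have hgrow := Cfsg.Agent.Helper11.lt_inf_normalizer (P : Subgroup G) D P.2 hDP
  obtain ⟨S₀, hS₀, hle₀⟩ := exists_isSylowIn_ge (p := p)
    (inf_le_right : (P : Subgroup G) ⊓ normalizer (D : Set G) ≤ normalizer (D : Set G))
    (P.2.to_le inf_le_left)
  obtain ⟨S, hS⟩ := hS₀.2.1.exists_le_sylow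
  have hPS : (P : Subgroup G) ⊓ normalizer (D : Set G) ≤ (P : Subgroup G) ⊓ (S : Subgroup G) :=
    le_inf inf_le_left (hle₀.trans hS)
  have hDS : D ≤ (S : Subgroup G) := hgrow.le.trans (hPS.trans inf_le_right)
  have hcard : Nat.card ↥D < Nat.card ↥((P : Subgroup G) ⊓ (S : Subgroup G)) :=
    lt_of_lt_of_le (card_lt_of_lt hgrow) (Subgroup.card_le_of_le hPS)
  obtain ⟨x, hx, hrel⟩ := (IH S hcard).exists_of_le (R' := (Q : Subgroup G))
    (by rw [← hD]; exact le_inf hDP' hDS)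
  obtain ⟨Q₁, hQ₁def⟩ : ∃ Q₁ : Sylow p G, Q₁ = x⁻¹ • Q := ⟨_, rfl⟩
  have hQ₁ : (Q₁ : Subgroup G) = (Q : Subgroup G).map (cj x⁻¹) := by
    rw [hQ₁def, sylow_smul_coe]
  have hrel1 : ARel p P (Q : Subgroup G) (Q₁ : Subgroup G) := by
    rw [hQ₁]; exact hrel
  have hD₁ : D.map (cj x⁻¹) ≤ (P : Subgroup G) ⊓ (Q₁ : Subgroup G) := by
    apply le_inf
    · rw [← hx]; exact Subgroup.map_mono hDS
    · rw [hQ₁]; exact Subgroup.map_mono hDQ'
  apply hrel1.trans
  by_cases heq : (P : Subgroup G) ⊓ (Q₁ : Subgroup G) = D.map (cj x⁻¹)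
  · apply arel_step2 P Q₁
    · intro h
      rw [h, inf_idem] at heq
      have h1 := card_lt_of_lt hDP
      rw [heq, card_map_cj] at h1
      exact lt_irrefl _ h1
    · rw [heq]
      have h1 : IsSylowIn p (S₀.map (cj x⁻¹)) ((normalizer (D : Set G)).map (cj x⁻¹)) :=
        hS₀.map_cj x⁻¹
      rw [map_cj_normalizer] at h1
      apply isExt_of_isSylowIn_le h1
      rw [← hx]
      exact Subgroup.map_mono hS
    · intro R hR
      apply IH
      rw [heq, card_map_cj] at hR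
      exact hR
  · apply IH
    have hlt : D.map (cj x⁻¹) < (P : Subgroup G) ⊓ (Q₁ : Subgroup G) :=
      lt_of_le_of_ne hD₁ (Ne.symm heq)
    have := card_lt_of_lt hlt
    rw [card_map_cj] at this
    exact this

/-- Alperin's fusion theorem with tame intersections and `p`-element factors, list form -/
theorem alperin_tame [Finite G] {p : ℕ} [Fact p.Prime] (P : Sylow p G) (A : Set G) (g : G)
    (hA : A ⊆ (P : Set G)) (hAg : rc g A ⊆ (P : Set G)) :
    ∃ l : List (Subgroup G × G), Dec (tameFam p P) A l ∧ PEl p (P : Subgroup G) l ∧ lprod l = g := by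
  have hAR : A ⊆ ((((P : Subgroup G) ⊓ ((g • P : Sylow p G) : Subgroup G) : Subgroup G)) : Set G) := by
    intro a ha
    refine Subgroup.mem_inf.mpr ⟨hA ha, ?_⟩
    rw [sylow_smul_coe, mem_map_cj]
    exact hAg ⟨a, ha, rfl⟩
  obtain ⟨l, hd, he, hq⟩ := arel_main P _ (g • P) rfl
  have hd' : Dec (tameFam p P) A l := hd.mono hAR
  have hy : (lprod l)⁻¹ * g ∈ normalizer ((P : Subgroup G) : Set G) := by
    rw [mem_normalizer_iff_map_cj, ← map_cj_mul, ← sylow_smul_coe]
    exact hq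
  refine ⟨l ++ [((P : Subgroup G), (lprod l)⁻¹ * g)], Dec.append hd' ?_, he.append ?_, ?_⟩
  · exact ⟨self_mem_tameFam P, hy, Dec.rc_subset (fun T hT => tameFam_le hT) hA hd', trivial⟩
  · intro e he'
    rw [List.mem_singleton] at he'
    subst he'
    exact Or.inl rfl
  · rw [lprod_append, lprod_cons, lprod_nil, mul_one, mul_inv_cancel_left]

end Cfsg.Agent.Helper10
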