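import Mathlib
import Cfsg.Agent.Helper14.Conj

set_option autoImplicit false

namespace Cfsg.Agent.Helper10

open Subgroup Cfsg.Agent.Helper14

variable {G : Type*} [Group G]

theorem le_normalizer_of_commutator_le' [Finite G] {H K : Subgroup G} (h : ⁅H, K⁆ ≤ H) :
    K ≤ normalizer (H : Set G) := by
  intro k hk
  apply Subgroup.mem_normalizer_fintype
  intro x hx
  have h1 : k * x * k⁻¹ * x⁻¹ ∈ H := by
    apply h
    rw [Subgroup.commutator_comm]
    have := Subgroup.commutator_mem_commutator hk hx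
    rwa [commutatorElement_def] at this
  have h2 : k * x * k⁻¹ = (k * x * k⁻¹ * x⁻¹) * x := by group
  rw [h2]
  exact H.mul_mem h1 hx

theorem le_normalizer_commutator_of_le {Q A B : Subgroup G} (hA : Q ≤ normalizer (A : Set G))
    (hB : Q ≤ normalizer (B : Set G)) : Q ≤ normalizer ((⁅A, B⁆ : Subgroup G) : Set G) := by
  intro g hg
  rw [mem_normalizer_iff_map_cj, Subgroup.map_commutator,
    mem_normalizer_iff_map_cj.mp (hA hg), mem_normalizer_iff_map_cj.mp (hB hg)]

theorem le_normalizer_inf_of_le {Q A B : Subgroup G} (hA : Q ≤ normalizer (A : Set G))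
    (hB : Q ≤ normalizer (B : Set G)) : Q ≤ normalizer ((A ⊓ B : Subgroup G) : Set G) := by
  intro g hg
  rw [mem_normalizer_iff_map_cj, map_cj_inf,
    mem_normalizer_iff_map_cj.mp (hA hg), mem_normalizer_iff_map_cj.mp (hB hg)]

theorem le_normalizer_sup_of_le {Q A B : Subgroup G} (hA : Q ≤ normalizer (A : Set G))
    (hB : Q ≤ normalizer (B : Set G)) : Q ≤ normalizer ((A ⊔ B : Subgroup G) : Set G) := by
  intro g hg
  rw [mem_normalizer_iff_map_cj, Subgroup.map_sup,
    mem_normalizer_iff_map_cj.mp (hA hg), mem_normalizer_iff_map_cj.mp (hB hg)]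

theorem le_normalizer_centralizer_of_le {Q A : Subgroup G} (hA : Q ≤ normalizer (A : Set G)) :
    Q ≤ normalizer ((centralizer (A : Set G) : Subgroup G) : Set G) := by
  intro g hg
  rw [mem_normalizer_iff_map_cj, map_cj_centralizer, mem_normalizer_iff_map_cj.mp (hA hg)]

theorem normal_of_sup_le_normalizer {H A B : Subgroup G} (hAB : A ⊔ B = ⊤)
    (hA : A ≤ normalizer (H : Set G)) (hB : B ≤ normalizer (H : Set G)) : H.Normal := by
  rw [← Subgroup.normalizer_eq_top_iff, eq_top_iff, ← hAB]
  exact sup_le hA hB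

end Cfsg.Agent.Helper10
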