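import Mathlib
import Cfsg.Agent.Helper10.Alperin
import Cfsg.Agent.Helper10.Fusion
import Cfsg.Agent.Lead.SylowNumber3
import Cfsg.Agent.Helper10.NormLemmas

set_option autoImplicit false
set_option linter.unusedSectionVars false
set_option linter.unusedVariables false

/-! # A generic Alperin–Goldschmidt refinement of Alperin's fusion theorem

Given "functors" `K i T ⊴ N_G(T)` with `K i T / (K i T ∩ C_G(T))` a `p`-group, every conjugation
between subsets of a Sylow subgroup `P` factors, up to a centralizing element, through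
normalizers of tame intersections `T` with `P ∩ K i T ≤ T` for all `i`. -/

namespace Cfsg.Agent.Helper10

open Subgroup Cfsg.Agent.Helper14
open scoped Pointwise

variable {G : Type*} [Group G]

theorem rc_of_mem_centralizer {c : G} {B : Set G} (hc : c ∈ centralizer B) : rc c B = B := by
  ext y
  rw [mem_rc]
  constructor
  · intro h
    have h1 := mem_centralizer_iff.1 hc _ h
    have h2 : c * y * c⁻¹ = y := by
      have : c * y * c⁻¹ * c = c * (c * y * c⁻¹) := by rw [h1]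
      have h3 : c * y = c * (c * y * c⁻¹) := by simpa [mul_assoc] using this
      exact (mul_left_cancel h3).symm
    rw [← h2]; exact h
  · intro h
    have h1 := mem_centralizer_iff.1 hc _ h
    have h2 : c * y * c⁻¹ = y := by rw [← h1]; group
    rw [h2]; exact h

/-- The Frattini step. -/
theorem frattini_step [Finite G] {p : ℕ} [Fact p.Prime] {P D K : Subgroup G} (hP : IsPGroup p ↥P)
    (hext : IsExt p P D) (hKN : K ≤ normalizer (D : Set G))
    (hNK : normalizer (D : Set G) ≤ normalizer (K : Set G))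
    (hKp : ∀ k ∈ K, ∃ j : ℕ, k ^ (p ^ j) ∈ centralizer (D : Set G)) :
    ∀ x ∈ normalizer (D : Set G), ∃ c ∈ centralizer (D : Set G), ∃ y ∈ normalizer (D : Set G),
      y ∈ normalizer ((P ⊓ K : Subgroup G) : Set G) ∧ x = c * y := by
  have hp : p.Prime := Fact.out
  -- `Q = P ⊓ K` is a Sylow subgroup of `K`
  have hRK : P ⊓ normalizer (D : Set G) ⊓ K = P ⊓ K := by
    rw [inf_assoc, inf_of_le_right hKN]
  have hQsyl : ¬ p ∣ (P ⊓ K).relIndex K := by
    have h1 := Cfsg.Agent.Lead.relIndex_sup_of_le_normalizer (P ⊓ normalizer (D : Set G)) K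
      (inf_le_right.trans hNK)
    have h2 : (P ⊓ normalizer (D : Set G)).relIndex (P ⊓ normalizer (D : Set G) ⊔ K) ∣
        (P ⊓ normalizer (D : Set G)).relIndex (normalizer (D : Set G)) := by
      rw [← relIndex_mul_relIndex (P ⊓ normalizer (D : Set G)) (P ⊓ normalizer (D : Set G) ⊔ K)
        (normalizer (D : Set G)) le_sup_left (sup_le inf_le_right hKN)]
      exact dvd_mul_right _ _
    rw [h1, ← inf_relIndex_right, hRK] at h2
    intro h3
    exact hext (h3.trans h2)
  have hQp : IsPGroup p ↥(P ⊓ K : Subgroup G) := hP.to_le inf_le_left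
  -- `K = (K ⊓ C) Q`
  have hCn : normalizer (D : Set G) ≤ normalizer ((centralizer (D : Set G) : Subgroup G) : Set G) :=
    le_normalizer_centralizer_of_le le_rfl
  have hnorm : ((centralizer (D : Set G)).subgroupOf K).Normal :=
    normal_subgroupOf_of_le_normalizer (hKN.trans hCn)
  have hquot : IsPGroup p (↥K ⧸ (centralizer (D : Set G)).subgroupOf K) := by
    intro q
    obtain ⟨k, rfl⟩ := QuotientGroup.mk_surjective q
    obtain ⟨j, hj⟩ := hKp k k.2
    refine ⟨j, ?_⟩
    rw [← QuotientGroup.mk_pow, QuotientGroup.eq_one_iff, mem_subgroupOf]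
    simpa using hj
  obtain ⟨n, hn⟩ := hquot.exists_card_eq
  have hCrel : (centralizer (D : Set G)).relIndex K = p ^ n := by
    rw [relIndex, index_eq_card]; exact hn
  have hM : K ≤ (K ⊓ centralizer (D : Set G)) ⊔ (P ⊓ K) := by
    rw [← relIndex_eq_one]
    have h1 : ((K ⊓ centralizer (D : Set G)) ⊔ (P ⊓ K)).relIndex K ∣ (P ⊓ K).relIndex K :=
      relIndex_dvd_of_le_left K le_sup_right
    have h2 : ((K ⊓ centralizer (D : Set G)) ⊔ (P ⊓ K)).relIndex K ∣ p ^ n := by
      have h2' : (centralizer (D : Set G)).relIndex K =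
          (K ⊓ centralizer (D : Set G)).relIndex K := by rw [inf_comm, inf_relIndex_right]
      rw [← hCrel, h2']
      exact relIndex_dvd_of_le_left K le_sup_left
    have h3 : Nat.Coprime (((K ⊓ centralizer (D : Set G)) ⊔ (P ⊓ K)).relIndex K) (p ^ n) := by
      apply Nat.Coprime.pow_right
      rw [Nat.coprime_comm, hp.coprime_iff_not_dvd]
      intro h4
      exact hQsyl (h4.trans h1)
    exact h3.eq_one_of_dvd h2
  intro x hx
  -- Sylow conjugacy inside `K`
  have hKx : K.map (cj x) = K := mem_normalizer_iff_map_cj.1 (hNK hx)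
  have hQx : (P ⊓ K).map (cj x) ≤ K := by
    have h0 : (P ⊓ K).map (cj x) ≤ K.map (cj x) := Subgroup.map_mono inf_le_right
    rwa [hKx] at h0
  have hQxp : IsPGroup p ↥((P ⊓ K).map (cj x)) := hQp.map _
  have hQxsyl : ¬ p ∣ ((P ⊓ K).map (cj x)).relIndex K := by
    have := relIndex_map_cj (P ⊓ K) K x
    rw [hKx] at this
    rw [this]; exact hQsyl
  obtain ⟨u, huK, hu⟩ := exists_conj_eq_of_not_dvd_relIndex hQx inf_le_right hQxp hQp hQxsyl hQsyl
  rw [map_cj_mul] at hu
  -- decompose `u⁻¹`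
  have hu' : u⁻¹ ∈ (K ⊓ centralizer (D : Set G)) ⊔ (P ⊓ K) := hM (K.inv_mem huK)
  have hQn : P ⊓ K ≤ normalizer ((K ⊓ centralizer (D : Set G) : Subgroup G) : Set G) := by
    refine le_trans ?_ (le_normalizer_inf_of_le (A := K) (B := centralizer (D : Set G))
      (Q := K) le_normalizer (hKN.trans hCn))
    exact inf_le_right
  have hmem : u⁻¹ ∈ ((K ⊓ centralizer (D : Set G) : Subgroup G) : Set G) * ((P ⊓ K : Subgroup G) : Set G) := by
    rw [← coe_mul_of_right_le_normalizer_left _ _ hQn]; exact hu'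
  obtain ⟨c, hc, r, hr, hcr⟩ := Set.mem_mul.1 hmem
  refine ⟨c, hc.2, r * (u * x), ?_, ?_, ?_⟩
  · exact mul_mem (hKN hr.2) (mul_mem (hKN huK) hx)
  · exact mul_mem (le_normalizer hr) (mem_normalizer_iff_map_cj.2 hu)
  · have : c * (r * (u * x)) = (c * r) * u * x := by group
    rw [this, hcr]; group

theorem Dec.lprod_mem {𝓕 : Set (Subgroup G)} {M : Subgroup G}
    (hM : ∀ T ∈ 𝓕, normalizer (T : Set G) ≤ M) {l : List (Subgroup G × G)} :
    ∀ {A : Set G}, Dec 𝓕 A l → lprod l ∈ M := by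
  induction l with
  | nil => intro A _; rw [lprod_nil]; exact one_mem _
  | cons a l ih =>
    obtain ⟨T, x⟩ := a
    intro A h
    rw [lprod_cons]
    exact mul_mem (hM T h.1 h.2.1) (ih h.2.2.2)

/-- the refined family -/
def agFam (p : ℕ) (P : Sylow p G) {ι : Type*} (K : ι → Subgroup G → Subgroup G) :
    Set (Subgroup G) :=
  {T | T ∈ tameFam p P ∧ ∀ i, (P : Subgroup G) ⊓ K i T ≤ T}

theorem ag_inner [Finite G] {p : ℕ} (P : Sylow p G) (𝓕 : Set (Subgroup G)) (m : ℕ)
    (Hm : ∀ T ∈ tameFam p P, m ≤ Nat.card ↥T → ∀ x ∈ normalizer (T : Set G),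
      ∃ c ∈ centralizer (T : Set G), ∃ l : List (Subgroup G × G),
        Dec 𝓕 (T : Set G) l ∧ x = c * lprod l) :
    ∀ (l₀ : List (Subgroup G × G)) (B : Subgroup G), m ≤ Nat.card ↥B →
      Dec (tameFam p P) (B : Set G) l₀ →
      ∃ c ∈ centralizer (B : Set G), ∃ l : List (Subgroup G × G),
        Dec 𝓕 (B : Set G) l ∧ lprod l₀ = c * lprod l := by
  intro l₀
  induction l₀ with
  | nil =>
    intro B _ _
    exact ⟨1, one_mem _, [], trivial, by simp [lprod_nil]⟩
  | cons a l₀ ih =>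
    obtain ⟨T, x⟩ := a
    intro B hmB hd
    obtain ⟨hT, hxT, hBT, hd'⟩ := hd
    have hBT' : B ≤ T := hBT
    obtain ⟨c₁, hc₁, l₁, hl₁, hx⟩ := Hm T hT (hmB.trans (Subgroup.card_le_of_le hBT')) x hxT
    have hc₁B : c₁ ∈ centralizer (B : Set G) := centralizer_le hBT hc₁
    rw [rc_coe] at hd'
    have hcard : m ≤ Nat.card ↥(B.map (cj x⁻¹)) := by rw [card_map_cj]; exact hmB
    obtain ⟨c₂, hc₂, l₂, hl₂, hl₀⟩ := ih (B.map (cj x⁻¹)) hcard hd'
    have hrc : rc (lprod l₁) (B : Set G) = ((B.map (cj x⁻¹) : Subgroup G) : Set G) := by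
      rw [← rc_coe, hx, rc_mul, rc_of_mem_centralizer hc₁B]
    refine ⟨c₁ * (lprod l₁ * c₂ * (lprod l₁)⁻¹), ?_, l₁ ++ l₂, ?_, ?_⟩
    · refine mul_mem hc₁B ?_
      rw [mem_centralizer_iff]
      intro b hb
      have hb' : (lprod l₁)⁻¹ * b * lprod l₁ ∈ ((B.map (cj x⁻¹) : Subgroup G) : Set G) := by
        rw [← hrc]; exact ⟨b, hb, rfl⟩
      have h1 := mem_centralizer_iff.1 hc₂ _ hb'
      have e1 : b * (lprod l₁ * c₂ * (lprod l₁)⁻¹) =
          lprod l₁ * ((lprod l₁)⁻¹ * b * lprod l₁ * c₂) * (lprod l₁)⁻¹ := by group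
      have e2 : lprod l₁ * c₂ * (lprod l₁)⁻¹ * b =
          lprod l₁ * (c₂ * ((lprod l₁)⁻¹ * b * lprod l₁)) * (lprod l₁)⁻¹ := by group
      rw [e1, e2, h1]
    · apply Dec.append (Dec.mono hBT hl₁)
      rw [hrc]; exact hl₂
    · rw [lprod_cons, lprod_append, hl₀]
      conv_lhs => rw [hx]
      group

/-- Generic Alperin–Goldschmidt theorem, subgroup form. -/
theorem ag_main [Finite G] {p : ℕ} [Fact p.Prime] (P : Sylow p G) {ι : Type*}
    (K : ι → Subgroup G → Subgroup G)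
    (hK1 : ∀ i T, T ∈ tameFam p P → K i T ≤ normalizer (T : Set G))
    (hK2 : ∀ i T, T ∈ tameFam p P → normalizer (T : Set G) ≤ normalizer ((K i T : Subgroup G) : Set G))
    (hK3 : ∀ i T, T ∈ tameFam p P → ∀ k ∈ K i T, ∃ j : ℕ, k ^ (p ^ j) ∈ centralizer (T : Set G)) :
    ∀ (n : ℕ) (D : Subgroup G), D ≤ (P : Subgroup G) →
      Nat.card ↥(P : Subgroup G) - Nat.card ↥D = n →
      ∀ g : G, D.map (cj g⁻¹) ≤ (P : Subgroup G) →
      ∃ c ∈ centralizer (D : Set G), ∃ l : List (Subgroup G × G),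
        Dec (agFam p P K) (D : Set G) l ∧ g = c * lprod l := by
  intro n
  induction n using Nat.strong_induction_on with
  | _ n ih =>
  intro D hDP hn g hg
  have hA : (D : Set G) ⊆ ((P : Subgroup G) : Set G) := hDP
  have hAg : rc g (D : Set G) ⊆ ((P : Subgroup G) : Set G) := by
    rw [rc_coe]; exact hg
  obtain ⟨l₀, hl₀, -, hl₀g⟩ := alperin_tame P (D : Set G) g hA hAg
  have Hm : ∀ T ∈ tameFam p P, Nat.card ↥D ≤ Nat.card ↥T → ∀ x ∈ normalizer (T : Set G),
      ∃ c ∈ centralizer (T : Set G), ∃ l : List (Subgroup G × G),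
        Dec (agFam p P K) (T : Set G) l ∧ x = c * lprod l := by
    intro T hT hDT x hx
    have hTP : T ≤ (P : Subgroup G) := tameFam_le hT
    by_cases hterm : ∀ i, (P : Subgroup G) ⊓ K i T ≤ T
    · refine ⟨1, one_mem _, [(T, x)], ⟨⟨hT, hterm⟩, hx, subset_rfl, trivial⟩, ?_⟩
      rw [lprod_cons, lprod_nil]; group
    · push Not at hterm
      obtain ⟨i, hi⟩ := hterm
      have hext : IsExt p (P : Subgroup G) T := by
        obtain ⟨Q, -, h1, -⟩ := hT
        exact h1
      obtain ⟨c, hc, y, hyT, hyQ, hxy⟩ := frattini_step P.2 hext (hK1 i T hT) (hK2 i T hT)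
        (hK3 i T hT) x hx
      have hT₁P : T ⊔ ((P : Subgroup G) ⊓ K i T) ≤ (P : Subgroup G) := sup_le hTP inf_le_left
      have hlt : T < T ⊔ ((P : Subgroup G) ⊓ K i T) := by
        refine lt_of_le_of_ne le_sup_left ?_
        intro heq
        apply hi
        exact le_of_le_of_eq le_sup_right heq.symm
      have hcard := card_lt_of_lt hlt
      have hcard2 : Nat.card ↥(T ⊔ ((P : Subgroup G) ⊓ K i T)) ≤ Nat.card ↥(P : Subgroup G) :=
        Subgroup.card_le_of_le hT₁P
      have hyT₁ : y ∈ normalizer ((T ⊔ ((P : Subgroup G) ⊓ K i T) : Subgroup G) : Set G) :=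
        normalizer_inf_normalizer_le_normalizer_sup _ _ ⟨hyT, hyQ⟩
      have hmap : (T ⊔ ((P : Subgroup G) ⊓ K i T)).map (cj y⁻¹) ≤ (P : Subgroup G) := by
        rw [mem_normalizer_iff_map_cj.1 (inv_mem hyT₁)]; exact hT₁P
      obtain ⟨c', hc', l', hl', hy⟩ := ih _ (by omega) _ hT₁P rfl y hmap
      refine ⟨c * c', mul_mem hc (centralizer_le (show (T : Set G) ⊆ _ from hlt.le) hc'), l',
        Dec.mono (show (T : Set G) ⊆ _ from hlt.le) hl', ?_⟩
      rw [hxy, hy]; group
  obtain ⟨c, hc, l, hl, hlp⟩ := ag_inner P (agFam p P K) (Nat.card ↥D) Hm l₀ D le_rfl hl₀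
  exact ⟨c, hc, l, hl, by rw [← hl₀g, hlp]⟩

/-- Generic Alperin–Goldschmidt theorem, set form. -/
theorem ag_set [Finite G] {p : ℕ} [Fact p.Prime] (P : Sylow p G) {ι : Type*}
    (K : ι → Subgroup G → Subgroup G)
    (hK1 : ∀ i T, T ∈ tameFam p P → K i T ≤ normalizer (T : Set G))
    (hK2 : ∀ i T, T ∈ tameFam p P → normalizer (T : Set G) ≤ normalizer ((K i T : Subgroup G) : Set G))
    (hK3 : ∀ i T, T ∈ tameFam p P → ∀ k ∈ K i T, ∃ j : ℕ, k ^ (p ^ j) ∈ centralizer (T : Set G))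
    (A : Set G) (g : G) (hA : A ⊆ ((P : Subgroup G) : Set G))
    (hAg : rc g A ⊆ ((P : Subgroup G) : Set G)) :
    ∃ c ∈ centralizer A, ∃ l : List (Subgroup G × G),
      Dec (agFam p P K) A l ∧ g = c * lprod l := by
  have hT : Subgroup.closure A ≤ (P : Subgroup G) := (Subgroup.closure_le _).mpr hA
  have hTg : (Subgroup.closure A).map (cj g⁻¹) ≤ (P : Subgroup G) := by
    rw [MonoidHom.map_closure, Subgroup.closure_le]
    rintro _ ⟨a, ha, rfl⟩
    apply hAg
    exact ⟨a, ha, by simp⟩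
  obtain ⟨c, hc, l, hl, hg⟩ := ag_main P K hK1 hK2 hK3 _ _ hT rfl g hTg
  refine ⟨c, ?_, l, hl.mono Subgroup.subset_closure, hg⟩
  exact centralizer_le Subgroup.subset_closure hc

end Cfsg.Agent.Helper10
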