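import Mathlib
import Cfsg.Prelude.Def_Local
import Cfsg.Prelude.Def_TwoFusion
import Cfsg.Agent.Helper10.AG
import Cfsg.Agent.Helper10.PConstrained
import Cfsg.Agent.Helper7.QConstrained
import Cfsg.Agent.Helper9.NPC
import Cfsg.Agent.S0086

set_option autoImplicit false
set_option linter.unusedSectionVars false
set_option linter.unusedVariables false

/-! # The classical Alperin–Goldschmidt conjugation theorem -/

namespace Cfsg.Agent.Helper10

open Subgroup Cfsg Cfsg.Agent.Helper14
open scoped Pointwise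

universe u

variable {G : Type u} [Group G]

theorem le_normalizer_map_subtype_of_normal {N : Subgroup G} (M : Subgroup ↥N) [hM : M.Normal] :
    N ≤ normalizer ((M.map N.subtype : Subgroup G) : Set G) := by
  apply le_normalizer_of_map_cj_le
  rintro g hg _ ⟨_, ⟨m, hm, rfl⟩, rfl⟩
  refine ⟨⟨g, hg⟩ * m * ⟨g, hg⟩⁻¹, hM.conj_mem m hm ⟨g, hg⟩, ?_⟩
  simp

/-- The two functors: `T C_G(T)` and `O_{p',p}(N_G(T))`. -/
def agK (p : ℕ) : Bool → Subgroup G → Subgroup G
  | true, T => T ⊔ centralizer (T : Set G)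
  | false, T => (pPrimePCore p ↥(normalizer (T : Set G))).map (normalizer (T : Set G)).subtype

theorem agK_le (p : ℕ) (i : Bool) (T : Subgroup G) : agK p i T ≤ normalizer (T : Set G) := by
  cases i with
  | true => exact sup_le le_normalizer (centralizer_le_normalizer _)
  | false => exact Subgroup.map_subtype_le _

theorem normalizer_le_normalizer_agK (p : ℕ) (i : Bool) (T : Subgroup G) :
    normalizer (T : Set G) ≤ normalizer ((agK p i T : Subgroup G) : Set G) := by
  cases i with
  | true => exact le_normalizer_sup_of_le le_rfl (le_normalizer_centralizer_of_le le_rfl)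
  | false => exact le_normalizer_map_subtype_of_normal _

section fin

variable [Finite G] {p : ℕ} [hp : Fact p.Prime]

/-- `O_{p'}(N_G(T))` centralizes the `p`-group `T`. -/
theorem pPrimeCore_normalizer_le_centralizer {T : Subgroup G} (hT : IsPGroup p ↥T) :
    (pPrimeCore p ↥(normalizer (T : Set G))).map (normalizer (T : Set G)).subtype ≤
      centralizer (T : Set G) := by
  rintro _ ⟨w, hw, rfl⟩
  rw [mem_centralizer_iff]
  intro t ht
  have htN : t ∈ normalizer (T : Set G) := le_normalizer ht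
  -- the commutator lies in `W ⊓ T = 1`
  have hWn : (pPrimeCore p ↥(normalizer (T : Set G))).Normal := inferInstance
  have h1 : (w : G) * t * (w : G)⁻¹ * t⁻¹ ∈ T :=
    mul_mem ((mem_normalizer_iff.1 w.2 t).1 ht) (inv_mem ht)
  have h2 : w * (⟨t, htN⟩ * w⁻¹ * ⟨t, htN⟩⁻¹) ∈ pPrimeCore p ↥(normalizer (T : Set G)) :=
    mul_mem hw (hWn.conj_mem _ (inv_mem hw) _)
  have hcop : (Nat.card ↥((pPrimeCore p ↥(normalizer (T : Set G))).map
      (normalizer (T : Set G)).subtype)).Coprime (Nat.card ↥T) := by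
    obtain ⟨k, hk⟩ := IsPGroup.iff_card.mp hT
    rw [hk, Nat.card_congr ((pPrimeCore p ↥(normalizer (T : Set G))).equivMapOfInjective _
      (subtype_injective _)).toEquiv.symm]
    exact Nat.Coprime.pow_right k (Cfsg.Agent.Helper19.pPrimeCore_coprime p)
  have hdisj := (Subgroup.disjoint_of_coprime_natCard hcop).eq_bot
  have h3 : (w : G) * t * (w : G)⁻¹ * t⁻¹ ∈ (pPrimeCore p ↥(normalizer (T : Set G))).map
      (normalizer (T : Set G)).subtype ⊓ T := by
    refine ⟨⟨_, h2, ?_⟩, h1⟩
    simp [mul_assoc]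
  rw [hdisj, mem_bot] at h3
  calc t * (w : G) = ((w : G) * t * (w : G)⁻¹ * t⁻¹)⁻¹ * ((w : G) * t) := by group
    _ = (w : G) * t := by rw [h3]; group

theorem agK_pow_mem (i : Bool) {T : Subgroup G} (hT : IsPGroup p ↥T) :
    ∀ k ∈ agK p i T, ∃ j : ℕ, k ^ (p ^ j) ∈ centralizer (T : Set G) := by
  cases i with
  | true =>
    intro k hk
    have hk' : k ∈ ((T : Subgroup G) : Set G) * ((centralizer (T : Set G) : Subgroup G) : Set G) := by
      rw [← coe_mul_of_left_le_normalizer_right T (centralizer (T : Set G))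
        (le_normalizer_centralizer_of_le le_normalizer)]
      exact hk
    obtain ⟨t, ht, c, hc, rfl⟩ := Set.mem_mul.1 hk'
    obtain ⟨j, hj⟩ := IsPGroup.iff_card.mp hT
    refine ⟨j, ?_⟩
    have hcomm : Commute t c := (mem_centralizer_iff.1 hc t ht)
    rw [hcomm.mul_pow]
    have ht1 : t ^ p ^ j = 1 := by
      have := pow_card_eq_one' (G := ↥T) (x := ⟨t, ht⟩)
      rw [hj] at this
      have h2 := congrArg Subtype.val this
      simpa using h2
    rw [ht1, one_mul]
    exact pow_mem hc _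
  | false =>
    rintro _ ⟨k, hk, rfl⟩
    obtain ⟨j, hj⟩ := Cfsg.Agent.Helper7.exists_pow_mem_pPrimeCore_of_mem_pPrimePCore hk
    refine ⟨j, ?_⟩
    apply pPrimeCore_normalizer_le_centralizer hT
    exact ⟨_, hj, by simp⟩

/-- `P ⊓ K` is a Sylow subgroup of `K` when `K ⊴ N_G(D)` and `D` is extremal. -/
theorem not_dvd_relIndex_inf_of_isExt {P D K : Subgroup G} (hext : IsExt p P D)
    (hKN : K ≤ normalizer (D : Set G))
    (hNK : normalizer (D : Set G) ≤ normalizer (K : Set G)) : ¬ p ∣ (P ⊓ K).relIndex K := by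
  have hRK : P ⊓ normalizer (D : Set G) ⊓ K = P ⊓ K := by
    rw [inf_assoc, inf_of_le_right hKN]
  have h1 := Cfsg.Agent.Lead.relIndex_sup_of_le_normalizer (P ⊓ normalizer (D : Set G)) K
    (inf_le_right.trans hNK)
  have h2 : (P ⊓ normalizer (D : Set G)).relIndex (P ⊓ normalizer (D : Set G) ⊔ K) ∣
      (P ⊓ normalizer (D : Set G)).relIndex (normalizer (D : Set G)) := by
    rw [← relIndex_mul_relIndex (P ⊓ normalizer (D : Set G)) (P ⊓ normalizer (D : Set G) ⊔ K)
      (normalizer (D : Set G)) le_sup_left (sup_le inf_le_right hKN)]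
    exact dvd_mul_right _ _
  rw [h1, ← inf_relIndex_right, hRK] at h2
  intro h3
  exact hext (h3.trans h2)

variable (P : Sylow p G) {T : Subgroup G}

theorem agFam_isExt (hT : T ∈ agFam p P (agK p)) : IsExt p (P : Subgroup G) T := by
  obtain ⟨⟨Q, -, h1, -⟩, -⟩ := hT
  exact h1

theorem agFam_le (hT : T ∈ agFam p P (agK p)) : T ≤ (P : Subgroup G) := tameFam_le hT.1

/-- a `p`-subgroup `T` lies in `O_{p',p}(N_G(T))` -/
theorem le_map_pPrimePCore_normalizer (hTp : IsPGroup p ↥T) :
    T ≤ (pPrimePCore p ↥(normalizer (T : Set G))).map (normalizer (T : Set G)).subtype := by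
  intro t ht
  rw [Subgroup.mem_map]
  refine ⟨⟨t, le_normalizer ht⟩, ?_, rfl⟩
  unfold pPrimePCore
  rw [mem_comap]
  have hn : ((T.subgroupOf (normalizer (T : Set G))).map
      (QuotientGroup.mk' (pPrimeCore p ↥(normalizer (T : Set G))))).Normal :=
    Subgroup.Normal.map normal_in_normalizer _ (QuotientGroup.mk'_surjective _)
  have hpg : IsPGroup p ↥((T.subgroupOf (normalizer (T : Set G))).map
      (QuotientGroup.mk' (pPrimeCore p ↥(normalizer (T : Set G))))) :=
    (hTp.comap_subtype).map _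
  have hle : (T.subgroupOf (normalizer (T : Set G))).map
      (QuotientGroup.mk' (pPrimeCore p ↥(normalizer (T : Set G)))) ≤
      pCore p (↥(normalizer (T : Set G)) ⧸ pPrimeCore p ↥(normalizer (T : Set G))) :=
    le_sSup ⟨hn, hpg⟩
  apply hle
  exact ⟨⟨t, le_normalizer ht⟩, (mem_subgroupOf.2 ht : _ ∈ T.subgroupOf _), rfl⟩

theorem map_pPrimeCore_inf_eq_bot (hTp : IsPGroup p ↥T) :
    (pPrimeCore p ↥(normalizer (T : Set G))).map (normalizer (T : Set G)).subtype ⊓ T = ⊥ := by
  have hcop : (Nat.card ↥((pPrimeCore p ↥(normalizer (T : Set G))).map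
      (normalizer (T : Set G)).subtype)).Coprime (Nat.card ↥T) := by
    obtain ⟨k, hk⟩ := IsPGroup.iff_card.mp hTp
    rw [hk, Nat.card_congr ((pPrimeCore p ↥(normalizer (T : Set G))).equivMapOfInjective _
      (subtype_injective _)).toEquiv.symm]
    exact Nat.Coprime.pow_right k (Cfsg.Agent.Helper19.pPrimeCore_coprime p)
  exact (Subgroup.disjoint_of_coprime_natCard hcop).eq_bot

theorem agFam_sup_eq (hT : T ∈ agFam p P (agK p)) :
    (pPrimeCore p ↥(normalizer (T : Set G))).map (normalizer (T : Set G)).subtype ⊔ T =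
      (pPrimePCore p ↥(normalizer (T : Set G))).map (normalizer (T : Set G)).subtype := by
  have hTP := agFam_le P hT
  have hTp : IsPGroup p ↥T := P.2.to_le hTP
  have hext := agFam_isExt P hT
  apply le_antisymm
  · exact sup_le (Subgroup.map_mono (pPrimeCore_le_pPrimePCore p))
      (le_map_pPrimePCore_normalizer hTp)
  · rintro _ ⟨v, hv, rfl⟩
    have hRp : IsPGroup p ↥(((P : Subgroup G) ⊓ normalizer (T : Set G)).subgroupOf
        (normalizer (T : Set G))) := (P.2.to_le inf_le_left).comap_subtype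
    obtain ⟨R, hR⟩ : ∃ R : Sylow p ↥(normalizer (T : Set G)), (R : Subgroup ↥(normalizer (T : Set G))) =
        ((P : Subgroup G) ⊓ normalizer (T : Set G)).subgroupOf (normalizer (T : Set G)) :=
      ⟨hRp.toSylow hext, rfl⟩
    obtain ⟨s, hs, k, hk, hvsk⟩ := exists_mul_of_mem_pPrimePCore R hv
    rw [hR, mem_subgroupOf] at hs
    have hsV : s ∈ pPrimePCore p ↥(normalizer (T : Set G)) := by
      have : s = v * k⁻¹ := by rw [hvsk]; group
      rw [this]
      exact mul_mem hv (inv_mem (pPrimeCore_le_pPrimePCore p hk))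
    have hsT : (s : G) ∈ T := hT.2 false ⟨hs.1, ⟨s, hsV, rfl⟩⟩
    rw [hvsk]
    have : ((normalizer (T : Set G)).subtype (s * k)) = (s : G) * (k : G) := rfl
    rw [this]
    exact mul_mem (le_sup_right (a := (pPrimeCore p ↥(normalizer (T : Set G))).map
      (normalizer (T : Set G)).subtype) hsT) (le_sup_left (b := T) ⟨k, hk, rfl⟩)

theorem agFam_internal (hT : T ∈ agFam p P (agK p)) :
    Cfsg.IsInternalDirectProduct
      ((pPrimeCore p ↥(normalizer (T : Set G))).map (normalizer (T : Set G)).subtype) T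
      ((pPrimePCore p ↥(normalizer (T : Set G))).map (normalizer (T : Set G)).subtype) := by
  have hTP := agFam_le P hT
  have hTp : IsPGroup p ↥T := P.2.to_le hTP
  refine ⟨Subgroup.map_mono (pPrimeCore_le_pPrimePCore p), le_map_pPrimePCore_normalizer hTp, ?_,
    map_pPrimeCore_inf_eq_bot hTp, agFam_sup_eq P hT⟩
  intro a ha b hb
  exact (mem_centralizer_iff.1 (pPrimeCore_normalizer_le_centralizer hTp ha) b hb).symm

theorem agFam_centralizer_le (hT : T ∈ agFam p P (agK p)) :
    centralizer (T : Set G) ≤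
      (pPrimePCore p ↥(normalizer (T : Set G))).map (normalizer (T : Set G)).subtype := by
  have hTP := agFam_le P hT
  have hTp : IsPGroup p ↥T := P.2.to_le hTP
  have hext := agFam_isExt P hT
  obtain ⟨C, hC⟩ : ∃ C : Subgroup G, C = centralizer (T : Set G) := ⟨_, rfl⟩
  rw [← hC]
  have hCN : C ≤ normalizer (T : Set G) := hC ▸ centralizer_le_normalizer _
  have hNC : normalizer (T : Set G) ≤ normalizer (C : Set G) :=
    hC ▸ le_normalizer_centralizer_of_le le_rfl
  have hPC : (P : Subgroup G) ⊓ C ≤ T := by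
    refine le_trans (inf_le_inf_left _ ?_) (hT.2 true)
    rw [hC]; exact le_sup_right
  have hsyl : ¬ p ∣ ((P : Subgroup G) ⊓ C).relIndex C :=
    not_dvd_relIndex_inf_of_isExt hext hCN hNC
  have hZp : IsPGroup p ↥(((P : Subgroup G) ⊓ C).subgroupOf C) :=
    (P.2.to_le inf_le_left).comap_subtype
  obtain ⟨Z, hZ⟩ : ∃ Z : Sylow p ↥C, (Z : Subgroup ↥C) = ((P : Subgroup G) ⊓ C).subgroupOf C :=
    ⟨hZp.toSylow hsyl, rfl⟩
  have hcent : normalizer ((Z : Subgroup ↥C) : Set ↥C) ≤ centralizer ((Z : Subgroup ↥C) : Set ↥C) := by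
    intro c _
    rw [mem_centralizer_iff]
    intro z hz
    rw [SetLike.mem_coe, hZ, mem_subgroupOf] at hz
    have hzT : (z : G) ∈ T := hPC hz
    have hc : (c : G) ∈ centralizer (T : Set G) := hC ▸ c.2
    apply Subtype.ext
    exact mem_centralizer_iff.1 hc _ hzT
  have hcompl := MonoidHom.ker_transferSylow_isComplement' Z hcent
  obtain ⟨Kt, hKt⟩ : ∃ Kt : Subgroup ↥C, Kt = (MonoidHom.transferSylow Z hcent).ker := ⟨_, rfl⟩
  rw [← hKt] at hcompl
  have hKtn : Kt.Normal := by rw [hKt]; infer_instance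
  have hmemK : ∀ x : ↥C, x ∈ Kt ↔ (orderOf x).Coprime p :=
    fun x => Cfsg.Agent.S0086.result Z Kt hcompl x
  -- `Y = Kt` seen in `N_G(T)` is a normal `p'`-subgroup
  have hYle : Kt.map C.subtype ≤ normalizer (T : Set G) := (Subgroup.map_subtype_le _).trans hCN
  have hYn : ((Kt.map C.subtype).subgroupOf (normalizer (T : Set G))).Normal := by
    constructor
    intro y hy n
    rw [mem_subgroupOf] at hy ⊢
    obtain ⟨k, hk, hky⟩ := hy
    have hmem : (n : G) * (k : G) * (n : G)⁻¹ ∈ C := by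
      have := (mem_normalizer_iff.1 (hNC n.2) (k : G)).1 k.2
      exact this
    refine ⟨⟨_, hmem⟩, ?_, ?_⟩
    · apply (hmemK _).2
      have h1 := (hmemK k).1 hk
      have hsc : SemiconjBy (n : G) (k : G) ((n : G) * (k : G) * (n : G)⁻¹) := by
        unfold SemiconjBy; group
      rw [← Subgroup.orderOf_coe] at h1 ⊢
      rw [← hsc.orderOf_eq]
      exact h1
    · have : C.subtype k = (y : G) := hky
      simp only [Subgroup.coe_mul, Subgroup.coe_inv]
      rw [← this]; rfl
  have hYcop : (Nat.card ↥((Kt.map C.subtype).subgroupOf (normalizer (T : Set G)))).Coprime p := by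
    rw [Nat.card_congr (Subgroup.subgroupOfEquivOfLe hYle).toEquiv,
      Nat.card_congr (Kt.equivMapOfInjective _ (subtype_injective _)).toEquiv.symm,
      ← hcompl.index_eq_card, Nat.coprime_comm, hp.out.coprime_iff_not_dvd]
    exact Z.not_dvd_index
  have hYW := le_pPrimeCore hYn hYcop
  -- decompose
  intro c hc
  obtain ⟨⟨k, z⟩, hkz⟩ := hcompl.2 ⟨c, hc⟩
  have hkz' : (k : ↥C) * (z : ↥C) = ⟨c, hc⟩ := hkz
  have hc' : c = ((k : ↥C) : G) * ((z : ↥C) : G) := by
    have := congrArg Subtype.val hkz'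
    exact this.symm
  rw [hc']
  refine mul_mem ?_ ?_
  · apply Subgroup.map_mono (pPrimeCore_le_pPrimePCore p)
    have hkN : ((k : ↥C) : G) ∈ normalizer (T : Set G) := hCN (k : ↥C).2
    refine ⟨⟨_, hkN⟩, hYW ?_, rfl⟩
    rw [mem_subgroupOf]
    exact ⟨k, k.2, rfl⟩
  · apply le_map_pPrimePCore_normalizer hTp
    apply hPC
    have hz : (z : ↥C) ∈ (Z : Subgroup ↥C) := z.2
    have hz' : (z : ↥C) ∈ ((P : Subgroup G) ⊓ C).subgroupOf C := hZ ▸ hz
    exact mem_subgroupOf.1 hz'

theorem self_mem_agFam {ι : Type*} (K : ι → Subgroup G → Subgroup G) :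
    (P : Subgroup G) ∈ agFam p P K :=
  ⟨self_mem_tameFam P, fun _ => inf_le_left⟩

/-- The Alperin–Goldschmidt conjugation theorem (family form, at least one step). -/
theorem alperin_goldschmidt (A : Set G) (hA : A ⊆ ((P : Subgroup G) : Set G)) (g : G)
    (hAg : (fun a => g⁻¹ * a * g) '' A ⊆ ((P : Subgroup G) : Set G)) :
    ∃ (n : ℕ) (D : Fin n → Subgroup G) (x : Fin n → G) (c : G), 0 < n ∧
      (∀ i, D i ∈ agFam p P (agK p)) ∧
      (∀ i, x i ∈ normalizer ((D i : Subgroup G) : Set G)) ∧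
      (∀ h : 0 < n, A ⊆ ((D ⟨0, h⟩ : Subgroup G) : Set G)) ∧
      (∀ (j : Fin n) (h : j.val + 1 < n),
        (fun a => (((List.ofFn x).take (j.val + 1)).prod)⁻¹ * a *
          ((List.ofFn x).take (j.val + 1)).prod) '' A ⊆ ((D ⟨j.val + 1, h⟩ : Subgroup G) : Set G)) ∧
      c ∈ centralizer A ∧ g = c * (List.ofFn x).prod := by
  have hAg' : rc g A ⊆ ((P : Subgroup G) : Set G) := hAg
  obtain ⟨c, hc, l, hl, hg⟩ := ag_set P (agK p)
    (fun i T _ => agK_le p i T) (fun i T _ => normalizer_le_normalizer_agK p i T)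
    (fun i T hT => agK_pow_mem i (P.2.to_le (tameFam_le hT))) A g hA hAg'
  have hrc : rc (lprod l) A ⊆ ((P : Subgroup G) : Set G) := by
    have : rc g A = rc (lprod l) A := by
      rw [hg, rc_mul, rc_of_mem_centralizer hc]
    rw [← this]; exact hAg'
  have hl' : Dec (agFam p P (agK p)) A (l ++ [((P : Subgroup G), (1 : G))]) := by
    apply Dec.append hl
    exact ⟨self_mem_agFam P _, one_mem _, hrc, trivial⟩
  obtain ⟨h1, h2, h3⟩ := Dec.aux hl'
  have hx : List.ofFn (fun i : Fin (l ++ [((P : Subgroup G), (1 : G))]).length =>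
      ((l ++ [((P : Subgroup G), (1 : G))])[(i : ℕ)]).2) =
      (l ++ [((P : Subgroup G), (1 : G))]).map Prod.snd :=
    List.ofFn_getElem_eq_map _ Prod.snd
  refine ⟨(l ++ [((P : Subgroup G), (1 : G))]).length,
    fun i => ((l ++ [((P : Subgroup G), (1 : G))])[(i : ℕ)]).1,
    fun i => ((l ++ [((P : Subgroup G), (1 : G))])[(i : ℕ)]).2, c, by simp, ?_, ?_, ?_, ?_, hc, ?_⟩
  · intro i; exact (h1 i i.2).1
  · intro i; exact (h1 i i.2).2
  · intro h; exact h2 h
  · intro i h
    rw [hx]
    exact h3 i h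
  · rw [hx]
    have : ((l ++ [((P : Subgroup G), (1 : G))]).map Prod.snd).prod =
        lprod (l ++ [((P : Subgroup G), (1 : G))]) := rfl
    rw [this, lprod_append, lprod_cons, lprod_nil, mul_one, mul_one]
    exact hg

end fin

end Cfsg.Agent.Helper10
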