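import Mathlib
import Cfsg.Prelude.Def_OddOrderLocal
import Cfsg.Agent.Lead.PiHall
import Cfsg.Agent.Helper9.BG12b
import Cfsg.Agent.Helper17.Basic
import Cfsg.Agent.Helper10.BG10A
import Cfsg.Agent.Helper14.Conj
import Cfsg.Agent.Helper14.SylowIn
import Cfsg.Agent.Helper21.BG10b
import Cfsg.Agent.Helper9.BG12c
import Cfsg.Agent.S1451

set_option autoImplicit false
set_option linter.unusedSectionVars false
set_option linter.unusedVariables false
set_option linter.style.haveILetI false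

/-! # B&G §16, Theorem A clauses (S1352, S1353, S1354), relative to the statements of S1350 and S1430 -/

namespace Cfsg.Agent.Helper10.BG16

open Subgroup Cfsg
open Cfsg.Agent.H9.BG12 (St1350 sigmaCore_le le_normalizer_sigmaCore exists_complIn_sigmaCore)
open Cfsg.Agent.Helper14 (cj mem_normalizer_iff_map_cj IsSylowIn isSylowIn_of_sylow exists_isSylowIn isSylowIn_iff
  map_subtype_subgroupOf)
open Cfsg.Agent.Helper21.BG10 (Uniq96 alpha_subset_sigma)
open Cfsg.Agent.Lead (relIndex_mul_card')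

universe u

/-- frozen statement S1430 (B&G Lemma 14.2 (a)-(c)) without the standing hypothesis -/
def St1430 (G : Type u) [Group G] : Prop :=
  ∀ (M : Subgroup G), IsCoatom M → ∀ (K : Subgroup G), Cfsg.IsPiHallOf (Cfsg.kappa M) K M → K ≠ ⊥ →
    (∀ k ∈ K, k ≠ 1 → Cfsg.sigmaCore M ⊓ Subgroup.centralizer ({k} : Set G) = (Cfsg.sigmaCore M ⊓ Subgroup.centralizer (K : Set G))) ∧
      (∃ U : Subgroup G, IsMulCommutative U ∧ Cfsg.IsPiHallOf {q | q.Prime ∧ q ∉ Cfsg.kappa M ∧ q ∉ Cfsg.sigma M} U M ∧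
        K ≤ Subgroup.normalizer (U : Set G) ∧ ∀ k ∈ K, k ≠ 1 → U ⊓ Subgroup.centralizer ({k} : Set G) = ⊥) ∧
      ∀ X : Subgroup G, X ≤ K → (Nat.card X).Prime →
        M ⊓ Subgroup.normalizer (X : Set G) = K ⊔ (Cfsg.sigmaCore M ⊓ Subgroup.centralizer (K : Set G)) ∧ M ⊓ Subgroup.normalizer (K : Set G) = K ⊔ (Cfsg.sigmaCore M ⊓ Subgroup.centralizer (K : Set G)) ∧
        ∀ Mstar : Subgroup G, IsCoatom Mstar → Subgroup.normalizer (X : Set G) ≤ Mstar → X ≤ Cfsg.sigmaCore Mstar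

variable {G : Type u} [Group G] [Finite G]

/-- a nonidentity element has a power generating a subgroup of prime order -/
theorem exists_prime_card_le_zpowers {k : G} (hk : k ≠ 1) :
    ∃ X : Subgroup G, X ≤ zpowers k ∧ (Nat.card X).Prime := by
  have ho : orderOf k ≠ 0 := (orderOf_pos k).ne'
  have ho1 : orderOf k ≠ 1 := fun h => hk (orderOf_eq_one_iff.mp h)
  set p := (orderOf k).minFac with hp
  have hpp : p.Prime := Nat.minFac_prime ho1
  have hpd : p ∣ orderOf k := Nat.minFac_dvd _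
  refine ⟨zpowers (k ^ (orderOf k / p)), ?_, ?_⟩
  · rw [zpowers_le]
    exact Subgroup.pow_mem _ (mem_zpowers k) _
  · rw [Nat.card_zpowers, orderOf_pow_orderOf_div ho hpd]
    exact hpp

/-- complement criterion by cardinality -/
theorem isComplIn_of_card {A B M : Subgroup G} (hA : A ≤ M) (hB : B ≤ M) (hdisj : A ⊓ B = ⊥)
    (hcard : Nat.card A * Nat.card B = Nat.card M) : Cfsg.IsComplIn A B M := by
  refine ⟨hA, hB, hdisj, ?_⟩
  have h1 : Nat.card (A.subgroupOf M) = Nat.card A := Cfsg.Agent.Helper17.card_subgroupOf_of_le hA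
  have h2 : Nat.card (B.subgroupOf M) = Nat.card B := Cfsg.Agent.Helper17.card_subgroupOf_of_le hB
  have hd : Disjoint (A.subgroupOf M) (B.subgroupOf M) := by
    rw [disjoint_iff, eq_bot_iff]
    rintro ⟨x, hx⟩ ⟨h1, h2⟩
    have hxx : x ∈ A ⊓ B := ⟨Subgroup.mem_subgroupOf.mp h1, Subgroup.mem_subgroupOf.mp h2⟩
    rw [hdisj, Subgroup.mem_bot] at hxx
    exact Subgroup.mem_bot.mpr (Subtype.ext hxx)
  have hc := Subgroup.isComplement'_of_card_mul_and_disjoint (by rw [h1, h2, hcard]) hd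
  intro m hm
  obtain ⟨⟨a, b⟩, hab, -⟩ := hc.existsUnique (⟨m, hm⟩ : ↥M)
  refine ⟨((a : ↥M) : G), Subgroup.mem_subgroupOf.mp a.2, ((b : ↥M) : G), Subgroup.mem_subgroupOf.mp b.2, ?_⟩
  have := congrArg (fun x : ↥M => (x : G)) hab
  simpa using this.symm

/-- if `g` normalizes `A` and `B` then it normalizes `A ⊔ B` -/
theorem mem_normalizer_sup {A B : Subgroup G} {g : G} (hA : g ∈ normalizer (A : Set G))
    (hB : g ∈ normalizer (B : Set G)) : g ∈ normalizer ((A ⊔ B : Subgroup G) : Set G) := by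
  rw [mem_normalizer_iff_map_cj] at hA hB ⊢
  rw [Subgroup.map_sup, hA, hB]

/-- orders of three Hall subgroups for pairwise disjoint sets of primes covering `π(M)` multiply to `|M|` -/
theorem card_hall3 {M A B C : Subgroup G} {πA πB πC : Set ℕ}
    (hA : Cfsg.IsPiHallOf πA A M) (hB : Cfsg.IsPiHallOf πB B M) (hC : Cfsg.IsPiHallOf πC C M)
    (hAB : ∀ p, p ∈ πA → p ∉ πB) (hAC : ∀ p, p ∈ πA → p ∉ πC) (hBC : ∀ p, p ∈ πB → p ∉ πC)
    (hcover : ∀ p : ℕ, p.Prime → p ∣ Nat.card M → p ∈ πA ∨ p ∈ πB ∨ p ∈ πC) :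
    Nat.card A * Nat.card B * Nat.card C = Nat.card M := by
  obtain ⟨hAM, hA1, hA2⟩ := hA
  obtain ⟨hBM, hB1, hB2⟩ := hB
  obtain ⟨hCM, hC1, hC2⟩ := hC
  have hab : (Nat.card A).Coprime (Nat.card B) :=
    Nat.coprime_of_dvd fun p hp h1 h2 => hAB p (hA1 p hp h1) (hB1 p hp h2)
  have hac : (Nat.card A).Coprime (Nat.card C) :=
    Nat.coprime_of_dvd fun p hp h1 h2 => hAC p (hA1 p hp h1) (hC1 p hp h2)
  have hbc : (Nat.card B).Coprime (Nat.card C) :=
    Nat.coprime_of_dvd fun p hp h1 h2 => hBC p (hB1 p hp h1) (hC1 p hp h2)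
  have hdA := Subgroup.card_dvd_of_le hAM
  have hdB := Subgroup.card_dvd_of_le hBM
  have hdC := Subgroup.card_dvd_of_le hCM
  have hdAB : Nat.card A * Nat.card B ∣ Nat.card M := hab.mul_dvd_of_dvd_of_dvd hdA hdB
  have hdABC : Nat.card A * Nat.card B * Nat.card C ∣ Nat.card M :=
    (Nat.Coprime.mul_left hac hbc).mul_dvd_of_dvd_of_dvd hdAB hdC
  obtain ⟨d, hd⟩ := hdABC
  have ha0 : 0 < Nat.card A := Nat.card_pos
  have hb0 : 0 < Nat.card B := Nat.card_pos
  have hc0 : 0 < Nat.card C := Nat.card_pos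
  have hrA : A.relIndex M = Nat.card B * Nat.card C * d := by
    have h := relIndex_mul_card' hAM
    rw [hd] at h
    apply Nat.eq_of_mul_eq_mul_right ha0
    rw [h]; ring
  have hrB : B.relIndex M = Nat.card A * Nat.card C * d := by
    have h := relIndex_mul_card' hBM
    rw [hd] at h
    apply Nat.eq_of_mul_eq_mul_right hb0
    rw [h]; ring
  have hrC : C.relIndex M = Nat.card A * Nat.card B * d := by
    have h := relIndex_mul_card' hCM
    rw [hd] at h
    apply Nat.eq_of_mul_eq_mul_right hc0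
    rw [h]; ring
  have hd1 : d = 1 := by
    by_contra hne
    obtain ⟨p, hp, hpd⟩ := Nat.exists_prime_and_dvd hne
    have hpM : p ∣ Nat.card M := by rw [hd]; exact Dvd.dvd.mul_left hpd _
    rcases hcover p hp hpM with h | h | h
    · exact hA2 p hp h (by rw [hrA]; exact Dvd.dvd.mul_left hpd _)
    · exact hB2 p hp h (by rw [hrB]; exact Dvd.dvd.mul_left hpd _)
    · exact hC2 p hp h (by rw [hrC]; exact Dvd.dvd.mul_left hpd _)
  rw [hd, hd1, mul_one]

/-- **S1353** relative to S1430. -/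
theorem s1353_of (h1430 : St1430 G) {M K U : Subgroup G} (hM : IsCoatom M)
    (hKU : Cfsg.IsSigmaDecomposition M K U) :
    ∀ k ∈ K, k ≠ 1 → U ⊓ Subgroup.centralizer ({k} : Set G) = ⊥ := by
  intro k hk hk1
  have hK1 : K ≠ ⊥ := by
    intro h; rw [h, Subgroup.mem_bot] at hk; exact hk1 hk
  obtain ⟨-, -, h3⟩ := h1430 M hM K hKU.hall hK1
  obtain ⟨X, hXk, hXp⟩ := exists_prime_card_le_zpowers hk1
  have hXK : X ≤ K := hXk.trans ((zpowers_le).mpr hk)
  obtain ⟨hNX, -, -⟩ := h3 X hXK hXp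
  rw [eq_bot_iff]
  intro x hx
  have hxU : x ∈ U := hx.1
  have hxM : x ∈ M := hKU.compl.1 hxU
  have hxC : x ∈ centralizer (X : Set G) := by
    have h1 : x ∈ centralizer ((zpowers k : Subgroup G) : Set G) := by
      rw [Cfsg.Agent.Helper10.BG10.centralizer_zpowers_eq]; exact hx.2
    exact Subgroup.centralizer_le (by exact_mod_cast hXk) h1
  have hxN : x ∈ M ⊓ normalizer (X : Set G) := ⟨hxM, Subgroup.centralizer_le_normalizer _ hxC⟩
  rw [hNX] at hxN
  have hle : K ⊔ (Cfsg.sigmaCore M ⊓ centralizer (K : Set G)) ≤ K ⊔ Cfsg.sigmaCore M :=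
    sup_le_sup_left inf_le_left K
  have h2 : x ∈ U ⊓ (K ⊔ Cfsg.sigmaCore M) := ⟨hxU, hle hxN⟩
  rw [hKU.compl.2.2.1] at h2
  exact h2

/-- **S1354**, second clause, relative to S1430. -/
theorem s1354b_of (h1430 : St1430 G) {M K : Subgroup G} (hM : IsCoatom M)
    (hKc : IsCyclic K) (hK : Cfsg.IsPiHallOf (Cfsg.kappa M) K M) (hK1 : K ≠ ⊥) :
    ∀ k ∈ K, k ≠ 1 →
      M ⊓ Subgroup.centralizer ({k} : Set G) = K ⊔ (Cfsg.sigmaCore M ⊓ Subgroup.centralizer (K : Set G)) := by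
  intro k hk hk1
  obtain ⟨-, -, h3⟩ := h1430 M hM K hK hK1
  obtain ⟨X, hXk, hXp⟩ := exists_prime_card_le_zpowers hk1
  have hXK : X ≤ K := hXk.trans ((zpowers_le).mpr hk)
  obtain ⟨hNX, -, -⟩ := h3 X hXK hXp
  apply le_antisymm
  · intro x hx
    have hxC : x ∈ centralizer (X : Set G) := by
      have h1 : x ∈ centralizer ((zpowers k : Subgroup G) : Set G) := by
        rw [Cfsg.Agent.Helper10.BG10.centralizer_zpowers_eq]; exact hx.2
      exact Subgroup.centralizer_le (by exact_mod_cast hXk) h1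
    have hxN : x ∈ M ⊓ normalizer (X : Set G) := ⟨hx.1, Subgroup.centralizer_le_normalizer _ hxC⟩
    rw [hNX] at hxN
    exact hxN
  · apply sup_le
    · intro a ha
      refine Subgroup.mem_inf.mpr ⟨hK.1 ha, ?_⟩
      rw [Subgroup.mem_centralizer_iff]
      intro y hy
      rw [Set.mem_singleton_iff] at hy
      subst hy
      letI := hKc
      letI : CommGroup K := IsCyclic.commGroup
      have := mul_comm (⟨y, hk⟩ : K) ⟨a, ha⟩
      exact congrArg Subtype.val this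
    · intro a ha
      refine Subgroup.mem_inf.mpr ⟨sigmaCore_le M ha.1, ?_⟩
      rw [Subgroup.mem_centralizer_iff]
      intro y hy
      rw [Set.mem_singleton_iff] at hy
      subst hy
      exact (Subgroup.mem_centralizer_iff.mp ha.2) y hk

theorem isSolvable_coatom (hG : Cfsg.IsMinSimpleOddOrder G) {M : Subgroup G} (hM : IsCoatom M) :
    Group.IsSolvable M := hG.2.2.2 M hM.1

/-- **S1352** relative to S1350 and S1430. -/
theorem s1352_of (h1350 : St1350 G) (h1430 : St1430 G) {M K : Subgroup G} (hM : IsCoatom M)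
    (hKc : IsCyclic K) (hK : Cfsg.IsPiHallOf (Cfsg.kappa M) K M) :
    (∃ U : Subgroup G, Cfsg.IsSigmaDecomposition M K U) ∧
      ∀ U : Subgroup G, Cfsg.IsSigmaDecomposition M K U →
        M ≤ Subgroup.normalizer ((U ⊔ Cfsg.sigmaCore M : Subgroup G) : Set G) := by
  constructor
  · by_cases hK1 : K = ⊥
    · obtain ⟨E, hE⟩ := exists_complIn_sigmaCore h1350 hM
      refine ⟨E, hKc, hK, ?_, ?_⟩
      · rw [hK1, bot_sup_eq]; exact hE
      · rw [hK1]; exact bot_le
    · obtain ⟨-, ⟨U, hUc, hUH, hKU, -⟩, -⟩ := h1430 M hM K hK hK1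
      have hσ := (h1350 M hM).1
      have hcard : Nat.card (Cfsg.sigmaCore M) * Nat.card K * Nat.card U = Nat.card M := by
        refine card_hall3 hσ hK hUH (fun p hp hk => hk.2.2.1 hp) (fun p hp h => h.2.2 hp)
          (fun p hp h => h.2.1 hp) ?_
        intro p hp hpM
        by_cases h1 : p ∈ Cfsg.sigma M
        · exact Or.inl h1
        · by_cases h2 : p ∈ Cfsg.kappa M
          · exact Or.inr (Or.inl h2)
          · exact Or.inr (Or.inr ⟨hp, h2, h1⟩)
      have hcopσK : (Nat.card (Cfsg.sigmaCore M)).Coprime (Nat.card K) :=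
        Nat.coprime_of_dvd fun p hp h1 h2 => (hK.2.1 p hp h2).2.2.1 (hσ.2.1 p hp h1)
      have hcopUσ : (Nat.card U).Coprime (Nat.card (Cfsg.sigmaCore M)) :=
        Nat.coprime_of_dvd fun p hp h1 h2 => (hUH.2.1 p hp h1).2.2 (hσ.2.1 p hp h2)
      have hcopUK : (Nat.card U).Coprime (Nat.card K) :=
        Nat.coprime_of_dvd fun p hp h1 h2 => (hUH.2.1 p hp h1).2.1 (hK.2.1 p hp h2)
      have hKn : K ≤ normalizer (Cfsg.sigmaCore M : Set G) := hK.1.trans (le_normalizer_sigmaCore M)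
      have hinf : Cfsg.sigmaCore M ⊓ K = ⊥ := (Subgroup.disjoint_of_coprime_natCard hcopσK).eq_bot
      have hsup := Cfsg.Agent.Helper17.card_sup_mul_card_inf (Cfsg.sigmaCore M) K hKn
      rw [hinf, Subgroup.card_bot, mul_one, sup_comm] at hsup
      have hdisj : U ⊓ (K ⊔ Cfsg.sigmaCore M) = ⊥ := by
        apply Disjoint.eq_bot
        apply Subgroup.disjoint_of_coprime_natCard
        rw [hsup]
        exact Nat.Coprime.mul_right hcopUσ hcopUK
      refine ⟨U, hKc, hK, ?_, hKU⟩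
      apply isComplIn_of_card hUH.1 (sup_le hK.1 (sigmaCore_le M)) hdisj
      rw [hsup, ← hcard]; ring
  · intro U hKU m hm
    obtain ⟨a, ha, b, hb, rfl⟩ := hKU.compl.2.2.2 m hm
    apply mul_mem
    · exact Subgroup.le_normalizer (le_sup_left (a := U) ha)
    · have hle : K ⊔ Cfsg.sigmaCore M ≤ normalizer ((U ⊔ Cfsg.sigmaCore M : Subgroup G) : Set G) := by
        apply sup_le
        · intro k hk
          exact mem_normalizer_sup (hKU.normal hk) (le_normalizer_sigmaCore M (hKU.hall.1 hk))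
        · exact le_sup_right.trans Subgroup.le_normalizer
      exact hle hb

/-- a Sylow subgroup of `K ≤ M` is Sylow in `M` when `p ∤ |M : K|` -/
theorem isSylowIn_of_not_dvd_relIndex' {p : ℕ} [Fact p.Prime] {U K M : Subgroup G}
    (hU : IsSylowIn p U K) (hKM : K ≤ M) (h : ¬ p ∣ K.relIndex M) : IsSylowIn p U M := by
  have hp : p.Prime := Fact.out
  have h1 : ¬ p ∣ U.relIndex K := by
    have := Sylow.not_dvd_index hU.toSylow
    exact this
  have h2 : ¬ p ∣ (U.subgroupOf M).index := by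
    show ¬ p ∣ U.relIndex M
    rw [← Subgroup.relIndex_mul_relIndex U K M hU.1 hKM]
    intro hd
    rcases (Nat.Prime.dvd_mul hp).1 hd with hd | hd
    · exact h1 hd
    · exact h hd
  have hUp : IsPGroup p ↥(U.subgroupOf M) := hU.2.1.comap_subtype
  have h3 := isSylowIn_of_sylow (hUp.toSylow h2)
  rw [IsPGroup.toSylow_coe, map_subtype_subgroupOf (hU.1.trans hKM)] at h3
  exact h3

/-- `K* = C_{M_σ}(K) ≠ 1` for a nontrivial Hall `κ(M)`-subgroup `K` -/
theorem kstar_ne_bot (h1430 : St1430 G) {M K : Subgroup G} (hM : IsCoatom M)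
    (hK : Cfsg.IsPiHallOf (Cfsg.kappa M) K M) (hK1 : K ≠ ⊥) :
    Cfsg.sigmaCore M ⊓ Subgroup.centralizer (K : Set G) ≠ ⊥ := by
  obtain ⟨h1, -, -⟩ := h1430 M hM K hK hK1
  have hc : Nat.card K ≠ 1 := fun h => hK1 (Subgroup.card_eq_one.mp h)
  obtain ⟨p, hp, hpK⟩ := Nat.exists_prime_and_dvd hc
  have hpκ : p ∈ Cfsg.kappa M := hK.2.1 p hp hpK
  haveI : Fact p.Prime := ⟨hp⟩
  obtain ⟨U, hU⟩ := exists_isSylowIn (p := p) K
  have hUM : IsSylowIn p U M := isSylowIn_of_not_dvd_relIndex' hU hK.1 (hK.2.2 p hp hpκ)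
  obtain ⟨P, hP⟩ := isSylowIn_iff.mp hUM
  obtain ⟨-, x, hxP, hx1, y, hy, hy1, hxy⟩ := hpκ.2.2.2 P
  have hxK : (x : G) ∈ K := hU.1 (by rw [← hP]; exact ⟨x, hxP, rfl⟩)
  have hx1' : (x : G) ≠ 1 := fun h => hx1 (Subtype.ext h)
  have h2 := h1 x hxK hx1'
  intro hbot
  have hy' : y ∈ Cfsg.sigmaCore M ⊓ centralizer ({(x : G)} : Set G) := by
    refine Subgroup.mem_inf.mpr ⟨hy, ?_⟩
    rw [Subgroup.mem_centralizer_iff]
    intro z hz
    rw [Set.mem_singleton_iff] at hz
    subst hz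
    exact hxy
  rw [h2, hbot, Subgroup.mem_bot] at hy'
  exact hy1 hy'

/-- `M_σ ≠ 1` -/
theorem sigmaCore_ne_bot (hG : Cfsg.IsMinSimpleOddOrder G) (h1350 : St1350 G) (h96 : Uniq96 G)
    {M : Subgroup G} (hM : IsCoatom M) : Cfsg.sigmaCore M ≠ ⊥ := by
  intro hbot
  have hσ := (h1350 M hM).1
  have hσe : ∀ p, p ∉ Cfsg.sigma M := by
    intro p hp
    have h := hσ.2.2 p hp.1 hp
    rw [hbot, Subgroup.relIndex_bot_left] at h
    exact h hp.2.1
  have hr : Cfsg.RankLE 2 ↥M := by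
    intro p hp
    by_contra h
    exact hσe p (alpha_subset_sigma hG h96 hM ⟨hp, h⟩)
  haveI : Group.IsSolvable M := isSolvable_coatom hG hM
  have hodd : Odd (Nat.card M) := by
    have h1 : Nat.card M ∣ Nat.card G := Subgroup.card_subgroup_dvd_card M
    exact Odd.of_dvd_nat hG.1 h1
  obtain ⟨-, -, h3⟩ := Cfsg.Agent.S1451.result (G := ↥M) hodd (Or.inl hr)
  have hM1 : M ≠ ⊥ := Cfsg.Agent.H9.BG12.coatom_ne_bot hG hM
  have hc : Nat.card M ≠ 1 := fun h => hM1 (Subgroup.card_eq_one.mp h)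
  have hne : (Nat.card M).primeFactors.Nonempty := by
    obtain ⟨p, hp, hpM⟩ := Nat.exists_prime_and_dvd hc
    exact ⟨p, Nat.mem_primeFactors.mpr ⟨hp, hpM, Nat.card_pos.ne'⟩⟩
  set q := (Nat.card M).primeFactors.max' hne with hq
  have hqmem := Finset.max'_mem _ hne
  rw [← hq, Nat.mem_primeFactors] at hqmem
  obtain ⟨hqp, hqM, -⟩ := hqmem
  have hqmax : ∀ r : ℕ, r.Prime → r ∣ Nat.card M → r ≤ q := by
    intro r hr hrM
    exact Finset.le_max' _ r (Nat.mem_primeFactors.mpr ⟨hr, hrM, Nat.card_pos.ne'⟩)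
  haveI : Fact q.Prime := ⟨hqp⟩
  obtain ⟨N, hNchar, hN1, hN2⟩ := h3 (q - 1)
  -- `N` is a normal Sylow `q`-subgroup of `M`
  have hq2 : 2 ≤ q := hqp.two_le
  have hNq : IsPGroup q N := by
    have hcard : Nat.card N = q ^ (Nat.card N).primeFactorsList.length := by
      apply Nat.eq_prime_pow_of_unique_prime_dvd Nat.card_pos.ne'
      intro d hd hdN
      have h1 : q - 1 < d := (hN1 d hd hdN).2
      have h2 : d ≤ q := hqmax d hd (hdN.trans (Subgroup.card_subgroup_dvd_card N))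
      omega
    exact IsPGroup.of_card hcard
  have hqi : ¬ q ∣ N.index := hN2 q hqp ⟨hqp, by omega⟩
  have hNbot : N ≠ ⊥ := by
    intro h
    have h1 : q ∣ Nat.card N * N.index := by rw [Subgroup.card_mul_index]; exact hqM
    rw [h, Subgroup.card_bot, one_mul] at h1
    rw [h] at hqi
    exact hqi h1
  haveI : N.Normal := Subgroup.normal_of_characteristic N
  set P : Subgroup G := N.map M.subtype with hP
  have hPM : P ≤ M := Cfsg.Agent.Helper14.map_subtype_le N
  have hP1 : P ≠ ⊥ := by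
    intro h
    exact hNbot ((Subgroup.map_eq_bot_iff_of_injective N M.subtype_injective).mp h)
  have hMN : M ≤ normalizer (P : Set G) := by
    apply Cfsg.Agent.Helper14.le_normalizer_of_map_cj_le
    rintro g hg _ ⟨_, ⟨y, hy, rfl⟩, rfl⟩
    refine ⟨⟨g, hg⟩ * y * ⟨g, hg⟩⁻¹, ?_, rfl⟩
    exact ‹N.Normal›.conj_mem y hy ⟨g, hg⟩
  have hS : IsSimpleGroup G := hG.2.1
  have hNtop : normalizer (P : Set G) ≠ ⊤ := by
    intro h
    have hn : P.Normal := Subgroup.normalizer_eq_top_iff.mp h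
    rcases hn.eq_bot_or_eq_top with h1 | h1
    · exact hP1 h1
    · exact hM.1 (top_le_iff.mp (h1 ▸ hPM))
  have hNM : normalizer (P : Set G) ≤ M := by
    by_contra hcon
    have hlt : M < normalizer (P : Set G) := lt_of_le_of_ne hMN (fun h => hcon (h ▸ le_refl _))
    exact hNtop (hM.2 _ hlt)
  refine hσe q ⟨hqp, hqM, hNq.toSylow hqi, ?_⟩
  rw [IsPGroup.toSylow_coe]
  exact hNM

/-- **S1354** relative to S1350, S1403 and S1430. -/
theorem s1354_of (hG : Cfsg.IsMinSimpleOddOrder G) (h1350 : St1350 G) (h96 : Uniq96 G)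
    (h1430 : St1430 G) {M K : Subgroup G} (hM : IsCoatom M)
    (hKc : IsCyclic K) (hK : Cfsg.IsPiHallOf (Cfsg.kappa M) K M) :
    Cfsg.sigmaCore M ⊓ Subgroup.centralizer (K : Set G) ≠ ⊥ ∧
      (K ≠ ⊥ → ∀ k ∈ K, k ≠ 1 →
        M ⊓ Subgroup.centralizer ({k} : Set G) = K ⊔ (Cfsg.sigmaCore M ⊓ Subgroup.centralizer (K : Set G))) := by
  refine ⟨?_, fun hK1 => s1354b_of h1430 hM hKc hK hK1⟩
  by_cases hK1 : K = ⊥
  · have h1 : centralizer ((K : Subgroup G) : Set G) = ⊤ := by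
      rw [hK1, Subgroup.coe_bot, Subgroup.centralizer_eq_top_iff_subset]
      intro x hx
      rw [Set.mem_singleton_iff] at hx
      rw [hx]
      exact one_mem _
    rw [h1, inf_top_eq]
    exact sigmaCore_ne_bot hG h1350 h96 hM
  · exact kstar_ne_bot h1430 hM hK hK1

end Cfsg.Agent.Helper10.BG16
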