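import Mathlib
import Cfsg.Prelude.Def_OddOrderLocal
import Cfsg.Agent.Helper10.BG16A
import Cfsg.Agent.Helper10.BG10C
import Cfsg.Agent.Helper29.NilpHall
import Cfsg.Agent.Lead.BG9d

set_option autoImplicit false
set_option linter.unusedSectionVars false
set_option linter.unusedVariables false
set_option linter.style.haveILetI false

/-! # B&G Theorem 15.5 / S1384: a nilpotent Hall subgroup controls its own fusion,
relative to the statements of S1350, S1430, S1431, S1432, S1438 -/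

namespace Cfsg.Agent.Helper10.BG16

open Subgroup Cfsg
open Cfsg.Agent.H9.BG12 (St1350 sigmaCore_le le_normalizer_sigmaCore)
open Cfsg.Agent.Helper14 (cj mem_normalizer_iff_map_cj IsSylowIn isSylowIn_of_sylow exists_isSylowIn
  isSylowIn_iff mem_map_cj)

universe u

/-- frozen statement S1431 (B&G Lemma 14.2 (d)-(f)) without the standing hypothesis -/
def St1431 (G : Type u) [Group G] : Prop :=
  ∀ (M : Subgroup G), IsCoatom M → ∀ (K : Subgroup G), Cfsg.IsPiHallOf (Cfsg.kappa M) K M → K ≠ ⊥ →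
    (∀ g : G, g ∉ M → (Cfsg.sigmaCore M ⊓ Subgroup.centralizer (K : Set G)) ⊓ M.map (MulAut.conj g).toMonoidHom = ⊥) ∧
      (∀ g ∈ M, g ∉ K ⊔ (Cfsg.sigmaCore M ⊓ Subgroup.centralizer (K : Set G)) → K ⊓ K.map (MulAut.conj g).toMonoidHom = ⊥) ∧
      (∀ (p : ℕ), p.Prime → p ∣ Nat.card ↥(Cfsg.sigmaCore M ⊓ Subgroup.centralizer (K : Set G)) → ∀ S : Sylow p ↥(Cfsg.sigmaCore M),
        Cfsg.InUniqueMaximal ((S : Subgroup ↥(Cfsg.sigmaCore M)).map (Cfsg.sigmaCore M).subtype) ∧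
        (S : Subgroup ↥(Cfsg.sigmaCore M)).map (Cfsg.sigmaCore M).subtype ≤ M ∧
        ¬ (S : Subgroup ↥(Cfsg.sigmaCore M)).map (Cfsg.sigmaCore M).subtype ≤ (Cfsg.sigmaCore M ⊓ Subgroup.centralizer (K : Set G))) ∧
      ∀ Y : Subgroup G, (∀ p : ℕ, p.Prime → p ∣ Nat.card Y → p ∈ Cfsg.sigma M) → Y ⊓ (Cfsg.sigmaCore M ⊓ Subgroup.centralizer (K : Set G)) ≠ ⊥ → Y ≤ Cfsg.sigmaCore M

/-- frozen statement S1432 without the standing hypothesis -/
def St1432 (G : Type u) [Group G] : Prop :=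
  ∀ (M : Subgroup G), IsCoatom M → ∀ (x : G), x ∈ Cfsg.sigmaCore M → x ≠ 1 →
    ∀ (x' : G), x' ∈ M ⊓ Subgroup.centralizer ({x} : Set G) → x' ≠ 1 →
    (∀ p : ℕ, p.Prime → p ∣ orderOf x' → p ∉ Cfsg.sigma M) →
    ((∀ p : ℕ, p.Prime → p ∣ orderOf x' → p ∈ Cfsg.kappa M) ∧ Subgroup.centralizer ({x} : Set G) ≤ M) ∨
      ((∀ p : ℕ, p.Prime → p ∣ orderOf x' → p ∈ Cfsg.tau2 M) ∧
        (∃ L : Subgroup G, IsCoatom L ∧ ∀ p : ℕ, p.Prime → p ∣ orderOf x' → p ∈ Cfsg.sigma L) ∧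
        (Subgroup.centralizer ({x'} : Set G) ≤ M ∧ ∀ L : Subgroup G, IsCoatom L → Subgroup.centralizer ({x'} : Set G) ≤ L → L = M))

/-- frozen statement S1438 (B&G 15.3, 15.4) without the standing hypothesis -/
def St1438 (G : Type u) [Group G] : Prop :=
  ∀ (M : Subgroup G), IsCoatom M → ∀ (H : Subgroup G), H ≤ Cfsg.sigmaCore M → H ≠ ⊥ →
    (Nat.card H).Coprime (H.relIndex (Cfsg.sigmaCore M)) →
    (∃ X : Subgroup G, IsCyclic X ∧ (∀ p : ℕ, p.Prime → p ∣ Nat.card X → p ∈ Cfsg.tau2 M) ∧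
        M ⊓ Subgroup.centralizer (H : Set G) = (Cfsg.sigmaCore M ⊓ Subgroup.centralizer (H : Set G)) ⊔ X) ∧
      ∀ x ∈ H, ∀ g : G, g * x * g⁻¹ ∈ H → ∃ n ∈ M ⊓ Subgroup.normalizer (H : Set G), n * x * n⁻¹ = g * x * g⁻¹

variable {G : Type u} [Group G] [Finite G]

/-- a `σ(M)`-subgroup of `M` lies in `M_σ` -/
theorem le_sigmaCore_of_pi (h1350 : St1350 G) {M Y : Subgroup G} (hM : IsCoatom M) (hYM : Y ≤ M)
    (hY : ∀ p : ℕ, p.Prime → p ∣ Nat.card Y → p ∈ Cfsg.sigma M) : Y ≤ Cfsg.sigmaCore M := by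
  obtain ⟨⟨hle, hπ, hidx⟩, -, -⟩ := h1350 M hM
  set N : Subgroup ↥M := Cfsg.piCore (Cfsg.sigma M) ↥M with hN
  have hrel : (Cfsg.sigmaCore M).relIndex M = N.index := by
    unfold Subgroup.relIndex Subgroup.subgroupOf Cfsg.sigmaCore
    rw [Subgroup.comap_map_eq_self_of_injective (Subgroup.subtype_injective M)]
  have hcard : Nat.card (Y.subgroupOf M) = Nat.card Y := Cfsg.Agent.Helper17.card_subgroupOf_of_le hYM
  have hcop : (Nat.card (Y.subgroupOf M)).Coprime N.index := by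
    rw [hcard]
    apply Nat.coprime_of_dvd
    intro k hk hk1 hk2
    exact hidx k hk (hY k hk hk1) (hrel ▸ hk2)
  have hsub : Y.subgroupOf M ≤ N := Cfsg.Agent.Helper10.BG10.le_of_coprime_card_index hcop
  intro y hy
  have h1 : (⟨y, hYM hy⟩ : ↥M) ∈ N := hsub (Subgroup.mem_subgroupOf.mpr hy)
  exact ⟨⟨y, hYM hy⟩, h1, rfl⟩

/-- the prime divisors of the order of a `p`-group -/
theorem prime_eq_of_dvd_card_pGroup {p : ℕ} [hp : Fact p.Prime] {P : Subgroup G} (hP : IsPGroup p P)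
    {r : ℕ} (hr : r.Prime) (h : r ∣ Nat.card P) : r = p := by
  obtain ⟨k, hk⟩ := IsPGroup.iff_card.mp hP
  rw [hk] at h
  exact (Nat.prime_dvd_prime_iff_eq hr hp.out).mp (hr.dvd_of_dvd_pow h)

/-- Sylow subgroups of a nilpotent Hall subgroup -/
theorem exists_sylow_of_nilpotent_hall {H : Subgroup G} (hHn : Group.IsNilpotent H)
    (hHall : (Nat.card H).Coprime H.index) {p : ℕ} [hp : Fact p.Prime] (hpH : p ∣ Nat.card H) :
    ∃ P : Sylow p G, (P : Subgroup G) ≤ H ∧ H ≤ normalizer ((P : Subgroup G) : Set G) ∧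
      (P : Subgroup G) ≠ ⊥ := by
  obtain ⟨P₀⟩ : Nonempty (Sylow p ↥H) := inferInstance
  obtain ⟨P, hP⟩ := Cfsg.Agent.Helper29.exists_sylow_eq_map_of_hall hHall hpH P₀
  haveI := hHn
  have hn : (P₀ : Subgroup ↥H).Normal := inferInstance
  refine ⟨P, ?_, ?_, ?_⟩
  · rw [hP]; exact Cfsg.Agent.Helper14.map_subtype_le _
  · rw [hP]
    apply Cfsg.Agent.Helper14.le_normalizer_of_map_cj_le
    rintro g hg _ ⟨_, ⟨y, hy, rfl⟩, rfl⟩
    refine ⟨⟨g, hg⟩ * y * ⟨g, hg⟩⁻¹, ?_, rfl⟩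
    exact hn.conj_mem y hy ⟨g, hg⟩
  · rw [hP]
    intro h
    have h1 := (Subgroup.map_eq_bot_iff_of_injective _ H.subtype_injective).mp h
    exact Sylow.ne_bot_of_dvd_card P₀ hpH h1

/-- **S1384** (B&G 15.5 + 15.4) relative to S1350, S1430, S1431, S1432, S1438. -/
theorem s1384_of (hG : Cfsg.IsMinSimpleOddOrder G) (h1350 : St1350 G) (h1430 : St1430 G)
    (h1431 : St1431 G) (h1432 : St1432 G) (h1438 : St1438 G)
    (H : Subgroup G) (hHn : Group.IsNilpotent H) (hHall : (Nat.card H).Coprime H.index) :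
    ∀ x ∈ H, ∀ g : G, g * x * g⁻¹ ∈ H →
      ∃ n ∈ Subgroup.normalizer (H : Set G), n * x * n⁻¹ = g * x * g⁻¹ := by
  intro x hx g hgx
  by_cases hH1 : H = ⊥
  · rw [hH1, Subgroup.mem_bot] at hx
    refine ⟨1, one_mem _, ?_⟩
    rw [hx]; simp
  have hS : IsSimpleGroup G := hG.2.1
  have hc : Nat.card H ≠ 1 := fun h => hH1 (Subgroup.card_eq_one.mp h)
  obtain ⟨p, hp, hpH⟩ := Nat.exists_prime_and_dvd hc
  haveI : Fact p.Prime := ⟨hp⟩
  obtain ⟨P, hPH, hHP, hP1⟩ := exists_sylow_of_nilpotent_hall hHn hHall hpH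
  have hPtop : (P : Subgroup G) ≠ ⊤ := Cfsg.Agent.Helper10.BG10.sylow_ne_top hG P
  obtain ⟨M, hM, hNM⟩ := Cfsg.Agent.Helper21.BG10.exists_coatom_normalizer_le hS hP1 hPtop
  have hHM : H ≤ M := hHP.trans hNM
  have hpσ : p ∈ Cfsg.sigma M := Cfsg.Agent.Helper10.BG10.mem_sigma_of_normalizer_le P hP1 hNM
  have hPσ : (P : Subgroup G) ≤ Cfsg.sigmaCore M := by
    apply le_sigmaCore_of_pi h1350 hM (hPH.trans hHM)
    intro r hr hrP
    rw [prime_eq_of_dvd_card_pGroup P.isPGroup' hr hrP]; exact hpσ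
  obtain ⟨⟨x₁, hx₁P⟩, hx₁1⟩ := (Subgroup.ne_bot_iff_exists_ne_one).mp hP1
  have hx₁1' : x₁ ≠ 1 := fun h => hx₁1 (Subtype.ext h)
  have key : ∀ q : ℕ, q.Prime → q ∣ Nat.card H → q ∈ Cfsg.sigma M := by
    intro q hq hqH
    by_contra hqσ
    haveI : Fact q.Prime := ⟨hq⟩
    have hqp : q ≠ p := fun h => hqσ (h ▸ hpσ)
    obtain ⟨Q, hQH, hHQ, hQ1⟩ := exists_sylow_of_nilpotent_hall hHn hHall hqH
    have hQM : (Q : Subgroup G) ≤ M := hQH.trans hHM
    have hcopQ : (Nat.card (Q : Subgroup G)).Coprime p := by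
      obtain ⟨k, hk⟩ := IsPGroup.iff_card.mp Q.isPGroup'
      rw [hk]
      exact Nat.Coprime.pow_left k ((Nat.coprime_primes hq hp).mpr hqp)
    have hcomm : ∀ a ∈ (P : Subgroup G), ∀ b ∈ (Q : Subgroup G), a * b = b * a :=
      Cfsg.Agent.Helper29.commute_of_le_nilpotent_of_coprime hHn hPH hQH P.isPGroup' hcopQ
    have hordQ : ∀ z ∈ (Q : Subgroup G), ∀ r : ℕ, r.Prime → r ∣ orderOf z → r = q := by
      intro z hz r hr hrz
      have h1 : orderOf z ∣ Nat.card (Q : Subgroup G) := by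
        have := orderOf_dvd_natCard (⟨z, hz⟩ : (Q : Subgroup G))
        rwa [Subgroup.orderOf_mk] at this
      exact prime_eq_of_dvd_card_pGroup Q.isPGroup' hr (hrz.trans h1)
    -- `q ∉ κ(M)`
    have hqκ : q ∉ Cfsg.kappa M := by
      intro hκ
      obtain ⟨⟨z, hzQ⟩, hz1⟩ := (Subgroup.ne_bot_iff_exists_ne_one).mp hQ1
      have hz1' : z ≠ 1 := fun h => hz1 (Subtype.ext h)
      have hzM : z ∈ M := hQM hzQ
      have hZκ : Cfsg.Agent.Lead.IsPiNum (Cfsg.kappa M) (Nat.card (zpowers z)) := by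
        intro r hr hrd
        rw [Nat.card_zpowers] at hrd
        rw [hordQ z hzQ r hr hrd]; exact hκ
      obtain ⟨K, hK, hZK⟩ := Cfsg.Agent.Lead.exists_isPiHallOf_ge (isSolvable_coatom hG hM)
        ((zpowers_le).mpr hzM) hZκ
      have hzK : z ∈ K := hZK (mem_zpowers z)
      have hK1 : K ≠ ⊥ := by
        intro h; rw [h, Subgroup.mem_bot] at hzK; exact hz1' hzK
      obtain ⟨h1, -, -⟩ := h1430 M hM K hK hK1
      have hPK : (P : Subgroup G) ≤ Cfsg.sigmaCore M ⊓ centralizer (K : Set G) := by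
        rw [← h1 z hzK hz1']
        intro y hy
        refine Subgroup.mem_inf.mpr ⟨hPσ hy, ?_⟩
        rw [Subgroup.mem_centralizer_iff]
        intro w hw
        rw [Set.mem_singleton_iff] at hw
        subst hw
        exact (hcomm y hy w hzQ).symm
      obtain ⟨-, -, h3, -⟩ := h1431 M hM K hK hK1
      have hpK : p ∣ Nat.card ↥(Cfsg.sigmaCore M ⊓ centralizer (K : Set G)) := by
        have h2 : p ∣ Nat.card (P : Subgroup G) := by
          obtain ⟨k, hk⟩ := IsPGroup.iff_card.mp P.isPGroup'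
          have hk0 : k ≠ 0 := by
            rintro rfl
            rw [pow_zero] at hk
            exact hP1 (Subgroup.card_eq_one.mp hk)
          rw [hk]; exact dvd_pow_self p hk0
        exact h2.trans (Subgroup.card_dvd_of_le hPK)
      have hSyl : IsSylowIn p (P : Subgroup G) (Cfsg.sigmaCore M) :=
        Cfsg.Agent.Helper29.isSylowIn_of_sylow_le P hPσ
      obtain ⟨S, hS⟩ := isSylowIn_iff.mp hSyl
      apply (h3 p hp hpK S).2.2
      rw [hS]; exact hPK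
    -- every nonidentity element of `Q` has its centralizer in `M` only
    have hA : ∀ z ∈ (Q : Subgroup G), z ≠ 1 →
        centralizer ({z} : Set G) ≤ M ∧
          ∀ L : Subgroup G, IsCoatom L → centralizer ({z} : Set G) ≤ L → L = M := by
      intro z hzQ hz1
      have hz : z ∈ M ⊓ centralizer ({x₁} : Set G) := by
        refine Subgroup.mem_inf.mpr ⟨hQM hzQ, ?_⟩
        rw [Subgroup.mem_centralizer_iff]
        intro w hw
        rw [Set.mem_singleton_iff] at hw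
        subst hw
        exact hcomm w hx₁P z hzQ
      have hσz : ∀ r : ℕ, r.Prime → r ∣ orderOf z → r ∉ Cfsg.sigma M := by
        intro r hr hrz; rw [hordQ z hzQ r hr hrz]; exact hqσ
      rcases h1432 M hM x₁ (hPσ hx₁P) hx₁1' z hz hz1 hσz with ⟨hκ, -⟩ | ⟨-, -, hres⟩
      · exfalso
        have ho : orderOf z ≠ 1 := fun h => hz1 (orderOf_eq_one_iff.mp h)
        obtain ⟨r, hr, hrz⟩ := Nat.exists_prime_and_dvd ho
        have h5 := hκ r hr hrz
        rw [hordQ z hzQ r hr hrz] at h5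
        exact hqκ h5
      · exact hres
    -- `N_G(Q) ≤ M`
    have hNQ : normalizer ((Q : Subgroup G) : Set G) ≤ M := by
      intro g hg
      obtain ⟨⟨z, hzQ⟩, hz1⟩ := (Subgroup.ne_bot_iff_exists_ne_one).mp hQ1
      have hz1' : z ≠ 1 := fun h => hz1 (Subtype.ext h)
      have hz'Q : g * z * g⁻¹ ∈ (Q : Subgroup G) := (Subgroup.mem_normalizer_iff.mp hg z).mp hzQ
      have hz'1 : g * z * g⁻¹ ≠ 1 := by
        intro h
        apply hz1'
        have e : z = g⁻¹ * (g * z * g⁻¹) * g := by group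
        rw [e, h]; group
      obtain ⟨hC, -⟩ := hA z hzQ hz1'
      obtain ⟨-, hU⟩ := hA _ hz'Q hz'1
      have hle : centralizer ({g * z * g⁻¹} : Set G) ≤ M.map (cj g) := by
        intro y hy
        rw [mem_map_cj]
        apply hC
        rw [Subgroup.mem_centralizer_iff]
        intro w hw
        rw [Set.mem_singleton_iff] at hw
        subst hw
        have h1 := (Subgroup.mem_centralizer_iff.mp hy) (g * w * g⁻¹) rfl
        have e1 : w * (g⁻¹ * y * g) = g⁻¹ * ((g * w * g⁻¹) * y) * g := by group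
        have e2 : (g⁻¹ * y * g) * w = g⁻¹ * (y * (g * w * g⁻¹)) * g := by group
        rw [e1, e2, h1]
      have hLM := hU _ (Cfsg.Agent.Lead.BG9.isCoatom_map_cj hM g) hle
      exact Cfsg.Agent.H9.BG12.mem_of_map_cj_eq hG hM hLM
    exact hqσ (Cfsg.Agent.Helper10.BG10.mem_sigma_of_normalizer_le Q hQ1 hNQ)
  have hHσ : H ≤ Cfsg.sigmaCore M := le_sigmaCore_of_pi h1350 hM hHM key
  have hcop : (Nat.card H).Coprime (H.relIndex (Cfsg.sigmaCore M)) := by
    apply Nat.Coprime.coprime_dvd_right _ hHall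
    exact Dvd.intro _ (Subgroup.relIndex_mul_index hHσ)
  obtain ⟨n, hn, hnx⟩ := (h1438 M hM H hHσ hH1 hcop).2 x hx g hgx
  exact ⟨n, hn.2, hnx⟩

end Cfsg.Agent.Helper10.BG16
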