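import Mathlib
import Cfsg.Prelude.Def_OddOrderLocal
import Cfsg.Agent.Helper10.BG16B
import Cfsg.Agent.Helper8.Cyclic
import Cfsg.Agent.Helper7.Layer
import Cfsg.Agent.Helper23.CNGroup
import Cfsg.Agent.Helper23.FittingHall
import Cfsg.Agent.Helper23.CNFrobenius
import Cfsg.Agent.Helper23.TypeP
import Cfsg.Agent.Helper4.BG10a
import Cfsg.Agent.Helper9.BG12e

set_option autoImplicit false
set_option linter.unusedSectionVars false
set_option linter.unusedVariables false
set_option linter.style.haveILetI false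

/-! # B&G Theorem I dictionary (S1381-S1383): generic lemmas -/

namespace Cfsg.Agent.Helper10.BG16

open Subgroup Cfsg
open Cfsg.Agent.H9.BG12 (St1350 sigmaCore_le le_normalizer_sigmaCore)
open Cfsg.Agent.Helper14 (cj mem_normalizer_iff_map_cj IsSylowIn isSylowIn_of_sylow exists_isSylowIn
  isSylowIn_iff mem_map_cj)

universe u

variable {G : Type u} [Group G] [Finite G]

/-- the derived subgroup of `M`, as a subgroup of `G` -/
theorem map_subtype_commutator_eq (M : Subgroup G) :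
    (commutator ↥M).map M.subtype = ⁅M, M⁆ := by
  rw [commutator_def, Subgroup.map_commutator, ← MonoidHom.range_eq_map, Subgroup.range_subtype]

/-- a subgroup of a cyclic subgroup is cyclic -/
theorem isCyclic_of_le_cyclic {A B : Subgroup G} (h : A ≤ B) (hB : IsCyclic B) : IsCyclic A := by
  haveI := hB
  have h1 : IsCyclic ↥(A.subgroupOf B) := inferInstance
  exact (Subgroup.subgroupOfEquivOfLe h).isCyclic.mp h1

/-- the normalizer of a nonempty subset of a TI-set `Z₀` of an abelian group `Z = N(Z₀)` -/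
theorem normalizer_eq_of_TI {Z : Subgroup G} {Z₀ X : Set G}
    (hZc : ∀ a ∈ Z, ∀ b ∈ Z, a * b = b * a) (hZ₀ : Z₀ ⊆ (Z : Set G)) (h1 : (1 : G) ∉ Z₀)
    (hTI : Cfsg.IsTISubset Z₀) (hN : Subgroup.normalizer Z₀ = Z)
    (hX : X ⊆ Z₀) (hXne : X.Nonempty) : Subgroup.normalizer X = Z := by
  apply le_antisymm
  · intro g hg
    rw [← hN]
    by_contra hcon
    obtain ⟨x, hx⟩ := hXne
    have h2 : g * x * g⁻¹ ∈ X := (Subgroup.mem_set_normalizer_iff.mp hg x).mp hx
    have h3 := hTI g hcon x (hX hx) (hX h2)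
    rw [h3] at hx
    exact h1 (hX hx)
  · intro g hg
    rw [Subgroup.mem_set_normalizer_iff]
    intro n
    constructor
    · intro hn
      have : g * n * g⁻¹ = n := by
        rw [hZc g hg n (hZ₀ (hX hn)), mul_inv_cancel_right]
      rw [this]; exact hn
    · intro hn
      have h2 := hZc g⁻¹ (inv_mem hg) _ (hZ₀ (hX hn))
      have h3 : n = g⁻¹ * (g * n * g⁻¹) * g := by group
      have h4 : n = g * n * g⁻¹ := by
        rw [h2, inv_mul_cancel_right] at h3
        exact h3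
      rw [h4]; exact hn


/-- membership in `κ(M)` from a cyclic Hall subgroup `W` of `M` centralizing a nonidentity element of
`M_σ` -/
theorem mem_kappa_of_hall_cyclic {M W : Subgroup G} (hWM : W ≤ M) (hWc : IsCyclic W)
    (hWh : (Nat.card W).Coprime (W.relIndex M)) {p : ℕ} (hp : p.Prime) (hpW : p ∣ Nat.card W)
    (hpσ : p ∉ Cfsg.sigma M) {y : G} (hy : y ∈ Cfsg.sigmaCore M) (hy1 : y ≠ 1)
    (hyc : ∀ w ∈ W, w * y = y * w) : p ∈ Cfsg.kappa M := by
  haveI : Fact p.Prime := ⟨hp⟩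
  have hpM : p ∣ Nat.card M := hpW.trans (Subgroup.card_dvd_of_le hWM)
  refine ⟨hp, hpM, hpσ, ?_⟩
  intro P
  obtain ⟨x, hx⟩ := exists_prime_orderOf_dvd_card' (G := ↥W) p hpW
  have hxo : orderOf (x : G) = p := by rw [Subgroup.orderOf_coe]; exact hx
  have hQ : IsPGroup p ↥(zpowers (x : G)) := by
    apply IsPGroup.of_card (n := 1)
    rw [Nat.card_zpowers, hxo, pow_one]
  obtain ⟨S, hS, hQS⟩ := Cfsg.Agent.Helper14.exists_isSylowIn_ge (p := p)
    ((zpowers_le).mpr x.2 : zpowers (x : G) ≤ W) hQ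
  have hxS : (x : G) ∈ S := hQS (mem_zpowers _)
  have hx1 : (x : G) ≠ 1 := by
    intro h
    rw [h, orderOf_one] at hxo
    exact hp.one_lt.ne hxo
  have hnd : ¬ p ∣ W.relIndex M := fun h =>
    hp.one_lt.ne' (Nat.eq_one_of_dvd_coprimes hWh hpW h)
  have hSM : IsSylowIn p S M := isSylowIn_of_not_dvd_relIndex' hS hWM hnd
  have hP := isSylowIn_of_sylow P
  obtain ⟨g, hg, hgP⟩ := hSM.exists_conj hP
  have hSc : IsCyclic S := isCyclic_of_le_cyclic hS.1 hWc
  constructor
  · have h1 : IsCyclic ↥(S.map (cj g)) :=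
      (S.equivMapOfInjective (cj g) (Cfsg.Agent.Helper14.cj_injective g)).isCyclic.mp hSc
    rw [← hgP] at h1
    exact ((P : Subgroup ↥M).equivMapOfInjective M.subtype M.subtype_injective).isCyclic.mpr h1
  · have h2 : g * (x : G) * g⁻¹ ∈ (P : Subgroup ↥M).map M.subtype := by
      rw [hgP]
      exact ⟨(x : G), hxS, rfl⟩
    obtain ⟨z, hzP, hz⟩ := h2
    refine ⟨z, hzP, ?_, g * y * g⁻¹, ?_, ?_, ?_⟩
    · intro h
      rw [h] at hz
      have : g * (x : G) * g⁻¹ = 1 := by rw [← hz]; rfl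
      rw [mul_inv_eq_one, mul_eq_left] at this
      exact hx1 this
    · have hn := le_normalizer_sigmaCore M hg
      exact (Subgroup.mem_set_normalizer_iff.mp hn y).mp hy
    · intro h
      rw [mul_inv_eq_one, mul_eq_left] at h
      exact hy1 h
    · have h3 : (z : G) = g * (x : G) * g⁻¹ := hz
      rw [h3]
      have h4 := hyc (x : G) x.2
      calc g * (x : G) * g⁻¹ * (g * y * g⁻¹) = g * ((x : G) * y) * g⁻¹ := by group
        _ = g * (y * (x : G)) * g⁻¹ := by rw [h4]
        _ = g * y * g⁻¹ * (g * (x : G) * g⁻¹) := by group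

/-- a nontrivial nilpotent Hall subgroup of `M` inside `M_σ` has its normalizer in `M` -/
theorem normalizer_le_of_nilpotent_hall (h1350 : St1350 G) {M V : Subgroup G} (hM : IsCoatom M)
    (hV : V ≤ Cfsg.sigmaCore M) (hVn : Group.IsNilpotent V) (hV1 : V ≠ ⊥)
    (hVh : (Nat.card V).Coprime (V.relIndex M)) : Subgroup.normalizer (V : Set G) ≤ M := by
  have hVM : V ≤ M := hV.trans (sigmaCore_le M)
  have hc : Nat.card V ≠ 1 := fun h => hV1 (Subgroup.card_eq_one.mp h)
  obtain ⟨r, hr, hrV⟩ := Nat.exists_prime_and_dvd hc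
  haveI : Fact r.Prime := ⟨hr⟩
  have hrσ : r ∈ Cfsg.sigma M :=
    (h1350 M hM).1.2.1 r hr (hrV.trans (Subgroup.card_dvd_of_le hV))
  obtain ⟨R, hR⟩ := exists_isSylowIn (p := r) V
  have hnd : ¬ r ∣ V.relIndex M := fun h =>
    hr.one_lt.ne' (Nat.eq_one_of_dvd_coprimes hVh hrV h)
  have hRM : IsSylowIn r R M := isSylowIn_of_not_dvd_relIndex' hR hVM hnd
  have hNR : normalizer (R : Set G) ≤ M := Cfsg.Agent.Helper4.BG10.sigma_normalizer_le hrσ hRM
  -- `V` normalizes `R`
  have hVR : V ≤ normalizer (R : Set G) := by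
    haveI := hVn
    haveI hn : ((hR.toSylow : Sylow r ↥V) : Subgroup ↥V).Normal := inferInstance
    have := Cfsg.Agent.Helper23.le_normalizer_map_subtype V ((hR.toSylow : Sylow r ↥V) : Subgroup ↥V)
    rwa [hR.toSylow_map] at this
  refine le_trans ?_ hNR
  intro g hg
  have h1 := hR.map_cj g
  rw [mem_normalizer_iff_map_cj.mp hg] at h1
  obtain ⟨v, hv, hvR⟩ := hR.exists_conj h1
  rw [mem_normalizer_iff_map_cj, hvR]
  exact mem_normalizer_iff_map_cj.mp (hVR hv)

/-- Dedekind-type identity: `A ⊓ (K ⊔ S) = S` when `S ≤ A`, `A ⊓ K = ⊥` and `S` normalizes `K` -/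
theorem inf_sup_eq_right_of_disjoint {A K S : Subgroup G} (hSA : S ≤ A) (hAK : A ⊓ K = ⊥)
    (hSK : S ≤ normalizer (K : Set G)) : A ⊓ (K ⊔ S) = S := by
  apply le_antisymm
  · intro x hx
    obtain ⟨k, hk, s, hs, rfl⟩ := (Cfsg.Agent.Helper7.mem_sup_of_le_normalizer hSK).mp hx.2
    have h1 : k ∈ A ⊓ K := by
      refine Subgroup.mem_inf.mpr ⟨?_, hk⟩
      have := A.mul_mem hx.1 (A.inv_mem (hSA hs))
      rwa [mul_inv_cancel_right] at this
    rw [hAK, Subgroup.mem_bot] at h1
    rw [h1, one_mul]; exact hs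
  · exact le_inf hSA le_sup_right

/-- a subgroup of `M'` meeting `M_F` trivially is nilpotent when `M'/M_F` is -/
theorem isNilpotent_of_disjoint_fittingHallOf {M V : Subgroup G}
    (hnil : Group.IsNilpotent ↥((commutator ↥M).map (QuotientGroup.mk' (Cfsg.fittingHall ↥M))))
    (hVM' : V ≤ ⁅M, M⁆) (hdisj : Cfsg.fittingHallOf M ⊓ V = ⊥) : Group.IsNilpotent V := by
  have hVM : V ≤ M := hVM'.trans (Subgroup.commutator_le_self M)
  have hmem : ∀ v : ↥V, ((QuotientGroup.mk' (Cfsg.fittingHall ↥M)).comp (Subgroup.inclusion hVM)) v ∈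
      (commutator ↥M).map (QuotientGroup.mk' (Cfsg.fittingHall ↥M)) := by
    intro v
    have h1 : (v : G) ∈ (commutator ↥M).map M.subtype := by
      rw [map_subtype_commutator_eq]; exact hVM' v.2
    obtain ⟨z, hz, hzv⟩ := h1
    refine ⟨z, hz, ?_⟩
    have : z = Subgroup.inclusion hVM v := Subtype.ext hzv
    rw [this]; rfl
  let f : ↥V →* ↥((commutator ↥M).map (QuotientGroup.mk' (Cfsg.fittingHall ↥M))) :=
    ((QuotientGroup.mk' (Cfsg.fittingHall ↥M)).comp (Subgroup.inclusion hVM)).codRestrict _ hmem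
  have hf : Function.Injective f := by
    rw [injective_iff_map_eq_one]
    intro v hv
    have h1 : ((QuotientGroup.mk' (Cfsg.fittingHall ↥M)).comp (Subgroup.inclusion hVM)) v = 1 :=
      congrArg Subtype.val hv
    have h2 : Subgroup.inclusion hVM v ∈ Cfsg.fittingHall ↥M := by
      rw [← QuotientGroup.eq_one_iff]; exact h1
    have h3 : (v : G) ∈ Cfsg.fittingHallOf M ⊓ V :=
      Subgroup.mem_inf.mpr ⟨⟨_, h2, rfl⟩, v.2⟩
    rw [hdisj, Subgroup.mem_bot] at h3
    exact Subtype.ext h3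
  haveI := hnil
  exact Cfsg.Agent.Helper23.isNilpotent_of_injective f hf

end Cfsg.Agent.Helper10.BG16
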