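import Mathlib
import Cfsg.Prelude.Def_OddOrderLocal
import Cfsg.Agent.Helper10.BG16C

set_option autoImplicit false
set_option linter.unusedSectionVars false
set_option linter.unusedVariables false
set_option linter.style.haveILetI false

/-! # B&G Theorem I dictionary (S1381-S1383): the type-P data of a maximal subgroup with `K ≠ 1`,
relative to the statements of S1350, S1354, S1355, S1356, S1364, S1365, S1370 -/

namespace Cfsg.Agent.Helper10.BG16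

open Subgroup Cfsg
open Cfsg.Agent.H9.BG12 (St1350 sigmaCore_le le_normalizer_sigmaCore)
open Cfsg.Agent.Helper14 (cj mem_normalizer_iff_map_cj IsSylowIn isSylowIn_of_sylow exists_isSylowIn
  isSylowIn_iff mem_map_cj)

universe u

variable {G : Type u} [Group G] [Finite G]

section decomp

variable {M K U : Subgroup G}

theorem sd_coprime_K_sigma (h1350 : St1350 G) (hM : IsCoatom M)
    (hKU : Cfsg.IsSigmaDecomposition M K U) :
    (Nat.card K).Coprime (Nat.card (Cfsg.sigmaCore M)) :=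
  Nat.coprime_of_dvd fun p hp h1 h2 =>
    (hKU.hall.2.1 p hp h1).2.2.1 ((h1350 M hM).1.2.1 p hp h2)

theorem sd_K_inf_sigma (h1350 : St1350 G) (hM : IsCoatom M)
    (hKU : Cfsg.IsSigmaDecomposition M K U) : K ⊓ Cfsg.sigmaCore M = ⊥ :=
  (Subgroup.disjoint_of_coprime_natCard (sd_coprime_K_sigma h1350 hM hKU)).eq_bot

theorem sd_card_K_sup_sigma (h1350 : St1350 G) (hM : IsCoatom M)
    (hKU : Cfsg.IsSigmaDecomposition M K U) :
    Nat.card (K ⊔ Cfsg.sigmaCore M : Subgroup G) = Nat.card K * Nat.card (Cfsg.sigmaCore M) := by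
  have hKn : K ≤ normalizer (Cfsg.sigmaCore M : Set G) :=
    hKU.hall.1.trans (le_normalizer_sigmaCore M)
  have hsup := Cfsg.Agent.Helper17.card_sup_mul_card_inf (Cfsg.sigmaCore M) K hKn
  rw [inf_comm, sd_K_inf_sigma h1350 hM hKU, Subgroup.card_bot, mul_one, sup_comm] at hsup
  rw [hsup, mul_comm]

theorem sd_card (h1350 : St1350 G) (hM : IsCoatom M)
    (hKU : Cfsg.IsSigmaDecomposition M K U) :
    Nat.card M = Nat.card U * (Nat.card K * Nat.card (Cfsg.sigmaCore M)) := by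
  rw [Cfsg.Agent.Helper23.card_of_isComplIn _ _ _ hKU.compl, sd_card_K_sup_sigma h1350 hM hKU]

theorem sd_U_inf_sigma (hKU : Cfsg.IsSigmaDecomposition M K U) : U ⊓ Cfsg.sigmaCore M = ⊥ := by
  rw [eq_bot_iff, ← hKU.compl.2.2.1]
  exact inf_le_inf_left U le_sup_right

theorem sd_card_U_sup_sigma (hKU : Cfsg.IsSigmaDecomposition M K U) :
    Nat.card (U ⊔ Cfsg.sigmaCore M : Subgroup G) = Nat.card U * Nat.card (Cfsg.sigmaCore M) := by
  have hUn : U ≤ normalizer (Cfsg.sigmaCore M : Set G) :=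
    hKU.compl.1.trans (le_normalizer_sigmaCore M)
  have hsup := Cfsg.Agent.Helper17.card_sup_mul_card_inf (Cfsg.sigmaCore M) U hUn
  rw [inf_comm, sd_U_inf_sigma hKU, Subgroup.card_bot, mul_one, sup_comm] at hsup
  rw [hsup, mul_comm]

theorem sd_relIndex_K (h1350 : St1350 G) (hM : IsCoatom M)
    (hKU : Cfsg.IsSigmaDecomposition M K U) :
    K.relIndex M = Nat.card U * Nat.card (Cfsg.sigmaCore M) := by
  have h := Cfsg.Agent.Lead.relIndex_mul_card' hKU.hall.1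
  rw [sd_card h1350 hM hKU] at h
  have hk : 0 < Nat.card K := Nat.card_pos
  apply Nat.eq_of_mul_eq_mul_right hk
  rw [h]; ring

theorem sd_coprime_K (hKU : Cfsg.IsSigmaDecomposition M K U) :
    (Nat.card K).Coprime (K.relIndex M) :=
  Nat.coprime_of_dvd fun p hp h1 h2 => hKU.hall.2.2 p hp (hKU.hall.2.1 p hp h1) h2

theorem sd_sup_inf_K (h1350 : St1350 G) (hM : IsCoatom M)
    (hKU : Cfsg.IsSigmaDecomposition M K U) : (U ⊔ Cfsg.sigmaCore M) ⊓ K = ⊥ := by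
  apply Disjoint.eq_bot
  apply Subgroup.disjoint_of_coprime_natCard
  rw [sd_card_U_sup_sigma hKU, ← sd_relIndex_K h1350 hM hKU]
  exact (sd_coprime_K hKU).symm

theorem sd_U_sup_sigma_le (hKU : Cfsg.IsSigmaDecomposition M K U) : U ⊔ Cfsg.sigmaCore M ≤ M :=
  sup_le hKU.compl.1 (sigmaCore_le M)

/-- `U ≤ M_σ` forces `U = 1` -/
theorem sd_U_eq_bot_of_le (hKU : Cfsg.IsSigmaDecomposition M K U) (h : U ≤ Cfsg.sigmaCore M) :
    U = ⊥ := by
  rw [eq_bot_iff, ← sd_U_inf_sigma hKU]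
  exact le_inf le_rfl h

theorem sd_kappa_nonempty (hKU : Cfsg.IsSigmaDecomposition M K U) (hK1 : K ≠ ⊥) :
    (Cfsg.kappa M).Nonempty := by
  have hc : Nat.card K ≠ 1 := fun h => hK1 (Subgroup.card_eq_one.mp h)
  obtain ⟨p, hp, hpK⟩ := Nat.exists_prime_and_dvd hc
  exact ⟨p, hKU.hall.2.1 p hp hpK⟩

end decomp

/-- the statements of S1354-S1356, S1364, S1365, S1370 for one maximal subgroup -/
structure PHyp (M K U : Subgroup G) : Prop where
  h1354 : K ≠ ⊥ → ∀ k ∈ K, k ≠ 1 →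
    M ⊓ Subgroup.centralizer ({k} : Set G) = K ⊔ (Cfsg.sigmaCore M ⊓ Subgroup.centralizer (K : Set G))
  h1355 : Cfsg.fittingHallOf M ≠ ⊥ ∧ Cfsg.fittingHallOf M ≤ Cfsg.sigmaCore M ∧ Cfsg.sigmaCore M ≤ ⁅M, M⁆ ∧ ⁅M, M⁆ < M ∧
      Group.IsNilpotent ↥((commutator ↥M).map (QuotientGroup.mk' (Cfsg.fittingHall ↥M)))
  h1356 : ⁅⁅M, M⁆, ⁅M, M⁆⁆ ≤ Cfsg.fittingOf M ∧
      Cfsg.fittingOf M = (M ⊓ Subgroup.centralizer (Cfsg.fittingHallOf M : Set G)) ⊔ Cfsg.fittingHallOf M ∧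
      ((Cfsg.kappa M).Nonempty → Cfsg.fittingOf M ≤ ⁅M, M⁆)
  h1364 : K ≠ ⊥ → IsCyclic ↥(Cfsg.sigmaCore M ⊓ Subgroup.centralizer (K : Set G)) ∧ (Cfsg.sigmaCore M ⊓ Subgroup.centralizer (K : Set G)) ≠ ⊥ ∧ (Cfsg.sigmaCore M ⊓ Subgroup.centralizer (K : Set G)) ≤ Cfsg.fittingHallOf M ∧ ¬ IsCyclic (Cfsg.fittingHallOf M)
  h1365 : K ≠ ⊥ → ⁅M, M⁆ = U ⊔ Cfsg.sigmaCore M ∧ (Cfsg.sigmaCore M ⊓ Subgroup.centralizer (K : Set G)) ≤ ⁅⁅M, M⁆, ⁅M, M⁆⁆
  h1370 : K ≠ ⊥ → Cfsg.IsTISubset ((↑(K ⊔ (Cfsg.sigmaCore M ⊓ Subgroup.centralizer (K : Set G))) : Set G) \ ((K : Set G) ∪ ↑(Cfsg.sigmaCore M ⊓ Subgroup.centralizer (K : Set G)))) ∧ Subgroup.normalizer ((↑(K ⊔ (Cfsg.sigmaCore M ⊓ Subgroup.centralizer (K : Set G))) : Set G) \ ((K : Set G) ∪ ↑(Cfsg.sigmaCore M ⊓ Subgroup.centralizer (K : Set G)))) = K ⊔ (Cfsg.sigmaCore M ⊓ Subgroup.centralizer (K : Set G))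

/-- the type-P data `(K, V, K*)` of `M` for any nilpotent `K`-invariant complement `V` of `M_F` in `M'` -/
theorem typeP_of (h1350 : St1350 G) {M K U : Subgroup G} (hM : IsCoatom M)
    (hKU : Cfsg.IsSigmaDecomposition M K U) (hK1 : K ≠ ⊥) (hP : PHyp M K U) {V : Subgroup G}
    (hVn : Group.IsNilpotent V) (hVK : K ≤ normalizer (V : Set G))
    (hVc : Cfsg.IsComplIn (Cfsg.fittingHallOf M) V ⁅M, M⁆) :
    Cfsg.IsTypePWith M K V (Cfsg.sigmaCore M ⊓ Subgroup.centralizer (K : Set G)) := by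
  obtain ⟨hF1, hFσ, hσM', hM'lt, hnil⟩ := hP.h1355
  obtain ⟨hM''F, hFeq, hFle⟩ := hP.h1356
  obtain ⟨hKsc, hKs1, hKsF, hFnc⟩ := hP.h1364 hK1
  obtain ⟨hM'eq, hKsM''⟩ := hP.h1365 hK1
  obtain ⟨hTI, hNZ⟩ := hP.h1370 hK1
  have hKM : K ≤ M := hKU.hall.1
  have hM'K : ⁅M, M⁆ ⊓ K = ⊥ := by rw [hM'eq]; exact sd_sup_inf_K h1350 hM hKU
  have hKsK : Cfsg.sigmaCore M ⊓ Subgroup.centralizer (K : Set G) ≤ normalizer (K : Set G) :=
    inf_le_right.trans (Subgroup.centralizer_le_normalizer _)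
  have hcomm : ∀ a ∈ K, ∀ b ∈ Cfsg.sigmaCore M ⊓ Subgroup.centralizer (K : Set G), a * b = b * a := by
    intro a ha b hb
    exact (Subgroup.mem_centralizer_iff.mp hb.2) a ha
  have hcyc : IsCyclic ↥(K ⊔ (Cfsg.sigmaCore M ⊓ Subgroup.centralizer (K : Set G))) := by
    apply Cfsg.Agent.Helper8.isCyclic_sup_of_commute_coprime K _ hKU.cyclic hKsc hcomm
    exact Nat.Coprime.coprime_dvd_right (Subgroup.card_dvd_of_le inf_le_left)
      (sd_coprime_K_sigma h1350 hM hKU)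
  refine
    { W₁_ne := hK1
      W₁_cyclic := hKU.cyclic
      W₁_hall := sd_coprime_K hKU
      W₁_compl := ?_
      U_nilpotent := hVn
      U_normal := hVK
      U_compl := hVc
      H_not_cyclic := hFnc
      derived_two_le := ?_
      fitting_eq := ?_
      fitting_le := hFle (sd_kappa_nonempty hKU hK1)
      W₂_le := le_inf hKsF hKsM''
      W₂_centralizer := ?_
      selfNormalizing := ⟨hK1, hKs1, ?_, hcomm, hcyc, ?_⟩ }
  · apply isComplIn_of_card (Subgroup.commutator_le_self M) hKM hM'K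
    rw [hM'eq, sd_card_U_sup_sigma hKU, sd_card h1350 hM hKU]; ring
  · refine hM''F.trans (le_of_eq ?_)
    rw [hFeq]; exact sup_comm _ _
  · rw [hFeq]; exact sup_comm _ _
  · intro x hx hx1
    have h1 : ⁅M, M⁆ ⊓ Subgroup.centralizer ({x} : Set G) =
        ⁅M, M⁆ ⊓ (M ⊓ Subgroup.centralizer ({x} : Set G)) := by
      rw [← inf_assoc, inf_eq_left.mpr (Subgroup.commutator_le_self M)]
    rw [h1, hP.h1354 hK1 x hx hx1]
    exact inf_sup_eq_right_of_disjoint (inf_le_left.trans hσM') hM'K hKsK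
  · rw [eq_bot_iff, ← sd_K_inf_sigma h1350 hM hKU]
    exact inf_le_inf_left K inf_le_left
  · intro X hX hXne
    have hZc : ∀ a ∈ K ⊔ (Cfsg.sigmaCore M ⊓ Subgroup.centralizer (K : Set G)),
        ∀ b ∈ K ⊔ (Cfsg.sigmaCore M ⊓ Subgroup.centralizer (K : Set G)), a * b = b * a := by
      intro a ha b hb
      letI := hcyc
      letI : CommGroup ↥(K ⊔ (Cfsg.sigmaCore M ⊓ Subgroup.centralizer (K : Set G))) :=
        IsCyclic.commGroup
      have := mul_comm (⟨a, ha⟩ : ↥(K ⊔ (Cfsg.sigmaCore M ⊓ Subgroup.centralizer (K : Set G)))) ⟨b, hb⟩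
      exact congrArg Subtype.val this
    refine normalizer_eq_of_TI hZc Set.sdiff_subset ?_ hTI hNZ hX hXne
    intro h
    exact h.2 (Or.inl (one_mem K))

end Cfsg.Agent.Helper10.BG16
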