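import Mathlib

set_option autoImplicit false

/-!
# The trace (norm) map for a group acting on an abelian group, relative to a subgroup
-/

namespace Cfsg.Agent.Helper10

section trace

variable {N A : Type*} [Group N] [CommGroup A] (φ : N →* MulAut A) (S : Subgroup N)
  [Fintype (N ⧸ S)]

/-- `tr z = ∏_{q ∈ N/S} q.out • z` -/
noncomputable def trc (z : A) : A := ∏ q : N ⧸ S, φ q.out z

theorem trc_mul (z₁ z₂ : A) : trc φ S (z₁ * z₂) = trc φ S z₁ * trc φ S z₂ := by
  unfold trc
  rw [← Finset.prod_mul_distrib]
  apply Finset.prod_congr rfl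
  intro q _
  exact map_mul _ _ _

theorem trc_one : trc φ S (1 : A) = 1 := by
  unfold trc
  apply Finset.prod_eq_one
  intro q _
  exact map_one _

theorem trc_inv (z : A) : trc φ S z⁻¹ = (trc φ S z)⁻¹ := by
  have h := trc_mul φ S z z⁻¹
  rw [mul_inv_cancel, trc_one] at h
  exact eq_inv_of_mul_eq_one_right h.symm

/-- the trace of an `S`-fixed element is `N`-fixed -/
theorem trc_fixed {z : A} (hz : ∀ s ∈ S, φ s z = z) (n : N) : φ n (trc φ S z) = trc φ S z := by
  unfold trc
  rw [map_prod]
  have key : ∀ q : N ⧸ S, φ n (φ q.out z) = φ ((n • q).out) z := by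
    intro q
    have h1 : ((n • q).out : N ⧸ S) = ((n * q.out : N) : N ⧸ S) := by
      rw [QuotientGroup.out_eq']
      conv_lhs => rw [← QuotientGroup.out_eq' q]
      rfl
    have h2 : (n * q.out)⁻¹ * (n • q).out ∈ S := QuotientGroup.eq.1 h1.symm
    have h3 : (n • q).out = n * q.out * ((n * q.out)⁻¹ * (n • q).out) := by group
    rw [h3, map_mul, MulAut.mul_apply, hz _ h2, map_mul, MulAut.mul_apply]
  rw [Finset.prod_congr rfl (fun q _ => key q)]
  exact Fintype.prod_equiv (MulAction.toPerm n) _ _ (fun q => rfl)

/-- the trace of an `N`-fixed element is a power -/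
theorem trc_of_fixed {z : A} (hz : ∀ n : N, φ n z = z) : trc φ S z = z ^ Fintype.card (N ⧸ S) := by
  unfold trc
  rw [Finset.prod_congr rfl (fun q _ => hz q.out), Finset.prod_const, Finset.card_univ]

end trace

section conj

variable {G : Type*} [Group G]

/-- conjugation action of `N ≤ N_G(A)` on `A` -/
def conjOn (A N : Subgroup G) (hN : N ≤ Subgroup.normalizer (A : Set G)) : ↥N →* MulAut ↥A where
  toFun n :=
    { toFun := fun a => ⟨(n : G) * a * (n : G)⁻¹, (Subgroup.mem_normalizer_iff.1 (hN n.2) a).1 a.2⟩
      invFun := fun a => ⟨(n : G)⁻¹ * a * (n : G), by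
        have := (Subgroup.mem_normalizer_iff.1 (hN n.2) ((n : G)⁻¹ * a * (n : G))).2
        apply this
        have e : (n : G) * ((n : G)⁻¹ * a * (n : G)) * (n : G)⁻¹ = a := by group
        rw [e]; exact a.2⟩
      left_inv := fun a => by
        apply Subtype.ext
        simp only
        group
      right_inv := fun a => by
        apply Subtype.ext
        simp only
        group
      map_mul' := fun a b => by
        apply Subtype.ext
        simp only [Subgroup.coe_mul]
        group }
  map_one' := by
    ext a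
    simp
  map_mul' := fun m n => by
    ext a
    simp only [Subgroup.coe_mul, MulEquiv.coe_mk, Equiv.coe_fn_mk, MulAut.mul_apply]
    group

theorem conjOn_apply (A N : Subgroup G) (hN : N ≤ Subgroup.normalizer (A : Set G)) (n : ↥N)
    (a : ↥A) : ((conjOn A N hN n a : ↥A) : G) = (n : G) * a * (n : G)⁻¹ := rfl

end conj

end Cfsg.Agent.Helper10
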