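import Mathlib
import Cfsg.Prelude.Def_Local
import Cfsg.Prelude.Def_Amalgam
import Cfsg.Agent.Helper7.FStar2
import Cfsg.Agent.Helper7.LocalFStar
import Cfsg.Agent.Helper7.LocalLayer
import Cfsg.Agent.Helper7.PConstrained2
import Cfsg.Agent.Helper7.TwoLocal
import Cfsg.Agent.Helper14.PCore
import Cfsg.Agent.Helper14.Conj
import Cfsg.Agent.Helper11.SylowInter
import Cfsg.Agent.Lead.ThompsonPQ
import Cfsg.Agent.Helper10.NormLemmas

set_option autoImplicit false
set_option linter.unusedSectionVars false
set_option linter.unusedVariables false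

/-! # Groups of characteristic `p`: `F*(X) = O_p(X)`; inheritance by centralizers and
normalizers of `p`-subgroups (ambient versions, via Thompson's `P × Q` lemma). -/

namespace Cfsg.Agent.Helper10

open Subgroup Cfsg Cfsg.Agent.Helper7
open Cfsg.Agent.Helper14 (pCore_isPGroup le_pCore pCore_normal pCoreOf_isPGroup
  le_normalizer_pCoreOf le_pCoreOf pCoreOf_map_conj pCoreOf_le pCore_map_equiv cj
  mem_normalizer_iff_map_cj)

universe u

section Abstract

variable {X : Type u} [Group X] [Finite X] {p : ℕ} [hp : Fact p.Prime]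

theorem pCore_le_generalizedFitting : pCore p X ≤ generalizedFittingSubgroup X :=
  (pCore_le_fittingSubgroup p).trans (fitting_le_generalizedFitting X)

theorem fstar_eq_pCore_of_isPGroup (h : IsPGroup p ↥(generalizedFittingSubgroup X)) :
    generalizedFittingSubgroup X = pCore p X :=
  le_antisymm (le_pCore p inferInstance h) pCore_le_generalizedFitting

theorem isPGroup_fstar_of_eq (h : generalizedFittingSubgroup X = pCore p X) :
    IsPGroup p ↥(generalizedFittingSubgroup X) := h ▸ pCore_isPGroup p

theorem fstar_eq_pCore_congr {Y : Type u} [Group Y] [Finite Y] (e : X ≃* Y)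
    (h : generalizedFittingSubgroup X = pCore p X) :
    generalizedFittingSubgroup Y = pCore p Y := by
  rw [← generalizedFittingSubgroup_map_equiv e, h, pCore_map_equiv]

/-- `C_X(O_p(X)) ≤ O_p(X)` implies `F*(X) = O_p(X)`. -/
theorem fstar_eq_pCore_of_centralizer_le (h : centralizer (pCore p X : Set X) ≤ pCore p X) :
    generalizedFittingSubgroup X = pCore p X := by
  apply le_antisymm _ pCore_le_generalizedFitting
  unfold generalizedFittingSubgroup
  apply sup_le
  · exact (layer_le_centralizer_pCore p).trans h
  · rw [fittingSubgroup_eq_pCoreSup, pCoreSup_le_iff]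
    intro q hq
    by_cases hqp : q = p
    · subst hqp; exact le_rfl
    · have : Fact q.Prime := ⟨hq⟩
      have h1 : ⁅pCore q X, pCore p X⁆ = ⊥ := pCore_commute_of_ne hqp
      exact (commutator_eq_bot_iff_le_centralizer.1 h1).trans h

theorem centralizer_pCore_le_of_fstar_eq (h : generalizedFittingSubgroup X = pCore p X) :
    centralizer (pCore p X : Set X) ≤ pCore p X := by
  rw [← h]; exact centralizer_generalizedFitting_le

/-- A finite group all of whose `p'`-elements are trivial is a `p`-group. -/
theorem isPGroup_of_forall_coprime_eq_one {H : Type*} [Group H] [Finite H]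
    (h : ∀ x : H, (orderOf x).Coprime p → x = 1) : IsPGroup p H := by
  intro x
  exact ⟨_, h _ (orderOf_pow_ordProj_coprime p x)⟩

end Abstract

section Ambient

variable {G : Type u} [Group G] [Finite G] {p : ℕ} [hp : Fact p.Prime]

/-- If `M` has characteristic `p`, the `p`-group `U` normalizes `M` and `C_G(U) ≤ M`, then
`C_G(U)` has characteristic `p`. -/
theorem charP_centralizer_step {U M : Subgroup G} (hU : IsPGroup p U)
    (hUM : U ≤ normalizer (M : Set G)) (hZM : centralizer (U : Set G) ≤ M)
    (hM : generalizedFittingSubgroup ↥M = pCore p ↥M) :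
    generalizedFittingSubgroup ↥(centralizer (U : Set G)) =
      pCore p ↥(centralizer (U : Set G)) := by
  obtain ⟨Z, hZ⟩ : ∃ Z : Subgroup G, Z = centralizer (U : Set G) := ⟨_, rfl⟩
  rw [← hZ]
  rw [← hZ] at hZM
  apply fstar_eq_pCore_of_centralizer_le
  apply le_pCore p inferInstance
  apply isPGroup_of_forall_coprime_eq_one
  rintro ⟨d, hdD⟩ hcop
  have hcop' : (orderOf d).Coprime p := by
    rw [← Subgroup.orderOf_mk d hdD]; exact hcop
  have hdZ : (d : G) ∈ Z := d.2
  have hdU : ∀ u ∈ U, u * (d : G) = (d : G) * u := by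
    intro u hu
    have hdZ' : (d : G) ∈ centralizer (U : Set G) := hZ ▸ hdZ
    exact mem_centralizer_iff.1 hdZ' u hu
  -- Thompson's lemma
  have hQcop : (Nat.card (zpowers (d : G))).Coprime p := by
    rw [Nat.card_zpowers, Subgroup.orderOf_coe]; exact hcop'
  have hPQ : U ≤ centralizer ((zpowers (d : G) : Subgroup G) : Set G) := by
    intro u hu
    rw [mem_centralizer_iff]
    intro y hy
    obtain ⟨i, rfl⟩ := mem_zpowers_iff.1 hy
    have h1 : Commute (d : G) u := (hdU u hu).symm
    exact (h1.zpow_left i).eq
  have hPU : U ≤ normalizer ((pCoreOf p M : Subgroup G) : Set G) := by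
    intro u hu
    rw [mem_normalizer_iff_map_cj]
    have h1 := mem_normalizer_iff_map_cj.1 (hUM hu)
    have h2 := pCoreOf_map_conj p M u
    rw [show M.map (MulAut.conj u).toMonoidHom = M from h1] at h2
    exact h2.symm
  have hQU : zpowers (d : G) ≤ normalizer ((pCoreOf p M : Subgroup G) : Set G) := by
    rw [zpowers_le]
    exact le_normalizer_pCoreOf p M (hZM hdZ)
  have hC : pCoreOf p M ⊓ centralizer (U : Set G) ≤
      centralizer ((zpowers (d : G) : Subgroup G) : Set G) := by
    have hQ0 : pCoreOf p M ⊓ Z ≤ pCoreOf p Z := by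
      apply le_pCoreOf p inf_le_right
      · exact le_normalizer_inf_of_le (hZM.trans (le_normalizer_pCoreOf p M)) le_normalizer
      · exact (pCoreOf_isPGroup p M).to_le inf_le_left
    intro q hq
    rw [← hZ] at hq
    obtain ⟨q', hq', hqq⟩ := hQ0 hq
    have h1 := mem_centralizer_iff.1 hdD q' hq'
    have h2 : q * (d : G) = (d : G) * q := by
      have := congrArg (fun z : ↥Z => (z : G)) h1
      rw [← hqq]
      exact this
    rw [mem_centralizer_iff]
    intro y hy
    obtain ⟨i, rfl⟩ := mem_zpowers_iff.1 hy
    have h3 : Commute (d : G) q := h2.symm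
    exact (h3.zpow_left i).eq
  have hth := Cfsg.Agent.Lead.thompson_PQ p U (zpowers (d : G)) (pCoreOf p M) hU hQcop
    (pCoreOf_isPGroup p M) hPQ hPU hQU hC
  have hdc : (d : G) ∈ centralizer ((pCoreOf p M : Subgroup G) : Set G) :=
    hth (mem_zpowers _)
  -- hence `d ∈ O_p(M)`
  have hdM : (⟨(d : G), hZM hdZ⟩ : ↥M) ∈ centralizer ((pCore p ↥M : Subgroup ↥M) : Set ↥M) := by
    rw [mem_centralizer_iff]
    intro y hy
    apply Subtype.ext
    exact mem_centralizer_iff.1 hdc (y : G) ⟨y, hy, rfl⟩
  have hdp := centralizer_pCore_le_of_fstar_eq hM hdM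
  have hcopM : (orderOf (⟨(d : G), hZM hdZ⟩ : ↥M)).Coprime p := by
    rw [Subgroup.orderOf_mk, Subgroup.orderOf_coe]; exact hcop'
  have h1 := eq_one_of_mem_isPGroup_of_coprime (pCore_isPGroup (G := ↥M) p) hdp hcopM
  apply Subtype.ext
  apply Subtype.ext
  exact congrArg (fun z : ↥M => (z : G)) h1

/-- Normalizer version. -/
theorem charP_normalizer_of_centralizer {B : Subgroup G} (hB : IsPGroup p B)
    (h : generalizedFittingSubgroup ↥(centralizer (B : Set G)) =
      pCore p ↥(centralizer (B : Set G))) :
    generalizedFittingSubgroup ↥(normalizer (B : Set G)) =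
      pCore p ↥(normalizer (B : Set G)) := by
  have hle : centralizer (B : Set G) ≤ normalizer (B : Set G) := centralizer_le_normalizer _
  apply generalizedFitting_eq_pCore_of_inf (T := B) (C := centralizer (B : Set G))
    le_normalizer le_rfl hB le_rfl
  · rw [inf_of_le_right hle]
    exact layer_eq_bot_of_generalizedFitting_eq_pCore h
  · rw [inf_of_le_right hle]
    exact pPrimeCore_eq_bot_of_generalizedFitting_eq_pCore h

end Ambient

end Cfsg.Agent.Helper10
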