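import Mathlib
import Cfsg.Prelude.Def_ConjugacyFunctors
import Cfsg.Agent.Helper10.Fusion

set_option autoImplicit false

namespace Cfsg.Agent.Helper10

open Subgroup Cfsg.Agent.Helper14

variable {G : Type*} [Group G]

/-- left conjugate of a set: `g A g⁻¹` -/
def lc (g : G) (A : Set G) : Set G := (fun a => g * a * g⁻¹) '' A

theorem mem_lc {g : G} {A : Set G} {y : G} : y ∈ lc g A ↔ g⁻¹ * y * g ∈ A := by
  constructor
  · rintro ⟨a, ha, rfl⟩
    simpa [mul_assoc] using ha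
  · intro h
    exact ⟨g⁻¹ * y * g, h, by group⟩

theorem lc_one (A : Set G) : lc 1 A = A := by
  ext y; rw [mem_lc]; simp

theorem lc_mul (g h : G) (A : Set G) : lc (g * h) A = lc g (lc h A) := by
  ext y
  rw [mem_lc, mem_lc, mem_lc]
  have : (g * h)⁻¹ * y * (g * h) = h⁻¹ * (g⁻¹ * y * g) * h := by group
  rw [this]

theorem lc_inv_lc (g : G) (A : Set G) : lc g⁻¹ (lc g A) = A := by
  rw [← lc_mul, inv_mul_cancel, lc_one]

theorem lc_mono (g : G) {A B : Set G} (h : A ⊆ B) : lc g A ⊆ lc g B :=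
  Set.image_mono h

theorem lc_congr {g g' : G} {A : Set G} (h : ∀ a ∈ A, g * a * g⁻¹ = g' * a * g'⁻¹) :
    lc g A = lc g' A :=
  Set.image_congr h

theorem lc_coe (g : G) (T : Subgroup G) :
    lc g (T : Set G) = ((T.map (cj g) : Subgroup G) : Set G) := by
  ext y
  rw [mem_lc, SetLike.mem_coe, SetLike.mem_coe, mem_map_cj]

theorem lc_eq_rc (g : G) (A : Set G) : lc g A = rc g⁻¹ A := by
  ext y
  rw [mem_lc, mem_rc, inv_inv]

/-- chains of conjugations by elements of `H ∩ N(W T)`, `W ∈ 𝓦`, keeping `A` inside `T` -/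
inductive FChain (𝓦 : Set (Subgroup G → Subgroup G)) (H T : Subgroup G) (A : Set G) : G → Prop
  | nil : A ⊆ T → FChain 𝓦 H T A 1
  | step (z m : G) (W : Subgroup G → Subgroup G) : FChain 𝓦 H T A z → W ∈ 𝓦 →
      m ∈ H ⊓ normalizer ((W T : Subgroup G) : Set G) → lc (m * z) A ⊆ T → FChain 𝓦 H T A (m * z)

variable {𝓦 : Set (Subgroup G → Subgroup G)} {H T : Subgroup G}

theorem FChain.subset {A : Set G} {z : G} (h : FChain 𝓦 H T A z) : A ⊆ T := by
  induction h with
  | nil h => exact h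
  | step z m W _ _ _ _ ih => exact ih

theorem FChain.image {A : Set G} {z : G} (h : FChain 𝓦 H T A z) : lc z A ⊆ T := by
  cases h with
  | nil h => rw [lc_one]; exact h
  | step z m W _ _ _ h => exact h

theorem FChain.mono_set {A B : Set G} {z : G} (hBA : B ⊆ A) (h : FChain 𝓦 H T A z) :
    FChain 𝓦 H T B z := by
  induction h with
  | nil h => exact FChain.nil (hBA.trans h)
  | step z m W _ hW hm him ih => exact FChain.step z m W ih hW hm ((lc_mono _ hBA).trans him)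

theorem FChain.mono_H {H' : Subgroup G} {A : Set G} {z : G} (hH : H ≤ H')
    (h : FChain 𝓦 H T A z) : FChain 𝓦 H' T A z := by
  induction h with
  | nil h => exact FChain.nil h
  | step z m W _ hW hm him ih => exact FChain.step z m W ih hW ⟨hH hm.1, hm.2⟩ him

theorem FChain.append {A : Set G} {z z' : G} (h : FChain 𝓦 H T A z)
    (h' : FChain 𝓦 H T (lc z A) z') : FChain 𝓦 H T A (z' * z) := by
  induction h' with
  | nil _ => rw [one_mul]; exact h
  | step z'' m W _ hW hm him ih =>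
    rw [mul_assoc]
    refine FChain.step _ m W ih hW hm ?_
    rw [← mul_assoc, lc_mul]
    exact him

theorem FChain.single {A : Set G} {m : G} {W : Subgroup G → Subgroup G} (hW : W ∈ 𝓦)
    (hm : m ∈ H ⊓ normalizer ((W T : Subgroup G) : Set G)) (hA : A ⊆ T) (hmA : lc m A ⊆ T) :
    FChain 𝓦 H T A m := by
  have := FChain.step 1 m W (FChain.nil hA) hW hm (by rw [mul_one]; exact hmA)
  rwa [mul_one] at this

theorem FChain.inv {A : Set G} {z : G} (h : FChain 𝓦 H T A z) :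
    FChain 𝓦 H T (lc z A) z⁻¹ := by
  induction h with
  | nil h => rw [lc_one, inv_one]; exact FChain.nil h
  | step z m W hz hW hm him ih =>
    have h1 : FChain 𝓦 H T (lc (m * z) A) m⁻¹ := by
      apply FChain.single hW ⟨H.inv_mem hm.1, Subgroup.inv_mem _ hm.2⟩ him
      rw [lc_mul, lc_inv_lc]
      exact hz.image
    have h2 : FChain 𝓦 H T (lc m⁻¹ (lc (m * z) A)) z⁻¹ := by
      rw [lc_mul, lc_inv_lc]
      exact ih
    have := h1.append h2
    rwa [← mul_inv_rev] at this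

/-- conjugating a chain by an element of `H` -/
theorem FChain.conj {p : ℕ} (h𝓦 : ∀ W ∈ 𝓦, Cfsg.IsConjugacyFunctor p W) (hT : IsPGroup p ↥T)
    {A : Set G} {z u : G} (hu : u ∈ H) (h : FChain 𝓦 H T A z) :
    FChain 𝓦 H (T.map (cj u)) (lc u A) (u * z * u⁻¹) := by
  induction h with
  | nil h =>
    have : u * 1 * u⁻¹ = 1 := by group
    rw [this]
    apply FChain.nil
    rw [← lc_coe]
    exact lc_mono u h
  | step z m W _ hW hm him ih =>
    have e : u * (m * z) * u⁻¹ = (u * m * u⁻¹) * (u * z * u⁻¹) := by group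
    rw [e]
    refine FChain.step _ _ W ih hW ⟨H.mul_mem (H.mul_mem hu hm.1) (H.inv_mem hu), ?_⟩ ?_
    · have hWc : W (T.map (cj u)) = (W T).map (cj u) := (h𝓦 W hW T hT).2.2 u
      rw [hWc, ← map_cj_normalizer]
      exact ⟨m, hm.2, rfl⟩
    · rw [← e, ← lc_mul]
      have e2 : u * (m * z) * u⁻¹ * u = u * (m * z) := by group
      rw [e2, lc_mul, ← lc_coe]
      exact lc_mono u him

/-- from the `Fin (n+1)` form to `FChain` -/
theorem FChain.of_seq {A : Set G} (n : ℕ) (c : Fin (n + 1) → G) (h0 : c 0 = 1)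
    (hstep : ∀ i : Fin n, ∃ W ∈ 𝓦,
      c i.succ * (c i.castSucc)⁻¹ ∈ H ⊓ Subgroup.normalizer ((W T : Subgroup G) : Set G))
    (himg : ∀ i : Fin (n + 1), (fun a => c i * a * (c i)⁻¹) '' A ⊆ T) :
    FChain 𝓦 H T A (c (Fin.last n)) := by
  have key : ∀ (k : ℕ) (hk : k < n + 1), FChain 𝓦 H T A (c ⟨k, hk⟩) := by
    intro k
    induction k with
    | zero =>
      intro hk
      have : (⟨0, hk⟩ : Fin (n + 1)) = 0 := rfl
      rw [this, h0]
      apply FChain.nil
      have := himg 0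
      rw [h0] at this
      have e : (fun a => (1 : G) * a * (1 : G)⁻¹) '' A = A := by
        ext y; simp
      rwa [e] at this
    | succ j ih =>
      intro hk
      have hj : j < n := by omega
      obtain ⟨W, hW, hm⟩ := hstep ⟨j, hj⟩
      have hprev := ih (by omega)
      have e1 : (⟨j, hj⟩ : Fin n).succ = ⟨j + 1, hk⟩ := rfl
      have e2 : (⟨j, hj⟩ : Fin n).castSucc = ⟨j, by omega⟩ := rfl
      rw [e1, e2] at hm
      have := FChain.step _ _ W hprev hW hm (by
        rw [inv_mul_cancel_right]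
        exact himg ⟨j + 1, hk⟩)
      rwa [inv_mul_cancel_right] at this
  exact key n (Nat.lt_succ_self n)

/-- from `FChain` to the `Fin (n+1)` form -/
theorem FChain.to_seq {A : Set G} {z : G} (h : FChain 𝓦 H T A z) :
    ∃ (n : ℕ) (c : Fin (n + 1) → G), c 0 = 1 ∧
      (∀ i : Fin n, ∃ W ∈ 𝓦,
        c i.succ * (c i.castSucc)⁻¹ ∈ H ⊓ Subgroup.normalizer ((W T : Subgroup G) : Set G)) ∧
      (∀ i : Fin (n + 1), (fun a => c i * a * (c i)⁻¹) '' A ⊆ T) ∧ c (Fin.last n) = z := by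
  induction h with
  | nil h =>
    refine ⟨0, fun _ => 1, rfl, fun i => i.elim0, ?_, rfl⟩
    intro i
    have e : (fun a => (1 : G) * a * (1 : G)⁻¹) '' A = A := by
      ext y; simp
    rw [e]; exact h
  | step z m W _ hW hm him ih =>
    obtain ⟨n, c, h0, hstep, himg, hlast⟩ := ih
    refine ⟨n + 1, Fin.snoc c (m * z), ?_, ?_, ?_, ?_⟩
    · have : (0 : Fin (n + 1 + 1)) = Fin.castSucc (0 : Fin (n + 1)) := rfl
      rw [this, Fin.snoc_castSucc]
      exact h0
    · intro i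
      refine Fin.lastCases ?_ ?_ i
      · refine ⟨W, hW, ?_⟩
        have e1 : (Fin.last n).succ = Fin.last (n + 1) := rfl
        rw [e1, Fin.snoc_last, Fin.snoc_castSucc, hlast, mul_inv_cancel_right]
        exact hm
      · intro j
        obtain ⟨W', hW', hm'⟩ := hstep j
        refine ⟨W', hW', ?_⟩
        have e1 : (Fin.castSucc j).succ = Fin.castSucc j.succ := rfl
        rw [e1, Fin.snoc_castSucc, Fin.snoc_castSucc]
        exact hm'
    · intro i
      refine Fin.lastCases ?_ ?_ i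
      · rw [Fin.snoc_last]
        exact him
      · intro j
        rw [Fin.snoc_castSucc]
        exact himg j
    · rw [Fin.snoc_last]

section GD

variable (𝓦) (S : Subgroup G)

/-- `(A, g)` is decomposable: conjugation by `g` on `A` is a chain of conjugations in the
`N_G(W S)`, `W ∈ 𝓦`, keeping `A` in `S`. -/
def GD (A : Set G) (g : G) : Prop :=
  ∃ z, FChain 𝓦 ⊤ S A z ∧ ∀ a ∈ A, z * a * z⁻¹ = g * a * g⁻¹

variable {𝓦 S}

theorem GD.mono {A B : Set G} {g : G} (hBA : B ⊆ A) (h : GD 𝓦 S A g) : GD 𝓦 S B g := by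
  obtain ⟨z, hz, hzA⟩ := h
  exact ⟨z, hz.mono_set hBA, fun a ha => hzA a (hBA ha)⟩

theorem GD.comp {A : Set G} {g g' : G} (h : GD 𝓦 S A g) (h' : GD 𝓦 S (lc g A) g') :
    GD 𝓦 S A (g' * g) := by
  obtain ⟨z, hz, hzA⟩ := h
  obtain ⟨z', hz', hz'A⟩ := h'
  have hlc : lc z A = lc g A := lc_congr hzA
  refine ⟨z' * z, hz.append (hlc ▸ hz'), ?_⟩
  intro a ha
  have h1 := hzA a ha
  have h2 := hz'A (g * a * g⁻¹) ⟨a, ha, rfl⟩
  have e1 : z' * z * a * (z' * z)⁻¹ = z' * (z * a * z⁻¹) * z'⁻¹ := by group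
  have e2 : g' * g * a * (g' * g)⁻¹ = g' * (g * a * g⁻¹) * g'⁻¹ := by group
  rw [e1, e2, h1, h2]

theorem GD.inv {A : Set G} {g : G} (h : GD 𝓦 S A g) : GD 𝓦 S (lc g A) g⁻¹ := by
  obtain ⟨z, hz, hzA⟩ := h
  have hlc : lc z A = lc g A := lc_congr hzA
  refine ⟨z⁻¹, hlc ▸ hz.inv, ?_⟩
  rintro _ ⟨a, ha, rfl⟩
  have h1 := hzA a ha
  change z⁻¹ * (g * a * g⁻¹) * z⁻¹⁻¹ = g⁻¹ * (g * a * g⁻¹) * g⁻¹⁻¹
  have e1 : z⁻¹ * (g * a * g⁻¹) * z⁻¹⁻¹ = a := by rw [← h1]; group
  have e2 : g⁻¹ * (g * a * g⁻¹) * g⁻¹⁻¹ = a := by group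
  rw [e1, e2]

theorem GD.of_trivial {A : Set G} {g : G} (hA : A ⊆ S) (h : ∀ a ∈ A, g * a * g⁻¹ = a) :
    GD 𝓦 S A g :=
  ⟨1, FChain.nil hA, fun a ha => by rw [h a ha]; group⟩

theorem GD.congr {A : Set G} {g g' : G} (hgg : ∀ a ∈ A, g * a * g⁻¹ = g' * a * g'⁻¹)
    (h : GD 𝓦 S A g) : GD 𝓦 S A g' := by
  obtain ⟨z, hz, hzA⟩ := h
  exact ⟨z, hz, fun a ha => (hzA a ha).trans (hgg a ha)⟩

/-- a chain inside `R ≤ S` each of whose steps is decomposable is decomposable -/
theorem GD.of_chain {R H : Subgroup G} (hRS : R ≤ S)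
    (hQ : ∀ W ∈ 𝓦, ∀ y ∈ normalizer ((W R : Subgroup G) : Set G), ∀ A : Set G, A ⊆ R →
      lc y A ⊆ R → GD 𝓦 S A y)
    {A : Set G} {z : G} (h : FChain 𝓦 H R A z) : GD 𝓦 S A z := by
  induction h with
  | nil h => exact GD.of_trivial (h.trans hRS) (fun a _ => by group)
  | step z m W hz hW hm him ih =>
    apply ih.comp
    apply hQ W hW m hm.2 _ hz.image
    rw [← lc_mul]
    exact him

end GD

/-- `FamilyControlsStrongFusionIn` holds for every Sylow subgroup of `H`, in chain form. -/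
theorem familyControls_sylow [Finite G] {p : ℕ} [Fact p.Prime]
    (h𝓦 : ∀ W ∈ 𝓦, Cfsg.IsConjugacyFunctor p W) {H : Subgroup G}
    (hc : Cfsg.FamilyControlsStrongFusionIn p 𝓦 H) {R : Subgroup G} (hR : R ≤ H) (hRp : IsPGroup p ↥R)
    (hRi : ¬ p ∣ R.relIndex H) :
    ∀ (A : Set G) (h : G), h ∈ H → A ⊆ R → lc h A ⊆ R →
      ∃ z, FChain 𝓦 H R A z ∧ ∀ a ∈ A, z * a * z⁻¹ = h * a * h⁻¹ := by
  obtain ⟨T, hT, hTp, hTi, hfus⟩ := hc
  obtain ⟨u, hu, huT⟩ := exists_conj_eq_of_not_dvd_relIndex hT hR hTp hRp hTi hRi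
  intro A h hh hA hAh
  have hA' : lc u⁻¹ A ⊆ T := by
    rintro _ ⟨a, ha, rfl⟩
    have := hA ha
    rw [← huT, SetLike.mem_coe, mem_map_cj] at this
    simpa using this
  have hh' : u⁻¹ * h * u ∈ H := H.mul_mem (H.mul_mem (H.inv_mem hu) hh) hu
  have hAh' : (fun a => (u⁻¹ * h * u) * a * (u⁻¹ * h * u)⁻¹) '' (lc u⁻¹ A) ⊆ T := by
    rintro _ ⟨_, ⟨a, ha, rfl⟩, rfl⟩
    have := hAh ⟨a, ha, rfl⟩
    rw [← huT, SetLike.mem_coe, mem_map_cj] at this
    have e : u⁻¹ * h * u * (u⁻¹ * a * u⁻¹⁻¹) * (u⁻¹ * h * u)⁻¹ = u⁻¹ * (h * a * h⁻¹) * u := by group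
    change u⁻¹ * h * u * (u⁻¹ * a * u⁻¹⁻¹) * (u⁻¹ * h * u)⁻¹ ∈ T
    rw [e]
    exact this
  obtain ⟨n, c, h0, hstep, himg, hlast⟩ := hfus _ _ hh' hA' hAh'
  have hch := FChain.of_seq n c h0 hstep himg
  have hch' := hch.conj h𝓦 hTp hu
  rw [huT] at hch'
  have hlcA : lc u (lc u⁻¹ A) = A := by
    have := lc_inv_lc u⁻¹ A
    rwa [inv_inv] at this
  rw [hlcA] at hch'
  refine ⟨_, hch', ?_⟩
  intro a ha
  have := hlast (u⁻¹ * a * u⁻¹⁻¹) ⟨a, ha, rfl⟩
  have e1 : u * c (Fin.last n) * u⁻¹ * a * (u * c (Fin.last n) * u⁻¹)⁻¹ =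
      u * (c (Fin.last n) * (u⁻¹ * a * u⁻¹⁻¹) * (c (Fin.last n))⁻¹) * u⁻¹ := by group
  rw [e1, this]
  group

section main

variable [Finite G] {p : ℕ} [Fact p.Prime] (S : Sylow p G)
  (h𝓦 : ∀ W ∈ 𝓦, Cfsg.IsConjugacyFunctor p W)
  (hloc : ∀ T : Subgroup G, T ≤ (S : Subgroup G) → T ≠ ⊥ →
    ¬ p ∣ ((S : Subgroup G) ⊓ Subgroup.normalizer ((T : Subgroup G) : Set G)).relIndex
      (Subgroup.normalizer ((T : Subgroup G) : Set G)) →
    Cfsg.FamilyControlsStrongFusionIn p 𝓦 (Subgroup.normalizer ((T : Subgroup G) : Set G)))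

include h𝓦 hloc in
/-- the local step at an extremal subgroup `U` -/
theorem gd_local {U : Subgroup G} (hUS : U ≤ (S : Subgroup G)) (hUne : U ≠ ⊥)
    (hUext : IsExt p (S : Subgroup G) U)
    (hQ : ∀ W ∈ 𝓦, ∀ y ∈ normalizer ((W ((S : Subgroup G) ⊓ normalizer (U : Set G)) : Subgroup G) : Set G),
      ∀ A : Set G, A ⊆ ((S : Subgroup G) ⊓ normalizer (U : Set G) : Subgroup G) →
      lc y A ⊆ ((S : Subgroup G) ⊓ normalizer (U : Set G) : Subgroup G) → GD 𝓦 (S : Subgroup G) A y)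
    {m : G} (hm : m ∈ normalizer (U : Set G)) {A : Set G}
    (hA : A ⊆ ((S : Subgroup G) ⊓ normalizer (U : Set G) : Subgroup G))
    (hmA : lc m A ⊆ ((S : Subgroup G) ⊓ normalizer (U : Set G) : Subgroup G)) :
    GD 𝓦 (S : Subgroup G) A m := by
  have hRp : IsPGroup p ↥((S : Subgroup G) ⊓ normalizer (U : Set G) : Subgroup G) := S.2.to_le inf_le_left
  obtain ⟨z, hz, hzA⟩ := familyControls_sylow h𝓦 (hloc U hUS hUne hUext) inf_le_right hRp hUext A m hm hA hmA
  exact (GD.of_chain inf_le_left hQ hz).congr hzA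

include h𝓦 hloc in
theorem gd_main : ∀ (n : ℕ) (B : Subgroup G), B ≤ (S : Subgroup G) →
    Nat.card ↥(S : Subgroup G) - Nat.card ↥B = n →
    (∀ g : G, B.map (cj g) ≤ (S : Subgroup G) → GD 𝓦 (S : Subgroup G) (B : Set G) g) ∧
    (∀ W ∈ 𝓦, ∀ y ∈ normalizer ((W B : Subgroup G) : Set G), ∀ A : Set G, A ⊆ B →
      lc y A ⊆ B → GD 𝓦 (S : Subgroup G) A y) := by
  intro n
  induction n using Nat.strong_induction_on with
  | _ n ih =>
  intro B hBS hn
  have hBp : IsPGroup p ↥B := S.2.to_le hBS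
  -- bigger subgroups
  have big : ∀ B' : Subgroup G, B' ≤ (S : Subgroup G) → Nat.card ↥B < Nat.card ↥B' →
      (∀ g : G, B'.map (cj g) ≤ (S : Subgroup G) → GD 𝓦 (S : Subgroup G) (B' : Set G) g) ∧
      (∀ W ∈ 𝓦, ∀ y ∈ normalizer ((W B' : Subgroup G) : Set G), ∀ A : Set G, A ⊆ B' →
        lc y A ⊆ B' → GD 𝓦 (S : Subgroup G) A y) := by
    intro B' hB'S hcard
    have hle : Nat.card ↥B' ≤ Nat.card ↥(S : Subgroup G) := Subgroup.card_le_of_le hB'S
    exact ih (Nat.card ↥(S : Subgroup G) - Nat.card ↥B') (by omega) B' hB'S rfl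
  have card_lt_of_lt : ∀ {X Y : Subgroup G}, X < Y → Nat.card ↥X < Nat.card ↥Y := by
    intro X Y hXY
    by_contra hcon
    push Not at hcon
    exact hXY.ne (Subgroup.eq_of_le_of_card_ge hXY.le hcon)
  -- Q first
  have hQ : ∀ W ∈ 𝓦, ∀ y ∈ normalizer ((W B : Subgroup G) : Set G), ∀ A : Set G, A ⊆ B →
      lc y A ⊆ B → GD 𝓦 (S : Subgroup G) A y := by
    intro W hW y hy A hA hyA
    by_cases hBtop : B = (S : Subgroup G)
    · subst hBtop
      exact ⟨y, FChain.single hW ⟨Subgroup.mem_top _, hy⟩ hA hyA, fun _ _ => rfl⟩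
    by_cases hBbot : B = ⊥
    · apply GD.of_trivial (hA.trans hBS)
      intro a ha
      have : a = 1 := by
        have := hA ha
        rw [hBbot] at this
        exact this
      subst this
      group
    -- general case
    have hBlt : B < (S : Subgroup G) := lt_of_le_of_ne hBS hBtop
    have hWf := h𝓦 W hW
    have hVne : W B ≠ ⊥ := (hWf B hBp).2.1 hBbot
    have hVB : W B ≤ B := (hWf B hBp).1
    have hgrow := Cfsg.Agent.Helper11.lt_inf_normalizer (S : Subgroup G) B S.2 hBlt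
    have hNVle : (S : Subgroup G) ⊓ normalizer (B : Set G) ≤ (S : Subgroup G) ⊓ normalizer ((W B : Subgroup G) : Set G) :=
      inf_le_inf_left _ (normalizer_le_normalizer_functor hWf hBp)
    have hBNV : B < (S : Subgroup G) ⊓ normalizer ((W B : Subgroup G) : Set G) := hgrow.trans_le hNVle
    obtain ⟨v, hv1, hv2⟩ := exists_isExt_conj S (W B)
    have hVNV : W B ≤ (S : Subgroup G) ⊓ normalizer ((W B : Subgroup G) : Set G) :=
      le_inf (hVB.trans hBS) Subgroup.le_normalizer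
    have hV'S : (W B).map (cj v) ≤ (S : Subgroup G) := (Subgroup.map_mono hVNV).trans hv1
    have hV'ne : (W B).map (cj v) ≠ ⊥ := by
      intro h
      exact hVne ((Subgroup.map_eq_bot_iff_of_injective _ (cj_injective v)).mp h)
    have hNVR1 : ((S : Subgroup G) ⊓ normalizer ((W B : Subgroup G) : Set G)).map (cj v) ≤
        (S : Subgroup G) ⊓ normalizer (((W B).map (cj v) : Subgroup G) : Set G) := by
      apply le_inf hv1
      rw [← map_cj_normalizer]
      exact Subgroup.map_mono inf_le_right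
    have hcardNV := card_lt_of_lt hBNV
    have hcardR1 : Nat.card ↥B < Nat.card ↥((S : Subgroup G) ⊓ normalizer (((W B).map (cj v) : Subgroup G) : Set G) : Subgroup G) := by
      have := Subgroup.card_le_of_le hNVR1
      rw [card_map_cj] at this
      omega
    obtain ⟨hP_NV, -⟩ := big _ inf_le_left hcardNV
    obtain ⟨-, hQ_R1⟩ := big _ inf_le_left hcardR1
    have hANV : A ⊆ ((S : Subgroup G) ⊓ normalizer ((W B : Subgroup G) : Set G) : Subgroup G) :=
      fun a ha => hBNV.le (hA ha)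
    have hyANV : lc y A ⊆ ((S : Subgroup G) ⊓ normalizer ((W B : Subgroup G) : Set G) : Subgroup G) :=
      fun a ha => hBNV.le (hyA ha)
    have hGDv : GD 𝓦 (S : Subgroup G) A v := (hP_NV v hv1).mono hANV
    have hGDv' : GD 𝓦 (S : Subgroup G) (lc y A) v := (hP_NV v hv1).mono hyANV
    have hy' : v * y * v⁻¹ ∈ normalizer (((W B).map (cj v) : Subgroup G) : Set G) := by
      rw [← map_cj_normalizer]
      exact ⟨y, hy, rfl⟩
    have hlcNV : lc v (((S : Subgroup G) ⊓ normalizer ((W B : Subgroup G) : Set G) : Subgroup G) : Set G) ⊆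
        ((S : Subgroup G) ⊓ normalizer (((W B).map (cj v) : Subgroup G) : Set G) : Subgroup G) := by
      rw [lc_coe]
      exact hNVR1
    have hA' : lc v A ⊆ ((S : Subgroup G) ⊓ normalizer (((W B).map (cj v) : Subgroup G) : Set G) : Subgroup G) :=
      (lc_mono v hANV).trans hlcNV
    have hlceq : lc (v * y * v⁻¹) (lc v A) = lc v (lc y A) := by
      rw [← lc_mul, ← lc_mul]
      congr 1
      group
    have hy'A' : lc (v * y * v⁻¹) (lc v A) ⊆
        ((S : Subgroup G) ⊓ normalizer (((W B).map (cj v) : Subgroup G) : Set G) : Subgroup G) := by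
      rw [hlceq]
      exact (lc_mono v hyANV).trans hlcNV
    have hmid : GD 𝓦 (S : Subgroup G) (lc v A) (v * y * v⁻¹) :=
      gd_local S h𝓦 hloc hV'S hV'ne hv2 hQ_R1 hy' hA' hy'A'
    have hlast : GD 𝓦 (S : Subgroup G) (lc (v * y * v⁻¹) (lc v A)) v⁻¹ := by
      rw [hlceq]
      exact hGDv'.inv
    have := (hGDv.comp hmid).comp (by rw [lc_mul]; exact hlast)
    have e : v⁻¹ * (v * y * v⁻¹ * v) = y := by group
    rwa [e] at this
  refine ⟨?_, hQ⟩
  -- P
  intro g hg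
  by_cases hBbot : B = ⊥
  · apply GD.of_trivial hBS
    intro a ha
    have : a = 1 := by
      rw [hBbot] at ha
      exact ha
    subst this
    group
  by_cases hBtop : B = (S : Subgroup G)
  · subst hBtop
    have hgN : g ∈ normalizer (((S : Subgroup G) : Subgroup G) : Set G) := by
      have h1 : (S : Subgroup G).map (cj g) = (S : Subgroup G) := by
        apply Subgroup.eq_of_le_of_card_ge hg
        rw [card_map_cj]
      exact mem_normalizer_iff_map_cj.mpr h1
    have hSN : (S : Subgroup G) ≤ normalizer (((S : Subgroup G) : Subgroup G) : Set G) := Subgroup.le_normalizer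
    have hext : IsExt p (S : Subgroup G) (S : Subgroup G) := by
      unfold IsExt
      rw [inf_of_le_left hSN]
      intro hdvd
      exact S.not_dvd_index (hdvd.trans (Subgroup.relIndex_dvd_index_of_le hSN))
    have hR : (S : Subgroup G) ⊓ normalizer (((S : Subgroup G) : Subgroup G) : Set G) = (S : Subgroup G) :=
      inf_of_le_left hSN
    apply gd_local S h𝓦 hloc le_rfl hBbot hext ?_ hgN
    · rw [hR]
    · rw [hR, lc_coe]
      exact hg
    · rw [hR]
      exact hQ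
  -- general case
  have hBlt : B < (S : Subgroup G) := lt_of_le_of_ne hBS hBtop
  have hgrow := Cfsg.Agent.Helper11.lt_inf_normalizer (S : Subgroup G) B S.2 hBlt
  obtain ⟨u, hu1, hu2⟩ := exists_isExt_conj S B
  have hBNB : B ≤ (S : Subgroup G) ⊓ normalizer (B : Set G) := hgrow.le
  have hUS : B.map (cj u) ≤ (S : Subgroup G) := (Subgroup.map_mono hBNB).trans hu1
  have hUne : B.map (cj u) ≠ ⊥ := by
    intro h
    exact hBbot ((Subgroup.map_eq_bot_iff_of_injective _ (cj_injective u)).mp h)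
  obtain ⟨hP_NB, -⟩ := big _ inf_le_left (card_lt_of_lt hgrow)
  have hGDu : GD 𝓦 (S : Subgroup G) (B : Set G) u := (hP_NB u hu1).mono (fun a ha => hBNB ha)
  -- the other side
  have hhh : (B.map (cj g)).map (MulAut.conj (u * g⁻¹)).toMonoidHom = B.map (cj u) := by
    have := map_cj_mul B (u * g⁻¹) g
    rw [inv_mul_cancel_right] at this
    exact this
  obtain ⟨g₂, hg₂, hg₂N, -⟩ := Cfsg.Agent.S2014.result p S (B.map (cj g)) (B.map (cj u)) hg hUS hu2 (u * g⁻¹) hhh
  have hB'card : Nat.card ↥(B.map (cj g)) = Nat.card ↥B := card_map_cj B g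
  have hB'lt : B.map (cj g) < (S : Subgroup G) := by
    refine lt_of_le_of_ne hg ?_
    intro h
    have := card_lt_of_lt hBlt
    rw [h] at hB'card
    omega
  have hgrow' := Cfsg.Agent.Helper11.lt_inf_normalizer (S : Subgroup G) _ S.2 hB'lt
  have hcardNB' : Nat.card ↥B < Nat.card ↥((S : Subgroup G) ⊓ normalizer ((B.map (cj g) : Subgroup G) : Set G) : Subgroup G) := by
    have := card_lt_of_lt hgrow'
    omega
  obtain ⟨hP_NB', -⟩ := big _ inf_le_left hcardNB'
  have hGDg₂ : GD 𝓦 (S : Subgroup G) ((B.map (cj g) : Subgroup G) : Set G) g₂ :=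
    (hP_NB' g₂ (hg₂N.trans inf_le_left)).mono (fun a ha => hgrow'.le ha)
  -- m
  have hm : g₂ * g * u⁻¹ ∈ normalizer ((B.map (cj u) : Subgroup G) : Set G) := by
    rw [mem_normalizer_iff_map_cj, map_cj_mul]
    have e : g₂ * g * u⁻¹ * u = g₂ * g := by group
    rw [e, ← map_cj_mul]
    exact hg₂
  have hUlt : B.map (cj u) < (S : Subgroup G) := by
    refine lt_of_le_of_ne hUS ?_
    intro h
    have h1 := card_map_cj B u
    have := card_lt_of_lt hBlt
    rw [h] at h1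
    omega
  have hgrowU := Cfsg.Agent.Helper11.lt_inf_normalizer (S : Subgroup G) _ S.2 hUlt
  have hcardR : Nat.card ↥B < Nat.card ↥((S : Subgroup G) ⊓ normalizer ((B.map (cj u) : Subgroup G) : Set G) : Subgroup G) := by
    have := card_lt_of_lt hgrowU
    have h1 := card_map_cj B u
    omega
  obtain ⟨-, hQ_R⟩ := big _ inf_le_left hcardR
  have hUR : ((B.map (cj u) : Subgroup G) : Set G) ⊆
      ((S : Subgroup G) ⊓ normalizer ((B.map (cj u) : Subgroup G) : Set G) : Subgroup G) :=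
    fun a ha => hgrowU.le ha
  have hmU : lc (g₂ * g * u⁻¹) ((B.map (cj u) : Subgroup G) : Set G) = ((B.map (cj u) : Subgroup G) : Set G) := by
    rw [lc_coe, mem_normalizer_iff_map_cj.mp hm]
  have hGDm : GD 𝓦 (S : Subgroup G) ((B.map (cj u) : Subgroup G) : Set G) (g₂ * g * u⁻¹) :=
    gd_local S h𝓦 hloc hUS hUne hu2 hQ_R hm hUR (by rw [hmU]; exact hUR)
  have hinv := hGDg₂.inv
  rw [lc_coe, hg₂] at hinv
  have h1 : GD 𝓦 (S : Subgroup G) (lc u (B : Set G)) (g₂ * g * u⁻¹) := by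
    rw [lc_coe]; exact hGDm
  have h2 : GD 𝓦 (S : Subgroup G) (lc (g₂ * g * u⁻¹ * u) (B : Set G)) g₂⁻¹ := by
    rw [lc_mul, lc_coe, hmU]
    exact hinv
  have := (hGDu.comp h1).comp h2
  have e : g₂⁻¹ * (g₂ * g * u⁻¹ * u) = g := by group
  rwa [e] at this

include h𝓦 hloc in
/-- local-to-global control of strong fusion for a set of conjugacy functors -/
theorem familyControls_of_extremal : Cfsg.FamilyControlsStrongFusionIn p 𝓦 ⊤ := by
  refine ⟨(S : Subgroup G), le_top, S.2, ?_, ?_⟩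
  · rw [Subgroup.relIndex_top_right]
    exact S.not_dvd_index
  · intro A h _ hA hAh
    have hT : Subgroup.closure A ≤ (S : Subgroup G) := (Subgroup.closure_le _).mpr hA
    have hTg : (Subgroup.closure A).map (cj h) ≤ (S : Subgroup G) := by
      rw [MonoidHom.map_closure, Subgroup.closure_le]
      rintro _ ⟨a, ha, rfl⟩
      exact hAh ⟨a, ha, rfl⟩
    obtain ⟨hP, -⟩ := gd_main S h𝓦 hloc _ _ hT rfl
    obtain ⟨z, hz, hzA⟩ := (hP h hTg).mono (Subgroup.subset_closure (k := A))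
    obtain ⟨n, c, h0, hstep, himg, hlast⟩ := hz.to_seq
    refine ⟨n, c, h0, hstep, himg, ?_⟩
    intro a ha
    rw [hlast]
    exact hzA a ha

end main

end Cfsg.Agent.Helper10
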