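import Mathlib
import Cfsg.Prelude.Def_ConjugacyFunctors
import Cfsg.Agent.Helper10.FamilyFusion
import Cfsg.Agent.Helper10.IndFunctor
import Cfsg.Agent.Helper10.IndFunctor2
import Cfsg.Agent.Helper10.Alperin
import Cfsg.Agent.Helper10.SylowSub

set_option autoImplicit false
set_option linter.unusedSectionVars false
set_option linter.unusedVariables false

/-! # Control of strong fusion by a set of isomorphism-invariant functors: transport lemmas -/

namespace Cfsg.Agent.Helper10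

open Subgroup Cfsg.Agent.Helper14

universe u

section Hom

variable {M X : Type*} [Group M] [Group X]

theorem lc_image_hom (φ : M →* X) (g : M) (A : Set M) : lc (φ g) (φ '' A) = φ '' (lc g A) := by
  unfold lc
  rw [Set.image_image, Set.image_image]
  apply Set.image_congr
  intro a _
  simp

theorem FChain.map_hom (φ : M →* X) {𝓦M : Set (Subgroup M → Subgroup M)}
    {𝓦X : Set (Subgroup X → Subgroup X)} {H T : Subgroup M}
    (hcompat : ∀ W ∈ 𝓦M, ∃ W' ∈ 𝓦X, W' (T.map φ) = (W T).map φ)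
    {A : Set M} {z : M} (h : FChain 𝓦M H T A z) :
    FChain 𝓦X (H.map φ) (T.map φ) (φ '' A) (φ z) := by
  induction h with
  | nil h =>
    rw [map_one]
    apply FChain.nil
    rintro _ ⟨a, ha, rfl⟩
    exact ⟨a, h ha, rfl⟩
  | step z m W _ hW hm him ih =>
    obtain ⟨W', hW', hWe⟩ := hcompat W hW
    rw [map_mul]
    refine FChain.step _ _ W' ih hW' ⟨⟨m, hm.1, rfl⟩, ?_⟩ ?_
    · rw [hWe]
      exact Subgroup.le_normalizer_map φ ⟨m, hm.2, rfl⟩
    · rw [← map_mul, lc_image_hom]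
      rintro _ ⟨a, ha, rfl⟩
      exact ⟨a, him ha, rfl⟩

end Hom

section Claim

variable (p : ℕ) (𝓦 : Set (∀ (Q : Type u) [Group Q], Subgroup Q))

/-- the family of conjugacy functors induced on `X` -/
def iFam (X : Type u) [Group X] : Set (Subgroup X → Subgroup X) :=
  (fun W => Cfsg.inducedFunctor (G := X) W) '' 𝓦

/-- all fusion in every Sylow `p`-subgroup of `X` is a chain through the `N(W(T))` -/
def Claim (X : Type u) [Group X] : Prop :=
  ∀ (T : Sylow p X) (A : Set X) (g : X), A ⊆ (T : Subgroup X) → lc g A ⊆ (T : Subgroup X) →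
    ∃ z, FChain (iFam 𝓦 X) ⊤ (T : Subgroup X) A z ∧ ∀ a ∈ A, z * a * z⁻¹ = g * a * g⁻¹

variable {p 𝓦} [Fact p.Prime]

theorem iFam_conj (h𝓦 : ∀ W ∈ 𝓦, Cfsg.IsCharPFunctor.{u} p W) (X : Type u) [Group X] [Finite X] :
    ∀ W ∈ iFam 𝓦 X, Cfsg.IsConjugacyFunctor p W := by
  rintro _ ⟨W, hW, rfl⟩ P hP
  refine ⟨iF_le P, fun hne => iF_ne_bot (h𝓦 W hW) hP hne, fun g => ?_⟩
  exact (iF_map_conj (h𝓦 W hW) g hP).symm

theorem claim_of_controls (h𝓦 : ∀ W ∈ 𝓦, Cfsg.IsCharPFunctor.{u} p W) {X : Type u} [Group X] [Finite X]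
    (h : Cfsg.FamilyControlsStrongFusionIn p (iFam 𝓦 X) ⊤) : Claim p 𝓦 X := by
  intro T A g hA hgA
  have hidx : ¬ p ∣ (T : Subgroup X).relIndex ⊤ := by
    rw [Subgroup.relIndex_top_right]
    exact T.not_dvd_index
  exact familyControls_sylow (iFam_conj h𝓦 X) h le_top T.2 hidx A g (Subgroup.mem_top g) hA hgA

theorem controls_of_claim {X : Type u} [Group X] [Finite X] (h : Claim p 𝓦 X) :
    Cfsg.FamilyControlsStrongFusionIn p (iFam 𝓦 X) ⊤ := by
  obtain ⟨T⟩ : Nonempty (Sylow p X) := inferInstance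
  refine ⟨(T : Subgroup X), le_top, T.2, ?_, ?_⟩
  · rw [Subgroup.relIndex_top_right]
    exact T.not_dvd_index
  · intro A g _ hA hgA
    obtain ⟨z, hz, hzA⟩ := h T A g hA hgA
    obtain ⟨n, c, h0, hstep, himg, hlast⟩ := hz.to_seq
    refine ⟨n, c, h0, hstep, himg, ?_⟩
    intro a ha
    rw [hlast]
    exact hzA a ha

/-- transport along an isomorphism -/
theorem claim_of_equiv (h𝓦 : ∀ W ∈ 𝓦, Cfsg.IsCharPFunctor.{u} p W) {Y Z : Type u} [Group Y] [Group Z]
    [Finite Y] [Finite Z] (e : Y ≃* Z) (h : Claim p 𝓦 Z) : Claim p 𝓦 Y := by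
  intro T A g hA hgA
  have hes : Function.Surjective e.toMonoidHom := e.surjective
  have hT' : ((T.mapSurjective hes : Sylow p Z) : Subgroup Z) = (T : Subgroup Y).map e.toMonoidHom :=
    Sylow.coe_mapSurjective _ _
  have hA' : e.toMonoidHom '' A ⊆ ((T.mapSurjective hes : Sylow p Z) : Subgroup Z) := by
    rw [hT']
    rintro _ ⟨a, ha, rfl⟩
    exact ⟨a, hA ha, rfl⟩
  have hgA' : lc (e.toMonoidHom g) (e.toMonoidHom '' A) ⊆
      ((T.mapSurjective hes : Sylow p Z) : Subgroup Z) := by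
    rw [hT', lc_image_hom]
    rintro _ ⟨a, ha, rfl⟩
    exact ⟨a, hgA ha, rfl⟩
  obtain ⟨z, hz, hzA⟩ := h (T.mapSurjective hes) _ _ hA' hgA'
  rw [hT'] at hz
  have hTp' : IsPGroup p ↥((T : Subgroup Y).map e.toMonoidHom) := T.2.map _
  have hmap := FChain.map_hom (𝓦X := iFam 𝓦 Y) e.symm.toMonoidHom (T := (T : Subgroup Y).map e.toMonoidHom)
    (by
      rintro _ ⟨W, hW, rfl⟩
      refine ⟨_, ⟨W, hW, rfl⟩, ?_⟩
      exact (iF_map_equiv (h𝓦 W hW) e.symm hTp').symm) hz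
  have e1 : ((T : Subgroup Y).map e.toMonoidHom).map e.symm.toMonoidHom = (T : Subgroup Y) := by
    rw [Subgroup.map_map]
    have : e.symm.toMonoidHom.comp e.toMonoidHom = MonoidHom.id Y := by
      ext y; simp
    rw [this, Subgroup.map_id]
  have e2 : e.symm.toMonoidHom '' (e.toMonoidHom '' A) = A := by
    rw [Set.image_image]
    simp
  rw [e1, e2] at hmap
  refine ⟨e.symm.toMonoidHom z, hmap.mono_H le_top, ?_⟩
  intro a ha
  have h1 := hzA (e.toMonoidHom a) ⟨a, ha, rfl⟩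
  have h2 := congrArg e.symm.toMonoidHom h1
  simpa using h2

/-- from `Claim` for a subgroup `M` to chains in `X` through `M ⊓ N_X(W(T))` -/
theorem claim_sub (h𝓦 : ∀ W ∈ 𝓦, Cfsg.IsCharPFunctor.{u} p W) {X : Type u} [Group X] [Finite X]
    (M : Subgroup X) (h : Claim p 𝓦 ↥M) (T : Sylow p ↥M) (A : Set X) (g : X) (hg : g ∈ M)
    (hA : A ⊆ ((T : Subgroup ↥M).map M.subtype : Subgroup X))
    (hgA : lc g A ⊆ ((T : Subgroup ↥M).map M.subtype : Subgroup X)) :
    ∃ z, FChain (iFam 𝓦 X) M ((T : Subgroup ↥M).map M.subtype) A z ∧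
      ∀ a ∈ A, z * a * z⁻¹ = g * a * g⁻¹ := by
  have hAM : M.subtype '' (M.subtype ⁻¹' A) = A := by
    apply Set.image_preimage_eq_of_subset
    intro a ha
    obtain ⟨t, -, rfl⟩ := hA ha
    exact ⟨t, rfl⟩
  have hA' : M.subtype ⁻¹' A ⊆ (T : Subgroup ↥M) := by
    intro a ha
    obtain ⟨t, ht, hta⟩ := hA ha
    have : t = a := Subtype.ext hta
    rw [← this]; exact ht
  have hgA' : lc (⟨g, hg⟩ : ↥M) (M.subtype ⁻¹' A) ⊆ (T : Subgroup ↥M) := by
    rintro _ ⟨a, ha, rfl⟩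
    obtain ⟨t, ht, hta⟩ := hgA ⟨(a : X), ha, rfl⟩
    have : t = (⟨g, hg⟩ : ↥M) * a * (⟨g, hg⟩ : ↥M)⁻¹ := Subtype.ext hta
    change (⟨g, hg⟩ : ↥M) * a * (⟨g, hg⟩ : ↥M)⁻¹ ∈ (T : Subgroup ↥M)
    rw [← this]; exact ht
  obtain ⟨z, hz, hzA⟩ := h T _ _ hA' hgA'
  have hmap := FChain.map_hom (𝓦X := iFam 𝓦 X) M.subtype (T := (T : Subgroup ↥M))
    (by
      rintro _ ⟨W, hW, rfl⟩
      refine ⟨_, ⟨W, hW, rfl⟩, ?_⟩
      exact (iF_map_subtype (h𝓦 W hW) M T.2).symm) hz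
  rw [hAM] at hmap
  have htop : (⊤ : Subgroup ↥M).map M.subtype = M := by
    rw [← MonoidHom.range_eq_map, Subgroup.range_subtype]
  rw [htop] at hmap
  refine ⟨M.subtype z, hmap, ?_⟩
  intro a ha
  have haM : a ∈ M := by
    obtain ⟨t, -, rfl⟩ := hA ha
    exact t.2
  have h1 := hzA ⟨a, haM⟩ ha
  have h2 := congrArg M.subtype h1
  simpa using h2

end Claim

end Cfsg.Agent.Helper10
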