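import Mathlib
import Cfsg.Agent.Helper10.SecFusion1
import Cfsg.Agent.Helper10.NormLemmas
import Cfsg.Agent.Lead.SylowNumber3

set_option autoImplicit false
set_option linter.unusedSectionVars false
set_option linter.unusedVariables false

/-! # Control of strong fusion by a set of isomorphism-invariant functors: reduction lemmas -/

namespace Cfsg.Agent.Helper10

open Subgroup Cfsg.Agent.Helper14

universe u

section General

variable {X : Type*} [Group X] [Finite X] {p : ℕ} [Fact p.Prime]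

/-- Alperin: it suffices to decompose the normalizers of tame intersections -/
theorem gd_of_tame {𝓦 : Set (Subgroup X → Subgroup X)} (P : Sylow p X)
    (h : ∀ D ∈ tameFam p P, ∀ x ∈ normalizer (D : Set X), GD 𝓦 (P : Subgroup X) (D : Set X) x)
    (A : Set X) (g : X) (hA : A ⊆ (P : Subgroup X)) (hgA : lc g A ⊆ (P : Subgroup X)) :
    GD 𝓦 (P : Subgroup X) A g := by
  have key : ∀ (l : List (Subgroup X × X)) (A : Set X), A ⊆ (P : Subgroup X) →
      Dec (tameFam p P) A l → GD 𝓦 (P : Subgroup X) A (lprod l)⁻¹ := by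
    intro l
    induction l with
    | nil =>
      intro A hA _
      rw [lprod_nil, inv_one]
      exact GD.of_trivial hA (fun a _ => by group)
    | cons e l ih =>
      obtain ⟨T, x⟩ := e
      intro A hA hd
      obtain ⟨hT, hx, hAT, hd'⟩ := hd
      have h1 : GD 𝓦 (P : Subgroup X) A x⁻¹ := (h T hT x⁻¹ (inv_mem hx)).mono hAT
      have hlc : lc x⁻¹ A = rc x A := by rw [lc_eq_rc, inv_inv]
      have hrc : rc x A ⊆ (P : Subgroup X) := by
        have h2 : rc x A ⊆ rc x (T : Set X) := rc_mono x hAT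
        rw [rc_of_mem_normalizer hx] at h2
        exact h2.trans (tameFam_le hT)
      have h3 := ih (rc x A) hrc hd'
      rw [← hlc] at h3
      have := h1.comp h3
      rw [lprod_cons, mul_inv_rev]
      exact this
  have hgA' : rc g⁻¹ A ⊆ (P : Subgroup X) := by
    rw [← lc_eq_rc]; exact hgA
  obtain ⟨l, hd, -, hl⟩ := alperin_tame P A g⁻¹ hA hgA'
  have := key l A hA hd
  rwa [hl, inv_inv] at this

/-- Sylow conjugation inside `T R` by an element of `R` -/
theorem exists_conj_le_of_normalizes (T : Sylow p X) (R : Subgroup X)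
    (hTR : (T : Subgroup X) ≤ normalizer (R : Set X)) (B : Subgroup X) (hB : IsPGroup p ↥B)
    (hBle : B ≤ (T : Subgroup X) ⊔ R) : ∃ y ∈ R, ∀ b ∈ B, y * b * y⁻¹ ∈ (T : Subgroup X) := by
  obtain ⟨c, hc, hcB⟩ := exists_conj_le_sylow_of_le T ((T : Subgroup X) ⊔ R) B le_sup_left hB hBle
  have hc' : c ∈ (((T : Subgroup X) ⊔ R : Subgroup X) : Set X) := hc
  rw [Subgroup.coe_mul_of_left_le_normalizer_right _ _ hTR] at hc'
  obtain ⟨t, ht, y, hy, rfl⟩ := Set.mem_mul.1 hc'
  refine ⟨y, hy, ?_⟩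
  intro b hb
  have h1 := hcB b hb
  have e : y * b * y⁻¹ = t⁻¹ * (t * y * b * (t * y)⁻¹) * t := by group
  rw [e]
  exact (T : Subgroup X).mul_mem ((T : Subgroup X).mul_mem ((T : Subgroup X).inv_mem ht) h1) ht

/-- the intersection of a Sylow subgroup with a normal subgroup has index prime to `p` in it -/
theorem not_dvd_relIndex_inf_normal (P : Sylow p X) (K : Subgroup X) [hK : K.Normal] :
    ¬ p ∣ ((P : Subgroup X) ⊓ K).relIndex K := by
  have hPK : (P : Subgroup X) ≤ normalizer (K : Set X) := by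
    rw [Subgroup.normalizer_eq_top_iff.2 hK]; exact le_top
  have h1 := Cfsg.Agent.Lead.relIndex_sup_of_le_normalizer (P : Subgroup X) K hPK
  rw [Subgroup.inf_relIndex_right, ← h1]
  intro h2
  exact P.not_dvd_index (h2.trans (Subgroup.relIndex_dvd_index_of_le le_sup_left))

/-- Frattini argument for fusion: fusion in `P` is generated by fusion in `P K` and in `N(P ∩ K)` -/
theorem frattini_fusion (P : Sylow p X) (K : Subgroup X) [hK : K.Normal]
    (A : Set X) (g : X) (hA : A ⊆ (P : Subgroup X)) (hgA : lc g A ⊆ (P : Subgroup X)) :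
    ∃ l ∈ (P : Subgroup X) ⊔ K, ∃ n ∈ normalizer (((P : Subgroup X) ⊓ K : Subgroup X) : Set X),
      g = n * l ∧ lc l A ⊆ (P : Subgroup X) := by
  have hQp : IsPGroup p ↥(((P : Subgroup X) ⊓ K).subgroupOf K) :=
    (P.2.to_le inf_le_left).comap_subtype
  let PK : Sylow p ↥K := hQp.toSylow (not_dvd_relIndex_inf_normal P K)
  have hPK : (PK : Subgroup ↥K).map K.subtype = (P : Subgroup X) ⊓ K := by
    change (((P : Subgroup X) ⊓ K).subgroupOf K).map K.subtype = (P : Subgroup X) ⊓ K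
    rw [Subgroup.subgroupOf_map_subtype, inf_of_le_left inf_le_right]
  have hfr := Sylow.normalizer_sup_eq_top PK
  rw [hPK] at hfr
  have hg : g ∈ ((normalizer (((P : Subgroup X) ⊓ K : Subgroup X) : Set X) ⊔ K : Subgroup X) : Set X) := by
    rw [hfr]; exact Subgroup.mem_top g
  rw [Subgroup.mul_normal] at hg
  obtain ⟨n, hn, k, hk, rfl⟩ := Set.mem_mul.1 hg
  -- the closure of `k A k⁻¹`
  have hninv : n⁻¹ ∈ normalizer (((P : Subgroup X) ⊓ K : Subgroup X) : Set X) := inv_mem hn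
  have hB1 : ∀ a ∈ A, k * a * k⁻¹ ∈ (P : Subgroup X).map (cj n⁻¹) := by
    intro a ha
    rw [mem_map_cj, inv_inv]
    have := hgA ⟨a, ha, rfl⟩
    have e : n * (k * a * k⁻¹) * n⁻¹ = n * k * a * (n * k)⁻¹ := by group
    rw [e]; exact this
  have hB2 : ∀ a ∈ A, k * a * k⁻¹ ∈ (P : Subgroup X) ⊔ K := by
    intro a ha
    have e : k * a * k⁻¹ = k * (a * k⁻¹ * a⁻¹) * a := by group
    rw [e]
    exact Subgroup.mul_mem _ (Subgroup.mem_sup_right (K.mul_mem hk (hK.conj_mem _ (K.inv_mem hk) a)))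
      (Subgroup.mem_sup_left (hA ha))
  have hP'K : (P : Subgroup X).map (cj n⁻¹) ⊓ K = (P : Subgroup X) ⊓ K := by
    have h1 : K.map (cj n⁻¹) = K := by
      apply mem_normalizer_iff_map_cj.1
      rw [Subgroup.normalizer_eq_top_iff.2 hK]; exact Subgroup.mem_top _
    have h2 : ((P : Subgroup X) ⊓ K).map (cj n⁻¹) = (P : Subgroup X) ⊓ K :=
      mem_normalizer_iff_map_cj.1 hninv
    rw [← h2, Subgroup.map_inf _ _ _ (cj_injective n⁻¹), h1]
  have hP'n : (P : Subgroup X).map (cj n⁻¹) ≤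
      normalizer (((P : Subgroup X) ⊓ K : Subgroup X) : Set X) := by
    rw [← hP'K]
    apply le_normalizer_inf_of_le Subgroup.le_normalizer
    rw [Subgroup.normalizer_eq_top_iff.2 hK]; exact le_top
  have hBle : Subgroup.closure (lc k A) ≤
      ((P : Subgroup X) ⊔ K) ⊓ normalizer (((P : Subgroup X) ⊓ K : Subgroup X) : Set X) := by
    rw [Subgroup.closure_le]
    rintro _ ⟨a, ha, rfl⟩
    exact ⟨hB2 a ha, hP'n (hB1 a ha)⟩
  have hBp : IsPGroup p ↥(Subgroup.closure (lc k A)) := by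
    have h1 : Subgroup.closure (lc k A) ≤ (P : Subgroup X).map (cj n⁻¹) := by
      rw [Subgroup.closure_le]
      rintro _ ⟨a, ha, rfl⟩
      exact hB1 a ha
    exact (P.2.map (cj n⁻¹)).to_le h1
  have hPL : (P : Subgroup X) ≤
      ((P : Subgroup X) ⊔ K) ⊓ normalizer (((P : Subgroup X) ⊓ K : Subgroup X) : Set X) := by
    refine le_inf le_sup_left ?_
    apply le_normalizer_inf_of_le Subgroup.le_normalizer
    rw [Subgroup.normalizer_eq_top_iff.2 hK]; exact le_top
  obtain ⟨m, hm, hmB⟩ := exists_conj_le_sylow_of_le P _ _ hPL hBp hBle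
  refine ⟨m * k, Subgroup.mul_mem _ hm.1 (Subgroup.mem_sup_right hk), n * m⁻¹,
    Subgroup.mul_mem _ hn (Subgroup.inv_mem _ hm.2), by group, ?_⟩
  rintro _ ⟨a, ha, rfl⟩
  have h1 := hmB (k * a * k⁻¹) (Subgroup.subset_closure ⟨a, ha, rfl⟩)
  have e : m * k * a * (m * k)⁻¹ = m * (k * a * k⁻¹) * m⁻¹ := by group
  change m * k * a * (m * k)⁻¹ ∈ (P : Subgroup X)
  rw [e]; exact h1

end General

section Lift

variable {p : ℕ} [Fact p.Prime] {𝓦 : Set (∀ (Q : Type u) [Group Q], Subgroup Q)}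

/-- lifting control of strong fusion through a normal `p'`-subgroup -/
theorem claim_of_quotient_coprime (h𝓦 : ∀ W ∈ 𝓦, Cfsg.IsCharPFunctor.{u} p W)
    {X : Type u} [Group X] [Finite X] (Y₀ : Subgroup X) [hYn : Y₀.Normal]
    (hY : (Nat.card ↥Y₀).Coprime p) (h : Claim p 𝓦 (X ⧸ Y₀)) : Claim p 𝓦 X := by
  intro T A g hA hgA
  have hsurj := QuotientGroup.mk'_surjective Y₀
  have hT' : ((T.mapSurjective hsurj : Sylow p (X ⧸ Y₀)) : Subgroup (X ⧸ Y₀)) =
      (T : Subgroup X).map (QuotientGroup.mk' Y₀) := Sylow.coe_mapSurjective _ _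
  have hdisj : (T : Subgroup X) ⊓ Y₀ = ⊥ := by
    apply (Subgroup.disjoint_of_coprime_natCard _).eq_bot
    obtain ⟨k, hk⟩ := IsPGroup.iff_card.mp T.2
    rw [hk]
    exact (Nat.Coprime.pow_right k hY).symm
  have hinj : ∀ t ∈ (T : Subgroup X), (QuotientGroup.mk' Y₀) t = 1 → t = 1 := by
    intro t ht h1
    have h2 : t ∈ (T : Subgroup X) ⊓ Y₀ := ⟨ht, (QuotientGroup.eq_one_iff t).1 h1⟩
    rw [hdisj] at h2
    exact h2
  have hA' : (QuotientGroup.mk' Y₀) '' A ⊆ ((T.mapSurjective hsurj : Sylow p (X ⧸ Y₀)) : Subgroup (X ⧸ Y₀)) := by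
    rw [hT']
    rintro _ ⟨a, ha, rfl⟩
    exact ⟨a, hA ha, rfl⟩
  have hgA' : lc ((QuotientGroup.mk' Y₀) g) ((QuotientGroup.mk' Y₀) '' A) ⊆
      ((T.mapSurjective hsurj : Sylow p (X ⧸ Y₀)) : Subgroup (X ⧸ Y₀)) := by
    rw [hT', lc_image_hom]
    rintro _ ⟨a, ha, rfl⟩
    exact ⟨a, hgA ha, rfl⟩
  obtain ⟨zb, hzb, hzbA⟩ := h (T.mapSurjective hsurj) _ _ hA' hgA'
  rw [hT'] at hzb
  -- lifting chains
  have lift : ∀ zb : X ⧸ Y₀, FChain (iFam 𝓦 (X ⧸ Y₀)) ⊤ ((T : Subgroup X).map (QuotientGroup.mk' Y₀))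
      ((QuotientGroup.mk' Y₀) '' A) zb →
      ∃ z : X, (QuotientGroup.mk' Y₀) z = zb ∧ FChain (iFam 𝓦 X) ⊤ (T : Subgroup X) A z := by
    intro zb hch
    induction hch with
    | nil _ => exact ⟨1, map_one _, FChain.nil hA⟩
    | step zb mb W' hprev hW' hmb himb ih =>
      obtain ⟨z, hz, hch⟩ := ih
      obtain ⟨W, hW, rfl⟩ := hW'
      have hV : Cfsg.inducedFunctor W ((T : Subgroup X).map (QuotientGroup.mk' Y₀)) =
          (Cfsg.inducedFunctor W (T : Subgroup X)).map (QuotientGroup.mk' Y₀) :=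
        (iF_map_of_injOn (h𝓦 W hW) _ T.2 hinj).symm
      have hmb2 := hmb.2
      beta_reduce at hmb2
      rw [hV, normalizer_map_mk_of_coprime Y₀ hY (iF_isPGroup (W := W) T.2)] at hmb2
      obtain ⟨m₀, hm₀, hm₀e⟩ := hmb2
      have hTV : (T : Subgroup X) ≤ normalizer ((Cfsg.inducedFunctor W (T : Subgroup X) : Subgroup X) : Set X) :=
        Subgroup.le_normalizer.trans (normalizer_le_normalizer_iF (h𝓦 W hW) T.2)
      have hA'T : lc z A ⊆ (T : Subgroup X) := hch.image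
      -- the subgroup generated by `m₀ (z A z⁻¹) m₀⁻¹`
      have hBmem : ∀ b ∈ lc m₀ (lc z A), b ∈ (T : Subgroup X) ⊔
          (normalizer ((Cfsg.inducedFunctor W (T : Subgroup X) : Subgroup X) : Set X) ⊓ Y₀) := by
        rintro _ ⟨_, ⟨a, ha, rfl⟩, rfl⟩
        have hbN : m₀ * (z * a * z⁻¹) * m₀⁻¹ ∈
            normalizer ((Cfsg.inducedFunctor W (T : Subgroup X) : Subgroup X) : Set X) :=
          Subgroup.mul_mem _ (Subgroup.mul_mem _ hm₀ (hTV (hA'T ⟨a, ha, rfl⟩))) (Subgroup.inv_mem _ hm₀)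
        have hbT : (QuotientGroup.mk' Y₀) (m₀ * (z * a * z⁻¹) * m₀⁻¹) ∈
            (T : Subgroup X).map (QuotientGroup.mk' Y₀) := by
          have h1 := himb ⟨(QuotientGroup.mk' Y₀) a, ⟨a, ha, rfl⟩, rfl⟩
          have e : (QuotientGroup.mk' Y₀) (m₀ * (z * a * z⁻¹) * m₀⁻¹) =
              mb * zb * (QuotientGroup.mk' Y₀) a * (mb * zb)⁻¹ := by
            rw [← hm₀e, ← hz]
            simp only [map_mul, map_inv]
            group
          rw [e]
          exact h1
        have hb2 : m₀ * (z * a * z⁻¹) * m₀⁻¹ ∈ (((T : Subgroup X) ⊔ Y₀ : Subgroup X) : Set X) := by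
          have h3 : m₀ * (z * a * z⁻¹) * m₀⁻¹ ∈
              ((T : Subgroup X).map (QuotientGroup.mk' Y₀)).comap (QuotientGroup.mk' Y₀) := hbT
          rw [Subgroup.comap_map_eq, QuotientGroup.ker_mk'] at h3
          exact h3
        rw [Subgroup.mul_normal] at hb2
        obtain ⟨t, ht, y, hy, hty⟩ := Set.mem_mul.1 hb2
        have hyN : y ∈ normalizer ((Cfsg.inducedFunctor W (T : Subgroup X) : Subgroup X) : Set X) := by
          have e : y = t⁻¹ * (m₀ * (z * a * z⁻¹) * m₀⁻¹) := by rw [← hty]; group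
          rw [e]
          exact Subgroup.mul_mem _ (Subgroup.inv_mem _ (hTV ht)) hbN
        change m₀ * (z * a * z⁻¹) * m₀⁻¹ ∈ _
        rw [← hty]
        exact Subgroup.mul_mem _ (Subgroup.mem_sup_left ht) (Subgroup.mem_sup_right ⟨hyN, hy⟩)
      have hBle : Subgroup.closure (lc m₀ (lc z A)) ≤ (T : Subgroup X) ⊔
          (normalizer ((Cfsg.inducedFunctor W (T : Subgroup X) : Subgroup X) : Set X) ⊓ Y₀) := by
        rw [Subgroup.closure_le]
        exact hBmem
      have hBp : IsPGroup p ↥(Subgroup.closure (lc m₀ (lc z A))) := by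
        have h1 : Subgroup.closure (lc m₀ (lc z A)) ≤ (T : Subgroup X).map (cj m₀) := by
          rw [Subgroup.closure_le]
          rintro _ ⟨b, hb, rfl⟩
          exact ⟨b, hA'T hb, rfl⟩
        exact (T.2.map (cj m₀)).to_le h1
      have hTR : (T : Subgroup X) ≤ normalizer
          ((normalizer ((Cfsg.inducedFunctor W (T : Subgroup X) : Subgroup X) : Set X) ⊓ Y₀ : Subgroup X) : Set X) := by
        apply le_normalizer_inf_of_le (hTV.trans Subgroup.le_normalizer)
        rw [Subgroup.normalizer_eq_top_iff.2 hYn]; exact le_top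
      obtain ⟨y, hy, hyB⟩ := exists_conj_le_of_normalizes T _ hTR _ hBp hBle
      refine ⟨y * m₀ * z, ?_, ?_⟩
      · have hy1 : (QuotientGroup.mk' Y₀) y = 1 := (QuotientGroup.eq_one_iff y).2 hy.2
        rw [map_mul, map_mul, hz, hm₀e, hy1, one_mul]
      · refine FChain.step z (y * m₀) _ hch ⟨W, hW, rfl⟩
          ⟨Subgroup.mem_top _, Subgroup.mul_mem _ hy.1 hm₀⟩ ?_
        rintro _ ⟨a, ha, rfl⟩
        have h1 := hyB (m₀ * (z * a * z⁻¹) * m₀⁻¹)
          (Subgroup.subset_closure ⟨_, ⟨a, ha, rfl⟩, rfl⟩)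
        have e : y * m₀ * z * a * (y * m₀ * z)⁻¹ = y * (m₀ * (z * a * z⁻¹) * m₀⁻¹) * y⁻¹ := by group
        change y * m₀ * z * a * (y * m₀ * z)⁻¹ ∈ (T : Subgroup X)
        rw [e]; exact h1
  obtain ⟨z, hz, hch⟩ := lift zb hzb
  refine ⟨z, hch, ?_⟩
  intro a ha
  have h1 : z * a * z⁻¹ ∈ (T : Subgroup X) := hch.image ⟨a, ha, rfl⟩
  have h2 : g * a * g⁻¹ ∈ (T : Subgroup X) := hgA ⟨a, ha, rfl⟩
  have h3 := hzbA ((QuotientGroup.mk' Y₀) a) ⟨a, ha, rfl⟩
  rw [← hz] at h3
  have h4 : (QuotientGroup.mk' Y₀) ((z * a * z⁻¹)⁻¹ * (g * a * g⁻¹)) = 1 := by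
    simp only [map_mul, map_inv] at h3 ⊢
    rw [← h3]; group
  have h5 := hinj _ ((T : Subgroup X).mul_mem ((T : Subgroup X).inv_mem h1) h2) h4
  exact inv_mul_eq_one.1 h5

end Lift

end Cfsg.Agent.Helper10
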