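import Mathlib
import Cfsg.Agent.Helper10.SecFusion2
import Cfsg.Agent.Helper10.NPCentral
import Cfsg.Agent.Helper10.ThompsonNPC
import Cfsg.Agent.Helper14.Irreducible4

set_option autoImplicit false
set_option linter.unusedSectionVars false
set_option linter.unusedVariables false

/-! # Control of strong fusion by a set of isomorphism-invariant functors: the induction -/

namespace Cfsg.Agent.Helper10

open Subgroup Cfsg.Agent.Helper14
open scoped Pointwise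

universe u

section General

variable {X : Type*} [Group X] [Finite X] {p : ℕ} [Fact p.Prime]

theorem GD.image {𝓦 : Set (Subgroup X → Subgroup X)} {S : Subgroup X} {A : Set X} {g : X}
    (h : GD 𝓦 S A g) : lc g A ⊆ S := by
  obtain ⟨z, hz, hzA⟩ := h
  rw [← lc_congr hzA]
  exact hz.image

/-- a subgroup `K ⊴ N(D)` acting on `D` as a `p`-group is covered by `C_K(D)` and `P ∩ K` -/
theorem le_inf_centralizer_sup_sylow {P D K : Subgroup X} (hP : IsPGroup p ↥P)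
    (hext : IsExt p P D) (hKN : K ≤ normalizer (D : Set X))
    (hNK : normalizer (D : Set X) ≤ normalizer (K : Set X))
    (hKp : ∀ k ∈ K, ∃ j : ℕ, k ^ (p ^ j) ∈ centralizer (D : Set X)) :
    K ≤ (K ⊓ centralizer (D : Set X)) ⊔ (P ⊓ K) := by
  have hp : p.Prime := Fact.out
  have hRK : P ⊓ normalizer (D : Set X) ⊓ K = P ⊓ K := by
    rw [inf_assoc, inf_of_le_right hKN]
  have hQsyl : ¬ p ∣ (P ⊓ K).relIndex K := by
    have h1 := Cfsg.Agent.Lead.relIndex_sup_of_le_normalizer (P ⊓ normalizer (D : Set X)) K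
      (inf_le_right.trans hNK)
    have h2 : (P ⊓ normalizer (D : Set X)).relIndex (P ⊓ normalizer (D : Set X) ⊔ K) ∣
        (P ⊓ normalizer (D : Set X)).relIndex (normalizer (D : Set X)) := by
      rw [← relIndex_mul_relIndex (P ⊓ normalizer (D : Set X)) (P ⊓ normalizer (D : Set X) ⊔ K)
        (normalizer (D : Set X)) le_sup_left (sup_le inf_le_right hKN)]
      exact dvd_mul_right _ _
    rw [h1, ← inf_relIndex_right, hRK] at h2
    intro h3
    exact hext (h3.trans h2)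
  have hCn : normalizer (D : Set X) ≤ normalizer ((centralizer (D : Set X) : Subgroup X) : Set X) :=
    le_normalizer_centralizer_of_le le_rfl
  have hnorm : ((centralizer (D : Set X)).subgroupOf K).Normal :=
    normal_subgroupOf_of_le_normalizer (hKN.trans hCn)
  have hquot : IsPGroup p (↥K ⧸ (centralizer (D : Set X)).subgroupOf K) := by
    intro q
    obtain ⟨k, rfl⟩ := QuotientGroup.mk_surjective q
    obtain ⟨j, hj⟩ := hKp k k.2
    refine ⟨j, ?_⟩
    rw [← QuotientGroup.mk_pow, QuotientGroup.eq_one_iff, mem_subgroupOf]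
    simpa using hj
  obtain ⟨n, hn⟩ := hquot.exists_card_eq
  have hCrel : (centralizer (D : Set X)).relIndex K = p ^ n := by
    rw [relIndex, index_eq_card]; exact hn
  rw [← relIndex_eq_one]
  have h1 : ((K ⊓ centralizer (D : Set X)) ⊔ (P ⊓ K)).relIndex K ∣ (P ⊓ K).relIndex K :=
    relIndex_dvd_of_le_left K le_sup_right
  have h2 : ((K ⊓ centralizer (D : Set X)) ⊔ (P ⊓ K)).relIndex K ∣ p ^ n := by
    have h2' : (centralizer (D : Set X)).relIndex K =
        (K ⊓ centralizer (D : Set X)).relIndex K := by rw [inf_comm, inf_relIndex_right]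
    rw [← hCrel, h2']
    exact relIndex_dvd_of_le_left K le_sup_left
  have h3 : Nat.Coprime (((K ⊓ centralizer (D : Set X)) ⊔ (P ⊓ K)).relIndex K) (p ^ n) := by
    apply Nat.Coprime.pow_right
    rw [Nat.coprime_comm, hp.coprime_iff_not_dvd]
    intro h4
    exact hQsyl (h4.trans h1)
  exact h3.eq_one_of_dvd h2

/-- the subgroup generated by the `p'`-elements of a normal subgroup is normal -/
theorem pResidual_map_subtype_normal (C : Subgroup X) [hC : C.Normal] :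
    ((Cfsg.pResidual p ↥C).map C.subtype).Normal := by
  have hS : (Cfsg.pResidual p ↥C).map C.subtype =
      Subgroup.closure {x : X | x ∈ C ∧ Nat.Coprime (orderOf x) p} := by
    unfold Cfsg.pResidual
    rw [MonoidHom.map_closure]
    congr 1
    ext x
    constructor
    · rintro ⟨c, hc, rfl⟩
      refine ⟨c.2, ?_⟩
      have : orderOf (C.subtype c) = orderOf c := Subgroup.orderOf_coe c
      rw [this]; exact hc
    · rintro ⟨hxC, hx⟩
      refine ⟨⟨x, hxC⟩, ?_, rfl⟩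
      have : orderOf ((⟨x, hxC⟩ : ↥C) : X) = orderOf (⟨x, hxC⟩ : ↥C) := Subgroup.orderOf_coe _
      change Nat.Coprime (orderOf (⟨x, hxC⟩ : ↥C)) p
      rw [← this]; exact hx
  rw [hS]
  constructor
  intro n hn g
  have hmap : (Subgroup.closure {x : X | x ∈ C ∧ Nat.Coprime (orderOf x) p}).map (cj g) =
      Subgroup.closure {x : X | x ∈ C ∧ Nat.Coprime (orderOf x) p} := by
    rw [MonoidHom.map_closure]
    congr 1
    ext x
    constructor
    · rintro ⟨y, ⟨hyC, hy⟩, rfl⟩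
      refine ⟨hC.conj_mem y hyC g, ?_⟩
      have : orderOf ((cj g) y) = orderOf y := orderOf_injective (cj g) (cj_injective g) y
      rw [this]; exact hy
    · rintro ⟨hxC, hx⟩
      refine ⟨g⁻¹ * x * g, ⟨?_, ?_⟩, ?_⟩
      · have := hC.conj_mem x hxC g⁻¹
        simpa using this
      · have : orderOf ((cj g⁻¹) x) = orderOf x := orderOf_injective (cj g⁻¹) (cj_injective g⁻¹) x
        have e : (cj g⁻¹) x = g⁻¹ * x * g := by simp [cj]
        rw [← e, this]; exact hx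
      · simp [cj]; group
  have : g * n * g⁻¹ ∈ (Subgroup.closure {x : X | x ∈ C ∧ Nat.Coprime (orderOf x) p}).map (cj g) :=
    ⟨n, hn, by simp [cj]⟩
  rwa [hmap] at this

/-- if `O_{p'}(X) = 1` and `P ∩ C_X(O_p(X)) ≤ O_p(X)` then `C_X(O_p(X)) ≤ O_p(X)` -/
theorem centralizer_pCore_le_of_sylow_inf_le (P : Sylow p X) (hpp : Cfsg.pPrimeCore p X = ⊥)
    (hPC : (P : Subgroup X) ⊓ centralizer ((Cfsg.pCore p X : Subgroup X) : Set X) ≤ Cfsg.pCore p X) :
    centralizer ((Cfsg.pCore p X : Subgroup X) : Set X) ≤ Cfsg.pCore p X := by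
  have hp : p.Prime := Fact.out
  obtain ⟨C, hC⟩ : ∃ C : Subgroup X, C = centralizer ((Cfsg.pCore p X : Subgroup X) : Set X) := ⟨_, rfl⟩
  rw [← hC] at hPC ⊢
  have hCn : C.Normal := by rw [hC]; infer_instance
  have hQp : IsPGroup p ↥(((P : Subgroup X) ⊓ C).subgroupOf C) :=
    (P.2.to_le inf_le_left).comap_subtype
  let PC : Sylow p ↥C := hQp.toSylow (not_dvd_relIndex_inf_normal P C)
  have hPCmem : ∀ x : ↥C, x ∈ (PC : Subgroup ↥C) → (x : X) ∈ Cfsg.pCore p X := by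
    intro x hx
    have hx' : x ∈ ((P : Subgroup X) ⊓ C).subgroupOf C := hx
    exact hPC (mem_subgroupOf.1 hx')
  have hnpc : Cfsg.HasNormalPComplement p ↥C := by
    apply hasNormalPComplement_of_central PC
    intro x hx r _
    have hxQ := hPCmem x hx.1
    have hr : (r : X) ∈ centralizer ((Cfsg.pCore p X : Subgroup X) : Set X) := hC ▸ r.2
    apply Subtype.ext
    simp only [Subgroup.coe_mul]
    exact (Subgroup.mem_centralizer_iff.1 hr _ hxQ)
  obtain ⟨N, hNn, hNc⟩ := (Cfsg.Agent.Helper9.hasNormalPComplement_iff PC).1 hnpc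
  have hNeq := Cfsg.Agent.Helper9.normal_complement_eq_pResidual PC N hNc
  have hNnX : (N.map C.subtype).Normal := by
    rw [hNeq]; exact pResidual_map_subtype_normal C
  have hNcop : (Nat.card ↥(N.map C.subtype)).Coprime p := by
    rw [← Nat.card_congr (N.equivMapOfInjective C.subtype C.subtype_injective).toEquiv,
      ← hNc.index_eq_card]
    exact (hp.coprime_iff_not_dvd.mpr PC.not_dvd_index).symm
  have hNbot : N.map C.subtype = ⊥ := by
    rw [eq_bot_iff, ← hpp]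
    exact le_pPrimeCore hNnX hNcop
  have hNbot' : N = ⊥ := (Subgroup.map_eq_bot_iff_of_injective _ C.subtype_injective).1 hNbot
  intro c hc
  obtain ⟨⟨n, z⟩, hnz⟩ := hNc.2 ⟨c, hc⟩
  have hn1 : (n : ↥C) = 1 := by
    have h1 : (n : ↥C) ∈ N := n.2
    have h2 : (n : ↥C) ∈ (⊥ : Subgroup ↥C) := hNbot' ▸ h1
    exact Subgroup.mem_bot.1 h2
  have hnz' : (n : ↥C) * (z : ↥C) = ⟨c, hc⟩ := hnz
  rw [hn1, one_mul] at hnz'
  have := hPCmem (z : ↥C) z.2
  rw [hnz'] at this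
  exact this

end General

section PC

variable {p : ℕ} [Fact p.Prime] {𝓦 : Set (∀ (Q : Type u) [Group Q], Subgroup Q)}
variable {X : Type u} [Group X] [Finite X]

local notation "𝒬" => Cfsg.pCore p X
local notation "π" => QuotientGroup.mk' (Cfsg.pCore p X)

theorem gd_of_sub (h𝓦 : ∀ W ∈ 𝓦, Cfsg.IsCharPFunctor.{u} p W) (P : Sylow p X) (M : Subgroup X)
    (hPM : (P : Subgroup X) ≤ M) (hM : Claim p 𝓦 ↥M) (A : Set X) (m : X) (hm : m ∈ M)
    (hA : A ⊆ (P : Subgroup X)) (hmA : lc m A ⊆ (P : Subgroup X)) :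
    GD (iFam 𝓦 X) (P : Subgroup X) A m := by
  have hT : ((P.subtype hPM : Sylow p ↥M) : Subgroup ↥M).map M.subtype = (P : Subgroup X) := by
    rw [Sylow.coe_subtype, Subgroup.subgroupOf_map_subtype, inf_of_le_left hPM]
  obtain ⟨z, hz, hzA⟩ := claim_sub h𝓦 M hM (P.subtype hPM) A m hm (by rw [hT]; exact hA)
    (by rw [hT]; exact hmA)
  rw [hT] at hz
  exact ⟨z, hz.mono_H le_top, hzA⟩

/-- the preimage of `N(W(P/Q))` is a proper subgroup when `P ≠ Q = O_p(X)` -/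
theorem comap_normalizer_iF_ne_top (h𝓦 : ∀ W ∈ 𝓦, Cfsg.IsCharPFunctor.{u} p W) (P : Sylow p X)
    (hPQ : (P : Subgroup X) ≠ 𝒬) {W : ∀ (Q : Type u) [Group Q], Subgroup Q} (hW : W ∈ 𝓦) :
    (normalizer ((Cfsg.inducedFunctor W ((P : Subgroup X).map π) : Subgroup (X ⧸ 𝒬)) : Set (X ⧸ 𝒬))).comap π ≠ ⊤ := by
  intro htop
  have hsurj := QuotientGroup.mk'_surjective 𝒬
  have hPbp : IsPGroup p ↥((P : Subgroup X).map π) := P.2.map _
  have hNtop : normalizer ((Cfsg.inducedFunctor W ((P : Subgroup X).map π) : Subgroup (X ⧸ 𝒬)) : Set (X ⧸ 𝒬)) = ⊤ := by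
    rw [← Subgroup.map_comap_eq_self_of_surjective hsurj (normalizer _), htop,
      Subgroup.map_top_of_surjective _ hsurj]
  have hn : (Cfsg.inducedFunctor W ((P : Subgroup X).map π)).Normal :=
    Subgroup.normalizer_eq_top_iff.1 hNtop
  have hle := Cfsg.Agent.Helper14.le_pCore p hn (iF_isPGroup (W := W) hPbp)
  rw [Cfsg.Agent.Helper14.pCore_quotient 𝒬 (Cfsg.Agent.Helper14.pCore_isPGroup p),
    QuotientGroup.map_mk'_self, le_bot_iff] at hle
  have hPb : (P : Subgroup X).map π = ⊥ := by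
    by_contra hne
    exact iF_ne_bot (h𝓦 W hW) hPbp hne hle
  apply hPQ
  apply le_antisymm _ (Cfsg.Agent.Helper14.pCore_le_sylow p P)
  intro x hx
  have h1 : π x ∈ (P : Subgroup X).map π := ⟨x, hx, rfl⟩
  rw [hPb, Subgroup.mem_bot] at h1
  exact (QuotientGroup.eq_one_iff x).1 h1

/-- lifting chains from `X / O_p(X)` -/
theorem lift_chain_pCore (h𝓦 : ∀ W ∈ 𝓦, Cfsg.IsCharPFunctor.{u} p W) (P : Sylow p X)
    (hPQ : (P : Subgroup X) ≠ 𝒬) (hsub : ∀ M : Subgroup X, M ≠ ⊤ → Claim p 𝓦 ↥M)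
    (A : Set X) (hA : A ⊆ (P : Subgroup X)) :
    ∀ zb : X ⧸ 𝒬, FChain (iFam 𝓦 (X ⧸ 𝒬)) ⊤ ((P : Subgroup X).map π) (π '' A) zb →
      ∃ z : X, π z = zb ∧ GD (iFam 𝓦 X) (P : Subgroup X) A z := by
  have hsurj := QuotientGroup.mk'_surjective 𝒬
  have hQP : 𝒬 ≤ (P : Subgroup X) := Cfsg.Agent.Helper14.pCore_le_sylow p P
  have hcm : ((P : Subgroup X).map π).comap π = (P : Subgroup X) := by
    rw [Subgroup.comap_map_eq, QuotientGroup.ker_mk', sup_eq_left.2 hQP]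
  intro zb hch
  induction hch with
  | nil _ => exact ⟨1, map_one _, GD.of_trivial hA (fun a _ => by group)⟩
  | step zb mb W' hprev hW' hmb himb ih =>
    obtain ⟨z, hz, hgd⟩ := ih
    obtain ⟨W, hW, rfl⟩ := hW'
    obtain ⟨m, rfl⟩ := hsurj mb
    have hmM : m ∈ (normalizer ((Cfsg.inducedFunctor W ((P : Subgroup X).map π) :
        Subgroup (X ⧸ 𝒬)) : Set (X ⧸ 𝒬))).comap π := hmb.2
    have hPM : (P : Subgroup X) ≤ (normalizer ((Cfsg.inducedFunctor W ((P : Subgroup X).map π) :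
        Subgroup (X ⧸ 𝒬)) : Set (X ⧸ 𝒬))).comap π := by
      intro x hx
      rw [Subgroup.mem_comap]
      have hPbp : IsPGroup p ↥((P : Subgroup X).map π) := P.2.map _
      exact (Subgroup.le_normalizer.trans (normalizer_le_normalizer_iF (h𝓦 W hW) hPbp)) ⟨x, hx, rfl⟩
    have hzA : lc z A ⊆ (P : Subgroup X) := hgd.image
    have hmzA : lc (m * z) A ⊆ (P : Subgroup X) := by
      rintro _ ⟨a, ha, rfl⟩
      have h1 := himb ⟨π a, ⟨a, ha, rfl⟩, rfl⟩
      have h2 : π (m * z * a * (m * z)⁻¹) ∈ (P : Subgroup X).map π := by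
        have e : π (m * z * a * (m * z)⁻¹) = π m * zb * π a * (π m * zb)⁻¹ := by
          rw [← hz]; simp only [map_mul, map_inv]
        rw [e]; exact h1
      have h3 : m * z * a * (m * z)⁻¹ ∈ ((P : Subgroup X).map π).comap π := h2
      rw [hcm] at h3
      exact h3
    have hstep : GD (iFam 𝓦 X) (P : Subgroup X) (lc z A) m :=
      gd_of_sub h𝓦 P _ hPM (hsub _ (comap_normalizer_iF_ne_top h𝓦 P hPQ hW)) _ m hmM hzA
        (by rw [← lc_mul]; exact hmzA)
    exact ⟨m * z, by rw [map_mul, hz], hgd.comp hstep⟩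

/-- if `X = P C_X(Q)` every element has a `p`-power in `C_X(Q)` -/
theorem exists_pow_mem_centralizer_of_PC (P : Sylow p X)
    (hPC : ∀ x : X, ∃ u ∈ (P : Subgroup X), ∃ c ∈ centralizer ((𝒬 : Subgroup X) : Set X), x = u * c)
    (x : X) : ∃ j : ℕ, x ^ (p ^ j) ∈ centralizer ((𝒬 : Subgroup X) : Set X) := by
  obtain ⟨u, hu, c, hc, rfl⟩ := hPC x
  obtain ⟨j, hj⟩ := P.2 ⟨u, hu⟩
  refine ⟨j, ?_⟩
  have hCn : (centralizer ((𝒬 : Subgroup X) : Set X)).Normal := inferInstance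
  have hu1 : u ^ (p ^ j) = 1 := congrArg Subtype.val hj
  have hc1 : (QuotientGroup.mk' (centralizer ((𝒬 : Subgroup X) : Set X))) c = 1 :=
    (QuotientGroup.eq_one_iff c).2 hc
  have h1 : (QuotientGroup.mk' (centralizer ((𝒬 : Subgroup X) : Set X))) ((u * c) ^ (p ^ j)) = 1 := by
    rw [map_pow, map_mul, hc1, mul_one, ← map_pow, hu1, map_one]
  exact (QuotientGroup.eq_one_iff _).1 h1

/-- the tame-intersection step when `X = P C_X(O_p(X))` -/
theorem gd_tame_of_PC (h𝓦 : ∀ W ∈ 𝓦, Cfsg.IsCharPFunctor.{u} p W) (P : Sylow p X)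
    (hPQ : (P : Subgroup X) ≠ 𝒬)
    (hPC : ∀ x : X, ∃ u ∈ (P : Subgroup X), ∃ c ∈ centralizer ((𝒬 : Subgroup X) : Set X), x = u * c)
    (hsub : ∀ M : Subgroup X, M ≠ ⊤ → Claim p 𝓦 ↥M) (hquot : Claim p 𝓦 (X ⧸ 𝒬))
    (D : Subgroup X) (hD : D ∈ tameFam p P) (x : X) (hx : x ∈ normalizer (D : Set X)) :
    GD (iFam 𝓦 X) (P : Subgroup X) (D : Set X) x := by
  have hp : p.Prime := Fact.out
  have hsurj := QuotientGroup.mk'_surjective 𝒬
  have hQP : 𝒬 ≤ (P : Subgroup X) := Cfsg.Agent.Helper14.pCore_le_sylow p P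
  have hDP : D ≤ (P : Subgroup X) := tameFam_le hD
  have hext : IsExt p (P : Subgroup X) D := by
    obtain ⟨Q', -, h1, -⟩ := hD
    exact h1
  have hQD : 𝒬 ≤ D := by
    obtain ⟨Q', rfl, -⟩ := hD
    exact le_inf hQP (Cfsg.Agent.Helper14.pCore_le_sylow p Q')
  have hPtop : (P : Subgroup X) ≠ ⊤ := by
    intro h
    apply hPQ
    rw [h]
    symm
    rw [eq_top_iff]
    apply Cfsg.Agent.Helper14.le_pCore p inferInstance
    rw [← h]; exact P.2
  have hPelt : ∀ u ∈ (P : Subgroup X), ∀ A : Set X, A ⊆ (P : Subgroup X) →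
      GD (iFam 𝓦 X) (P : Subgroup X) A u := by
    intro u hu A hA
    apply gd_of_sub h𝓦 P (P : Subgroup X) le_rfl (hsub _ hPtop) A u hu hA
    rintro _ ⟨a, ha, rfl⟩
    exact (P : Subgroup X).mul_mem ((P : Subgroup X).mul_mem hu (hA ha)) ((P : Subgroup X).inv_mem hu)
  have hPb : ((P.mapSurjective hsurj : Sylow p (X ⧸ 𝒬)) : Subgroup (X ⧸ 𝒬)) =
      (P : Subgroup X).map π := Sylow.coe_mapSurjective _ _
  have hA' : π '' (D : Set X) ⊆ ((P.mapSurjective hsurj : Sylow p (X ⧸ 𝒬)) : Subgroup (X ⧸ 𝒬)) := by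
    rw [hPb]
    rintro _ ⟨a, ha, rfl⟩
    exact ⟨a, hDP ha, rfl⟩
  have hxD : lc x (D : Set X) = D := by
    rw [lc_coe, mem_normalizer_iff_map_cj.1 hx]
  have hgA' : lc (π x) (π '' (D : Set X)) ⊆
      ((P.mapSurjective hsurj : Sylow p (X ⧸ 𝒬)) : Subgroup (X ⧸ 𝒬)) := by
    rw [lc_image_hom, hxD]
    exact hA'
  obtain ⟨zb, hzb, hzbA⟩ := hquot (P.mapSurjective hsurj) _ _ hA' hgA'
  rw [hPb] at hzb
  obtain ⟨z, hz, hgdz⟩ := lift_chain_pCore h𝓦 P hPQ hsub (D : Set X) hDP zb hzb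
  -- the element `d = z⁻¹ x`
  have hd1 : ∀ a ∈ D, π ((z⁻¹ * x) * a * (z⁻¹ * x)⁻¹) = π a := by
    intro a ha
    have h1 := hzbA (π a) ⟨a, ha, rfl⟩
    rw [← hz] at h1
    simp only [map_mul, map_inv]
    calc (π z)⁻¹ * π x * π a * ((π z)⁻¹ * π x)⁻¹
        = (π z)⁻¹ * (π x * π a * (π x)⁻¹) * π z := by group
      _ = (π z)⁻¹ * (π z * π a * (π z)⁻¹) * π z := by rw [h1]
      _ = π a := by group
  have hd2 : ∀ a ∈ D, (z⁻¹ * x) * a * (z⁻¹ * x)⁻¹ ∈ D := by
    intro a ha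
    have h1 : a⁻¹ * ((z⁻¹ * x) * a * (z⁻¹ * x)⁻¹) ∈ 𝒬 := by
      apply (QuotientGroup.eq_one_iff _).1
      have h2 : π (a⁻¹ * ((z⁻¹ * x) * a * (z⁻¹ * x)⁻¹)) = 1 := by
        rw [map_mul, hd1 a ha, map_inv, inv_mul_cancel]
      exact h2
    have e : (z⁻¹ * x) * a * (z⁻¹ * x)⁻¹ = a * (a⁻¹ * ((z⁻¹ * x) * a * (z⁻¹ * x)⁻¹)) := by group
    rw [e]
    exact D.mul_mem ha (hQD h1)
  have hdN : z⁻¹ * x ∈ normalizer (D : Set X) := by
    rw [mem_normalizer_iff_map_cj]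
    apply Subgroup.eq_of_le_of_card_ge
    · rintro _ ⟨a, ha, rfl⟩
      exact hd2 a ha
    · rw [card_map_cj]
  obtain ⟨𝒳, h𝒳⟩ : ∃ 𝒳 : Subgroup X, 𝒳 = normalizer (D : Set X) ⊓
      (centralizer ((D.map π : Subgroup (X ⧸ 𝒬)) : Set (X ⧸ 𝒬))).comap π := ⟨_, rfl⟩
  have hmem𝒳 : ∀ k : X, k ∈ 𝒳 ↔ k ∈ normalizer (D : Set X) ∧ ∀ a ∈ D, π a * π k = π k * π a := by
    intro k
    rw [h𝒳, Subgroup.mem_inf, Subgroup.mem_comap]
    constructor
    · rintro ⟨h1, h2⟩
      refine ⟨h1, fun a ha => ?_⟩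
      exact Subgroup.mem_centralizer_iff.1 h2 (π a) ⟨a, ha, rfl⟩
    · rintro ⟨h1, h2⟩
      refine ⟨h1, ?_⟩
      apply Subgroup.mem_centralizer_iff.2
      rintro _ ⟨a, ha, rfl⟩
      exact h2 a ha
  have hd𝒳 : z⁻¹ * x ∈ 𝒳 := by
    rw [hmem𝒳]
    refine ⟨hdN, fun a ha => ?_⟩
    have h1 := hd1 a ha
    rw [map_mul, map_mul, map_inv] at h1
    calc π a * π (z⁻¹ * x) = (π (z⁻¹ * x) * π a * (π (z⁻¹ * x))⁻¹) * π (z⁻¹ * x) := by rw [h1]
      _ = π (z⁻¹ * x) * π a := by group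
  have h𝒳N : 𝒳 ≤ normalizer (D : Set X) := by rw [h𝒳]; exact inf_le_left
  have hN𝒳 : normalizer (D : Set X) ≤ normalizer (𝒳 : Set X) := by
    rw [h𝒳]
    apply le_normalizer_inf_of_le Subgroup.le_normalizer
    intro n hn
    have h1 : π n ∈ normalizer ((D.map π : Subgroup (X ⧸ 𝒬)) : Set (X ⧸ 𝒬)) :=
      Subgroup.le_normalizer_map π ⟨n, hn, rfl⟩
    have h2 : π n ∈ normalizer ((centralizer ((D.map π : Subgroup (X ⧸ 𝒬)) : Set (X ⧸ 𝒬)) :
        Subgroup (X ⧸ 𝒬)) : Set (X ⧸ 𝒬)) := le_normalizer_centralizer_of_le le_rfl h1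
    exact Subgroup.le_normalizer_comap π h2
  have hpow : ∀ k ∈ 𝒳, ∃ j : ℕ, k ^ (p ^ j) ∈ centralizer (D : Set X) := by
    intro k hk
    obtain ⟨j, hj⟩ := exists_pow_mem_centralizer_of_PC P hPC k
    obtain ⟨b, hb⟩ := IsPGroup.iff_card.mp (Cfsg.Agent.Helper14.pCore_isPGroup (G := X) p)
    refine ⟨j + b, ?_⟩
    have hk' : k ^ (p ^ j) ∈ 𝒳 := 𝒳.pow_mem hk _
    have e : k ^ (p ^ (j + b)) = (k ^ (p ^ j)) ^ (Nat.card ↥𝒬) := by
      rw [hb, ← pow_mul, ← pow_add]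
    rw [e]
    obtain ⟨k', hk'e⟩ : ∃ k' : X, k' = k ^ (p ^ j) := ⟨_, rfl⟩
    rw [← hk'e] at hj hk' ⊢
    apply Subgroup.mem_centralizer_iff.2
    intro a ha
    have hq : k' * a * k'⁻¹ * a⁻¹ ∈ 𝒬 := by
      apply (QuotientGroup.eq_one_iff _).1
      have h1 := ((hmem𝒳 k').1 hk').2 a ha
      have h2 : π (k' * a * k'⁻¹ * a⁻¹) = 1 := by
        simp only [map_mul, map_inv]
        rw [← h1]; group
      exact h2
    have hcomm : Commute k' (k' * a * k'⁻¹ * a⁻¹) :=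
      (Subgroup.mem_centralizer_iff.1 hj _ hq).symm
    have hconj : ∀ n : ℕ, k' ^ n * a * (k' ^ n)⁻¹ = (k' * a * k'⁻¹ * a⁻¹) ^ n * a := by
      intro n
      induction n with
      | zero => simp
      | succ n ih =>
        have h1 : k' * (k' * a * k'⁻¹ * a⁻¹) ^ n * k'⁻¹ = (k' * a * k'⁻¹ * a⁻¹) ^ n := by
          rw [(hcomm.pow_right n).eq, mul_inv_cancel_right]
        calc k' ^ (n + 1) * a * (k' ^ (n + 1))⁻¹ = k' * (k' ^ n * a * (k' ^ n)⁻¹) * k'⁻¹ := by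
              rw [pow_succ']; group
          _ = k' * ((k' * a * k'⁻¹ * a⁻¹) ^ n * a) * k'⁻¹ := by rw [ih]
          _ = (k' * (k' * a * k'⁻¹ * a⁻¹) ^ n * k'⁻¹) * (k' * a * k'⁻¹ * a⁻¹) * a := by group
          _ = (k' * a * k'⁻¹ * a⁻¹) ^ (n + 1) * a := by rw [h1, ← pow_succ]
    have hq1 : (k' * a * k'⁻¹ * a⁻¹) ^ (Nat.card ↥𝒬) = 1 := by
      have := pow_card_eq_one' (G := ↥𝒬) (x := ⟨_, hq⟩)
      exact congrArg Subtype.val this
    have h3 := hconj (Nat.card ↥𝒬)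
    rw [hq1, one_mul] at h3
    calc a * k' ^ (Nat.card ↥𝒬) = (k' ^ (Nat.card ↥𝒬) * a * (k' ^ (Nat.card ↥𝒬))⁻¹) * k' ^ (Nat.card ↥𝒬) := by
          rw [h3]
      _ = k' ^ (Nat.card ↥𝒬) * a := by group
  have hcover := le_inf_centralizer_sup_sylow P.2 hext h𝒳N hN𝒳 hpow hd𝒳
  have hPn : (P : Subgroup X) ⊓ 𝒳 ≤ normalizer ((𝒳 ⊓ centralizer (D : Set X) : Subgroup X) : Set X) := by
    apply le_normalizer_inf_of_le (inf_le_right.trans Subgroup.le_normalizer)
    exact (inf_le_right.trans h𝒳N).trans (le_normalizer_centralizer_of_le le_rfl)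
  have hmem : z⁻¹ * x ∈ ((𝒳 ⊓ centralizer (D : Set X) : Subgroup X) : Set X) *
      (((P : Subgroup X) ⊓ 𝒳 : Subgroup X) : Set X) := by
    rw [← Subgroup.coe_mul_of_right_le_normalizer_left _ _ hPn]
    exact hcover
  obtain ⟨c₀, hc₀, u, hu, hcu⟩ := Set.mem_mul.1 hmem
  have huD : lc u (D : Set X) = D := by
    rw [lc_coe, mem_normalizer_iff_map_cj.1 (h𝒳N hu.2)]
  have h1 : GD (iFam 𝓦 X) (P : Subgroup X) (D : Set X) u := hPelt u hu.1 _ hDP
  have h2 : GD (iFam 𝓦 X) (P : Subgroup X) (lc u (D : Set X)) c₀ := by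
    rw [huD]
    apply GD.of_trivial hDP
    intro a ha
    have := Subgroup.mem_centralizer_iff.1 hc₀.2 a ha
    rw [← this]; group
  have h3 : GD (iFam 𝓦 X) (P : Subgroup X) (D : Set X) (c₀ * u) := h1.comp h2
  rw [hcu] at h3
  have hdD : lc (z⁻¹ * x) (D : Set X) = D := by
    rw [lc_coe, mem_normalizer_iff_map_cj.1 hdN]
  have h4 : GD (iFam 𝓦 X) (P : Subgroup X) (lc (z⁻¹ * x) (D : Set X)) z := by
    rw [hdD]; exact hgdz
  have h5 := h3.comp h4
  have e : z * (z⁻¹ * x) = x := by group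
  rwa [e] at h5

/-- from `Claim` for a subgroup `M` to `FamilyControlsStrongFusionIn … M` -/
theorem controls_sub (h𝓦 : ∀ W ∈ 𝓦, Cfsg.IsCharPFunctor.{u} p W) (M : Subgroup X)
    (h : Claim p 𝓦 ↥M) : Cfsg.FamilyControlsStrongFusionIn p (iFam 𝓦 X) M := by
  obtain ⟨T⟩ : Nonempty (Sylow p ↥M) := inferInstance
  refine ⟨(T : Subgroup ↥M).map M.subtype, Subgroup.map_subtype_le _, T.2.map _, ?_, ?_⟩
  · have : ((T : Subgroup ↥M).map M.subtype).relIndex M = (T : Subgroup ↥M).index := by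
      rw [Subgroup.relIndex, Subgroup.subgroupOf,
        Subgroup.comap_map_eq_self_of_injective M.subtype_injective]
    rw [this]; exact T.not_dvd_index
  · intro A g hg hA hgA
    obtain ⟨z, hz, hzA⟩ := claim_sub h𝓦 M h T A g hg hA hgA
    obtain ⟨n, c, h0, hstep, himg, hlast⟩ := hz.to_seq
    exact ⟨n, c, h0, hstep, himg, fun a ha => by rw [hlast]; exact hzA a ha⟩

/-- the case `O_p(X) = 1`: local-to-global -/
theorem claim_of_pCore_bot (h𝓦 : ∀ W ∈ 𝓦, Cfsg.IsCharPFunctor.{u} p W) (hQ : 𝒬 = ⊥)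
    (hsub : ∀ M : Subgroup X, M ≠ ⊤ → Claim p 𝓦 ↥M) : Claim p 𝓦 X := by
  obtain ⟨S⟩ : Nonempty (Sylow p X) := inferInstance
  apply claim_of_controls h𝓦
  apply familyControls_of_extremal S (iFam_conj h𝓦 X)
  intro T hTS hTne _
  apply controls_sub h𝓦
  apply hsub
  intro htop
  apply hTne
  have hn : T.Normal := Subgroup.normalizer_eq_top_iff.1 htop
  have := Cfsg.Agent.Helper14.le_pCore p hn (S.2.to_le hTS)
  rw [hQ] at this
  exact le_bot_iff.1 this

end PC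

section Main

variable {p : ℕ} [Fact p.Prime] {𝓦 : Set (∀ (Q : Type u) [Group Q], Subgroup Q)}

/-- the main induction: control of strong fusion in the constrained members of a class closed under
subgroups and quotients gives control of strong fusion in all its members -/
theorem claim_all (h𝓦 : ∀ W ∈ 𝓦, Cfsg.IsCharPFunctor.{u} p W)
    (𝒞 : ∀ (Y : Type u) [Group Y], Prop)
    (hsub𝒞 : ∀ (Y : Type u) [Group Y], 𝒞 Y → ∀ M : Subgroup Y, 𝒞 ↥M)
    (hquot𝒞 : ∀ (Y : Type u) [Group Y], 𝒞 Y → ∀ (N : Subgroup Y) [N.Normal], 𝒞 (Y ⧸ N))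
    (Hc : ∀ (Y : Type u) [Group Y] [Finite Y], 𝒞 Y →
      centralizer ((Cfsg.pCore p Y : Subgroup Y) : Set Y) ≤ Cfsg.pCore p Y → Claim p 𝓦 Y) :
    ∀ (n : ℕ) (X : Type u) [Group X] [Finite X], Nat.card X = n → 𝒞 X → Claim p 𝓦 X := by
  intro n
  induction n using Nat.strong_induction_on with
  | _ n ih =>
  intro X _ _ hn hX
  have IH : ∀ (Y : Type u) [Group Y] [Finite Y], Nat.card Y < Nat.card X → 𝒞 Y → Claim p 𝓦 Y :=
    fun Y _ _ hlt hY => ih (Nat.card Y) (hn ▸ hlt) Y rfl hY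
  have hsub : ∀ M : Subgroup X, M ≠ ⊤ → Claim p 𝓦 ↥M :=
    fun M hM => IH _ (card_subgroup_lt_of_ne_top hM) (hsub𝒞 X hX M)
  have hquot : ∀ (N : Subgroup X) [N.Normal], N ≠ ⊥ → Claim p 𝓦 (X ⧸ N) :=
    fun N _ hN => IH _ (card_quotient_lt_of_ne_bot hN) (hquot𝒞 X hX N)
  -- Step 0: `O_{p'}(X) = 1`
  by_cases hO : Cfsg.pPrimeCore p X = ⊥
  swap
  · exact claim_of_quotient_coprime h𝓦 (Cfsg.pPrimeCore p X)
      (Cfsg.Agent.Helper23.pPrimeCore_card_coprime p X) (hquot _ hO)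
  -- Step 1: the constrained case
  by_cases hcon : centralizer ((Cfsg.pCore p X : Subgroup X) : Set X) ≤ Cfsg.pCore p X
  · exact Hc X hX hcon
  -- Step 2
  by_cases hQ : Cfsg.pCore p X = ⊥
  · exact claim_of_pCore_bot h𝓦 hQ hsub
  intro P A g hA hgA
  have hQP : Cfsg.pCore p X ≤ (P : Subgroup X) := Cfsg.Agent.Helper14.pCore_le_sylow p P
  have hCn : (centralizer ((Cfsg.pCore p X : Subgroup X) : Set X)).Normal := inferInstance
  have hKn : (Cfsg.pCore p X ⊔ centralizer ((Cfsg.pCore p X : Subgroup X) : Set X)).Normal :=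
    inferInstance
  by_cases hN : normalizer ((((P : Subgroup X) ⊓
      (Cfsg.pCore p X ⊔ centralizer ((Cfsg.pCore p X : Subgroup X) : Set X)) : Subgroup X)) : Set X) = ⊤
  · exfalso
    apply hcon
    apply centralizer_pCore_le_of_sylow_inf_le P hO
    have hn : ((P : Subgroup X) ⊓
      (Cfsg.pCore p X ⊔ centralizer ((Cfsg.pCore p X : Subgroup X) : Set X))).Normal :=
      Subgroup.normalizer_eq_top_iff.1 hN
    have := Cfsg.Agent.Helper14.le_pCore p hn (P.2.to_le inf_le_left)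
    exact (inf_le_inf_left _ le_sup_right).trans this
  by_cases hPK : (P : Subgroup X) ⊔
      (Cfsg.pCore p X ⊔ centralizer ((Cfsg.pCore p X : Subgroup X) : Set X)) = ⊤
  · have hPQ : (P : Subgroup X) ≠ Cfsg.pCore p X := by
      intro h
      apply hN
      rw [h, inf_of_le_left le_sup_left]
      exact Subgroup.normalizer_eq_top_iff.2 inferInstance
    have hPC : ∀ x : X, ∃ u ∈ (P : Subgroup X),
        ∃ c ∈ centralizer ((Cfsg.pCore p X : Subgroup X) : Set X), x = u * c := by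
      intro x
      have hx : x ∈ (((P : Subgroup X) ⊔ centralizer ((Cfsg.pCore p X : Subgroup X) : Set X) :
          Subgroup X) : Set X) := by
        have h1 : (P : Subgroup X) ⊔ centralizer ((Cfsg.pCore p X : Subgroup X) : Set X) = ⊤ := by
          rw [← hPK, ← sup_assoc, sup_eq_left.2 hQP]
        rw [h1]; exact Subgroup.mem_top x
      rw [Subgroup.mul_normal] at hx
      obtain ⟨u, hu, c, hc, rfl⟩ := Set.mem_mul.1 hx
      exact ⟨u, hu, c, hc, rfl⟩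
    exact gd_of_tame P (gd_tame_of_PC h𝓦 P hPQ hPC hsub (hquot _ hQ)) A g hA hgA
  · obtain ⟨l, hl, n', hn', rfl, hlA⟩ := frattini_fusion P
      (Cfsg.pCore p X ⊔ centralizer ((Cfsg.pCore p X : Subgroup X) : Set X)) A g hA hgA
    have h1 : GD (iFam 𝓦 X) (P : Subgroup X) A l :=
      gd_of_sub h𝓦 P _ le_sup_left (hsub _ hPK) A l hl hA hlA
    have hPN : (P : Subgroup X) ≤ normalizer ((((P : Subgroup X) ⊓
        (Cfsg.pCore p X ⊔ centralizer ((Cfsg.pCore p X : Subgroup X) : Set X)) : Subgroup X)) : Set X) := by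
      apply le_normalizer_inf_of_le Subgroup.le_normalizer
      rw [Subgroup.normalizer_eq_top_iff.2 hKn]; exact le_top
    have h2 : GD (iFam 𝓦 X) (P : Subgroup X) (lc l A) n' :=
      gd_of_sub h𝓦 P _ hPN (hsub _ hN) (lc l A) n' hn' hlA (by rw [← lc_mul]; exact hgA)
    exact h1.comp h2

end Main

end Cfsg.Agent.Helper10
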