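import Mathlib
import Cfsg.Agent.Helper10.BG10C
import Cfsg.Agent.S1448
import Cfsg.Agent.Helper19.RankTwoStructA

/-!
# B&G Corollary 10.7(c) (conditional form): Sylow subgroups of rank at most two
-/

set_option autoImplicit false
set_option linter.unusedSectionVars false
set_option linter.unusedVariables false
set_option linter.style.haveILetI false

namespace Cfsg.Agent.Helper10.BG10

open Subgroup Cfsg
open scoped commutatorElement
open Cfsg.Agent.Helper21.BG10 (Uniq96 Ctl101)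

universe u

variable {G : Type u} [Group G] [Finite G]

/-- a Sylow subgroup has a complement in its normalizer -/
theorem exists_isComplIn_normalizer {p : ℕ} [hp : Fact p.Prime] (P : Sylow p G) :
    ∃ V : Subgroup G, Cfsg.IsComplIn (P : Subgroup G) V
        (Subgroup.normalizer ((P : Subgroup G) : Set G)) ∧
      (Nat.card V).Coprime p := by
  set N : Subgroup G := Subgroup.normalizer ((P : Subgroup G) : Set G) with hN
  have hPN : (P : Subgroup G) ≤ N := Subgroup.le_normalizer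
  set H : Subgroup N := (P : Subgroup G).subgroupOf N with hH
  haveI hHn : H.Normal := Subgroup.normal_in_normalizer
  have hHmap : H.map N.subtype = (P : Subgroup G) := Subgroup.map_subgroupOf_eq_of_le hPN
  have hcardH : Nat.card H = Nat.card (P : Subgroup G) := by
    rw [← hHmap, Subgroup.card_map_of_injective N.subtype_injective]
  have hidx : ¬ p ∣ H.index := by
    intro hd
    have h1 : H.index ∣ (P : Subgroup G).index := by
      have := Subgroup.relIndex_mul_index hPN
      exact Dvd.intro _ this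
    exact P.not_dvd_index (hd.trans h1)
  have hcop : (Nat.card H).Coprime H.index := by
    obtain ⟨k, hk⟩ := IsPGroup.iff_card.mp P.isPGroup'
    rw [hcardH, hk]
    apply Nat.Coprime.pow_left
    rw [Nat.Prime.coprime_iff_not_dvd hp.out]
    exact hidx
  obtain ⟨K, hK⟩ := Subgroup.exists_right_complement'_of_coprime hcop
  refine ⟨K.map N.subtype, ⟨hPN, Subgroup.map_subtype_le _, ?_, ?_⟩, ?_⟩
  · rw [eq_bot_iff]
    rintro x ⟨hx1, ⟨y, hy, rfl⟩⟩
    have h1 : y ∈ H ⊓ K := ⟨hx1, hy⟩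
    rw [hK.disjoint.eq_bot, Subgroup.mem_bot] at h1
    rw [h1]; exact Subgroup.one_mem _
  · intro m hm
    obtain ⟨⟨a, b⟩, hab⟩ := hK.2 (⟨m, hm⟩ : N)
    refine ⟨a.1.1, a.2, b.1.1, ⟨b.1, b.2, rfl⟩, ?_⟩
    have := congrArg Subtype.val hab
    simpa using this.symm
  · rw [Subgroup.card_map_of_injective N.subtype_injective]
    have h1 : Nat.card K = H.index := by
      have h2 := hK.card_mul_card
      have h3 := H.card_mul_index
      exact Nat.eq_of_mul_eq_mul_left Nat.card_pos (h2.trans h3.symm)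
    rw [h1]
    exact ((Nat.Prime.coprime_iff_not_dvd hp.out).mpr hidx).symm

/-- **B&G Corollary 10.7(c)** (= S1412), relative to 9.6, 10.1(a), 10.4 and 3.6 -/
theorem cor_10_7_c (hG : Cfsg.IsMinSimpleOddOrder G) (h96 : Uniq96 G)
    (h101 : Ctl101 G) (h104 : Lem104 G) (h36 : Thm36.{u}) (p : ℕ) [hp : Fact p.Prime]
    (P : Sylow p G) (hr : Cfsg.PRankLE p 2 (P : Subgroup G)) :
    IsMulCommutative (P : Subgroup G) ∨ ∃ P₁ P₂ : Subgroup G, P₁ ⊔ P₂ = (P : Subgroup G) ∧
      (∀ a ∈ P₁, ∀ b ∈ P₂, a * b = b * a) ∧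
        ¬ IsMulCommutative P₁ ∧ Nat.card P₁ = p ^ 3 ∧ Monoid.exponent P₁ = p ∧ IsCyclic P₂ ∧
        Subgroup.closure {x : G | x ∈ P₂ ∧ x ^ p = 1} =
          P₁ ⊓ Subgroup.centralizer (P₁ : Set G) := by
  by_cases hP1 : (P : Subgroup G) = ⊥
  · left
    refine ⟨⟨fun a b => ?_⟩⟩
    have hbot : ∀ x ∈ (P : Subgroup G), x = 1 := by
      intro x hx
      rw [hP1, Subgroup.mem_bot] at hx
      exact hx
    have ha : (a : G) = 1 := hbot _ a.2
    have hb : (b : G) = 1 := hbot _ b.2
    apply Subtype.ext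
    simp [ha, hb]
  obtain ⟨V, hV, hVcop⟩ := exists_isComplIn_normalizer P
  have hb := (cor_10_7_b hG h96 h101 h104 h36 p P V hV).1
  have hpG : p ∣ Nat.card G := by
    obtain ⟨k, hk⟩ := IsPGroup.iff_card.mp P.isPGroup'
    have hk0 : k ≠ 0 := by
      rintro rfl
      rw [pow_zero] at hk
      exact hP1 (Subgroup.card_eq_one.mp hk)
    have h1 : p ∣ Nat.card (P : Subgroup G) := by rw [hk]; exact dvd_pow_self p hk0
    exact h1.trans (Subgroup.card_subgroup_dvd_card _)
  have hp2 : p ≠ 2 := by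
    rintro rfl
    have h1 : ¬ Even (Nat.card G) := Nat.not_even_iff_odd.mpr hG.1
    exact h1 (even_iff_two_dvd.mpr hpG)
  have hVodd : Odd (Nat.card V) := Odd.of_dvd_nat hG.1 (Subgroup.card_subgroup_dvd_card V)
  obtain ⟨-, hres⟩ := Cfsg.Agent.S1448.result p hp2 (P : Subgroup G) V P.isPGroup' hP1 hr hV.2.1
    hVcop hVodd hb.symm
  rcases hres with h | ⟨R₁, R₂, h1, h2, h3, h4, h5, h6, h7⟩
  · exact Or.inl h
  · right
    refine ⟨R₁, R₂, h1, h2, h3, h4, h5, h6, ?_⟩
    rw [h7]
    have hnonab : ∃ x ∈ R₁, ∃ y ∈ R₁, x * y ≠ y * x := by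
      by_contra hcon
      push Not at hcon
      apply h3
      exact ⟨⟨fun a b => Subtype.ext (hcon a a.2 b b.2)⟩⟩
    obtain ⟨hc1, hc2⟩ := Cfsg.Agent.Helper19.RankTwoStruct.center_of_card_cube R₁ h4 hnonab
    apply Subgroup.eq_of_le_of_card_ge hc2
    rw [hc1]
    have hne : (⁅R₁, R₁⁆ : Subgroup G) ≠ ⊥ := by
      intro hbot
      obtain ⟨x, hx, y, hy, hxy⟩ := hnonab
      apply hxy
      have h8 : ⁅x, y⁆ ∈ (⁅R₁, R₁⁆ : Subgroup G) := Subgroup.commutator_mem_commutator hx hy
      rw [hbot, Subgroup.mem_bot, commutatorElement_eq_one_iff_mul_comm] at h8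
      exact h8
    have hd : Nat.card (⁅R₁, R₁⁆ : Subgroup G) ∣ p := hc1 ▸ Subgroup.card_dvd_of_le hc2
    rcases (Nat.dvd_prime hp.out).mp hd with h | h
    · exact absurd (Subgroup.card_eq_one.mp h) hne
    · exact h.ge

end Cfsg.Agent.Helper10.BG10
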