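import Mathlib
import Cfsg.Agent.Helper10.BG10C
import Cfsg.Agent.Helper14.Conj

/-!
# B&G Corollary 10.7(c),(d),(e) (conditional form): `N_G(P)` controls fusion of subgroups of `P`
-/

set_option autoImplicit false
set_option linter.unusedSectionVars false
set_option linter.unusedVariables false
set_option linter.style.haveILetI false

namespace Cfsg.Agent.Helper10.BG10

open Subgroup Cfsg
open Cfsg.Agent.Helper14 (cj cj_apply mem_map_cj map_cj_mul map_cj_map_cj_inv map_cj_inv_map_cj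
  mem_normalizer_iff_map_cj map_cj_le_iff mem_sylow_smul)
open Cfsg.Agent.Helper21.BG10 (Uniq96 Ctl101)

universe u

variable {G : Type u} [Group G] [Finite G]

theorem map_cj_mul_of_mem_centralizer (Q : Subgroup G) {m c : G}
    (hc : c ∈ Subgroup.centralizer (Q : Set G)) : Q.map (cj (m * c)) = Q.map (cj m) := by
  ext x
  constructor
  · rintro ⟨q, hq, rfl⟩
    refine ⟨q, hq, ?_⟩
    have h1 : q * c = c * q := (Subgroup.mem_centralizer_iff.mp hc) q hq
    rw [cj_apply, cj_apply]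
    calc m * q * m⁻¹ = m * (q * c) * c⁻¹ * m⁻¹ := by group
      _ = m * (c * q) * c⁻¹ * m⁻¹ := by rw [h1]
      _ = m * c * q * (m * c)⁻¹ := by group
  · rintro ⟨q, hq, rfl⟩
    refine ⟨q, hq, ?_⟩
    have h1 : q * c = c * q := (Subgroup.mem_centralizer_iff.mp hc) q hq
    rw [cj_apply, cj_apply]
    calc m * c * q * (m * c)⁻¹ = m * (c * q) * c⁻¹ * m⁻¹ := by group
      _ = m * (q * c) * c⁻¹ * m⁻¹ := by rw [h1]
      _ = m * q * m⁻¹ := by group

/-- every `p`-subgroup lies in a conjugate of the Sylow subgroup `P` -/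
theorem exists_map_cj_le_sylow {p : ℕ} [hp : Fact p.Prime] (P : Sylow p G) {R : Subgroup G}
    (hR : IsPGroup p R) : ∃ g : G, R.map (cj g) ≤ (P : Subgroup G) := by
  obtain ⟨S, hS⟩ := hR.exists_le_sylow
  obtain ⟨g, hg⟩ := MulAction.exists_smul_eq G P S
  refine ⟨g⁻¹, ?_⟩
  rintro _ ⟨x, hx, rfl⟩
  have h1 : x ∈ (g • P : Sylow p G) := by rw [hg]; exact hS hx
  rw [mem_sylow_smul] at h1
  rw [cj_apply, inv_inv]
  exact h1

/-- **B&G Corollary 10.7(c)**: fusion of subgroups of `P` is controlled by `N_G(P)` -/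
theorem cor_10_7_fusion (hG : Cfsg.IsMinSimpleOddOrder G) (h96 : Uniq96 G)
    (h101 : Ctl101 G) (h104 : Lem104 G) (h36 : Thm36.{u}) (p : ℕ) [hp : Fact p.Prime]
    (P : Sylow p G) (Q : Subgroup G) (x : G) (hQP : Q ≤ (P : Subgroup G))
    (hQx : Q.map (cj x) ≤ (P : Subgroup G)) :
    ∃ y ∈ Subgroup.normalizer ((P : Subgroup G) : Set G), Q.map (cj x) = Q.map (cj y) := by
  by_cases hQ1 : Q = ⊥
  · refine ⟨1, Subgroup.one_mem _, ?_⟩
    rw [hQ1, Subgroup.map_bot, Subgroup.map_bot]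
  have hP1 : (P : Subgroup G) ≠ ⊥ := by
    intro h
    apply hQ1
    rw [eq_bot_iff, ← h]; exact hQP
  have hPtop := sylow_ne_top hG P
  have hNtop := Cfsg.Agent.Lead.TT.normalizer_ne_top_of_simple hG.2.1 hP1 hPtop
  obtain ⟨M, hM, hNM⟩ := (eq_top_or_exists_le_coatom _).resolve_left hNtop
  have hPM : (P : Subgroup G) ≤ M := Subgroup.le_normalizer.trans hNM
  have hpσ := mem_sigma_of_normalizer_le P hP1 hNM
  haveI hMsolv : Group.IsSolvable M := hG.2.2.2 M hM.1
  obtain ⟨m, hm, c, hc, rfl⟩ := h101 M hM p hpσ Q (P.isPGroup'.to_le hQP) hQ1 (hQP.trans hPM) x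
    (hQx.trans hPM)
  rw [map_cj_mul_of_mem_centralizer Q hc] at hQx ⊢
  set P' : Sylow p M := P.subtype hPM with hP'
  have hpl := pLengthLE_one_coatom hG h96 h101 h104 h36 hM p
  obtain ⟨-, h2, -⟩ := Cfsg.Agent.S1461.result p hpl P'
  have hP'mem : ∀ z : M, z ∈ (P' : Subgroup M) ↔ (z : G) ∈ (P : Subgroup G) := by
    intro z
    rw [hP', Sylow.coe_subtype, Subgroup.mem_subgroupOf]
  obtain ⟨g, hg, c', hc', hgc⟩ := h2 ((Q.subgroupOf M : Subgroup M) : Set M) ⟨m, hm⟩
    (by
      intro z hz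
      exact (hP'mem z).mpr (hQP (Subgroup.mem_subgroupOf.mp hz)))
    (by
      rintro _ ⟨z, hz, rfl⟩
      apply (hP'mem _).mpr
      apply hQx
      exact ⟨(z : G), Subgroup.mem_subgroupOf.mp hz, rfl⟩)
  refine ⟨(g : G), ?_, ?_⟩
  · have h4 := Subgroup.le_normalizer_map (H := (P' : Subgroup M)) M.subtype
    rw [sylow_subtype_map P hPM] at h4
    exact h4 ⟨g, hg, rfl⟩
  · have h5 : m = (g : G) * (c' : G) := by
      have := congrArg Subtype.val hgc
      simpa using this.symm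
    have h6 : (c' : G) ∈ Subgroup.centralizer (Q : Set G) := by
      rw [Subgroup.mem_centralizer_iff]
      intro q hq
      have hqM : q ∈ M := (hQP.trans hPM) hq
      have h7 := (Subgroup.mem_centralizer_iff.mp hc') ⟨q, hqM⟩ (Subgroup.mem_subgroupOf.mpr hq)
      exact congrArg Subtype.val h7
    rw [h5, map_cj_mul_of_mem_centralizer Q h6]

/-- weak closure: a subgroup of `P` normalized by `N_G(P)` is weakly closed in `P` -/
theorem weakly_closed (hG : Cfsg.IsMinSimpleOddOrder G) (h96 : Uniq96 G)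
    (h101 : Ctl101 G) (h104 : Lem104 G) (h36 : Thm36.{u}) (p : ℕ) [hp : Fact p.Prime]
    (P : Sylow p G) (Q : Subgroup G) (hQP : Q ≤ (P : Subgroup G))
    (hNQ : Subgroup.normalizer ((P : Subgroup G) : Set G) ≤ Subgroup.normalizer (Q : Set G))
    (x : G) (hQx : Q.map (cj x) ≤ (P : Subgroup G)) : Q.map (cj x) = Q := by
  obtain ⟨y, hy, hxy⟩ := cor_10_7_fusion hG h96 h101 h104 h36 p P Q x hQP hQx
  rw [hxy]
  exact mem_normalizer_iff_map_cj.mp (hNQ hy)

/-- **B&G Corollary 10.7(c),(d),(e)** (= S1413), relative to 9.6, 10.1(a), 10.4 and 3.6 -/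
theorem cor_10_7_cde (hG : Cfsg.IsMinSimpleOddOrder G) (h96 : Uniq96 G)
    (h101 : Ctl101 G) (h104 : Lem104 G) (h36 : Thm36.{u}) (p : ℕ) [hp : Fact p.Prime]
    (P : Sylow p G) :
    (∀ (Q : Subgroup G) (x : G), Q ≤ (P : Subgroup G) →
        Q.map (MulAut.conj x).toMonoidHom ≤ (P : Subgroup G) →
        ∃ y ∈ Subgroup.normalizer ((P : Subgroup G) : Set G),
          Q.map (MulAut.conj x).toMonoidHom = Q.map (MulAut.conj y).toMonoidHom) ∧
      (∀ Q : Subgroup G, Q ≤ (P : Subgroup G) →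
        ¬ p ∣ ((P : Subgroup G) ⊓ Subgroup.normalizer (Q : Set G)).relIndex
          (Subgroup.normalizer (Q : Set G))) ∧
      (∀ (R Q : Subgroup G), IsPGroup p R → Q ≤ (P : Subgroup G) ⊓ R →
        Subgroup.normalizer ((P : Subgroup G) : Set G) ≤ Subgroup.normalizer (Q : Set G) →
        Subgroup.normalizer (R : Set G) ≤ Subgroup.normalizer (Q : Set G)) := by
  refine ⟨?_, ?_, ?_⟩
  · intro Q x hQP hQx
    exact cor_10_7_fusion hG h96 h101 h104 h36 p P Q x hQP hQx
  · intro Q hQP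
    set T : Subgroup G := Subgroup.normalizer (Q : Set G) with hT
    have hQT : Q ≤ T := Subgroup.le_normalizer
    -- a Sylow `p`-subgroup `S` of `T` containing `P ∩ T`
    have hPTp : IsPGroup p (((P : Subgroup G) ⊓ T).subgroupOf T) :=
      (P.isPGroup'.to_le inf_le_left).comap_subtype
    obtain ⟨S, hS⟩ := hPTp.exists_le_sylow
    set R : Subgroup G := (S : Subgroup T).map T.subtype with hR
    have hRT : R ≤ T := Subgroup.map_subtype_le _
    have hRp : IsPGroup p R := S.isPGroup'.map _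
    have hPTR : (P : Subgroup G) ⊓ T ≤ R := by
      intro z hz
      exact ⟨⟨z, hz.2⟩, hS (Subgroup.mem_subgroupOf.mpr hz), rfl⟩
    have hQR : Q ≤ R := (le_inf hQP hQT).trans hPTR
    obtain ⟨g, hg⟩ := exists_map_cj_le_sylow P hRp
    have hQg : Q.map (cj g) ≤ (P : Subgroup G) := (Subgroup.map_mono hQR).trans hg
    obtain ⟨y, hy, hgy⟩ := cor_10_7_fusion hG h96 h101 h104 h36 p P Q g hQP hQg
    -- `n = y⁻¹ g` normalizes `Q`
    have hn : y⁻¹ * g ∈ T := by
      rw [hT, mem_normalizer_iff_map_cj, ← map_cj_mul, hgy, map_cj_map_cj_inv]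
    have hRn : R.map (cj (y⁻¹ * g)) ≤ (P : Subgroup G) ⊓ T := by
      apply le_inf
      · rw [← map_cj_mul]
        have h1 : (R.map (cj g)).map (cj y⁻¹) ≤ ((P : Subgroup G)).map (cj y⁻¹) :=
          Subgroup.map_mono hg
        have hy' : y⁻¹ ∈ Subgroup.normalizer ((P : Subgroup G) : Set G) := Subgroup.inv_mem _ hy
        rw [mem_normalizer_iff_map_cj.mp hy'] at h1
        exact h1
      · rintro _ ⟨r, hr, rfl⟩
        rw [cj_apply]
        exact T.mul_mem (T.mul_mem hn (hRT hr)) (T.inv_mem hn)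
    have hcard : Nat.card R ≤ Nat.card ((P : Subgroup G) ⊓ T : Subgroup G) := by
      have h1 := Subgroup.card_le_of_le hRn
      rwa [Subgroup.card_map_of_injective (Cfsg.Agent.Helper14.cj_injective _)] at h1
    have hEq : (P : Subgroup G) ⊓ T = R := Subgroup.eq_of_le_of_card_ge hPTR hcard
    have hS' : ((P : Subgroup G) ⊓ T).subgroupOf T = (S : Subgroup T) := by
      rw [hEq, hR]
      unfold Subgroup.subgroupOf
      rw [Subgroup.comap_map_eq_self_of_injective T.subtype_injective]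
    unfold Subgroup.relIndex
    rw [hS']
    exact S.not_dvd_index
  · intro R Q hRp hQPR hNQ
    have hQP : Q ≤ (P : Subgroup G) := hQPR.trans inf_le_left
    have hQR : Q ≤ R := hQPR.trans inf_le_right
    have hwc := weakly_closed hG h96 h101 h104 h36 p P Q hQP hNQ
    obtain ⟨h, hh⟩ := exists_map_cj_le_sylow P hRp
    have h1 : Q.map (cj h) = Q := hwc h ((Subgroup.map_mono hQR).trans hh)
    intro g hg
    rw [mem_normalizer_iff_map_cj]
    have hRg : R.map (cj g) = R := mem_normalizer_iff_map_cj.mp hg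
    have h2 : Q.map (cj (h * g)) ≤ (P : Subgroup G) := by
      rw [← map_cj_mul]
      refine le_trans (Subgroup.map_mono ?_) hh
      rw [← hRg]
      exact Subgroup.map_mono hQR
    have h3 : Q.map (cj (h * g)) = Q := hwc (h * g) h2
    rw [← map_cj_mul] at h3
    have h4 : ((Q.map (cj g)).map (cj h)).map (cj h⁻¹) = (Q.map (cj h)).map (cj h⁻¹) := by
      rw [h3, h1]
    rwa [map_cj_map_cj_inv, map_cj_map_cj_inv] at h4

end Cfsg.Agent.Helper10.BG10
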