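import Mathlib
import Cfsg.Agent.Helper10.BG10D
import Cfsg.Agent.Helper10.BG10E
import Cfsg.Agent.S1403
import Cfsg.Agent.S1404
import Cfsg.Agent.S1407
import Cfsg.Agent.S1444

/-!
# B&G Corollary 10.7: discharging the hypotheses
-/

set_option autoImplicit false

namespace Cfsg.Agent.Helper10.BG10

open Subgroup Cfsg
open Cfsg.Agent.Helper21.BG10 (Uniq96 Ctl101)

universe u

variable {G : Type u} [Group G] [Finite G]

theorem uniq96 (hG : Cfsg.IsMinSimpleOddOrder G) : Uniq96 G :=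
  fun K hK hK2 hK3 => Cfsg.Agent.S1403.result hG K hK hK2 hK3

theorem ctl101 (hG : Cfsg.IsMinSimpleOddOrder G) : Ctl101 G :=
  fun M hM p _ hp X hXp hX1 hXM => (Cfsg.Agent.S1404.result hG M hM p hp X hXp hX1 hXM).1

theorem lem104 (hG : Cfsg.IsMinSimpleOddOrder G) : Lem104 G :=
  fun M hM hMα p _ hpM hp P => Cfsg.Agent.S1407.result hG M hM hMα p hpM hp P

theorem thm36 : Thm36.{u} :=
  fun _ _ _ _ hodd H R R₀ _ h1 h2 h3 h4 h5 p _ =>
    Cfsg.Agent.S1444.result hodd H R R₀ h1 h2 h3 h4 h5 p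

end Cfsg.Agent.Helper10.BG10
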