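import Mathlib
import Cfsg.Agent.Helper1.BG36L2a

/-!
# B&G 13.7, final part: a Frobenius group `X ⋊ T` acting coprimely on a `q`-group
-/

set_option autoImplicit false
open Subgroup

namespace Cfsg.Agent.Helper10.BG13F

variable {G : Type*} [Group G] [Finite G]

/-- A Frobenius group `X ⋊ T` (`|X| = p`, `|T| = t` primes, `T` fixed-point-free on `X`) acting
coprimely on a `q`-group `Q` on which `X` acts nontrivially: `C_Q(T)` is not inside `C_Q(X)`. -/
theorem frob_fix_not_le {X T Q : Subgroup G} {p t q : ℕ}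
    [Fact p.Prime] [Fact t.Prime] [Fact q.Prime]
    (hX : Nat.card X = p) (hT : Nat.card T = t) (hTX : T ≤ normalizer (X : Set G))
    (hfpf : X ⊓ centralizer (T : Set G) = ⊥) (hQ : IsPGroup q Q) (hqp : q ≠ p) (hqt : q ≠ t)
    (hXQ : X ≤ normalizer (Q : Set G)) (hTQ : T ≤ normalizer (Q : Set G))
    (hne : ¬ Q ≤ centralizer (X : Set G)) :
    ¬ (Q ⊓ centralizer (T : Set G) ≤ Q ⊓ centralizer (X : Set G)) := by
  intro hle
  have hpp : p.Prime := Fact.out
  have htp : t.Prime := Fact.out
  have hqq : q.Prime := Fact.out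
  obtain ⟨k, hk⟩ := IsPGroup.iff_card.mp hQ
  have hsolv : Group.IsSolvable Q := by
    have : Group.IsNilpotent Q := hQ.isNilpotent
    infer_instance
  have hcopX : (Nat.card Q).Coprime (Nat.card X) := by
    rw [hk, hX]
    exact Nat.Coprime.pow_left _ ((Nat.coprime_primes hqq hpp).mpr hqp)
  have hcopT : (Nat.card Q).Coprime t := by
    rw [hk]
    exact Nat.Coprime.pow_left _ ((Nat.coprime_primes hqq htp).mpr hqt)
  have key := Cfsg.Agent.Helper1.BG36L2.formula_prime X T Q t htp hT hTX hfpf hXQ hTQ hsolv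
    hcopX hcopT
  have h1 : Q ⊓ centralizer (X : Set G) ⊓ centralizer (T : Set G) = Q ⊓ centralizer (T : Set G) := by
    apply le_antisymm
    · exact le_inf (inf_le_left.trans inf_le_left) inf_le_right
    · exact le_inf hle inf_le_right
  rw [h1] at key
  have hpos : 0 < Nat.card ↥(Q ⊓ centralizer (T : Set G)) ^ t := by
    apply Nat.pow_pos
    exact Nat.card_pos
  have h2 : Nat.card Q = Nat.card ↥(Q ⊓ centralizer (X : Set G)) :=
    Nat.eq_of_mul_eq_mul_left hpos key
  apply hne
  have h3 : Q ⊓ centralizer (X : Set G) = Q := by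
    apply Subgroup.eq_of_le_of_card_ge inf_le_left
    rw [h2]
  rw [← h3]
  exact inf_le_right

end Cfsg.Agent.Helper10.BG13F
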