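import Mathlib
import Cfsg.Agent.Helper10.BG13F
import Cfsg.Agent.Helper16.BG11d
import Cfsg.Agent.Lead.BG143b
import Cfsg.Agent.Helper29.BG14SP
import Cfsg.Agent.S1415

/-!
# B&G 13.7: the final contradiction `(C)` (helper28, msgs 905/918)

`FinalCfg` records the facts of the rigid picture that are used, `final_false` derives `False`.
-/

set_option autoImplicit false
set_option linter.unusedSectionVars false
set_option linter.unusedVariables false

namespace Cfsg.Agent.Helper10.BG13F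

open Subgroup Cfsg
open Cfsg.Agent.Helper14 (IsSylowIn cj map_cj_map_cj_inv map_cj_inv_map_cj exists_isSylowIn
  exists_isSylowIn_ge)
open Cfsg.Agent.Helper16.BG11 (BG)
open Cfsg.Agent.H9.BG12 (St1418 St1422)
open Cfsg.Agent.Lead (IsPiNum)

universe u
variable {G : Type u} [Group G] [Finite G]

/-- **T1** (helper28, Steps 1–5): for `t ∈ τ₁(M)` and `T ≤ M` of order `t` centralizing a
non-identity element of `M_σ`, every maximal subgroup over `N_G(T)` has `t` in its `σ`. -/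
def T1 (G : Type u) [Group G] [Finite G] : Prop :=
  ∀ M : Subgroup G, IsCoatom M → ∀ (t : ℕ) [Fact t.Prime], t ∈ Cfsg.tau1 M →
    ∀ T : Subgroup G, T ≤ M → Nat.card T = t →
      Cfsg.sigmaCore M ⊓ centralizer (T : Set G) ≠ ⊥ →
      ∀ L : Subgroup G, IsCoatom L → normalizer (T : Set G) ≤ L → t ∈ Cfsg.sigma L

/-- The facts of the rigid picture used in the final contradiction. -/
structure FinalCfg (M M2 : Subgroup G) (p q t : ℕ) (X A2 P T Yq QM : Subgroup G) : Prop where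
  hM : IsCoatom M
  hM2 : IsCoatom M2
  ht1 : t ∈ Cfsg.tau1 M
  hTM : T ≤ M
  hTt : Nat.card T = t
  htp : t ≠ p
  hqp : q ≠ p
  hXp : Nat.card X = p
  hXM2 : X ≤ Cfsg.sigmaCore M2
  hTX : T ≤ normalizer (X : Set G)
  hTXn : ¬ T ≤ centralizer (X : Set G)
  hP : IsPGroup p P
  hPna : ¬ IsMulCommutative P
  hPM2 : P ≤ M2
  hTM2 : T ≤ M2
  hpβ : p ∉ Cfsg.beta M2
  hA2 : Nat.card A2 = p
  hTA2 : T ≤ centralizer (A2 : Set G)
  hNA2 : normalizer (A2 : Set G) ≤ M2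
  hYq : IsPGroup q Yq
  hYqT : Yq ≤ centralizer (T : Set G)
  hYqA2 : Yq ≤ normalizer (A2 : Set G)
  hYqA2n : ¬ Yq ≤ centralizer (A2 : Set G)
  hYqM : Yq ≤ Cfsg.sigmaCore M
  hqα : q ∈ Cfsg.alpha M
  hQM : IsPGroup q QM
  hXQ : X ≤ normalizer (QM : Set G)
  hTQ : T ≤ normalizer (QM : Set G)
  hQX : QM ⊓ centralizer (X : Set G) = Yq
  hQXn : ¬ QM ≤ centralizer (X : Set G)
  hqM2 : ∀ S : Subgroup G, S ≤ M2 → IsPGroup q S → Nat.card S ≤ Nat.card Yq

theorem isPGroup_of_card_prime {H : Subgroup G} {r : ℕ} [Fact r.Prime] (hH : Nat.card H = r) :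
    IsPGroup r H := IsPGroup.of_card (n := 1) (by rw [hH, pow_one])

theorem ne_bot_of_card_prime {H : Subgroup G} {r : ℕ} [hr : Fact r.Prime] (hH : Nat.card H = r) :
    H ≠ ⊥ := by
  intro h0
  rw [h0, Subgroup.card_bot] at hH
  exact hr.out.one_lt.ne hH

/-- a subgroup of a group of prime order is trivial or everything -/
theorem eq_bot_or_le_of_card_prime {H K : Subgroup G} {r : ℕ} [hr : Fact r.Prime]
    (hH : Nat.card H = r) : H ⊓ K = ⊥ ∨ H ≤ K := by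
  have hd : Nat.card ↥(H ⊓ K) ∣ r := hH ▸ Subgroup.card_dvd_of_le inf_le_left
  rcases (Nat.dvd_prime hr.out).mp hd with h1 | h1
  · left; exact Subgroup.card_eq_one.mp h1
  · right
    have : H ⊓ K = H := Subgroup.eq_of_le_of_card_ge inf_le_left (by rw [h1, hH])
    rw [← this]; exact inf_le_right

theorem centralizer_le_normalizer' (H : Subgroup G) :
    centralizer (H : Set G) ≤ normalizer (H : Set G) := by
  intro g hg
  rw [mem_normalizer_iff]
  intro x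
  rw [mem_centralizer_iff] at hg
  constructor
  · intro hx
    have : g * x * g⁻¹ = x := by rw [← hg x hx]; group
    rw [this]; exact hx
  · intro hx
    have h1 := hg _ hx
    have : x = g * x * g⁻¹ := by
      have h2 : g * x * g⁻¹ * g = g * (g * x * g⁻¹) := h1
      have h3 : g * x = g * (g * x * g⁻¹) := by rw [← h2]; group
      exact mul_left_cancel h3
    rw [this]; exact hx

/-- **The final contradiction (C) of B&G 13.7.** -/
theorem final_false (h : BG G) (hT1 : T1 G) (h1418 : St1418 G) (h1422 : St1422 G)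
    {M M2 : Subgroup G} {p q t : ℕ} [hp : Fact p.Prime] [hq : Fact q.Prime] [ht : Fact t.Prime]
    {X A2 P T Yq QM : Subgroup G} (c : FinalCfg M M2 p q t X A2 P T Yq QM) : False := by
  have hS := h.hS
  have hTne : T ≠ ⊥ := ne_bot_of_card_prime c.hTt
  have hTtop : T ≠ ⊤ := fun h' => c.hM.1 (top_le_iff.mp (h' ▸ c.hTM))
  have hNT := Cfsg.Agent.Lead.TT.normalizer_ne_top_of_simple hS hTne hTtop
  obtain ⟨L, hL, hNL⟩ := (eq_top_or_exists_le_coatom _).resolve_left hNT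
  have hTL : T ≤ L := le_normalizer.trans hNL
  have hCTL : centralizer (T : Set G) ≤ L := (centralizer_le_normalizer' T).trans hNL
  have hYq1 : Yq ≠ ⊥ := by
    intro h0; apply c.hYqA2n; rw [h0]; exact bot_le
  -- (1) `t ∈ σ(L)`
  have hσT : Cfsg.sigmaCore M ⊓ centralizer (T : Set G) ≠ ⊥ := by
    intro h0
    apply hYq1
    have h1 : Yq ≤ Cfsg.sigmaCore M ⊓ centralizer (T : Set G) := le_inf c.hYqM c.hYqT
    rw [h0] at h1; exact le_bot_iff.mp h1
  have htL : t ∈ Cfsg.sigma L := hT1 M c.hM t c.ht1 T c.hTM c.hTt hσT L hL hNL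
  have htM : t ∉ Cfsg.sigma M := c.ht1.2.1
  have hTt' : IsPGroup t T := isPGroup_of_card_prime c.hTt
  have hXp' : IsPGroup p X := isPGroup_of_card_prime c.hXp
  -- (2) `t ∉ σ(M2)`
  have htM2 : t ∉ Cfsg.sigma M2 := by
    intro ht2
    have hTσ : T ≤ Cfsg.sigmaCore M2 :=
      Cfsg.Agent.H9.BG12.le_sigmaCore_of_isPGroup h.st1350 c.hM2 ht2 c.hTM2 hTt'
    have hpM2 : p ∣ Nat.card M2 := by
      rw [← c.hXp]
      exact Subgroup.card_dvd_of_le (c.hXM2.trans (Cfsg.Agent.H9.BG12.sigmaCore_le M2))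
    obtain ⟨-, hnc, -⟩ := (h.s1414 M2 c.hM2).2.2.2.2 p hp.out hpM2 c.hpβ
    apply c.hTXn
    intro x hx
    rw [mem_centralizer_iff]
    intro s hs
    have hox : (orderOf x).Coprime p := by
      have h1 : orderOf x ∣ t := by
        have := orderOf_dvd_natCard (⟨x, hx⟩ : T)
        rw [c.hTt, Subgroup.orderOf_mk] at this
        exact this
      exact Nat.Coprime.coprime_dvd_left h1 ((Nat.coprime_primes ht.out hp.out).mpr c.htp)
    exact Cfsg.Agent.Helper29.BG14.commute_of_hasNormalPComplement hnc c.hXM2 hXp' (hTσ hx) hox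
      (c.hTX hx) s hs
  -- (3) `A2, Yq ≤ L`
  have hA2L : A2 ≤ L := by
    intro a ha
    apply hCTL
    rw [mem_centralizer_iff]
    intro x hx
    exact ((mem_centralizer_iff.mp (c.hTA2 hx)) a ha).symm
  have hYqL : Yq ≤ L := c.hYqT.trans hCTL
  have hLM2 : ∀ g : G, L ≠ M2.map (cj g) := by
    intro g hg
    apply htM2
    have h1 : t ∈ Cfsg.sigma ((M2.map (cj g)).map (cj g⁻¹)) :=
      Cfsg.Agent.Helper16.BG11.mem_sigma_map_cj g⁻¹ (hg ▸ htL)
    rwa [map_cj_map_cj_inv] at h1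
  have hLM : ∀ g : G, M.map (cj g) ≠ L := by
    intro g hg
    apply htM
    have h1 : t ∈ Cfsg.sigma ((M.map (cj g)).map (cj g⁻¹)) :=
      Cfsg.Agent.Helper16.BG11.mem_sigma_map_cj g⁻¹ (hg ▸ htL)
    rwa [map_cj_map_cj_inv] at h1
  -- `p ∉ σ(L)`
  have hpL : p ∉ Cfsg.sigma L := by
    intro hpL
    obtain ⟨S, hS⟩ := exists_isSylowIn (p := p) L
    have hStop := Cfsg.Agent.Helper4.BG10.sigma_isSylowIn_top hpL hS
    obtain ⟨S', hS', hPS'⟩ := exists_isSylowIn_ge (le_top : P ≤ ⊤) c.hP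
    obtain ⟨g, -, rfl⟩ := hStop.exists_conj hS'
    have hPLg : P ≤ L.map (cj g) := hPS'.trans (Subgroup.map_mono hS.1)
    have hU := h1422 p P c.hP c.hPna
    have h1 : M2 = L.map (cj g) :=
      hU.unique ⟨c.hM2, c.hPM2⟩ ⟨Cfsg.Agent.Lead.BG9.isCoatom_map_cj hL g, hPLg⟩
    apply hLM2 g⁻¹
    rw [h1, map_cj_map_cj_inv]
  -- a complement `E1` of `L_σ` in `L` containing `A2`
  obtain ⟨E0, hE0⟩ := Cfsg.Agent.H9.BG12.exists_complIn_sigmaCore h.st1350 hL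
  have hE0H := Cfsg.Agent.H9.BG12.isPiHallOf_compl h.st1350 hL hE0
  have hLsolv : Group.IsSolvable L := Cfsg.Agent.Helper16.BG11.coatom_solv h hL
  have hA2p : IsPGroup p A2 := isPGroup_of_card_prime c.hA2
  have hA2num : IsPiNum (Cfsg.sigma L)ᶜ (Nat.card A2) :=
    Cfsg.Agent.H9.BG12.isPiNum_of_isPGroup (π := (Cfsg.sigma L)ᶜ) hpL hA2p
  obtain ⟨m, hm, hmA⟩ := Cfsg.Agent.H9.BG12.exists_conj_le_of_hall hLsolv hE0H hA2L hA2num
  have hE1 : Cfsg.IsComplIn (E0.map (cj m⁻¹)) (Cfsg.sigmaCore L) L :=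
    Cfsg.Agent.H9.BG12.isComplIn_map_cj hE0 (Cfsg.Agent.H9.BG12.le_normalizer_sigmaCore L)
      (inv_mem hm)
  have hA2E1 : A2 ≤ E0.map (cj m⁻¹) := by
    have h1 := Subgroup.map_mono (f := cj m⁻¹) hmA
    rwa [map_cj_map_cj_inv] at h1
  generalize E0.map (cj m⁻¹) = E1 at hE1 hA2E1
  have hE1H := Cfsg.Agent.H9.BG12.isPiHallOf_compl h.st1350 hL hE1
  have hTσL : T ≤ Cfsg.sigmaCore L :=
    Cfsg.Agent.H9.BG12.le_sigmaCore_of_isPGroup h.st1350 hL htL hTL hTt'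
  -- `p ∉ τ₂(L)`
  have hpτ2 : p ∉ Cfsg.tau2 L := by
    intro hpτ
    obtain ⟨B, hBE, hBe, hBc⟩ :=
      Cfsg.Agent.Lead.BG143.exists_elementary_sq_le_compl h.hG h.st1350 hL hE1 hpτ
    obtain ⟨⟨-, hall⟩, -, hcent⟩ := h1418 L hL E1 hE1 p hpτ B ⟨hBE, hBe, hBc⟩
    have hA2B : A2 ≤ B := hall A2 hA2E1 c.hA2
    have hne : Cfsg.sigmaCore L ⊓ centralizer (A2 : Set G) ≠ ⊥ := by
      intro h0
      apply hTne
      have h1 : T ≤ Cfsg.sigmaCore L ⊓ centralizer (A2 : Set G) := le_inf hTσL c.hTA2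
      rw [h0] at h1; exact le_bot_iff.mp h1
    obtain ⟨-, huniq⟩ := hcent A2 hA2B c.hA2 hne
    have h2 : M2 = L := huniq M2 c.hM2 ((centralizer_le_normalizer' A2).trans c.hNA2)
    exact htM2 (h2 ▸ htL)
  -- `p ∈ τ₃(L)`
  have hpα : p ∉ Cfsg.alpha L := fun hα =>
    hpL (Cfsg.Agent.Helper4.BG10.alpha_subset_sigma h.hG h.uniq hL hα)
  have hr2 : Cfsg.PRankLE p 2 L := by
    by_contra h2
    exact hpα ⟨hp.out, h2⟩
  have hr1 : Cfsg.PRankLE p 1 L := by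
    by_contra h1
    exact hpτ2 ⟨hp.out, hpL, hr2, h1⟩
  have hA2der : A2 ≤ ⁅L, L⁆ := by
    rcases eq_bot_or_le_of_card_prime (K := ⁅L, L⁆) c.hA2 with h0 | h0
    · exfalso
      apply c.hYqA2n
      intro y hy
      rw [mem_centralizer_iff]
      intro a ha
      have h1 : y * a * y⁻¹ * a⁻¹ ∈ A2 := by
        have := (mem_normalizer_iff.mp (c.hYqA2 hy) a).mp ha
        exact A2.mul_mem this (A2.inv_mem ha)
      have h2 : y * a * y⁻¹ * a⁻¹ ∈ ⁅L, L⁆ :=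
        Subgroup.commutator_mem_commutator (hYqL hy) (hA2L ha)
      have h3 : y * a * y⁻¹ * a⁻¹ ∈ A2 ⊓ ⁅L, L⁆ := ⟨h1, h2⟩
      rw [h0, Subgroup.mem_bot] at h3
      have h4 : y * a = a * y := by
        have : y * a = (y * a * y⁻¹ * a⁻¹) * (a * y) := by group
        rw [this, h3, one_mul]
      exact h4.symm
    · exact h0
  have hpτ3 : p ∈ Cfsg.tau3 L := by
    refine ⟨hp.out, hpL, ?_, hr1⟩
    rw [← c.hA2]
    exact Subgroup.card_dvd_of_le hA2der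
  -- (4) `E1 ≤ N(A2) ≤ M2`
  have hE1solv : Group.IsSolvable E1 :=
    Cfsg.Agent.Helper16.BG11.solv_of_le h hL hE1.1
  have hA2num3 : IsPiNum (Cfsg.tau3 L) (Nat.card A2) :=
    Cfsg.Agent.H9.BG12.isPiNum_of_isPGroup (π := Cfsg.tau3 L) hpτ3 hA2p
  obtain ⟨E3, hE3, hA2E3⟩ := Cfsg.Agent.Lead.exists_isPiHallOf_ge hE1solv hA2E1 hA2num3
  obtain ⟨hE3c, -, hE3n⟩ := (Cfsg.Agent.S1415.result h.hG L hL E1 hE1).2.2 E3 hE3
  have hE1M2 : E1 ≤ M2 :=
    (hE3n.trans (Cfsg.Agent.H9.BG12.normalizer_le_normalizer_of_isCyclic hE3c hA2E3)).trans c.hNA2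
  -- (5)–(7)
  have hqL : q ∉ Cfsg.sigma L := fun hqL =>
    Cfsg.Agent.Helper16.BG11.alpha_sigma_disjoint h c.hM hL hLM c.hqα hqL
  have hqM : q ∈ Cfsg.sigma M := Cfsg.Agent.Helper4.BG10.alpha_subset_sigma h.hG h.uniq c.hM c.hqα
  have hqt : q ≠ t := fun h0 => htM (h0 ▸ hqM)
  have hfpf : X ⊓ centralizer (T : Set G) = ⊥ := by
    rcases eq_bot_or_le_of_card_prime (K := centralizer (T : Set G)) c.hXp with h0 | h0
    · exact h0
    · exfalso
      apply c.hTXn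
      intro x hx
      rw [mem_centralizer_iff]
      intro s hs
      exact ((mem_centralizer_iff.mp (h0 hs)) x hx).symm
  have hnot := frob_fix_not_le c.hXp c.hTt c.hTX hfpf c.hQM c.hqp hqt c.hXQ c.hTQ c.hQXn
  rw [c.hQX] at hnot
  set C : Subgroup G := QM ⊓ centralizer (T : Set G) with hC
  have hYqC : Yq ≤ C := by
    refine le_inf ?_ c.hYqT
    rw [← c.hQX]; exact inf_le_left
  have hlt : Nat.card Yq < Nat.card C := by
    by_contra hle
    apply hnot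
    have : Yq = C := Subgroup.eq_of_le_of_card_ge hYqC (not_lt.mp hle)
    rw [← this]
  have hCq : IsPGroup q C := c.hQM.to_le inf_le_left
  have hCL : C ≤ L := inf_le_right.trans hCTL
  have hCnum : IsPiNum (Cfsg.sigma L)ᶜ (Nat.card C) :=
    Cfsg.Agent.H9.BG12.isPiNum_of_isPGroup (π := (Cfsg.sigma L)ᶜ) hqL hCq
  obtain ⟨m', hm', hmC⟩ := Cfsg.Agent.H9.BG12.exists_conj_le_of_hall hLsolv hE1H hCL hCnum
  have hbound := c.hqM2 (C.map (cj m')) (hmC.trans hE1M2) (hCq.map _)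
  rw [Cfsg.Agent.Helper16.BG11.card_map_cj] at hbound
  omega

/-- **Step (6)**: every `q`-subgroup of `M2` has order at most `|Yq|`, from: `q`-subgroups of
`M2` are cyclic, `N_G(Yq) ≤ M`, the 13.2(a)-instance for `(M2, q, M)`, and maximality of `Yq`
among the `q`-subgroups of `C_{M_σ}(X)`. -/
theorem card_le_of_cyclic (h : BG G) {M M2 X Yq : Subgroup G} {q : ℕ} [Fact q.Prime]
    (hM : IsCoatom M) (hqM : q ∈ Cfsg.sigma M) (hYq : IsPGroup q Yq) (hYqM2 : Yq ≤ M2)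
    (hcyc : ∀ S : Subgroup G, S ≤ M2 → IsPGroup q S → IsCyclic S)
    (hN : normalizer (Yq : Set G) ≤ M)
    (h132 : ∀ S : Subgroup G, S ≤ M2 ⊓ M → IsPGroup q S →
      S ≤ centralizer ((Cfsg.sigmaCore M2 ⊓ M : Subgroup G) : Set G))
    (hX : X ≤ Cfsg.sigmaCore M2 ⊓ M)
    (hmax : ∀ S : Subgroup G, IsPGroup q S → S ≤ Cfsg.sigmaCore M ⊓ centralizer (X : Set G) →
      Yq ≤ S → S = Yq) :
    ∀ S : Subgroup G, S ≤ M2 → IsPGroup q S → Nat.card S ≤ Nat.card Yq := by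
  obtain ⟨Q2, hQ2, hYqQ2⟩ := exists_isSylowIn_ge hYqM2 hYq
  have hQ2c : IsCyclic Q2 := hcyc Q2 hQ2.1 hQ2.2.1
  have hQ2N : Q2 ≤ normalizer (Yq : Set G) :=
    le_normalizer.trans (Cfsg.Agent.H9.BG12.normalizer_le_normalizer_of_isCyclic hQ2c hYqQ2)
  have hQ2M : Q2 ≤ M := hQ2N.trans hN
  have hQ2X : Q2 ≤ centralizer (X : Set G) :=
    (h132 Q2 (le_inf hQ2.1 hQ2M) hQ2.2.1).trans (Subgroup.centralizer_le (by exact_mod_cast hX))
  have hQ2σ : Q2 ≤ Cfsg.sigmaCore M :=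
    Cfsg.Agent.H9.BG12.le_sigmaCore_of_isPGroup h.st1350 hM hqM hQ2M hQ2.2.1
  have hQ2eq : Q2 = Yq := hmax Q2 hQ2.2.1 (le_inf hQ2σ hQ2X) hYqQ2
  intro S hSM2 hS
  obtain ⟨S', hS', hSS'⟩ := exists_isSylowIn_ge hSM2 hS
  obtain ⟨g, -, rfl⟩ := hQ2.exists_conj hS'
  calc Nat.card S ≤ Nat.card (Q2.map (cj g)) := Subgroup.card_le_of_le hSS'
    _ = Nat.card Q2 := Cfsg.Agent.Helper16.BG11.card_map_cj Q2 g
    _ = Nat.card Yq := by rw [hQ2eq]

end Cfsg.Agent.Helper10.BG13F
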