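import Mathlib
import Cfsg.Agent.Helper10.BG13G
import Cfsg.Agent.Helper4.BG124
import Cfsg.Agent.Helper26.Thompson

/-!
# B&G 13.7: step `(B)` (helper28, msg 918): `T₀` acts nontrivially on `X`
-/

set_option autoImplicit false
set_option linter.unusedSectionVars false
set_option linter.unusedVariables false

namespace Cfsg.Agent.Helper10.BG13F

open Subgroup Cfsg
open Cfsg.Agent.Helper14 (IsSylowIn cj map_cj_map_cj_inv map_cj_inv_map_cj exists_isSylowIn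
  exists_isSylowIn_ge)
open Cfsg.Agent.Helper16.BG11 (BG)
open Cfsg.Agent.H9.BG12 (St1418 St1422)
open Cfsg.Agent.Lead (IsPiNum)

universe u
variable {G : Type u} [Group G] [Finite G]

/-- a complement of `L_σ` in `L` containing a given `p`-subgroup, `p ∉ σ(L)` -/
theorem exists_compl_ge (h : BG G) {L Y : Subgroup G} (hL : IsCoatom L) {p : ℕ} [Fact p.Prime]
    (hpL : p ∉ Cfsg.sigma L) (hYL : Y ≤ L) (hY : IsPGroup p Y) :
    ∃ E : Subgroup G, Cfsg.IsComplIn E (Cfsg.sigmaCore L) L ∧ Y ≤ E := by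
  obtain ⟨E0, hE0⟩ := Cfsg.Agent.H9.BG12.exists_complIn_sigmaCore h.st1350 hL
  have hE0H := Cfsg.Agent.H9.BG12.isPiHallOf_compl h.st1350 hL hE0
  have hLsolv : Group.IsSolvable L := Cfsg.Agent.Helper16.BG11.coatom_solv h hL
  have hnum : IsPiNum (Cfsg.sigma L)ᶜ (Nat.card Y) :=
    Cfsg.Agent.H9.BG12.isPiNum_of_isPGroup (π := (Cfsg.sigma L)ᶜ) hpL hY
  obtain ⟨m, hm, hmA⟩ := Cfsg.Agent.H9.BG12.exists_conj_le_of_hall hLsolv hE0H hYL hnum
  refine ⟨E0.map (cj m⁻¹), Cfsg.Agent.H9.BG12.isComplIn_map_cj hE0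
    (Cfsg.Agent.H9.BG12.le_normalizer_sigmaCore L) (inv_mem hm), ?_⟩
  have h1 := Subgroup.map_mono (f := cj m⁻¹) hmA
  rwa [map_cj_map_cj_inv] at h1

/-- S1418(c) for an arbitrary line of `L`, `p ∈ τ₂(L)` -/
theorem tau2_line_unique (h : BG G) (h1418 : St1418 G) {L X₀ : Subgroup G} (hL : IsCoatom L)
    {p : ℕ} [Fact p.Prime] (hpτ : p ∈ Cfsg.tau2 L) (hXL : X₀ ≤ L) (hX : Nat.card X₀ = p)
    (hne : Cfsg.sigmaCore L ⊓ centralizer (X₀ : Set G) ≠ ⊥) :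
    centralizer (X₀ : Set G) ≤ L ∧
      ∀ L' : Subgroup G, IsCoatom L' → centralizer (X₀ : Set G) ≤ L' → L' = L := by
  obtain ⟨E1, hE1, hXE1⟩ := exists_compl_ge h hL hpτ.2.1 hXL (isPGroup_of_card_prime hX)
  obtain ⟨B, hBE, hBe, hBc⟩ :=
    Cfsg.Agent.Lead.BG143.exists_elementary_sq_le_compl h.hG h.st1350 hL hE1 hpτ
  obtain ⟨⟨-, hall⟩, -, hcent⟩ := h1418 L hL E1 hE1 p hpτ B ⟨hBE, hBe, hBc⟩
  exact hcent X₀ (hall X₀ hXE1 hX) hX hne

/-- The facts used in step `(B)`. -/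
structure BCfg (M M2 H : Subgroup G) (p t : ℕ) (X A2 P T0 : Subgroup G) (e : G) : Prop where
  hM : IsCoatom M
  hM2 : IsCoatom M2
  hH : IsCoatom H
  ht1 : t ∈ Cfsg.tau1 M
  hT0M : T0 ≤ M
  hT0t : Nat.card T0 = t
  hT0σ : Cfsg.sigmaCore M ⊓ centralizer (T0 : Set G) ≠ ⊥
  htp : t ≠ p
  het : IsPGroup t (zpowers e)
  heM2 : e ∈ M2
  heX : e ∈ normalizer (X : Set G)
  heXn : e ∉ centralizer (X : Set G)
  hXp : Nat.card X = p
  hXM2 : X ≤ Cfsg.sigmaCore M2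
  hpβ : p ∉ Cfsg.beta M2
  hP : IsPGroup p P
  hPna : ¬ IsMulCommutative P
  hPM2 : P ≤ M2
  hA2 : Nat.card A2 = p
  hXA2 : X ⊓ A2 = ⊥
  hcomm : A2 ≤ centralizer (X : Set G)
  hT0A2 : T0 ≤ centralizer (A2 : Set G)
  hNX : normalizer (X : Set G) ≤ H
  hT0H : ¬ T0 ≤ Cfsg.sigmaCore H

theorem le_centralizer_symm {A B : Subgroup G} (hAB : A ≤ centralizer (B : Set G)) :
    B ≤ centralizer (A : Set G) := by
  intro b hb
  rw [mem_centralizer_iff]
  intro a ha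
  exact ((mem_centralizer_iff.mp (hAB ha)) b hb).symm

/-- **Step (B)**: `T₀` does not centralize `X`. -/
theorem not_le_centralizer_of_BCfg (h : BG G) (hT1 : T1 G) (h1418 : St1418 G)
    (h1422 : St1422 G) {M M2 H : Subgroup G} {p t : ℕ} [hp : Fact p.Prime] [ht : Fact t.Prime]
    {X A2 P T0 : Subgroup G} {e : G} (c : BCfg M M2 H p t X A2 P T0 e) :
    ¬ T0 ≤ centralizer (X : Set G) := by
  intro hT0X
  have hS := h.hS
  have hTne : T0 ≠ ⊥ := ne_bot_of_card_prime c.hT0t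
  have hTtop : T0 ≠ ⊤ := fun h' => c.hM.1 (top_le_iff.mp (h' ▸ c.hT0M))
  have hNT := Cfsg.Agent.Lead.TT.normalizer_ne_top_of_simple hS hTne hTtop
  obtain ⟨L, hL, hNL⟩ := (eq_top_or_exists_le_coatom _).resolve_left hNT
  have hTL : T0 ≤ L := le_normalizer.trans hNL
  have hCTL : centralizer (T0 : Set G) ≤ L := (centralizer_le_normalizer' T0).trans hNL
  have htL : t ∈ Cfsg.sigma L := hT1 M c.hM t c.ht1 T0 c.hT0M c.hT0t c.hT0σ L hL hNL
  have hTt' : IsPGroup t T0 := isPGroup_of_card_prime c.hT0t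
  have hXp' : IsPGroup p X := isPGroup_of_card_prime c.hXp
  -- `t ∉ σ(M2)`
  have htM2 : t ∉ Cfsg.sigma M2 := by
    intro ht2
    have heσ : zpowers e ≤ Cfsg.sigmaCore M2 :=
      Cfsg.Agent.H9.BG12.le_sigmaCore_of_isPGroup h.st1350 c.hM2 ht2 (zpowers_le.mpr c.heM2) c.het
    have hpM2 : p ∣ Nat.card M2 := by
      rw [← c.hXp]
      exact Subgroup.card_dvd_of_le (c.hXM2.trans (Cfsg.Agent.H9.BG12.sigmaCore_le M2))
    obtain ⟨-, hnc, -⟩ := (h.s1414 M2 c.hM2).2.2.2.2 p hp.out hpM2 c.hpβ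
    apply c.heXn
    rw [mem_centralizer_iff]
    intro s hs
    have hox : (orderOf e).Coprime p := by
      obtain ⟨k, hk⟩ := IsPGroup.iff_card.mp c.het
      rw [Nat.card_zpowers] at hk
      rw [hk]
      exact Nat.Coprime.pow_left _ ((Nat.coprime_primes ht.out hp.out).mpr c.htp)
    exact Cfsg.Agent.Helper29.BG14.commute_of_hasNormalPComplement hnc c.hXM2 hXp'
      (heσ (mem_zpowers e)) hox c.heX s hs
  have hLM2 : ∀ g : G, L ≠ M2.map (cj g) := by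
    intro g hg
    apply htM2
    have h1 : t ∈ Cfsg.sigma ((M2.map (cj g)).map (cj g⁻¹)) :=
      Cfsg.Agent.Helper16.BG11.mem_sigma_map_cj g⁻¹ (hg ▸ htL)
    rwa [map_cj_map_cj_inv] at h1
  -- `X, A2 ≤ L`
  have hXL : X ≤ L := (le_centralizer_symm hT0X).trans hCTL
  have hA2L : A2 ≤ L := (le_centralizer_symm c.hT0A2).trans hCTL
  -- rank at least two
  have hFe : Cfsg.IsElementaryAbelian p (X ⊔ A2) :=
    Cfsg.Agent.Helper26.isElementaryAbelian_sup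
      (Cfsg.Agent.Helper4.BG124.elemAb_of_card_prime c.hXp)
      (Cfsg.Agent.Helper4.BG124.elemAb_of_card_prime c.hA2)
      (fun a ha b hb => (mem_centralizer_iff.mp (c.hcomm hb)) a ha)
  have hA2ne : A2 ≠ ⊥ := ne_bot_of_card_prime c.hA2
  have hlt : X < X ⊔ A2 := by
    refine lt_of_le_of_ne le_sup_left ?_
    intro h0
    apply hA2ne
    have h1 : A2 ≤ X := by rw [h0]; exact le_sup_right
    have h2 : A2 ≤ X ⊓ A2 := le_inf h1 le_rfl
    rw [c.hXA2] at h2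
    exact le_bot_iff.mp h2
  have hcardlt : p ^ 1 < Nat.card ↥(X ⊔ A2) := by
    rw [pow_one, ← c.hXp]
    by_contra hle
    exact hlt.ne (Subgroup.eq_of_le_of_card_ge le_sup_left (not_lt.mp hle))
  have hr1 : ¬ Cfsg.PRankLE p 1 L :=
    Cfsg.Agent.Lead.BG9.not_pRankLE_of_elementary (sup_le hXL hA2L) hFe hcardlt
  -- `p ∉ σ(L)`
  have hpL : p ∉ Cfsg.sigma L := by
    intro hpL
    obtain ⟨S, hS⟩ := exists_isSylowIn (p := p) L
    have hStop := Cfsg.Agent.Helper4.BG10.sigma_isSylowIn_top hpL hS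
    obtain ⟨S', hS', hPS'⟩ := exists_isSylowIn_ge (le_top : P ≤ ⊤) c.hP
    obtain ⟨g, -, rfl⟩ := hStop.exists_conj hS'
    have hPLg : P ≤ L.map (cj g) := hPS'.trans (Subgroup.map_mono hS.1)
    have hU := h1422 p P c.hP c.hPna
    have h1 : M2 = L.map (cj g) :=
      hU.unique ⟨c.hM2, c.hPM2⟩ ⟨Cfsg.Agent.Lead.BG9.isCoatom_map_cj hL g, hPLg⟩
    apply hLM2 g⁻¹
    rw [h1, map_cj_map_cj_inv]
  have hpα : p ∉ Cfsg.alpha L := fun hα =>
    hpL (Cfsg.Agent.Helper4.BG10.alpha_subset_sigma h.hG h.uniq hL hα)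
  have hr2 : Cfsg.PRankLE p 2 L := by
    by_contra h2
    exact hpα ⟨hp.out, h2⟩
  have hpτ : p ∈ Cfsg.tau2 L := ⟨hp.out, hpL, hr2, hr1⟩
  have hTσL : T0 ≤ Cfsg.sigmaCore L :=
    Cfsg.Agent.H9.BG12.le_sigmaCore_of_isPGroup h.st1350 hL htL hTL hTt'
  have hne : Cfsg.sigmaCore L ⊓ centralizer (X : Set G) ≠ ⊥ := by
    intro h0
    apply hTne
    have h1 : T0 ≤ Cfsg.sigmaCore L ⊓ centralizer (X : Set G) := le_inf hTσL hT0X
    rw [h0] at h1; exact le_bot_iff.mp h1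
  obtain ⟨-, huniq⟩ := tau2_line_unique h h1418 hL hpτ hXL c.hXp hne
  have hHL : H = L := huniq H c.hH ((centralizer_le_normalizer' X).trans c.hNX)
  exact c.hT0H (hHL ▸ hTσL)

end Cfsg.Agent.Helper10.BG13F
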