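import Mathlib
import Cfsg.Prelude.Def_OddOrderLocal
import Cfsg.Agent.Helper10.BG16D

set_option autoImplicit false
set_option linter.unusedSectionVars false
set_option linter.unusedVariables false
set_option linter.style.haveILetI false

/-! # B&G Theorem I dictionary: type-P data forces `K ≠ 1`; Type V (S1383) -/

namespace Cfsg.Agent.Helper10.BG16

open Subgroup Cfsg
open Cfsg.Agent.H9.BG12 (St1350 sigmaCore_le le_normalizer_sigmaCore)
open Cfsg.Agent.Helper14 (cj mem_normalizer_iff_map_cj IsSylowIn isSylowIn_of_sylow exists_isSylowIn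
  isSylowIn_iff mem_map_cj)

universe u

variable {G : Type u} [Group G] [Finite G]

/-- type-P data forces `K ≠ 1` -/
theorem K_ne_bot_of_typeP (h1350 : St1350 G) {M K U : Subgroup G} (hM : IsCoatom M)
    (hKU : Cfsg.IsSigmaDecomposition M K U) (hFσ : Cfsg.fittingHallOf M ≤ Cfsg.sigmaCore M)
    (hσM' : Cfsg.sigmaCore M ≤ ⁅M, M⁆) {W₁ V W₂ : Subgroup G} (hT : Cfsg.IsTypePWith M W₁ V W₂) :
    K ≠ ⊥ := by
  have hW₁M : W₁ ≤ M := hT.W₁_compl.2.1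
  have hc : Nat.card W₁ ≠ 1 := fun h => hT.W₁_ne (Subgroup.card_eq_one.mp h)
  obtain ⟨p, hp, hpW⟩ := Nat.exists_prime_and_dvd hc
  haveI : Fact p.Prime := ⟨hp⟩
  have hpσ : p ∉ Cfsg.sigma M := by
    intro hpσ
    obtain ⟨x, hx⟩ := exists_prime_orderOf_dvd_card' (G := ↥W₁) p hpW
    have hxo : orderOf (x : G) = p := by rw [Subgroup.orderOf_coe]; exact hx
    have hQ : zpowers (x : G) ≤ Cfsg.sigmaCore M := by
      apply le_sigmaCore_of_pi h1350 hM ((zpowers_le).mpr (hW₁M x.2))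
      intro q hq hqd
      rw [Nat.card_zpowers, hxo] at hqd
      rw [(Nat.prime_dvd_prime_iff_eq hq hp).mp hqd]
      exact hpσ
    have h1 : (x : G) ∈ ⁅M, M⁆ ⊓ W₁ :=
      Subgroup.mem_inf.mpr ⟨hσM' (hQ (mem_zpowers _)), x.2⟩
    rw [hT.W₁_compl.2.2.1, Subgroup.mem_bot] at h1
    rw [h1, orderOf_one] at hxo
    exact hp.one_lt.ne hxo
  obtain ⟨y, hy1⟩ := (Subgroup.ne_bot_iff_exists_ne_one (H := W₂)).mp hT.selfNormalizing.2.1
  have hyσ : (y : G) ∈ Cfsg.sigmaCore M := hFσ ((hT.W₂_le.trans inf_le_left) y.2)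
  have hy1' : (y : G) ≠ 1 := fun h => hy1 (Subtype.ext h)
  have hpκ : p ∈ Cfsg.kappa M :=
    mem_kappa_of_hall_cyclic hW₁M hT.W₁_cyclic hT.W₁_hall hp hpW hpσ hyσ hy1'
      (fun w hw => hT.selfNormalizing.2.2.2.1 w hw y y.2)
  intro hK
  have h2 := hKU.hall.2.2 p hp hpκ
  rw [hK, Subgroup.relIndex_bot_left] at h2
  exact h2 hpκ.2.1

/-- `|K|` divides the exponent of `M / M_F` when `K ∩ M_F = 1` -/
theorem card_dvd_exponent_quot {M K : Subgroup G} (hKM : K ≤ M) (hKc : IsCyclic K)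
    (hdisj : K ⊓ Cfsg.fittingHallOf M = ⊥) :
    Nat.card K ∣ Monoid.exponent (↥M ⧸ Cfsg.fittingHall ↥M) := by
  haveI := hKc
  obtain ⟨k, hk⟩ := IsCyclic.exists_ofOrder_eq_natCard (α := ↥K)
  set q : ↥M ⧸ Cfsg.fittingHall ↥M :=
    QuotientGroup.mk' (Cfsg.fittingHall ↥M) (Subgroup.inclusion hKM k) with hq
  refine dvd_trans ?_ (Monoid.order_dvd_exponent q)
  rw [← hk, orderOf_dvd_iff_pow_eq_one]
  have h1 : q ^ orderOf q = 1 := pow_orderOf_eq_one q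
  rw [hq, ← map_pow, ← map_pow] at h1
  have h2 : Subgroup.inclusion hKM (k ^ orderOf q) ∈ Cfsg.fittingHall ↥M := by
    rw [← QuotientGroup.eq_one_iff]; exact h1
  have h3 : ((k ^ orderOf q : ↥K) : G) ∈ K ⊓ Cfsg.fittingHallOf M :=
    Subgroup.mem_inf.mpr ⟨(k ^ orderOf q).2, ⟨_, h2, rfl⟩⟩
  rw [hdisj, Subgroup.mem_bot] at h3
  exact Subtype.ext h3

/-- conclusion of S1440 -/
def Concl1440 (M K U : Subgroup G) (g : G) : Prop :=
    (Cfsg.fittingOf M ⊓ (Cfsg.fittingOf M).map (MulAut.conj g).toMonoidHom ≤ Cfsg.fittingHallOf M ∧ IsCyclic ↥(Cfsg.fittingOf M ⊓ (Cfsg.fittingOf M).map (MulAut.conj g).toMonoidHom)) ∧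
      (⁅M, M⁆ = Cfsg.fittingOf M ∧ Cfsg.fittingOf M = Cfsg.sigmaCore M ⊔ Cfsg.piCoreOf {q | q.Prime ∧ q ∉ Cfsg.sigma M} (Cfsg.fittingOf M)) ∧
      ((K = ⊥ ∧ IsMulCommutative (Cfsg.fittingHallOf M) ∧ Cfsg.RankLE 2 (Cfsg.fittingHallOf M) ∧ ¬ Cfsg.RankLE 1 (Cfsg.fittingHallOf M)) ∨
       (∃ p : ℕ, p.Prime ∧ Nat.card ↥(Cfsg.fittingOf M ⊓ (Cfsg.fittingOf M).map (MulAut.conj g).toMonoidHom) = p ∧ p ∈ Cfsg.sigma M ∧ p ∉ Cfsg.beta M ∧
          ¬ IsMulCommutative (Cfsg.pCore p ↥(Cfsg.fittingHallOf M)) ∧ IsCyclic (Cfsg.pPrimeCore p ↥(Cfsg.fittingHallOf M)) ∧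
          ∀ q : ℕ, q.Prime → q ∣ Nat.card (Cfsg.fittingHallOf M) → Monoid.exponent (↥M ⧸ Cfsg.fittingHall ↥M) ∣ q - 1) ∨
       (∃ p : ℕ, p.Prime ∧ Nat.card ↥(Cfsg.fittingOf M ⊓ (Cfsg.fittingOf M).map (MulAut.conj g).toMonoidHom) = p ∧ p ∈ Cfsg.sigma M ∧ p ∉ Cfsg.beta M ∧
          IsCyclic (Cfsg.pPrimeCore p ↥(Cfsg.fittingHallOf M)) ∧ Nat.card (Cfsg.pCore p ↥(Cfsg.fittingHallOf M)) = p ^ 3 ∧
          ¬ IsMulCommutative (Cfsg.pCore p ↥(Cfsg.fittingHallOf M)) ∧ K ≠ ⊥ ∧ U = ⊥ ∧ (Cfsg.fittingHallOf M).relIndex M ∣ p + 1))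

/-- **S1383** (Type V ↔ `K ≠ 1`, `U = 1`, `M_F = M_σ`) relative to the statements of S1350, S1354-S1356,
S1364, S1365, S1370 and S1440. -/
theorem s1383_of (h1350 : St1350 G) {M K U : Subgroup G} (hM : IsCoatom M)
    (hKU : Cfsg.IsSigmaDecomposition M K U) (hP : PHyp M K U)
    (h1440 : ∀ g : G, g ∉ M →
      Cfsg.fittingOf M ⊓ (Cfsg.fittingOf M).map (MulAut.conj g).toMonoidHom ≠ ⊥ → Concl1440 M K U g) :
    Cfsg.IsOfTypeV M ↔ (K ≠ ⊥ ∧ U = ⊥ ∧ Cfsg.fittingHallOf M = Cfsg.sigmaCore M) := by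
  obtain ⟨hF1, hFσ, hσM', hM'lt, hnil⟩ := hP.h1355
  obtain ⟨hM''F, hFeq, hFle⟩ := hP.h1356
  constructor
  · rintro ⟨W₁, V, W₂, hT, hV, -⟩
    have hK1 := K_ne_bot_of_typeP h1350 hM hKU hFσ hσM' hT
    obtain ⟨hM'eq, -⟩ := hP.h1365 hK1
    have hM'F : ⁅M, M⁆ ≤ Cfsg.fittingHallOf M := by
      intro m hm
      obtain ⟨a, ha, b, hb, rfl⟩ := hT.U_compl.2.2.2 m hm
      rw [hV, Subgroup.mem_bot] at hb
      rw [hb, mul_one]; exact ha
    refine ⟨hK1, ?_, le_antisymm hFσ (hσM'.trans hM'F)⟩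
    apply sd_U_eq_bot_of_le hKU
    have : U ≤ ⁅M, M⁆ := by rw [hM'eq]; exact le_sup_left
    exact this.trans (hM'F.trans hFσ)
  · rintro ⟨hK1, hU, hFeqσ⟩
    obtain ⟨hM'eq, -⟩ := hP.h1365 hK1
    have hM'F : ⁅M, M⁆ = Cfsg.fittingHallOf M := by
      rw [hM'eq, hU, bot_sup_eq, hFeqσ]
    have hVc : Cfsg.IsComplIn (Cfsg.fittingHallOf M) ⊥ ⁅M, M⁆ := by
      refine ⟨hM'F.ge, bot_le, inf_bot_eq _, ?_⟩
      intro m hm
      exact ⟨m, hM'F ▸ hm, 1, Subgroup.mem_bot.mpr rfl, (mul_one m).symm⟩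
    have hVK : K ≤ normalizer (((⊥ : Subgroup G) : Subgroup G) : Set G) := by
      have : normalizer (((⊥ : Subgroup G) : Subgroup G) : Set G) = ⊤ :=
        Subgroup.normalizer_eq_top_iff.mpr inferInstance
      rw [this]; exact le_top
    have hT := typeP_of h1350 hM hKU hK1 hP (V := ⊥) inferInstance hVK hVc
    refine ⟨K, ⊥, _, hT, rfl, ?_⟩
    by_cases hTI : Cfsg.IsTISubset (Cfsg.fittingHallOf M : Set G)
    · exact Or.inl hTI
    · right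
      unfold Cfsg.IsTISubset at hTI
      push Not at hTI
      obtain ⟨g, hgN, x, hx, hgx, hx1⟩ := hTI
      have hgM : g ∉ M := fun h => hgN (Cfsg.Agent.Helper23.le_normalizer_fittingHallOf M h)
      have hFF : Cfsg.fittingHallOf M ≤ Cfsg.fittingOf M := by rw [hFeq]; exact le_sup_right
      have hX : Cfsg.fittingOf M ⊓ (Cfsg.fittingOf M).map (MulAut.conj g).toMonoidHom ≠ ⊥ := by
        intro h
        have h1 : g * x * g⁻¹ ∈ Cfsg.fittingOf M ⊓ (Cfsg.fittingOf M).map (MulAut.conj g).toMonoidHom :=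
          Subgroup.mem_inf.mpr ⟨hFF hgx, ⟨x, hFF hx, rfl⟩⟩
        rw [h, Subgroup.mem_bot, mul_inv_eq_one, mul_eq_left] at h1
        exact hx1 h1
      obtain ⟨⟨hXle, -⟩, -, h3⟩ := h1440 g hgM hX
      have hKF : K ⊓ Cfsg.fittingHallOf M = ⊥ := by
        rw [hFeqσ]; exact sd_K_inf_sigma h1350 hM hKU
      rcases h3 with h3 | ⟨p, hp, hXp, -, -, -, hcyc, hexp⟩ | ⟨p, hp, hXp, -, -, hcyc, hp3, -, -, -, hrel⟩
      · exact absurd h3.1 hK1
      · left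
        have hpF : p ∣ Nat.card (Cfsg.fittingHallOf M) := by
          rw [← hXp]; exact Subgroup.card_dvd_of_le hXle
        exact ⟨p, hp, hpF, (card_dvd_exponent_quot hKU.hall.1 hKU.cyclic hKF).trans (hexp p hp hpF), hcyc⟩
      · right
        have hpF : p ∣ Nat.card (Cfsg.fittingHallOf M) := by
          rw [← hXp]; exact Subgroup.card_dvd_of_le hXle
        refine ⟨p, hp, hpF, hp3, ?_, hcyc⟩
        have h4 := Cfsg.Agent.Lead.relIndex_mul_card' (Cfsg.Agent.Helper23.fittingHallOf_le M)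
        have h5 := Cfsg.Agent.Helper23.card_of_isComplIn _ _ _ hT.W₁_compl
        rw [hM'F] at h5
        have h6 : (Cfsg.fittingHallOf M).relIndex M = Nat.card K := by
          have hpos : 0 < Nat.card (Cfsg.fittingHallOf M) := Nat.card_pos
          apply Nat.eq_of_mul_eq_mul_right hpos
          rw [h4, h5, mul_comm]
        rw [← h6]; exact hrel

end Cfsg.Agent.Helper10.BG16
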