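import Mathlib
import Cfsg.Prelude.Def_OddOrderLocal
import Cfsg.Agent.Helper10.BG16E

set_option autoImplicit false
set_option linter.unusedSectionVars false
set_option linter.unusedVariables false
set_option linter.style.haveILetI false

/-! # B&G Theorem I dictionary: Types III and IV (S1382) -/

namespace Cfsg.Agent.Helper10.BG16

open Subgroup Cfsg
open Cfsg.Agent.H9.BG12 (St1350 sigmaCore_le le_normalizer_sigmaCore)
open Cfsg.Agent.Helper14 (cj mem_normalizer_iff_map_cj IsSylowIn isSylowIn_of_sylow exists_isSylowIn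
  isSylowIn_iff mem_map_cj)
open Cfsg.Agent.Lead (IsPiNum isPiHallOf_iff_card relIndex_mul_card')

universe u

variable {G : Type u} [Group G] [Finite G]

theorem isSolvable_of_le_coatom (hG : Cfsg.IsMinSimpleOddOrder G) {M A : Subgroup G} (hM : IsCoatom M)
    (hAM : A ≤ M) : Group.IsSolvable A := by
  haveI := isSolvable_coatom hG hM
  exact Group.isSolvable_of_isSolvable_injective (Subgroup.inclusion_injective hAM)

section decomp2

variable {M K U : Subgroup G}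

theorem sd_relIndex_sigma (h1350 : St1350 G) (hM : IsCoatom M)
    (hKU : Cfsg.IsSigmaDecomposition M K U) :
    (Cfsg.sigmaCore M).relIndex M = Nat.card U * Nat.card K := by
  have h := relIndex_mul_card' (sigmaCore_le M)
  rw [sd_card h1350 hM hKU] at h
  have hk : 0 < Nat.card (Cfsg.sigmaCore M) := Nat.card_pos
  apply Nat.eq_of_mul_eq_mul_right hk
  rw [h]; ring

theorem sd_coprime_U_sigma (h1350 : St1350 G) (hM : IsCoatom M)
    (hKU : Cfsg.IsSigmaDecomposition M K U) :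
    (Nat.card U).Coprime (Nat.card (Cfsg.sigmaCore M)) := by
  apply Nat.coprime_of_dvd
  intro p hp h1 h2
  have hσ := (h1350 M hM).1
  refine hσ.2.2 p hp (hσ.2.1 p hp h2) ?_
  rw [sd_relIndex_sigma h1350 hM hKU]
  exact Dvd.dvd.mul_right h1 _

/-- `|M_F|` is coprime to `|M_σ : M_F|` -/
theorem coprime_card_fittingHallOf_relIndex (hFσ : Cfsg.fittingHallOf M ≤ Cfsg.sigmaCore M) :
    (Nat.card (Cfsg.fittingHallOf M)).Coprime ((Cfsg.fittingHallOf M).relIndex (Cfsg.sigmaCore M)) := by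
  have h1 := relIndex_mul_card' hFσ
  have h2 := relIndex_mul_card' (sigmaCore_le M)
  have hk : Nat.card (Cfsg.fittingHallOf M) *
      ((Cfsg.fittingHallOf M).relIndex (Cfsg.sigmaCore M) * (Cfsg.sigmaCore M).relIndex M) = Nat.card M := by
    rw [← h2, ← h1]; ring
  exact Nat.Coprime.coprime_mul_right_right (Cfsg.Agent.Helper23.card_fittingHallOf_coprime M hk)

/-- a `K`-invariant complement of `M_F` in `M_σ` -/
theorem exists_invariant_compl (hG : Cfsg.IsMinSimpleOddOrder G) (h1350 : St1350 G) (hM : IsCoatom M)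
    (hKU : Cfsg.IsSigmaDecomposition M K U) (hFσ : Cfsg.fittingHallOf M ≤ Cfsg.sigmaCore M) :
    ∃ V : Subgroup G, Cfsg.IsComplIn (Cfsg.fittingHallOf M) V (Cfsg.sigmaCore M) ∧
      K ≤ normalizer (V : Set G) ∧ (Nat.card V).Coprime (Nat.card (Cfsg.fittingHallOf M)) := by
  have hsolv : Group.IsSolvable ↥(Cfsg.sigmaCore M) := isSolvable_of_le_coatom hG hM (sigmaCore_le M)
  have hKS : K ≤ normalizer (Cfsg.sigmaCore M : Set G) := hKU.hall.1.trans (le_normalizer_sigmaCore M)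
  obtain ⟨V, hVH, hKV⟩ := Cfsg.Agent.Lead.coprime_exists_invariant_hall K (Cfsg.sigmaCore M) hKS
    (sd_coprime_K_sigma h1350 hM hKU) hsolv {q | ¬ q ∣ Nat.card (Cfsg.fittingHallOf M)}
  have hcard : Nat.card (Cfsg.sigmaCore M) =
      (Cfsg.fittingHallOf M).relIndex (Cfsg.sigmaCore M) * Nat.card (Cfsg.fittingHallOf M) :=
    (relIndex_mul_card' hFσ).symm
  have hcop := coprime_card_fittingHallOf_relIndex hFσ
  have hm : IsPiNum {q | ¬ q ∣ Nat.card (Cfsg.fittingHallOf M)}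
      ((Cfsg.fittingHallOf M).relIndex (Cfsg.sigmaCore M)) := by
    intro p hp hpd hpF
    exact hp.one_lt.ne' (Nat.eq_one_of_dvd_coprimes hcop hpF hpd)
  have hn : IsPiNum {q | ¬ q ∣ Nat.card (Cfsg.fittingHallOf M)}ᶜ (Nat.card (Cfsg.fittingHallOf M)) :=
    fun p hp h hπ => hπ h
  obtain ⟨hVS, hVc⟩ := (isPiHallOf_iff_card hcard hm hn).mp hVH
  have hcopV : (Nat.card V).Coprime (Nat.card (Cfsg.fittingHallOf M)) := by
    rw [hVc]; exact hcop.symm
  refine ⟨V, ?_, hKV, hcopV⟩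
  apply isComplIn_of_card hFσ hVS
  · exact (Subgroup.disjoint_of_coprime_natCard hcopV.symm).eq_bot
  · rw [hVc, hcard, mul_comm]

end decomp2

/-- type-P data with `V ≠ 1` and `N_G(V) ≤ M` force `K ≠ 1`, `U = 1`, `M_F ≠ M_σ` -/
theorem of_typeP_normalizer_le (hG : Cfsg.IsMinSimpleOddOrder G) (h1350 : St1350 G) {M K U : Subgroup G}
    (hM : IsCoatom M) (hKU : Cfsg.IsSigmaDecomposition M K U) (hP : PHyp M K U)
    (h1357 : Cfsg.fittingHallOf M ≠ Cfsg.sigmaCore M →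
      U = ⊥ ∧ Cfsg.IsTISubset (Cfsg.fittingOf M : Set G) ∧ (Nat.card K).Prime)
    (h1363 : K ≠ ⊥ → IsMulCommutative U ∧ ¬ Subgroup.normalizer (U : Set G) ≤ M)
    {W₁ V W₂ : Subgroup G} (hT : Cfsg.IsTypePWith M W₁ V W₂) (hV1 : V ≠ ⊥)
    (hNV : Subgroup.normalizer (V : Set G) ≤ M) :
    K ≠ ⊥ ∧ U = ⊥ ∧ Cfsg.fittingHallOf M ≠ Cfsg.sigmaCore M := by
  obtain ⟨hF1, hFσ, hσM', hM'lt, hnil⟩ := hP.h1355
  have hK1 := K_ne_bot_of_typeP h1350 hM hKU hFσ hσM' hT
  obtain ⟨hM'eq, -⟩ := hP.h1365 hK1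
  have hU : U = ⊥ := by
    by_contra hU
    have hFS : Cfsg.fittingHallOf M = Cfsg.sigmaCore M := by
      by_contra h
      exact hU (h1357 h).1
    have hM'M : ⁅M, M⁆ ≤ M := Subgroup.commutator_le_self M
    have hsolv : Group.IsSolvable ↥⁅M, M⁆ := isSolvable_of_le_coatom hG hM hM'M
    have hcard : Nat.card ↥⁅M, M⁆ = Nat.card U * Nat.card (Cfsg.sigmaCore M) := by
      rw [hM'eq]; exact sd_card_U_sup_sigma hKU
    have hcop := sd_coprime_U_sigma h1350 hM hKU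
    have hm : IsPiNum {q | ¬ q ∣ Nat.card (Cfsg.sigmaCore M)} (Nat.card U) := by
      intro p hp hpd hpS
      exact hp.one_lt.ne' (Nat.eq_one_of_dvd_coprimes hcop hpd hpS)
    have hn : IsPiNum {q | ¬ q ∣ Nat.card (Cfsg.sigmaCore M)}ᶜ (Nat.card (Cfsg.sigmaCore M)) :=
      fun p hp h hπ => hπ h
    have hUM' : U ≤ ⁅M, M⁆ := by rw [hM'eq]; exact le_sup_left
    have hUH : Cfsg.IsPiHallOf {q | ¬ q ∣ Nat.card (Cfsg.sigmaCore M)} U ⁅M, M⁆ :=
      (isPiHallOf_iff_card hcard hm hn).mpr ⟨hUM', rfl⟩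
    have hVc : Nat.card V = Nat.card U := by
      have h1 := Cfsg.Agent.Helper23.card_of_isComplIn _ _ _ hT.U_compl
      rw [hFS, hcard, mul_comm] at h1
      exact (Nat.eq_of_mul_eq_mul_left Nat.card_pos h1).symm
    have hVH : Cfsg.IsPiHallOf {q | ¬ q ∣ Nat.card (Cfsg.sigmaCore M)} V ⁅M, M⁆ :=
      (isPiHallOf_iff_card hcard hm hn).mpr ⟨hT.U_compl.2.1, hVc⟩
    obtain ⟨g, hg, hgUV⟩ := Cfsg.Agent.Lead.isPiHallOf_trans hsolv hUH hVH
    have hgV : V = U.map (cj g) := by rw [← hgUV]; rfl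
    apply (h1363 hK1).2
    intro n hn
    have h1 : cj g n ∈ (normalizer (U : Set G)).map (cj g) := ⟨n, hn, rfl⟩
    rw [Cfsg.Agent.Helper14.map_cj_normalizer, ← hgV] at h1
    have h2 : g * n * g⁻¹ ∈ M := hNV h1
    have hgM : g ∈ M := hM'M hg
    have h3 := M.mul_mem (M.mul_mem (M.inv_mem hgM) h2) hgM
    have h4 : g⁻¹ * (g * n * g⁻¹) * g = n := by group
    rwa [h4] at h3
  refine ⟨hK1, hU, ?_⟩
  intro hFS
  have hM'F : ⁅M, M⁆ = Cfsg.fittingHallOf M := by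
    rw [hM'eq, hU, bot_sup_eq, hFS]
  apply hV1
  rw [eq_bot_iff, ← hT.U_compl.2.2.1]
  exact le_inf (hM'F ▸ hT.U_compl.2.1) le_rfl

/-- **S1382** (Type III or IV ↔ `K ≠ 1`, `U = 1`, `M_F ≠ M_σ`) relative to the statements of S1350,
S1354-S1357, S1363-S1365, S1370. -/
theorem s1382_of (hG : Cfsg.IsMinSimpleOddOrder G) (h1350 : St1350 G) {M K U : Subgroup G}
    (hM : IsCoatom M) (hKU : Cfsg.IsSigmaDecomposition M K U) (hP : PHyp M K U)
    (h1357 : Cfsg.fittingHallOf M ≠ Cfsg.sigmaCore M →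
      U = ⊥ ∧ Cfsg.IsTISubset (Cfsg.fittingOf M : Set G) ∧ (Nat.card K).Prime)
    (h1363 : K ≠ ⊥ → IsMulCommutative U ∧ ¬ Subgroup.normalizer (U : Set G) ≤ M) :
    (Cfsg.IsOfTypeIII M ∨ Cfsg.IsOfTypeIV M) ↔
      (K ≠ ⊥ ∧ U = ⊥ ∧ Cfsg.fittingHallOf M ≠ Cfsg.sigmaCore M) := by
  obtain ⟨hF1, hFσ, hσM', hM'lt, hnil⟩ := hP.h1355
  constructor
  · rintro (⟨W₁, V, W₂, hT, hV1, -, -, -, hNV⟩ | ⟨W₁, V, W₂, hT, hV1, -, -, -, hNV⟩)
    · exact of_typeP_normalizer_le hG h1350 hM hKU hP h1357 h1363 hT hV1 hNV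
    · exact of_typeP_normalizer_le hG h1350 hM hKU hP h1357 h1363 hT hV1 hNV
  · rintro ⟨hK1, hU, hFS⟩
    obtain ⟨-, hTI, hKp⟩ := h1357 hFS
    obtain ⟨hM'eq, -⟩ := hP.h1365 hK1
    have hM'S : ⁅M, M⁆ = Cfsg.sigmaCore M := by rw [hM'eq, hU, bot_sup_eq]
    obtain ⟨V, hVc, hKV, hcopV⟩ := exists_invariant_compl hG h1350 hM hKU hFσ
    have hVS : V ≤ Cfsg.sigmaCore M := hVc.2.1
    have hVn : Group.IsNilpotent V :=
      isNilpotent_of_disjoint_fittingHallOf hnil (hVS.trans hσM') hVc.2.2.1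
    have hV1 : V ≠ ⊥ := by
      intro hV
      apply hFS
      apply Subgroup.eq_of_le_of_card_ge hFσ
      have h1 := Cfsg.Agent.Helper23.card_of_isComplIn _ _ _ hVc
      rw [hV, Subgroup.card_bot, mul_one] at h1
      exact h1.le
    have hNV : normalizer (V : Set G) ≤ M := by
      apply normalizer_le_of_nilpotent_hall h1350 hM hVS hVn hV1
      have h1 := Cfsg.Agent.Helper23.card_of_isComplIn _ _ _ hVc
      have h2 := sd_card h1350 hM hKU
      rw [hU, Subgroup.card_bot, one_mul, h1] at h2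
      have h3 := relIndex_mul_card' (hVS.trans (sigmaCore_le M))
      have h4 : V.relIndex M = Nat.card K * Nat.card (Cfsg.fittingHallOf M) := by
        apply Nat.eq_of_mul_eq_mul_right (Nat.card_pos (α := ↥V))
        rw [h3, h2]; ring
      rw [h4]
      apply Nat.Coprime.mul_right _ hcopV
      exact (Nat.Coprime.coprime_dvd_right (Subgroup.card_dvd_of_le hVS)
        (sd_coprime_K_sigma h1350 hM hKU)).symm
    have hVc' : Cfsg.IsComplIn (Cfsg.fittingHallOf M) V ⁅M, M⁆ := by rw [hM'S]; exact hVc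
    have hT := typeP_of h1350 hM hKU hK1 hP hVn hKV hVc'
    by_cases hab : IsMulCommutative V
    · exact Or.inl ⟨K, V, _, hT, hV1, hKp, hTI, hab, hNV⟩
    · exact Or.inr ⟨K, V, _, hT, hV1, hKp, hTI, hab, hNV⟩

end Cfsg.Agent.Helper10.BG16
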