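import Mathlib
import Cfsg.Prelude.Def_OddOrderLocal
import Cfsg.Agent.Helper10.BG16F

set_option autoImplicit false
set_option linter.unusedSectionVars false
set_option linter.unusedVariables false
set_option linter.style.haveILetI false

/-! # B&G Theorem I dictionary: Type II (S1381) -/

namespace Cfsg.Agent.Helper10.BG16

open Subgroup Cfsg
open Cfsg.Agent.H9.BG12 (St1350 sigmaCore_le le_normalizer_sigmaCore)
open Cfsg.Agent.Helper14 (cj mem_normalizer_iff_map_cj IsSylowIn isSylowIn_of_sylow exists_isSylowIn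
  isSylowIn_iff mem_map_cj)
open Cfsg.Agent.Lead (IsPiNum isPiHallOf_iff_card relIndex_mul_card')

universe u

variable {G : Type u} [Group G] [Finite G]

/-! ### general facts on `fittingHallOf` -/

theorem fittingHallOf_isNilpotent (A : Subgroup G) : Group.IsNilpotent ↥(Cfsg.fittingHallOf A) := by
  haveI : Group.IsNilpotent ↥(Cfsg.fittingHall ↥A) := Cfsg.Agent.Helper23.fittingHall_isNilpotent
  exact Group.nilpotent_of_mulEquiv
    ((Cfsg.fittingHall ↥A).equivMapOfInjective A.subtype A.subtype_injective)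

theorem fittingHallOf_coprime_relIndex (A : Subgroup G) :
    (Nat.card (Cfsg.fittingHallOf A)).Coprime ((Cfsg.fittingHallOf A).relIndex A) := by
  apply Cfsg.Agent.Helper23.card_fittingHallOf_coprime A
  rw [mul_comm]
  exact relIndex_mul_card' (Cfsg.Agent.Helper23.fittingHallOf_le A)

/-- a normal nilpotent Hall subgroup of `A` lies in `A_F` (subgroups of `G`) -/
theorem le_fittingHallOf {A X : Subgroup G} (hXA : X ≤ A) (hAX : A ≤ normalizer (X : Set G))
    (hXn : Group.IsNilpotent X) (hcop : (Nat.card X).Coprime (X.relIndex A)) :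
    X ≤ Cfsg.fittingHallOf A := by
  have hn : (X.subgroupOf A).Normal := Subgroup.normal_subgroupOf_of_le_normalizer hAX
  have hnil : Group.IsNilpotent ↥(X.subgroupOf A) := by
    haveI := hXn
    exact Group.nilpotent_of_mulEquiv (Subgroup.subgroupOfEquivOfLe hXA).symm
  have hc : (Nat.card ↥(X.subgroupOf A)).Coprime (X.subgroupOf A).index := by
    rw [Cfsg.Agent.Helper17.card_subgroupOf_of_le hXA]; exact hcop
  have h1 := Cfsg.Agent.Helper23.le_fittingHall (X.subgroupOf A) hn hnil hc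
  have h2 := Subgroup.map_mono (f := A.subtype) h1
  rwa [Cfsg.Agent.Helper14.map_subtype_subgroupOf hXA] at h2

/-- `N_G(A)` normalizes `A_F` -/
theorem normalizer_le_normalizer_fittingHallOf (A : Subgroup G) :
    normalizer (A : Set G) ≤ normalizer (Cfsg.fittingHallOf A : Set G) := by
  apply Cfsg.Agent.Helper14.le_normalizer_of_map_cj_le
  intro g hg
  have hAg : A.map (cj g) = A := mem_normalizer_iff_map_cj.mp hg
  have hFA := Cfsg.Agent.Helper23.fittingHallOf_le A
  have hXA : (Cfsg.fittingHallOf A).map (cj g) ≤ A := by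
    calc (Cfsg.fittingHallOf A).map (cj g) ≤ A.map (cj g) := Subgroup.map_mono hFA
      _ = A := hAg
  have hcard : Nat.card ↥((Cfsg.fittingHallOf A).map (cj g)) = Nat.card ↥(Cfsg.fittingHallOf A) :=
    Subgroup.card_map_of_injective (Cfsg.Agent.Helper14.cj_injective g)
  apply le_fittingHallOf hXA
  · rw [← Cfsg.Agent.Helper14.map_cj_normalizer]
    calc A = A.map (cj g) := hAg.symm
      _ ≤ (normalizer (Cfsg.fittingHallOf A : Set G)).map (cj g) :=
        Subgroup.map_mono (Cfsg.Agent.Helper23.le_normalizer_fittingHallOf A)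
  · haveI := fittingHallOf_isNilpotent A
    exact Group.nilpotent_of_mulEquiv
      ((Cfsg.fittingHallOf A).equivMapOfInjective (cj g) (Cfsg.Agent.Helper14.cj_injective g))
  · have h1 := relIndex_mul_card' hXA
    have h2 := relIndex_mul_card' hFA
    rw [hcard] at h1
    have h3 : ((Cfsg.fittingHallOf A).map (cj g)).relIndex A = (Cfsg.fittingHallOf A).relIndex A := by
      apply Nat.eq_of_mul_eq_mul_right (Nat.card_pos (α := ↥(Cfsg.fittingHallOf A)))
      rw [h1, h2]
    rw [hcard, h3]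
    exact fittingHallOf_coprime_relIndex A

/-- `M_F ≤ A_F` for `M_F ≤ A ≤ M` -/
theorem fittingHallOf_le_fittingHallOf_of_le {A M : Subgroup G} (hAM : A ≤ M)
    (hFA : Cfsg.fittingHallOf M ≤ A) : Cfsg.fittingHallOf M ≤ Cfsg.fittingHallOf A := by
  apply le_fittingHallOf hFA (hAM.trans (Cfsg.Agent.Helper23.le_normalizer_fittingHallOf M))
    (fittingHallOf_isNilpotent M)
  have h1 := Subgroup.relIndex_mul_relIndex (Cfsg.fittingHallOf M) A M hFA hAM
  exact Nat.Coprime.coprime_dvd_right (Dvd.intro _ h1) (fittingHallOf_coprime_relIndex M)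

/-- `A_F ≤ M_F` for a normal Hall subgroup `A` of `M` -/
theorem fittingHallOf_le_of_normal_hall {A M : Subgroup G} (hAM : A ≤ M)
    (hMA : M ≤ normalizer (A : Set G)) (hcop : (Nat.card A).Coprime (A.relIndex M)) :
    Cfsg.fittingHallOf A ≤ Cfsg.fittingHallOf M := by
  have hFA := Cfsg.Agent.Helper23.fittingHallOf_le A
  apply le_fittingHallOf (hFA.trans hAM) (hMA.trans (normalizer_le_normalizer_fittingHallOf A))
    (fittingHallOf_isNilpotent A)
  rw [← Subgroup.relIndex_mul_relIndex (Cfsg.fittingHallOf A) A M hFA hAM]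
  apply Nat.Coprime.mul_right (fittingHallOf_coprime_relIndex A)
  exact Nat.Coprime.coprime_dvd_left (Subgroup.card_dvd_of_le hFA) hcop

theorem fittingHall_eq_subgroupOf (A : Subgroup G) :
    Cfsg.fittingHall ↥A = (Cfsg.fittingHallOf A).subgroupOf A :=
  (Cfsg.Agent.Helper14.subgroupOf_map_subtype' (Cfsg.fittingHall ↥A)).symm

theorem subgroupOf_ne_bot {A X : Subgroup G} (hXA : X ≤ A) (hX : X ≠ ⊥) : X.subgroupOf A ≠ ⊥ := by
  intro h
  rw [Subgroup.subgroupOf_eq_bot] at h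
  exact hX (disjoint_self.mp (h.mono_right hXA))

open scoped IsMulCommutative in
theorem isNilpotent_of_isMulCommutative {U : Subgroup G} (h : IsMulCommutative U) :
    Group.IsNilpotent U := by
  haveI := h
  infer_instance

/-- a group of Frobenius type from the data inside `G` -/
theorem isOfTypeF_of {A F U U₀ : Subgroup G} (hsolv : Group.IsSolvable A) (hodd : Odd (Nat.card A))
    (hFA : Cfsg.fittingHallOf A = F) (hF1 : F ≠ ⊥) (hU1 : U ≠ ⊥) (hc : Cfsg.IsComplIn F U A)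
    (hUab : IsMulCommutative U) (hU₀U : U₀ ≤ U) (hexp : Monoid.exponent U₀ = Monoid.exponent U)
    (hfree : ∀ u ∈ U₀, u ≠ 1 → ∀ x ∈ F, u * x = x * u → x = 1) : Cfsg.IsOfTypeF ↥A := by
  have hFe : Cfsg.fittingHall ↥A = F.subgroupOf A := by rw [fittingHall_eq_subgroupOf, hFA]
  have hUA : U ≤ A := hc.2.1
  refine ⟨hsolv, hodd, ?_, ?_, U.subgroupOf A, subgroupOf_ne_bot hUA hU1, ?_, ?_, ?_⟩
  · rw [hFe]; exact subgroupOf_ne_bot hc.1 hF1
  · rw [hFe, Ne, Subgroup.subgroupOf_eq_top]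
    intro h
    apply hU1
    rw [eq_bot_iff, ← hc.2.2.1]
    exact le_inf (hUA.trans h) le_rfl
  · rw [hFe]; exact Cfsg.Agent.H9.BG12.isComplement'_subgroupOf hc
  · refine ⟨U.subgroupOf A, le_rfl, Subgroup.le_normalizer, ?_, fun x _ _ => inf_le_left⟩
    rw [isMulCommutative_iff]
    rintro ⟨a, ha⟩ ⟨b, hb⟩
    have h1 := (isMulCommutative_iff.mp hUab) ⟨(a : G), ha⟩ ⟨(b : G), hb⟩
    have h2 : (a : G) * (b : G) = (b : G) * (a : G) := congrArg Subtype.val h1
    apply Subtype.ext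
    apply Subtype.ext
    exact h2
  · refine ⟨U₀.subgroupOf A, ?_, ?_, ?_⟩
    · intro x hx
      exact hU₀U hx
    · rw [Monoid.exponent_eq_of_mulEquiv (Subgroup.subgroupOfEquivOfLe (hU₀U.trans hUA)),
        Monoid.exponent_eq_of_mulEquiv (Subgroup.subgroupOfEquivOfLe hUA), hexp]
    · intro u hu hu1 x hx hux
      rw [hFe] at hx
      have h1 := hfree (u : G) hu (fun h => hu1 (Subtype.ext h)) (x : G) hx
        (congrArg Subtype.val hux)
      exact Subtype.ext h1

/-- **S1381** (Type II ↔ `K ≠ 1`, `U ≠ 1`) relative to the statements of S1350, S1354-S1357, S1360,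
S1363-S1365, S1370, S1372. -/
theorem s1381_of (hG : Cfsg.IsMinSimpleOddOrder G) (h1350 : St1350 G) {M K U : Subgroup G}
    (hM : IsCoatom M) (hKU : Cfsg.IsSigmaDecomposition M K U) (hP : PHyp M K U)
    (h1357 : Cfsg.fittingHallOf M ≠ Cfsg.sigmaCore M →
      U = ⊥ ∧ Cfsg.IsTISubset (Cfsg.fittingOf M : Set G) ∧ (Nat.card K).Prime)
    (h1360 : ∃ U₀ : Subgroup G, U₀ ≤ U ∧ Monoid.exponent U₀ = Monoid.exponent U ∧
      ∀ u ∈ U₀, u ∈ Cfsg.sigmaHat M → u = 1)
    (h1363 : K ≠ ⊥ → IsMulCommutative U ∧ ¬ Subgroup.normalizer (U : Set G) ≤ M)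
    (h1372 : K ≠ ⊥ → U ≠ ⊥ →
      (Nat.card K).Prime ∧ Cfsg.IsTISubset (Cfsg.fittingOf M : Set G) ∧ Cfsg.sigmaCore M ≤ Cfsg.fittingOf M) :
    Cfsg.IsOfTypeII M ↔ (K ≠ ⊥ ∧ U ≠ ⊥) := by
  obtain ⟨hF1, hFσ, hσM', hM'lt, hnil⟩ := hP.h1355
  have hM'M : ⁅M, M⁆ ≤ M := Subgroup.commutator_le_self M
  constructor
  · rintro ⟨W₁, V, W₂, hT, hV1, -, -, -, hNV, -, -⟩
    have hK1 := K_ne_bot_of_typeP h1350 hM hKU hFσ hσM' hT
    obtain ⟨hM'eq, -⟩ := hP.h1365 hK1
    refine ⟨hK1, ?_⟩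
    intro hU
    apply hNV
    have hM'S : ⁅M, M⁆ = Cfsg.sigmaCore M := by rw [hM'eq, hU, bot_sup_eq]
    have hVS : V ≤ Cfsg.sigmaCore M := hM'S ▸ hT.U_compl.2.1
    apply normalizer_le_of_nilpotent_hall h1350 hM hVS hT.U_nilpotent hV1
    have h1 := Cfsg.Agent.Helper23.card_of_isComplIn _ _ _ hT.U_compl
    rw [hM'S] at h1
    have h2 := sd_card h1350 hM hKU
    rw [hU, Subgroup.card_bot, one_mul, h1] at h2
    have h3 := relIndex_mul_card' (hVS.trans (sigmaCore_le M))
    have h4 : V.relIndex M = Nat.card K * Nat.card (Cfsg.fittingHallOf M) := by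
      apply Nat.eq_of_mul_eq_mul_right (Nat.card_pos (α := ↥V))
      rw [h3, h2]; ring
    rw [h4]
    apply Nat.Coprime.mul_right _ (Cfsg.Agent.Helper23.typeP_card_U_coprime hT)
    exact (Nat.Coprime.coprime_dvd_right (Subgroup.card_dvd_of_le hVS)
      (sd_coprime_K_sigma h1350 hM hKU)).symm
  · rintro ⟨hK1, hU1⟩
    obtain ⟨hM'eq, -⟩ := hP.h1365 hK1
    obtain ⟨hUab, hNU⟩ := h1363 hK1
    obtain ⟨hKp, hTI, -⟩ := h1372 hK1 hU1
    have hFS : Cfsg.fittingHallOf M = Cfsg.sigmaCore M := by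
      by_contra h
      exact hU1 (h1357 h).1
    have hUM' : U ≤ ⁅M, M⁆ := by rw [hM'eq]; exact le_sup_left
    have hUc : Cfsg.IsComplIn (Cfsg.fittingHallOf M) U ⁅M, M⁆ := by
      rw [hFS]
      apply isComplIn_of_card hσM' hUM'
      · rw [inf_comm]; exact sd_U_inf_sigma hKU
      · rw [hM'eq, sd_card_U_sup_sigma hKU, mul_comm]
    have hUn : Group.IsNilpotent U := isNilpotent_of_isMulCommutative hUab
    have hT := typeP_of h1350 hM hKU hK1 hP hUn hKU.normal hUc
    -- `(M')_F = M_F`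
    have hMM' : M ≤ normalizer ((⁅M, M⁆ : Subgroup G) : Set G) := by
      apply Cfsg.Agent.Helper14.le_normalizer_of_map_cj_le
      intro g hg
      rw [Subgroup.map_commutator, Cfsg.Agent.Helper14.map_cj_eq_self_of_mem hg]
    have hrel : (⁅M, M⁆ : Subgroup G).relIndex M = Nat.card K := by
      have h1 := Cfsg.Agent.Helper23.card_of_isComplIn _ _ _ hT.W₁_compl
      have h2 := relIndex_mul_card' hM'M
      apply Nat.eq_of_mul_eq_mul_right (Nat.card_pos (α := ↥(⁅M, M⁆ : Subgroup G)))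
      rw [h2, h1, mul_comm]
    have hcopM' : (Nat.card ↥(⁅M, M⁆ : Subgroup G)).Coprime ((⁅M, M⁆ : Subgroup G).relIndex M) := by
      rw [hrel, hM'eq, sd_card_U_sup_sigma hKU, ← sd_relIndex_K h1350 hM hKU]
      exact (sd_coprime_K hKU).symm
    have hFF : Cfsg.fittingHallOf ⁅M, M⁆ = Cfsg.fittingHallOf M :=
      le_antisymm (fittingHallOf_le_of_normal_hall hM'M hMM' hcopM')
        (fittingHallOf_le_fittingHallOf_of_le hM'M (hFσ.trans hσM'))
    obtain ⟨U₀, hU₀U, hexp, hU₀⟩ := h1360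
    refine ⟨K, U, _, hT, hU1, hKp, hTI, hUab, hNU, ?_, hFF⟩
    apply isOfTypeF_of (isSolvable_of_le_coatom hG hM hM'M)
      (Odd.of_dvd_nat hG.1 (Subgroup.card_subgroup_dvd_card _)) hFF hF1 hU1 hUc hUab hU₀U hexp
    intro u hu hu1 x hx hux
    by_contra hx1
    apply hu1
    apply hU₀ u hu
    refine ⟨hKU.compl.1 (hU₀U hu), x, hFS ▸ hx, hx1, hux⟩

end Cfsg.Agent.Helper10.BG16
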