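import Mathlib

set_option autoImplicit false
set_option linter.unusedSectionVars false
set_option linter.unusedVariables false

/-! # A Hall–Higman type lemma for abelian `p'`-groups (norm form) -/

namespace Cfsg.Agent.Helper10

open Finset

/-- In a ring where `p = 0`, `(x - 1)^(p-1) = 0` forces `1 + x + ⋯ + x^(p-1) = 0`. -/
theorem geom_sum_eq_zero_of_sub_one_pow {E : Type*} [Ring E] {p : ℕ} (hp : p.Prime)
    (hpE : (p : E) = 0) (x : E) (hx : (x - 1) ^ (p - 1) = 0) :
    ∑ i ∈ Finset.range p, x ^ i = 0 := by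
  have h1 := congrArg (Polynomial.aeval (R := ℤ) (x - 1))
    (Polynomial.geom_sum_X_comp_X_add_one_eq_sum (R := ℤ) p)
  rw [Polynomial.aeval_comp] at h1
  simp only [map_sum, map_pow, Polynomial.aeval_X, map_add, map_one, map_mul,
    map_natCast, sub_add_cancel] at h1
  rw [h1]
  apply Finset.sum_eq_zero
  intro i hi
  rw [Finset.mem_range] at hi
  by_cases hip : i = p - 1
  · rw [hip, hx, mul_zero]
  · have hlt : i + 1 < p := by omega
    obtain ⟨m, hm⟩ := hp.dvd_choose_self (Nat.succ_ne_zero i) hlt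
    rw [hm, Nat.cast_mul, hpE, zero_mul, zero_mul]

section Norm

variable {V : Type*} [CommGroup V]

/-- if `m ↦ σ m / m` is nilpotent of degree `p - 1` on a commutative group of exponent `p`,
then the norm `∏_{i<p} σ^i` is trivial -/
theorem norm_eq_one_of_iterate {p : ℕ} (hp : p.Prime) (hexp : ∀ v : V, v ^ p = 1) (σ : MulAut V)
    (hD : ∀ v : V, (fun w : V => σ w * w⁻¹)^[p - 1] v = 1) :
    ∀ v : V, ∏ i ∈ Finset.range p, (σ ^ i) v = 1 := by
  intro v
  let x : AddMonoid.End (Additive V) := (σ : V →* V).toAdditive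
  have hpE : ((p : ℕ) : AddMonoid.End (Additive V)) = 0 := by
    ext a
    change ((p : ℕ) : AddMonoid.End (Additive V)) a = 0
    rw [AddMonoid.End.natCast_apply]
    change Additive.ofMul ((Additive.toMul a) ^ p) = 0
    rw [hexp]
    rfl
  have hxsub : ∀ (k : ℕ) (w : V), ((x - 1) ^ k) (Additive.ofMul w) =
      Additive.ofMul ((fun w : V => σ w * w⁻¹)^[k] w) := by
    intro k
    induction k with
    | zero => intro w; rfl
    | succ k ih =>
      intro w
      have e1 : ((x - 1) ^ (k + 1)) (Additive.ofMul w) =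
          ((x - 1) ^ k) ((x - 1) (Additive.ofMul w)) := by
        rw [pow_succ]; rfl
      have e2 : (x - 1) (Additive.ofMul w) = Additive.ofMul (σ w * w⁻¹) := by
        rw [← div_eq_mul_inv, ofMul_div]
        exact AddMonoidHom.sub_apply x (AddMonoidHom.id (Additive V)) (Additive.ofMul w)
      rw [e1, e2, ih, Function.iterate_succ_apply]
  have hx : (x - 1) ^ (p - 1) = 0 := by
    ext a
    have := hxsub (p - 1) (Additive.toMul a)
    rw [hD] at this
    exact this
  have hsum := geom_sum_eq_zero_of_sub_one_pow hp hpE x hx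
  have hxpow : ∀ (k : ℕ) (w : V), (x ^ k) (Additive.ofMul w) = Additive.ofMul ((σ ^ k) w) := by
    intro k
    induction k with
    | zero => intro w; rfl
    | succ k ih =>
      intro w
      have e1 : (x ^ (k + 1)) (Additive.ofMul w) = (x ^ k) (x (Additive.ofMul w)) := by
        rw [pow_succ]; rfl
      have e2 : x (Additive.ofMul w) = Additive.ofMul (σ w) := rfl
      rw [e1, e2, ih, pow_succ]
      rfl
  have h2 := congrArg (fun f : AddMonoid.End (Additive V) => f (Additive.ofMul v)) hsum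
  beta_reduce at h2
  have h3 : (∑ i ∈ Finset.range p, x ^ i) (Additive.ofMul v) =
      Additive.ofMul (∏ i ∈ Finset.range p, (σ ^ i) v) := by
    rw [ofMul_prod]
    have : (∑ i ∈ Finset.range p, x ^ i) (Additive.ofMul v) =
        ∑ i ∈ Finset.range p, (x ^ i) (Additive.ofMul v) := by
      exact AddMonoidHom.finsetSum_apply _ _ _
    rw [this]
    apply Finset.sum_congr rfl
    intro i _
    exact hxpow i v
  rw [h3] at h2
  exact h2

/-- norm trivial gives `σ^p = 1` -/
theorem pow_eq_one_of_norm {p : ℕ} (σ : MulAut V)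
    (hnorm : ∀ v : V, ∏ i ∈ Finset.range p, (σ ^ i) v = 1) : σ ^ p = 1 := by
  ext v
  have h1 := hnorm (σ v * v⁻¹)
  have h2 : ∀ i : ℕ, (σ ^ i) (σ v * v⁻¹) = (σ ^ (i + 1)) v / (σ ^ i) v := by
    intro i
    rw [map_mul, map_inv, div_eq_mul_inv, pow_succ]
    rfl
  simp_rw [h2] at h1
  rw [Finset.prod_range_div (fun i => (σ ^ i) v) p] at h1
  rw [pow_zero] at h1
  have h3 : (σ ^ p) v / v = 1 := h1
  rw [div_eq_one] at h3
  exact h3

end Norm

section FA

variable {V : Type*} [CommGroup V] [Finite V] {Γ : Type*} [Group Γ]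

/-- **Abelian Hall–Higman, norm form.** `N` a finite subgroup, `g` normalizing `N` with `g^i`
fixed-point-free on `N` for `0 < i < p`, the norm `∏_{i<p} g^i` trivial on the commutative group
`V`, and `|N|` prime to `|V|`: then `N` acts trivially on `V`. -/
theorem norm_trivial_action (ρ : Γ →* MulAut V) (N : Subgroup Γ) [Finite N] (g : Γ) (p : ℕ)
    (hp0 : 0 < p)
    (hgN : ∀ n ∈ N, g * n * g⁻¹ ∈ N)
    (hfpf : ∀ i, 0 < i → i < p → ∀ n ∈ N, g ^ i * n = n * g ^ i → n = 1)
    (hnorm : ∀ v : V, ∏ i ∈ Finset.range p, ρ (g ^ i) v = 1)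
    (hcop : (Nat.card N).Coprime (Nat.card V)) :
    ∀ n ∈ N, ∀ v : V, ρ n v = v := by
  classical
  have : Fintype N := Fintype.ofFinite N
  -- conjugation by powers of g preserves N
  have hgi : ∀ (i : ℕ), ∀ n ∈ N, g ^ i * n * (g ^ i)⁻¹ ∈ N := by
    intro i
    induction i with
    | zero => intro n hn; simpa using hn
    | succ i ih =>
      intro n hn
      have h1 := hgN _ (ih n hn)
      have e : g ^ (i + 1) * n * (g ^ (i + 1))⁻¹ = g * (g ^ i * n * (g ^ i)⁻¹) * g⁻¹ := by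
        rw [pow_succ']
        group
      rw [e]
      exact h1
  have hgibij : ∀ i : ℕ, Function.Bijective
      (fun n : N => (⟨g ^ i * n * (g ^ i)⁻¹, hgi i n n.2⟩ : N)) := by
    intro i
    apply Finite.injective_iff_bijective.mp
    intro n m hnm
    have h1 : g ^ i * (n : Γ) * (g ^ i)⁻¹ = g ^ i * (m : Γ) * (g ^ i)⁻¹ := congrArg Subtype.val hnm
    apply Subtype.ext
    have h2 := mul_right_cancel h1
    exact mul_left_cancel h2
  have hgi' : ∀ (i : ℕ), ∀ n ∈ N, (g ^ i)⁻¹ * n * g ^ i ∈ N := by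
    intro i n hn
    obtain ⟨m, hm⟩ := (hgibij i).2 ⟨n, hn⟩
    have h1 : g ^ i * (m : Γ) * (g ^ i)⁻¹ = n := congrArg Subtype.val hm
    have : (g ^ i)⁻¹ * n * g ^ i = m := by rw [← h1]; group
    rw [this]
    exact m.2
  -- the trace over N
  have hTNg : ∀ (i : ℕ) (w : V), ∏ m : N, ρ (m : Γ) (ρ (g ^ i) w) = ρ (g ^ i) (∏ m : N, ρ (m : Γ) w) := by
    intro i w
    rw [map_prod]
    symm
    apply Fintype.prod_bijective _ (hgibij i)
    intro m
    change ρ (g ^ i) (ρ (m : Γ) w) = ρ (g ^ i * (m : Γ) * (g ^ i)⁻¹) (ρ (g ^ i) w)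
    rw [← MulAut.mul_apply, ← map_mul, ← MulAut.mul_apply, ← map_mul]
    congr 2
    group
  have key : ∀ w : V, ∏ m : N, ρ (m : Γ) w = 1 → w = 1 := by
    intro w hw
    have hD1 : ∏ n : N, ∏ i ∈ Finset.range p, ρ ((n : Γ) * g ^ i * (n : Γ)⁻¹) w = 1 := by
      apply Finset.prod_eq_one
      intro n _
      have h1 : ∀ i : ℕ, ρ ((n : Γ) * g ^ i * (n : Γ)⁻¹) w =
          ρ (n : Γ) (ρ (g ^ i) (ρ ((n : Γ)⁻¹) w)) := by
        intro i
        rw [map_mul, map_mul]; rfl
      simp_rw [h1]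
      rw [← map_prod, hnorm, map_one]
    have hD2 : ∏ i ∈ Finset.range p, ∏ n : N, ρ ((n : Γ) * g ^ i * (n : Γ)⁻¹) w =
        w ^ Nat.card N := by
      rw [Finset.prod_eq_single_of_mem 0 (Finset.mem_range.2 hp0)]
      · have h1 : ∀ n : N, ρ ((n : Γ) * g ^ 0 * (n : Γ)⁻¹) w = w := by
          intro n
          rw [pow_zero, mul_one, mul_inv_cancel, map_one]; rfl
        simp_rw [h1]
        rw [Finset.prod_const, Finset.card_univ, Nat.card_eq_fintype_card]
      · intro i hi hi0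
        rw [Finset.mem_range] at hi
        have hipos : 0 < i := Nat.pos_of_ne_zero hi0
        have hmem : ∀ n : N, (n : Γ) * g ^ i * (n : Γ)⁻¹ * (g ^ i)⁻¹ ∈ N := by
          intro n
          have h1 := hgi i (n : Γ)⁻¹ (N.inv_mem n.2)
          have e : (n : Γ) * g ^ i * (n : Γ)⁻¹ * (g ^ i)⁻¹ =
              n * (g ^ i * (n : Γ)⁻¹ * (g ^ i)⁻¹) := by group
          rw [e]; exact N.mul_mem n.2 h1
        have hφinj : Function.Injective
            (fun n : N => (⟨(n : Γ) * g ^ i * (n : Γ)⁻¹ * (g ^ i)⁻¹, hmem n⟩ : N)) := by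
          intro n m hnm
          have h1 : (n : Γ) * g ^ i * (n : Γ)⁻¹ * (g ^ i)⁻¹ =
              (m : Γ) * g ^ i * (m : Γ)⁻¹ * (g ^ i)⁻¹ := congrArg Subtype.val hnm
          have h2 : g ^ i * ((m : Γ)⁻¹ * n) = ((m : Γ)⁻¹ * n) * g ^ i := by
            have h3 : (n : Γ) * g ^ i * (n : Γ)⁻¹ = (m : Γ) * g ^ i * (m : Γ)⁻¹ :=
              mul_right_cancel h1
            calc g ^ i * ((m : Γ)⁻¹ * n)
                = (m : Γ)⁻¹ * ((m : Γ) * g ^ i * (m : Γ)⁻¹) * n := by group
              _ = (m : Γ)⁻¹ * ((n : Γ) * g ^ i * (n : Γ)⁻¹) * n := by rw [h3]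
              _ = ((m : Γ)⁻¹ * n) * g ^ i := by group
          have h4 := hfpf i hipos hi _ (N.mul_mem (N.inv_mem m.2) n.2) h2
          apply Subtype.ext
          have : (n : Γ) = m * ((m : Γ)⁻¹ * n) := by group
          rw [this, h4, mul_one]
        have hφ := Finite.injective_iff_bijective.mp hφinj
        have h5 : ∀ n : N, ρ ((n : Γ) * g ^ i * (n : Γ)⁻¹) w =
            ρ (((⟨(n : Γ) * g ^ i * (n : Γ)⁻¹ * (g ^ i)⁻¹, hmem n⟩ : N) : N) : Γ)
              (ρ (g ^ i) w) := by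
          intro n
          rw [← MulAut.mul_apply, ← map_mul]
          congr 2
          group
        rw [Fintype.prod_bijective _ hφ _ (fun m : N => ρ (m : Γ) (ρ (g ^ i) w)) h5]
        rw [hTNg, hw, map_one]
    rw [Finset.prod_comm, hD2] at hD1
    have h1 : orderOf w ∣ Nat.card N := orderOf_dvd_of_pow_eq_one hD1
    have h2 : orderOf w ∣ Nat.card V := orderOf_dvd_natCard w
    have h3 : orderOf w = 1 := Nat.eq_one_of_dvd_coprimes hcop h1 h2
    exact orderOf_eq_one_iff.1 h3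
  intro n hn v
  have h1 : ρ n v * v⁻¹ = 1 := by
    apply key
    have h2 : ∀ m : N, ρ (m : Γ) (ρ n v * v⁻¹) = ρ (((m * ⟨n, hn⟩ : N) : N) : Γ) v * (ρ (m : Γ) v)⁻¹ := by
      intro m
      rw [map_mul, map_inv, ← MulAut.mul_apply, ← map_mul]
      rfl
    simp_rw [h2]
    rw [Finset.prod_mul_distrib, Finset.prod_inv_distrib]
    have h3 : ∏ m : N, ρ (((m * ⟨n, hn⟩ : N) : N) : Γ) v = ∏ m : N, ρ (m : Γ) v :=
      Fintype.prod_equiv (Equiv.mulRight (⟨n, hn⟩ : N)) _ _ (fun m => rfl)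
    rw [h3, mul_inv_cancel]
  exact mul_inv_eq_one.1 h1

end FA

end Cfsg.Agent.Helper10
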