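import Mathlib
import Cfsg.Prelude.Def_LocalEven
import Cfsg.Prelude.Def_PLocal
import Cfsg.Agent.S3766
import Cfsg.Agent.Helper14.PCore
import Cfsg.Agent.Helper10.HallHigmanAb
import Cfsg.Agent.Helper14.Large2

set_option autoImplicit false
set_option linter.unusedSectionVars false
set_option linter.unusedVariables false

/-! # The action of a group on a chief factor `U / V`, realised on the subgroup `UV/V` of `Z ⧸ V` -/

namespace Cfsg.Agent.Helper10

open Subgroup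
open scoped IsMulCommutative
open scoped commutatorElement

section Setup

variable {Z : Type*} [Group Z] (U V : Subgroup Z) [hVn : V.Normal] [hUn : U.Normal]

/-- the image of `U` in `Z ⧸ V` -/
abbrev Ub : Subgroup (Z ⧸ V) := U.map (QuotientGroup.mk' V)

instance Ub_normal : (Ub U V).Normal := hUn.map _ (QuotientGroup.mk'_surjective V)

/-- conjugation action of `Z` on `UV/V` -/
noncomputable def rhoZ : Z →* MulAut ↥(Ub U V) :=
  (MulAut.conjNormal (H := Ub U V)).comp (QuotientGroup.mk' V)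

theorem rhoZ_apply (z : Z) (m : ↥(Ub U V)) :
    ((rhoZ U V z m : ↥(Ub U V)) : Z ⧸ V) =
      (QuotientGroup.mk' V z) * (m : Z ⧸ V) * (QuotientGroup.mk' V z)⁻¹ :=
  MulAut.conjNormal_apply _ _

theorem rhoZ_eq_one_of_comm {z : Z} (h : ∀ u ∈ U, z * u * z⁻¹ * u⁻¹ ∈ V) : rhoZ U V z = 1 := by
  ext m
  obtain ⟨u, hu, hum⟩ := m.2
  rw [rhoZ_apply, MulAut.one_apply, ← hum, ← map_inv, ← map_mul, ← map_mul]
  rw [QuotientGroup.mk'_apply, QuotientGroup.mk'_apply, QuotientGroup.eq]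
  have e : (z * u * z⁻¹)⁻¹ * u = (u⁻¹ * (z * u * z⁻¹ * u⁻¹) * u)⁻¹ := by group
  rw [e]
  apply V.inv_mem
  have := hVn.conj_mem _ (h u hu) u⁻¹
  simpa using this

theorem comm_of_rhoZ_eq_one {z : Z} (h : rhoZ U V z = 1) : ∀ u ∈ U, z * u * z⁻¹ * u⁻¹ ∈ V := by
  intro u hu
  have hm : (QuotientGroup.mk' V) u ∈ Ub U V := ⟨u, hu, rfl⟩
  have h1 := rhoZ_apply U V z ⟨_, hm⟩
  rw [h, MulAut.one_apply] at h1
  have h2 : (QuotientGroup.mk' V) (z * u * z⁻¹ * u⁻¹) = 1 := by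
    rw [map_mul, map_mul, map_mul, map_inv, map_inv]
    have h3 : (QuotientGroup.mk' V) u =
        (QuotientGroup.mk' V) z * (QuotientGroup.mk' V) u * ((QuotientGroup.mk' V) z)⁻¹ := h1
    rw [← h3, mul_inv_cancel]
  exact (QuotientGroup.eq_one_iff _).1 h2

theorem commutator_le_of_rhoZ_eq_one {g : Z} (h : rhoZ U V g = 1) :
    ⁅U, Subgroup.zpowers g⁆ ≤ V := by
  rw [Subgroup.commutator_le]
  intro u hu z hz
  obtain ⟨k, rfl⟩ := Subgroup.mem_zpowers_iff.1 hz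
  have h1 : rhoZ U V (g ^ k) = 1 := by rw [map_zpow, h, one_zpow]
  have h2 := comm_of_rhoZ_eq_one U V h1 u hu
  have e : ⁅u, g ^ k⁆ = (g ^ k * u * (g ^ k)⁻¹ * u⁻¹)⁻¹ := by
    rw [commutatorElement_def]; group
  rw [e]
  exact V.inv_mem h2

theorem iter_mem (g : Z) : ∀ (k : ℕ) (m : ↥(Ub U V)),
    ∃ u ∈ Cfsg.iterCommutator U (Subgroup.zpowers g) k, (QuotientGroup.mk' V) u =
      (((fun w : ↥(Ub U V) => rhoZ U V g w * w⁻¹)^[k] m : ↥(Ub U V)) : Z ⧸ V) := by
  intro k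
  induction k with
  | zero =>
    intro m
    obtain ⟨u, hu, hum⟩ := m.2
    exact ⟨u, hu, hum⟩
  | succ k ih =>
    intro m
    obtain ⟨u, hu, hum⟩ := ih m
    refine ⟨g * u * g⁻¹ * u⁻¹, ?_, ?_⟩
    · change g * u * g⁻¹ * u⁻¹ ∈ ⁅Cfsg.iterCommutator U (Subgroup.zpowers g) k, Subgroup.zpowers g⁆
      rw [Subgroup.commutator_comm]
      have : g * u * g⁻¹ * u⁻¹ = ⁅g, u⁆ := by rw [commutatorElement_def]
      rw [this]
      exact Subgroup.commutator_mem_commutator (Subgroup.mem_zpowers g) hu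
    · rw [Function.iterate_succ_apply']
      rw [Subgroup.coe_mul, Subgroup.coe_inv, rhoZ_apply, ← hum]
      simp only [map_mul, map_inv]

theorem iterate_eq_one_of_iter_le {g : Z} {k : ℕ}
    (h : Cfsg.iterCommutator U (Subgroup.zpowers g) k ≤ V) (m : ↥(Ub U V)) :
    (fun w : ↥(Ub U V) => rhoZ U V g w * w⁻¹)^[k] m = 1 := by
  obtain ⟨u, hu, hum⟩ := iter_mem U V g k m
  apply Subtype.ext
  rw [← hum, Subgroup.coe_one]
  exact (QuotientGroup.eq_one_iff u).2 (h hu)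

end Setup

section Chief

variable {Z : Type*} [Group Z] [Finite Z] {p : ℕ} [Fact p.Prime] {U V : Subgroup Z}
  [hVn : V.Normal] [hUn : U.Normal]

/-- elements of `O_p(Z)` centralize chief factors -/
theorem chief_cent (h : Cfsg.IsChiefFactor U V) :
    ∀ x ∈ Cfsg.pCore p Z, ∀ u ∈ U, x * u * x⁻¹ * u⁻¹ ∈ V := by
  intro x hx u hu
  have hnil : Group.IsNilpotent ↥(Cfsg.pCore p Z) :=
    (Cfsg.Agent.Helper14.pCore_isPGroup (G := Z) p).isNilpotent
  have hchief : Cfsg.Agent.S3766.Chief U V := ⟨h.2.1, h.2.2.1, h.1, h.2.2.2⟩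
  have h1 := Cfsg.Agent.S3766.cent_of_nilpotent_normal (Cfsg.pCore p Z) inferInstance hnil hchief
    x hx u hu
  have e : x * u * x⁻¹ * u⁻¹ = (u * x * u⁻¹ * x⁻¹)⁻¹ := by group
  rw [e]
  exact V.inv_mem h1

theorem ub_isMulCommutative (h : Cfsg.IsChiefFactor U V) (hUP : U ≤ Cfsg.pCore p Z) :
    IsMulCommutative ↥(Ub U V) := by
  refine ⟨⟨?_⟩⟩
  rintro ⟨_, u₁, hu₁, rfl⟩ ⟨_, u₂, hu₂, rfl⟩
  apply Subtype.ext
  change (QuotientGroup.mk' V) u₁ * (QuotientGroup.mk' V) u₂ =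
    (QuotientGroup.mk' V) u₂ * (QuotientGroup.mk' V) u₁
  have h1 := chief_cent h u₁ (hUP hu₁) u₂ hu₂
  have h2 : (QuotientGroup.mk' V) (u₁ * u₂ * u₁⁻¹ * u₂⁻¹) = 1 := (QuotientGroup.eq_one_iff _).2 h1
  rw [map_mul, map_mul, map_mul, map_inv, map_inv] at h2
  calc (QuotientGroup.mk' V) u₁ * (QuotientGroup.mk' V) u₂
      = ((QuotientGroup.mk' V) u₁ * (QuotientGroup.mk' V) u₂ * ((QuotientGroup.mk' V) u₁)⁻¹ *
          ((QuotientGroup.mk' V) u₂)⁻¹) * ((QuotientGroup.mk' V) u₂ * (QuotientGroup.mk' V) u₁) := by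
        group
    _ = (QuotientGroup.mk' V) u₂ * (QuotientGroup.mk' V) u₁ := by rw [h2, one_mul]

theorem ub_isPGroup (hUP : U ≤ Cfsg.pCore p Z) : IsPGroup p ↥(Ub U V) :=
  ((Cfsg.Agent.Helper14.pCore_isPGroup (G := Z) p).to_le hUP).map _

theorem ub_ne_bot (h : Cfsg.IsChiefFactor U V) : Ub U V ≠ ⊥ := by
  intro hb
  apply h.1.not_ge
  intro u hu
  have h1 : (QuotientGroup.mk' V) u ∈ Ub U V := ⟨u, hu, rfl⟩
  rw [hb, Subgroup.mem_bot] at h1
  exact (QuotientGroup.eq_one_iff u).1 h1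

/-- a normal subgroup of `Z ⧸ V` inside `UV/V` is trivial or everything -/
theorem chief_dichotomy (h : Cfsg.IsChiefFactor U V) (F : Subgroup (Z ⧸ V)) (hFn : F.Normal)
    (hFU : F ≤ Ub U V) : F = ⊥ ∨ F = Ub U V := by
  have hWn : (F.comap (QuotientGroup.mk' V)).Normal := hFn.comap _
  have hVW : V ≤ F.comap (QuotientGroup.mk' V) := by
    intro v hv
    rw [Subgroup.mem_comap]
    have h1 : (QuotientGroup.mk' V) v = 1 := (QuotientGroup.eq_one_iff v).2 hv
    rw [h1]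
    exact F.one_mem
  have hWU : F.comap (QuotientGroup.mk' V) ≤ U := by
    intro w hw
    obtain ⟨u, hu, hue⟩ := hFU hw
    have h1 : u⁻¹ * w ∈ V := by
      rw [← QuotientGroup.eq]
      exact hue
    have e : w = u * (u⁻¹ * w) := by group
    rw [e]
    exact U.mul_mem hu (h.1.le h1)
  rcases h.2.2.2 _ hWn hVW hWU with h1 | h1
  · left
    rw [eq_bot_iff]
    intro x hx
    obtain ⟨w, rfl⟩ := QuotientGroup.mk'_surjective V x
    have hw : w ∈ F.comap (QuotientGroup.mk' V) := hx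
    rw [h1] at hw
    exact Subgroup.mem_bot.2 ((QuotientGroup.eq_one_iff w).2 hw)
  · right
    apply le_antisymm hFU
    rintro _ ⟨u, hu, rfl⟩
    have hu' : u ∈ F.comap (QuotientGroup.mk' V) := by rw [h1]; exact hu
    exact hu'

/-- a chief factor inside `O_p(Z)` has exponent `p` -/
theorem ub_pow_eq_one (h : Cfsg.IsChiefFactor U V) (hUP : U ≤ Cfsg.pCore p Z) :
    ∀ m : ↥(Ub U V), m ^ p = 1 := by
  have hp : p.Prime := Fact.out
  have hcomm := ub_isMulCommutative h hUP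
  have hΦn : (((powMonoidHom p : ↥(Ub U V) →* ↥(Ub U V)).range).map (Ub U V).subtype).Normal := by
    constructor
    rintro _ ⟨_, ⟨m, rfl⟩, rfl⟩ x
    have hm' : x * (m : Z ⧸ V) * x⁻¹ ∈ Ub U V := (Ub_normal U V).conj_mem _ m.2 x
    refine ⟨⟨x * m * x⁻¹, hm'⟩ ^ p, ⟨⟨x * m * x⁻¹, hm'⟩, rfl⟩, ?_⟩
    simp [conj_pow]
  rcases chief_dichotomy h _ hΦn (Subgroup.map_subtype_le _) with h1 | h1
  · intro m
    have h2 : ((m ^ p : ↥(Ub U V)) : Z ⧸ V) ∈
        ((powMonoidHom p : ↥(Ub U V) →* ↥(Ub U V)).range).map (Ub U V).subtype :=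
      ⟨m ^ p, ⟨m, rfl⟩, rfl⟩
    rw [h1, Subgroup.mem_bot] at h2
    exact Subtype.ext h2
  · exfalso
    have hsurj : Function.Surjective (powMonoidHom p : ↥(Ub U V) →* ↥(Ub U V)) := by
      intro m
      have h2 : (m : Z ⧸ V) ∈
          ((powMonoidHom p : ↥(Ub U V) →* ↥(Ub U V)).range).map (Ub U V).subtype := by
        rw [h1]; exact m.2
      obtain ⟨y, ⟨x, hx⟩, hy⟩ := h2
      refine ⟨x, ?_⟩
      rw [hx]
      exact Subtype.ext hy
    have hinj := Finite.injective_iff_surjective.2 hsurj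
    have hdvd : p ∣ Nat.card ↥(Ub U V) := by
      obtain ⟨k, hk⟩ := IsPGroup.iff_card.mp (ub_isPGroup (p := p) (V := V) hUP)
      have hk0 : k ≠ 0 := by
        rintro rfl
        rw [pow_zero, Subgroup.card_eq_one] at hk
        exact ub_ne_bot h hk
      rw [hk]
      exact dvd_pow_self p hk0
    obtain ⟨y, hy⟩ := exists_prime_orderOf_dvd_card' p hdvd
    have h2 : (powMonoidHom p : ↥(Ub U V) →* ↥(Ub U V)) y =
        (powMonoidHom p : ↥(Ub U V) →* ↥(Ub U V)) 1 := by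
      simp only [powMonoidHom_apply, one_pow]
      rw [← hy]
      exact pow_orderOf_eq_one y
    have h3 := hinj h2
    rw [h3, orderOf_one] at hy
    exact hp.one_lt.ne hy

/-- a `p`-subgroup of `Z` fixes a nonidentity element of the chief factor -/
theorem exists_fixed_by_pgroup (h : Cfsg.IsChiefFactor U V) (hUP : U ≤ Cfsg.pCore p Z)
    (T : Subgroup Z) (hT : IsPGroup p ↥T) :
    ∃ m : ↥(Ub U V), m ≠ 1 ∧ ∀ t ∈ T, rhoZ U V t m = m := by
  have hn : T.map (QuotientGroup.mk' V) ≤ normalizer ((Ub U V : Subgroup (Z ⧸ V)) : Set (Z ⧸ V)) := by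
    rw [Subgroup.normalizer_eq_top_iff.2 (Ub_normal U V)]
    exact le_top
  obtain ⟨y, hy, hy1⟩ := Cfsg.Agent.Helper14.exists_ne_one_mem_inf_centralizer (p := p)
    (hT.map (QuotientGroup.mk' V)) (ub_isPGroup (p := p) (V := V) hUP) hn (ub_ne_bot h)
  refine ⟨⟨y, hy.1⟩, fun h1 => hy1 (congrArg Subtype.val h1), ?_⟩
  intro t ht
  apply Subtype.ext
  rw [rhoZ_apply]
  have h2 := Subgroup.mem_centralizer_iff.1 hy.2 ((QuotientGroup.mk' V) t) ⟨t, ht, rfl⟩
  change (QuotientGroup.mk' V) t * y * ((QuotientGroup.mk' V) t)⁻¹ = y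
  rw [h2, mul_inv_cancel_right]

/-- if some nonidentity element of the chief factor is fixed by everything, the action is trivial -/
theorem rhoZ_trivial_of_fixed (h : Cfsg.IsChiefFactor U V) (m : ↥(Ub U V)) (hm : m ≠ 1)
    (hfix : ∀ z : Z, rhoZ U V z m = m) : ∀ z : Z, rhoZ U V z = 1 := by
  have hFn : (Ub U V ⊓ Subgroup.center (Z ⧸ V)).Normal := inferInstance
  rcases chief_dichotomy h _ hFn inf_le_left with h1 | h1
  · exfalso
    apply hm
    have h2 : (m : Z ⧸ V) ∈ Ub U V ⊓ Subgroup.center (Z ⧸ V) := by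
      refine ⟨m.2, ?_⟩
      apply Subgroup.mem_center_iff.2
      intro x
      obtain ⟨z, rfl⟩ := QuotientGroup.mk'_surjective V x
      have h3 := congrArg Subtype.val (hfix z)
      rw [rhoZ_apply] at h3
      calc (QuotientGroup.mk' V) z * (m : Z ⧸ V)
          = ((QuotientGroup.mk' V) z * (m : Z ⧸ V) * ((QuotientGroup.mk' V) z)⁻¹) *
            (QuotientGroup.mk' V) z := by group
        _ = (m : Z ⧸ V) * (QuotientGroup.mk' V) z := by rw [h3]
    rw [h1, Subgroup.mem_bot] at h2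
    exact Subtype.ext h2
  · intro z
    ext w
    have hw : (w : Z ⧸ V) ∈ Ub U V ⊓ Subgroup.center (Z ⧸ V) := by rw [h1]; exact w.2
    have h2 := Subgroup.mem_center_iff.1 hw.2 ((QuotientGroup.mk' V) z)
    rw [rhoZ_apply, MulAut.one_apply, h2, mul_inv_cancel_right]

end Chief

end Cfsg.Agent.Helper10
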