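import Mathlib
import Cfsg.Agent.Helper23.ClassCount

/-!
# A counting lemma: two "Frobenius-complement-like" subgroups cannot coexist

`two_ti_false`: in a finite group `D` with a central subgroup `Z`, two subgroups `B, B' ≥ Z` of
index at least `2` over `Z`, each of which contains every element conjugating one of its
elements outside `Z` back into it, and such that no conjugate of an element of `B \ Z` lies in
`B'`, cannot coexist.
-/

set_option autoImplicit false
set_option linter.unusedSectionVars false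
set_option linter.unusedVariables false

namespace Cfsg.Agent.Helper10.BG13K

open Subgroup

/-- the number of elements of a subgroup `B` outside a subgroup `Z ≤ B` -/
theorem ncard_diff_subgroup {D : Type*} [Group D] [Finite D] (Z B : Subgroup D) (hZB : Z ≤ B) :
    Set.ncard {w : D | w ∈ B ∧ w ∉ Z} + Nat.card Z = Nat.card B := by
  have h1 : {w : D | w ∈ B ∧ w ∉ Z} = (B : Set D) \ (Z : Set D) := by
    ext w; simp
  rw [h1]
  have h2 : (Z : Set D) ⊆ (B : Set D) := hZB
  have h3 := Set.ncard_sdiff_add_ncard_of_subset h2 (Set.toFinite _)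
  rw [← Nat.card_coe_set_eq (Z : Set D), ← Nat.card_coe_set_eq (B : Set D)] at h3
  exact h3

/-- class support of `B \ Z` for a TI-like subgroup `B` over a central subgroup `Z` -/
theorem card_support {D : Type*} [Group D] [Finite D] (Z B : Subgroup D) (hZB : Z ≤ B)
    (hZc : ∀ z ∈ Z, ∀ d : D, d * z = z * d)
    (hTI : ∀ w ∈ B, w ∉ Z → ∀ g : D, g * w * g⁻¹ ∈ B → g ∈ B) :
    Nat.card B * Set.ncard {a : D | ∃ g : D, ∃ z ∈ {w : D | w ∈ B ∧ w ∉ Z}, a = g * z * g⁻¹} =
      Set.ncard {w : D | w ∈ B ∧ w ∉ Z} * Nat.card D := by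
  apply Cfsg.Agent.Helper23.ClassCount.card_class_support B {w : D | w ∈ B ∧ w ∉ Z}
  · intro w hw; exact hw.1
  · intro w hw t ht
    refine ⟨B.mul_mem (B.mul_mem ht hw.1) (B.inv_mem ht), ?_⟩
    intro hz
    apply hw.2
    have h2 := hZc _ hz t⁻¹
    have hz' : w = t * w * t⁻¹ := by
      calc w = t⁻¹ * (t * w * t⁻¹) * t := by group
        _ = (t * w * t⁻¹) * t⁻¹ * t := by rw [h2]
        _ = t * w * t⁻¹ := by group
    rw [hz']; exact hz
  · intro w hw g hg
    exact hTI w hw.1 hw.2 g hg.1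

/-- **Counting lemma** (abstract form). -/
theorem two_ti_false {D : Type*} [Group D] [Finite D] (Z B B' : Subgroup D)
    (hZB : Z ≤ B) (hZB' : Z ≤ B')
    (hZc : ∀ z ∈ Z, ∀ d : D, d * z = z * d)
    (hB2 : 2 * Nat.card Z ≤ Nat.card B) (hB'2 : 2 * Nat.card Z ≤ Nat.card B')
    (hTI : ∀ w ∈ B, w ∉ Z → ∀ g : D, g * w * g⁻¹ ∈ B → g ∈ B)
    (hTI' : ∀ w ∈ B', w ∉ Z → ∀ g : D, g * w * g⁻¹ ∈ B' → g ∈ B')
    (hdisj : ∀ w ∈ B, w ∉ Z → ∀ g : D, g * w * g⁻¹ ∉ B') : False := by
  set W : Set D := {w : D | w ∈ B ∧ w ∉ Z} with hW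
  set W' : Set D := {w : D | w ∈ B' ∧ w ∉ Z} with hW'
  set U : Set D := {a : D | ∃ g : D, ∃ z ∈ W, a = g * z * g⁻¹} with hU
  set U' : Set D := {a : D | ∃ g : D, ∃ z ∈ W', a = g * z * g⁻¹} with hU'
  have e1 := card_support Z B hZB hZc hTI
  have e2 := card_support Z B' hZB' hZc hTI'
  have c1 := ncard_diff_subgroup Z B hZB
  have c2 := ncard_diff_subgroup Z B' hZB'
  rw [← hW, ← hU] at e1
  rw [← hW', ← hU'] at e2
  rw [← hW] at c1
  rw [← hW'] at c2
  -- the two supports are disjoint and miss `1`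
  have hdis : Disjoint U U' := by
    rw [Set.disjoint_left]
    rintro a ⟨g, w, hw, rfl⟩ ⟨g', w', hw', h⟩
    apply hdisj w hw.1 hw.2 (g'⁻¹ * g)
    have h2 : g'⁻¹ * g * w * (g'⁻¹ * g)⁻¹ = g'⁻¹ * (g * w * g⁻¹) * g' := by group
    rw [h2, h]
    have h3 : g'⁻¹ * (g' * w' * g'⁻¹) * g' = w' := by group
    rw [h3]; exact hw'.1
  have h1U : (1 : D) ∉ U ∪ U' := by
    rintro (⟨g, w, hw, h⟩ | ⟨g, w, hw, h⟩)
    · apply hw.2
      have : w = 1 := by
        have h2 : w = g⁻¹ * (g * w * g⁻¹) * g := by group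
        rw [h2, ← h]; group
      rw [this]; exact Z.one_mem
    · apply hw.2
      have : w = 1 := by
        have h2 : w = g⁻¹ * (g * w * g⁻¹) * g := by group
        rw [h2, ← h]; group
      rw [this]; exact Z.one_mem
  have hsum : Set.ncard U + Set.ncard U' + 1 ≤ Nat.card D := by
    rw [← Set.ncard_union_eq hdis (Set.toFinite _) (Set.toFinite _)]
    have h3 : (insert (1 : D) (U ∪ U')).ncard = (U ∪ U').ncard + 1 :=
      Set.ncard_insert_of_notMem h1U (Set.toFinite _)
    rw [← h3]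
    have h4 : (insert (1 : D) (U ∪ U')).ncard ≤ (Set.univ : Set D).ncard :=
      Set.ncard_le_ncard (Set.subset_univ _) (Set.toFinite _)
    rwa [Set.ncard_univ] at h4
  -- arithmetic
  have hBpos : 0 < Nat.card B := Nat.card_pos
  have hB'pos : 0 < Nat.card B' := Nat.card_pos
  have hZpos : 0 < Nat.card Z := Nat.card_pos
  -- 2 |W| ≥ |B|
  have w1 : Nat.card B ≤ 2 * Set.ncard W := by omega
  have w2 : Nat.card B' ≤ 2 * Set.ncard W' := by omega
  -- 2 |U| ≥ |D|
  have u1 : Nat.card D ≤ 2 * Set.ncard U := by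
    have h5 : Nat.card B * Nat.card D ≤ Nat.card B * (2 * Set.ncard U) := by
      calc Nat.card B * Nat.card D ≤ 2 * Set.ncard W * Nat.card D :=
            Nat.mul_le_mul_right _ w1
        _ = 2 * (Set.ncard W * Nat.card D) := by ring
        _ = 2 * (Nat.card B * Set.ncard U) := by rw [e1]
        _ = Nat.card B * (2 * Set.ncard U) := by ring
    exact Nat.le_of_mul_le_mul_left h5 hBpos
  have u2 : Nat.card D ≤ 2 * Set.ncard U' := by
    have h5 : Nat.card B' * Nat.card D ≤ Nat.card B' * (2 * Set.ncard U') := by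
      calc Nat.card B' * Nat.card D ≤ 2 * Set.ncard W' * Nat.card D :=
            Nat.mul_le_mul_right _ w2
        _ = 2 * (Set.ncard W' * Nat.card D) := by ring
        _ = 2 * (Nat.card B' * Set.ncard U') := by rw [e2]
        _ = Nat.card B' * (2 * Set.ncard U') := by ring
    exact Nat.le_of_mul_le_mul_left h5 hB'pos
  omega

end Cfsg.Agent.Helper10.BG13K
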