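import Mathlib
import Cfsg.Agent.Helper10.BG13K

/-!
# The counting lemma CL in an ambient group

`counting_lemma`: two non-conjugate maximal subgroups `M, H` of a finite group `G` cannot share an
abelian subgroup `Z` such that `C_M(Z) = C₁ Z`, `C_H(Z) = C₁' Z` with `C₁, C₁'` non-trivial of
order prime to `|Z|`, if every element of prime order of `C₁` (resp. `C₁'`) has its centralizer in
`M` (resp. `H`) and in no other maximal subgroup.
-/

set_option autoImplicit false
set_option linter.unusedSectionVars false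
set_option linter.unusedVariables false

namespace Cfsg.Agent.Helper10.BG13K

open Subgroup

variable {G : Type*} [Group G] [Finite G]

/-- conjugate of a coatom is a coatom -/
theorem isCoatom_map_conj {L : Subgroup G} (hL : IsCoatom L) (g : G) :
    IsCoatom (L.map (MulAut.conj g).toMonoidHom) := by
  have h := (MulEquiv.mapSubgroup (MulAut.conj g)).isCoatom_iff (a := L)
  exact h.mpr hL

/-- centralizer of a conjugate element -/
theorem centralizer_conj_le {M : Subgroup G} {a g : G} (h : centralizer ({a} : Set G) ≤ M) :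
    centralizer ({g * a * g⁻¹} : Set G) ≤ M.map (MulAut.conj g).toMonoidHom := by
  intro x hx
  rw [mem_centralizer_iff] at hx
  have hx1 := hx (g * a * g⁻¹) rfl
  refine ⟨g⁻¹ * x * g, h ?_, ?_⟩
  · rw [mem_centralizer_iff]
    intro y hy
    rw [Set.mem_singleton_iff] at hy
    subst hy
    have e1 : y * (g⁻¹ * x * g) = g⁻¹ * ((g * y * g⁻¹) * x) * g := by group
    have e2 : g⁻¹ * x * g * y = g⁻¹ * (x * (g * y * g⁻¹)) * g := by group
    rw [e1, e2, hx1]
  · simp only [MulEquiv.coe_toMonoidHom, MulAut.conj_apply]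
    group

/-- an element of `C ⊔ Z` (with `C ≤ C_G(Z)`) raised to the power `|Z|` lies in `C` -/
theorem pow_card_mem {C Z : Subgroup G} (hCZ : C ≤ centralizer (Z : Set G)) {x : G}
    (hx : x ∈ C ⊔ Z) : x ^ Nat.card Z ∈ C ∧
      (x ∉ Z → (Nat.card C).Coprime (Nat.card Z) → x ^ Nat.card Z ≠ 1) := by
  have hcomm : ∀ c ∈ C, ∀ z ∈ Z, c * z = z * c := by
    intro c hc z hz
    exact ((mem_centralizer_iff.mp (hCZ hc)) z hz).symm
  -- decompose `x = c z`
  have hdec : ∃ c ∈ C, ∃ z ∈ Z, x = c * z := by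
    rw [Subgroup.sup_eq_closure] at hx
    refine Subgroup.closure_induction (p := fun y _ => ∃ c ∈ C, ∃ z ∈ Z, y = c * z) ?_ ?_ ?_ ?_ hx
    · intro y hy
      rcases hy with hy | hy
      · exact ⟨y, hy, 1, Z.one_mem, by simp⟩
      · exact ⟨1, C.one_mem, y, hy, by simp⟩
    · exact ⟨1, C.one_mem, 1, Z.one_mem, by simp⟩
    · rintro y1 y2 - - ⟨c1, hc1, z1, hz1, rfl⟩ ⟨c2, hc2, z2, hz2, rfl⟩
      refine ⟨c1 * c2, C.mul_mem hc1 hc2, z1 * z2, Z.mul_mem hz1 hz2, ?_⟩
      have := hcomm c2 hc2 z1 hz1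
      calc c1 * z1 * (c2 * z2) = c1 * (z1 * c2) * z2 := by group
        _ = c1 * (c2 * z1) * z2 := by rw [this]
        _ = c1 * c2 * (z1 * z2) := by group
    · rintro y - ⟨c1, hc1, z1, hz1, rfl⟩
      refine ⟨c1⁻¹, C.inv_mem hc1, z1⁻¹, Z.inv_mem hz1, ?_⟩
      have := hcomm c1 hc1 z1 hz1
      rw [this, mul_inv_rev]
  obtain ⟨c, hc, z, hz, rfl⟩ := hdec
  have hcz : Commute c z := hcomm c hc z hz
  have hzpow : z ^ Nat.card Z = 1 := by
    have h0 : (⟨z, hz⟩ : ↥Z) ^ Nat.card ↥Z = 1 := pow_card_eq_one'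
    have h2 := congrArg Subtype.val h0
    rw [Subgroup.coe_pow, Subgroup.coe_one] at h2
    exact h2
  have hpow : (c * z) ^ Nat.card Z = c ^ Nat.card Z := by
    rw [hcz.mul_pow, hzpow, mul_one]
  refine ⟨by rw [hpow]; exact C.pow_mem hc _, ?_⟩
  intro hxZ hcop h1
  rw [hpow] at h1
  apply hxZ
  have hc1 : c = 1 := by
    have hd1 : orderOf c ∣ Nat.card Z := orderOf_dvd_of_pow_eq_one h1
    have hd2 : orderOf c ∣ Nat.card C := by
      have := orderOf_dvd_natCard (⟨c, hc⟩ : ↥C)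
      rwa [Subgroup.orderOf_mk] at this
    have : orderOf c ∣ 1 := by
      have := Nat.dvd_gcd hd2 hd1
      rwa [hcop] at this
    exact orderOf_eq_one_iff.mp (Nat.dvd_one.mp this)
  rw [hc1, one_mul]; exact hz

/-- conjugation commutes with powers -/
theorem conj_pow' (g x : G) (n : ℕ) : (g * x * g⁻¹) ^ n = g * x ^ n * g⁻¹ := by
  induction n with
  | zero => simp
  | succ k ih => rw [pow_succ, ih, pow_succ]; group

/-- the key step: from `w ∈ (C ⊔ Z) \ Z` produce an element `a ∈ C` of prime order, a power of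
`w`, such that conjugation by `g` sends `a` into `C''` whenever it sends `w` into `C'' ⊔ Z`. -/
theorem exists_prime_pow {C Z : Subgroup G} (hCZ : C ≤ centralizer (Z : Set G))
    (hcop : (Nat.card C).Coprime (Nat.card Z)) {w : G} (hw : w ∈ C ⊔ Z) (hwZ : w ∉ Z) :
    ∃ n : ℕ, w ^ n ∈ C ∧ (orderOf (w ^ n)).Prime ∧
      ∀ (C'' : Subgroup G), C'' ≤ centralizer (Z : Set G) → ∀ g : G,
        g * w * g⁻¹ ∈ C'' ⊔ Z → g * w ^ n * g⁻¹ ∈ C'' := by
  obtain ⟨h1, h2⟩ := pow_card_mem hCZ hw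
  have hne := h2 hwZ hcop
  set a := w ^ Nat.card Z with ha
  have hord : orderOf a ≠ 1 := fun h => hne (orderOf_eq_one_iff.mp h)
  obtain ⟨p, hp, hpd⟩ := Nat.exists_prime_and_dvd hord
  have hpos : 0 < orderOf a := orderOf_pos a
  refine ⟨Nat.card Z * (orderOf a / p), ?_, ?_, ?_⟩
  · rw [pow_mul]; exact C.pow_mem h1 _
  · rw [pow_mul, ← ha]
    have := orderOf_pow_orderOf_div (x := a) (n := p) hpos.ne' hpd
    rw [this]; exact hp
  · intro C'' hC'' g hg
    obtain ⟨h3, -⟩ := pow_card_mem hC'' hg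
    rw [conj_pow'] at h3
    have h4 := C''.pow_mem h3 (orderOf a / p)
    rw [conj_pow', ← pow_mul] at h4
    exact h4

/-- order of a conjugate -/
theorem orderOf_conj' (g a : G) : orderOf (g * a * g⁻¹) = orderOf a := by
  have := orderOf_injective (MulAut.conj g).toMonoidHom (MulAut.conj g).injective a
  simpa using this

/-- **Counting lemma CL.** -/
theorem counting_lemma {M H Z C1 C1' : Subgroup G} (hM : IsCoatom M) (hH : IsCoatom H)
    (hselfM : ∀ g : G, M.map (MulAut.conj g).toMonoidHom = M → g ∈ M)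
    (hselfH : ∀ g : G, H.map (MulAut.conj g).toMonoidHom = H → g ∈ H)
    (hnc : ∀ g : G, H ≠ M.map (MulAut.conj g).toMonoidHom)
    (hZab : Z ≤ centralizer (Z : Set G))
    (hC1Z : C1 ≤ centralizer (Z : Set G)) (hC1'Z : C1' ≤ centralizer (Z : Set G))
    (hDM : centralizer (Z : Set G) ⊓ M ≤ C1 ⊔ Z) (hDH : centralizer (Z : Set G) ⊓ H ≤ C1' ⊔ Z)
    (hC1 : C1 ≠ ⊥) (hC1' : C1' ≠ ⊥)
    (hcop : (Nat.card C1).Coprime (Nat.card Z)) (hcop' : (Nat.card C1').Coprime (Nat.card Z))
    (huM : ∀ y ∈ C1, (orderOf y).Prime → centralizer ({y} : Set G) ≤ M ∧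
      ∀ L : Subgroup G, IsCoatom L → centralizer ({y} : Set G) ≤ L → L = M)
    (huH : ∀ y ∈ C1', (orderOf y).Prime → centralizer ({y} : Set G) ≤ H ∧
      ∀ L : Subgroup G, IsCoatom L → centralizer ({y} : Set G) ≤ L → L = H) : False := by
  set D : Subgroup G := centralizer (Z : Set G) with hD
  -- strictness `Z < C ⊔ Z`
  have hlt : ∀ {C : Subgroup G}, C ≠ ⊥ → (Nat.card C).Coprime (Nat.card Z) →
      2 * Nat.card Z ≤ Nat.card ↥(C ⊔ Z) := by
    intro C hC hc
    have hle : Z ≤ C ⊔ Z := le_sup_right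
    have hdvd : Nat.card Z ∣ Nat.card ↥(C ⊔ Z) := Subgroup.card_dvd_of_le hle
    obtain ⟨k, hk⟩ := hdvd
    have hpos : 0 < Nat.card ↥(C ⊔ Z) := Nat.card_pos
    have hZpos : 0 < Nat.card Z := Nat.card_pos
    have hk0 : k ≠ 0 := by
      rintro rfl; simp at hk; omega
    have hk1 : k ≠ 1 := by
      rintro rfl
      rw [mul_one] at hk
      have heq : Z = C ⊔ Z := Subgroup.eq_of_le_of_card_ge hle (by rw [hk])
      have hCZ' : C ≤ Z := by rw [heq]; exact le_sup_left
      apply hC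
      have hd : Nat.card C ∣ Nat.card Z := Subgroup.card_dvd_of_le hCZ'
      have : Nat.card C ∣ 1 := by
        have := Nat.dvd_gcd (dvd_refl _) hd
        rwa [hc] at this
      exact Subgroup.card_eq_one.mp (Nat.dvd_one.mp this)
    have : 2 ≤ k := by omega
    rw [hk, mul_comm 2]
    exact Nat.mul_le_mul_left _ this
  have hBD : C1 ⊔ Z ≤ D := sup_le hC1Z hZab
  have hB'D : C1' ⊔ Z ≤ D := sup_le hC1'Z hZab
  refine two_ti_false (D := ↥D) (Z.subgroupOf D) ((C1 ⊔ Z).subgroupOf D) ((C1' ⊔ Z).subgroupOf D)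
    ?_ ?_ ?_ ?_ ?_ ?_ ?_ ?_
  · intro x hx; rw [mem_subgroupOf] at hx ⊢; exact (le_sup_right : Z ≤ _ ⊔ Z) hx
  · intro x hx; rw [mem_subgroupOf] at hx ⊢; exact (le_sup_right : Z ≤ _ ⊔ Z) hx
  · intro z hz d
    rw [mem_subgroupOf] at hz
    apply Subtype.ext
    simp only [Subgroup.coe_mul]
    exact ((mem_centralizer_iff.mp d.2) _ hz).symm
  · rw [Nat.card_congr (Subgroup.subgroupOfEquivOfLe hZab).toEquiv,
      Nat.card_congr (Subgroup.subgroupOfEquivOfLe hBD).toEquiv]
    exact hlt hC1 hcop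
  · rw [Nat.card_congr (Subgroup.subgroupOfEquivOfLe hZab).toEquiv,
      Nat.card_congr (Subgroup.subgroupOfEquivOfLe hB'D).toEquiv]
    exact hlt hC1' hcop'
  · -- TI for `B`
    intro w hw hwZ g hg
    rw [mem_subgroupOf] at hw hwZ hg ⊢
    simp only [Subgroup.coe_mul, Subgroup.coe_inv] at hg
    obtain ⟨n, hn1, hn2, hn3⟩ := exists_prime_pow hC1Z hcop hw hwZ
    have hb := hn3 C1 hC1Z (g : G) hg
    have hbord : (orderOf ((g : G) * (w : G) ^ n * (g : G)⁻¹)).Prime := by
      rw [orderOf_conj']; exact hn2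
    have h1 := (huM _ hn1 hn2).1
    have h2 := centralizer_conj_le (g := (g : G)) h1
    have h3 := (huM _ hb hbord).2 _ (isCoatom_map_conj hM (g : G)) h2
    have hgM : (g : G) ∈ M := hselfM _ h3
    exact hDM ⟨g.2, hgM⟩
  · -- TI for `B'`
    intro w hw hwZ g hg
    rw [mem_subgroupOf] at hw hwZ hg ⊢
    simp only [Subgroup.coe_mul, Subgroup.coe_inv] at hg
    obtain ⟨n, hn1, hn2, hn3⟩ := exists_prime_pow hC1'Z hcop' hw hwZ
    have hb := hn3 C1' hC1'Z (g : G) hg
    have hbord : (orderOf ((g : G) * (w : G) ^ n * (g : G)⁻¹)).Prime := by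
      rw [orderOf_conj']; exact hn2
    have h1 := (huH _ hn1 hn2).1
    have h2 := centralizer_conj_le (g := (g : G)) h1
    have h3 := (huH _ hb hbord).2 _ (isCoatom_map_conj hH (g : G)) h2
    have hgH : (g : G) ∈ H := hselfH _ h3
    exact hDH ⟨g.2, hgH⟩
  · -- disjointness
    intro w hw hwZ g hg
    rw [mem_subgroupOf] at hw hwZ hg
    simp only [Subgroup.coe_mul, Subgroup.coe_inv] at hg
    obtain ⟨n, hn1, hn2, hn3⟩ := exists_prime_pow hC1Z hcop hw hwZ
    have hb := hn3 C1' hC1'Z (g : G) hg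
    have hbord : (orderOf ((g : G) * (w : G) ^ n * (g : G)⁻¹)).Prime := by
      rw [orderOf_conj']; exact hn2
    have h1 := (huM _ hn1 hn2).1
    have h2 := centralizer_conj_le (g := (g : G)) h1
    have h3 := (huH _ hb hbord).2 _ (isCoatom_map_conj hM (g : G)) h2
    exact hnc (g : G) h3.symm

end Cfsg.Agent.Helper10.BG13K
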