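import Mathlib
import Cfsg.Agent.S1350
import Cfsg.Agent.S1423
import Cfsg.Agent.S1426
import Cfsg.Agent.Helper18.BG108c
import Cfsg.Agent.Helper28.BG11SIG
import Cfsg.Agent.Lead.CoprimeSylow
import Cfsg.Agent.Lead.CoprimeSylow2
import Cfsg.Agent.Lead.Coprime3
import Cfsg.Agent.Helper9.BG12f
import Cfsg.Agent.Helper9.BG12i
import Cfsg.Agent.Helper14.BasicProp2

/-!
# B&G 13.6-type uniqueness (step (N1)/(A3) of the `Tau3` proof)

`centralizer_unique_of_fix`: let `M` be a maximal subgroup, `E` a complement of `M_σ`,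
`E = E₃ E₁` with `E₃ ≤ E'`.  Then every element `y` of prime order of `C_{M_σ}(E₁)` satisfies
`C_G(y) ≤ M` and `M` is the only maximal subgroup containing `C_G(y)`.
-/

set_option autoImplicit false
set_option linter.unusedSectionVars false
set_option linter.unusedVariables false

namespace Cfsg.Agent.Helper10.BG13M

open Subgroup
open Cfsg.Agent.Helper14 (IsSylowIn cj)

universe u

/-- narrowness is invariant under isomorphism -/
theorem isNarrow_of_mulEquiv {R R' : Type u} [Group R] [Group R'] {p : ℕ} (e : R ≃* R')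
    (h : Cfsg.IsNarrow p R) : Cfsg.IsNarrow p R' := by
  rcases h with h | ⟨R₀, R₁, h0, h1, h2, h3, h4⟩
  · left
    exact Cfsg.Agent.Helper7.PRankLE.of_injective e.symm.toMonoidHom e.symm.injective h
  · right
    refine ⟨R₀.map e.toMonoidHom, R₁.map e.toMonoidHom, ?_, ?_, ?_, ?_, ?_⟩
    · rw [Subgroup.card_map_of_injective e.injective]
      exact h0
    · have := h1
      exact isCyclic_of_surjective
        ((R₁.equivMapOfInjective e.toMonoidHom e.injective : ↥R₁ ≃* _) : ↥R₁ →* _)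
        (MulEquiv.surjective _)
    · rw [← Subgroup.map_inf _ _ _ e.injective, h2, Subgroup.map_bot]
    · rintro _ ⟨a, ha, rfl⟩ _ ⟨b, hb, rfl⟩
      simp only [MulEquiv.coe_toMonoidHom, ← map_mul]
      rw [h3 a ha b hb]
    · rw [← Subgroup.map_sup, h4]
      ext x
      constructor
      · rintro ⟨c, hc, rfl⟩
        rw [Subgroup.mem_centralizer_iff]
        rintro _ ⟨a, ha, rfl⟩
        have := (Subgroup.mem_centralizer_iff.mp hc) a ha
        simp only [MulEquiv.coe_toMonoidHom, ← map_mul]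
        rw [this]
      · intro hx
        refine ⟨e.symm x, ?_, by simp⟩
        rw [SetLike.mem_coe, Subgroup.mem_centralizer_iff]
        intro a ha
        have := (Subgroup.mem_centralizer_iff.mp hx) (e a) ⟨a, ha, rfl⟩
        apply e.injective
        simp only [map_mul, MulEquiv.apply_symm_apply]
        exact this

variable {G : Type u} [Group G] [Finite G]

/-- a subgroup all of whose Sylow subgroups lie in `C` lies in `C` -/
theorem le_of_forall_sylow_le {A C : Subgroup G}
    (h : ∀ (r : ℕ) [Fact r.Prime] (P : Sylow r ↥A), (P : Subgroup ↥A).map A.subtype ≤ C) :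
    A ≤ C := by
  have htop : C.subgroupOf A = ⊤ := by
    rw [← Subgroup.index_eq_one]
    rw [Nat.eq_one_iff_not_exists_prime_dvd]
    intro r hr hd
    have : Fact r.Prime := ⟨hr⟩
    obtain ⟨P⟩ : Nonempty (Sylow r ↥A) := inferInstance
    have hle : (P : Subgroup ↥A) ≤ C.subgroupOf A := by
      intro x hx
      rw [Subgroup.mem_subgroupOf]
      exact h r P ⟨x, hx, rfl⟩
    have h1 : (C.subgroupOf A).index ∣ (P : Subgroup ↥A).index := Subgroup.index_dvd_of_le hle
    exact P.not_dvd_index (hd.trans h1)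
  intro a ha
  have : (⟨a, ha⟩ : ↥A) ∈ C.subgroupOf A := by rw [htop]; exact Subgroup.mem_top _
  exact this

/-- centralizer of the cyclic group generated by `y` -/
theorem centralizer_zpowers_eq (y : G) :
    centralizer ((Subgroup.zpowers y : Subgroup G) : Set G) = centralizer ({y} : Set G) := by
  ext x
  rw [Subgroup.mem_centralizer_iff, Subgroup.mem_centralizer_iff]
  constructor
  · intro h g hg
    rw [Set.mem_singleton_iff] at hg
    subst hg
    exact h g (Subgroup.mem_zpowers g)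
  · intro h g hg
    obtain ⟨k, rfl⟩ := Subgroup.mem_zpowers_iff.mp hg
    have h1 : Commute y x := h y rfl
    exact (h1.zpow_left k).eq

/-- **(N1)**: uniqueness for the elements of prime order of `C_{M_σ}(E₁)`. -/
theorem centralizer_unique_of_fix (hG : Cfsg.IsMinSimpleOddOrder G) {M E E3 E1 : Subgroup G}
    (hM : IsCoatom M) (hE : Cfsg.IsComplIn E (Cfsg.sigmaCore M) M)
    (hE3 : E3 ≤ ⁅E, E⁆) (hE1 : E1 ≤ E) (hE31 : E ≤ E3 ⊔ E1)
    {y : G} (hy : y ∈ Cfsg.sigmaCore M) (hyE1 : y ∈ centralizer (E1 : Set G))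
    (hyp : (orderOf y).Prime) :
    centralizer ({y} : Set G) ≤ M ∧
      ∀ L : Subgroup G, IsCoatom L → centralizer ({y} : Set G) ≤ L → L = M := by
  classical
  have h1350 : Cfsg.Agent.H9.BG12.St1350 G := fun M hM => Cfsg.Agent.S1350.result hG M hM
  obtain ⟨K, hK⟩ : ∃ K : Subgroup G, K = Cfsg.sigmaCore M := ⟨_, rfl⟩
  obtain ⟨q, hq⟩ : ∃ q : ℕ, q = orderOf y := ⟨_, rfl⟩
  rw [← hq] at hyp
  have : Fact q.Prime := ⟨hyp⟩
  have hodd : Odd (Nat.card G) := hG.1
  have hKM : K ≤ M := hK ▸ hE.2.1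
  have hEM : E ≤ M := hE.1
  have hyK : y ∈ K := hK ▸ hy
  have hqK : q ∣ Nat.card K := by
    have := orderOf_dvd_natCard (⟨y, hyK⟩ : ↥K)
    rw [Subgroup.orderOf_mk] at this
    rw [hq]; exact this
  have hqσ : q ∈ Cfsg.sigma M :=
    Cfsg.Agent.H9.BG12.mem_sigma_of_dvd_card_sigmaCore hyp (hK ▸ hqK)
  have hqG : q ∣ Nat.card G := hqK.trans (Subgroup.card_subgroup_dvd_card K)
  have hq2 : q ≠ 2 := Cfsg.Agent.H9.BG12.prime_ne_two_of_dvd hG hqG
  -- the subgroup `X = ⟨y⟩`
  obtain ⟨X, hX⟩ : ∃ X : Subgroup G, X = Subgroup.zpowers y := ⟨_, rfl⟩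
  have hXcard : Nat.card X = q := by rw [hX, Nat.card_zpowers, hq]
  have hXK : X ≤ K := by rw [hX]; exact Subgroup.zpowers_le.mpr hyK
  have hXM : X ≤ M := hXK.trans hKM
  have hXp : IsPGroup q ↥X := IsPGroup.of_card (n := 1) (by rw [hXcard, pow_one])
  have hcent : centralizer (X : Set G) = centralizer ({y} : Set G) := by
    rw [hX]; exact centralizer_zpowers_eq y
  obtain ⟨P0⟩ : Nonempty (Sylow q ↥(Cfsg.sigmaCore M)) := inferInstance
  suffices h : q ∈ Cfsg.beta M ∨ X ≤ ⁅Cfsg.sigmaCore M, Cfsg.sigmaCore M⁆ by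
    have := (Cfsg.Agent.S1423.result hG M hM q hqσ X hXM hXcard P0 h).1
    rwa [hcent] at this
  by_cases hβ : q ∈ Cfsg.beta M
  · exact Or.inl hβ
  right
  rw [← hK]
  -- coprime action of `E` on `K`
  have hMK : M ≤ normalizer (K : Set G) := hK ▸ Cfsg.Agent.H9.BG12.le_normalizer_sigmaCore M
  have hEK : E ≤ normalizer (K : Set G) := hEM.trans hMK
  have hHallE := Cfsg.Agent.H9.BG12.isPiHallOf_compl h1350 hM hE
  have hcop : (Nat.card E).Coprime (Nat.card K) := by
    apply Nat.coprime_of_dvd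
    intro k hk hk1 hk2
    exact hHallE.2.1 k hk hk1
      (Cfsg.Agent.H9.BG12.mem_sigma_of_dvd_card_sigmaCore hk (hK ▸ hk2))
  have hKsolv : Group.IsSolvable ↥K := Cfsg.Agent.H9.BG12.solvable_of_le_coatom hG hM hKM
  obtain ⟨S, hS⟩ := Cfsg.Agent.Lead.coprime_exists_invariant_sylow E K hEK hcop (Or.inr hKsolv) q
  obtain ⟨S', hS'⟩ : ∃ S' : Subgroup G, S' = (S : Subgroup ↥K).map K.subtype := ⟨_, rfl⟩
  rw [← hS'] at hS
  have hS'K : IsSylowIn q S' K := hS' ▸ Cfsg.Agent.Helper14.isSylowIn_of_sylow S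
  have hS'p : IsPGroup q ↥S' := hS'K.2.1
  have hnotdvd : ¬ q ∣ K.relIndex M := by
    have := (h1350 M hM).1.2.2 q hyp hqσ
    rwa [← hK] at this
  have hS'M : IsSylowIn q S' M :=
    Cfsg.Agent.Helper14.isSylowIn_of_not_dvd_relIndex hS'K hKM hnotdvd
  -- `S'` is narrow
  have hnarrow : Cfsg.IsNarrow q ↥S' := by
    by_cases hr : Cfsg.PRankLE q 2 ↥M
    · left
      exact Cfsg.Agent.Helper7.PRankLE.of_injective (Subgroup.inclusion hS'M.1)
        (Subgroup.inclusion_injective hS'M.1) hr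
    · have hα : q ∈ Cfsg.alpha M := ⟨hyp, hr⟩
      obtain ⟨S0, hS0⟩ := Cfsg.Agent.Helper18.BG108.exists_narrow_sylow hq2 hα hβ hqσ
      have hS0M := Cfsg.Agent.Helper14.isSylowIn_of_sylow S0
      obtain ⟨g, hg, hgS⟩ := hS0M.exists_conj hS'M
      have e1 : ↥(S0 : Subgroup ↥M) ≃* ↥((S0 : Subgroup ↥M).map M.subtype) :=
        (S0 : Subgroup ↥M).equivMapOfInjective M.subtype M.subtype_injective
      have e2 : ↥((S0 : Subgroup ↥M).map M.subtype) ≃*
          ↥(((S0 : Subgroup ↥M).map M.subtype).map (cj g)) :=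
        ((S0 : Subgroup ↥M).map M.subtype).equivMapOfInjective (cj g)
          (Cfsg.Agent.Helper14.cj_injective g)
      rw [hgS]
      exact isNarrow_of_mulEquiv (e1.trans e2) hS0
  -- `E₃` centralizes `S'`
  have hEN : E ≤ normalizer (S' : Set G) := hS
  have hE3S : E3 ≤ centralizer (S' : Set G) := by
    apply le_of_forall_sylow_le
    intro r hr P
    have hPr : IsPGroup r ↥((P : Subgroup ↥E3).map E3.subtype) := P.isPGroup'.map _
    have hPE3 : (P : Subgroup ↥E3).map E3.subtype ≤ E3 := Cfsg.Agent.Helper14.map_subtype_le _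
    by_cases hrq : q = r
    · -- a `q`-subgroup of `E` is trivial
      subst hrq
      have hPE : (P : Subgroup ↥E3).map E3.subtype ≤ E :=
        hPE3.trans (hE3.trans (commutator_le_self E))
      have hc1 : (Nat.card ↥((P : Subgroup ↥E3).map E3.subtype)).Coprime q :=
        Nat.Coprime.coprime_dvd_left (Subgroup.card_dvd_of_le hPE)
          (Nat.Coprime.coprime_dvd_right hqK hcop)
      obtain ⟨k, hk⟩ := IsPGroup.iff_card.mp hPr
      have hk0 : k = 0 := by
        by_contra hk0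
        have : q ∣ Nat.card ↥((P : Subgroup ↥E3).map E3.subtype) := by
          rw [hk]; exact dvd_pow_self q hk0
        have h2 : q ∣ 1 := by
          have := Nat.dvd_gcd this (dvd_refl q)
          rwa [hc1] at this
        exact hyp.one_lt.ne' (Nat.dvd_one.mp h2)
      rw [hk0, pow_zero] at hk
      rw [Subgroup.card_eq_one.mp hk]
      exact bot_le
    · apply Cfsg.Agent.Helper28.BG11.le_centralizer_of_isNarrow hodd hrq hq2 hS'p hnarrow hPr
      exact hPE3.trans (hE3.trans (Subgroup.commutator_mono hEN hEN))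
  -- conjugate `y` into `S'` by an element of `C_K(E₁)`
  have hE1K : E1 ≤ normalizer (K : Set G) := hE1.trans hEK
  have hcop1 : (Nat.card E1).Coprime (Nat.card K) :=
    Nat.Coprime.coprime_dvd_left (Subgroup.card_dvd_of_le hE1) hcop
  have hXE1 : E1 ≤ normalizer (X : Set G) := by
    intro e he
    have hcomm : e * y = y * e := ((Subgroup.mem_centralizer_iff.mp hyE1) e he)
    have hec : e ∈ centralizer (X : Set G) := by
      rw [hcent, Subgroup.mem_centralizer_iff]
      intro g hg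
      rw [Set.mem_singleton_iff] at hg
      subst hg
      exact hcomm.symm
    exact Subgroup.centralizer_le_normalizer _ hec
  obtain ⟨P, hXP, hPE1⟩ := Cfsg.Agent.Lead.coprime_invariant_pgroup_le_sylow E1 K hE1K hcop1
    (Or.inr hKsolv) q X hXK hXp hXE1
  have hSE1 : E1 ≤ normalizer (((S : Subgroup ↥K).map K.subtype : Subgroup G) : Set G) := by
    rw [← hS']; exact hE1.trans hEN
  obtain ⟨c, hcE1, hcP⟩ := Cfsg.Agent.Lead.coprime_invariant_sylow_conj E1 K hE1K hcop1
    (Or.inr hKsolv) q P S hPE1 hSE1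
  -- the conjugate
  have hyX : y ∈ X := by rw [hX]; exact Subgroup.mem_zpowers y
  have hyP : (⟨y, hyK⟩ : ↥K) ∈ (P : Subgroup ↥K) := by
    obtain ⟨w, hw, hwy⟩ := hXP hyX
    have : w = ⟨y, hyK⟩ := Subtype.ext hwy
    rwa [← this]
  have hzS : (c : G) * y * (c : G)⁻¹ ∈ S' := by
    have h1 : MulAut.conj c • (⟨y, hyK⟩ : ↥K) ∈ ((MulAut.conj c • P : Sylow q ↥K) : Subgroup ↥K) := by
      rw [Sylow.pointwise_smul_def]
      exact Subgroup.smul_mem_pointwise_smul _ _ _ hyP
    rw [hcP] at h1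
    rw [hS']
    refine ⟨_, h1, ?_⟩
    simp [MulAut.smul_def]
  obtain ⟨z, hz⟩ : ∃ z : G, z = (c : G) * y * (c : G)⁻¹ := ⟨_, rfl⟩
  rw [← hz] at hzS
  have hzK : z ∈ K := by
    rw [hz]; exact K.mul_mem (K.mul_mem c.2 hyK) (K.inv_mem c.2)
  have hzE1 : z ∈ centralizer (E1 : Set G) := by
    rw [hz]
    exact (centralizer (E1 : Set G)).mul_mem ((centralizer (E1 : Set G)).mul_mem hcE1 hyE1)
      ((centralizer (E1 : Set G)).inv_mem hcE1)
  have hzE : z ∈ centralizer (E : Set G) := by
    have h1 : E3 ≤ centralizer ({z} : Set G) := by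
      intro e he
      rw [Subgroup.mem_centralizer_iff]
      intro g hg
      rw [Set.mem_singleton_iff] at hg
      subst hg
      exact ((Subgroup.mem_centralizer_iff.mp (hE3S he)) g hzS)
    have h2 : E1 ≤ centralizer ({z} : Set G) := by
      intro e he
      rw [Subgroup.mem_centralizer_iff]
      intro g hg
      rw [Set.mem_singleton_iff] at hg
      subst hg
      exact ((Subgroup.mem_centralizer_iff.mp hzE1) e he).symm
    rw [Subgroup.mem_centralizer_iff]
    intro e he
    have := (hE31.trans (sup_le h1 h2)) he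
    exact ((Subgroup.mem_centralizer_iff.mp this) z rfl).symm
  have hzcomm : z ∈ ⁅K, K⁆ := by
    have := (Cfsg.Agent.S1426.result hG M hM E hE).1
    rw [← hK] at this
    exact this ⟨hzK, hzE⟩
  have hycomm : y ∈ ⁅K, K⁆ := by
    have hn := Cfsg.Agent.Lead.le_normalizer_commutator_left K K (K.inv_mem c.2)
    have := (Subgroup.mem_normalizer_iff.mp hn z).mp hzcomm
    rw [hz] at this
    have e : (c : G)⁻¹ * ((c : G) * y * (c : G)⁻¹) * ((c : G)⁻¹)⁻¹ = y := by group
    rwa [e] at this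
  rw [hX]
  exact Subgroup.zpowers_le.mpr hycomm

end Cfsg.Agent.Helper10.BG13M
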