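import Mathlib
import Cfsg.Prelude.Def_SylowChains
import Cfsg.Agent.Helper15.SylowControl

set_option autoImplicit false

/-!
# Chains of Sylow subgroups linked through a family (control of Sylow intersections)

`Lk p 𝓕 D S U`: the subgroup `U` is reached from `S` by a chain of conjugations by elements of
members of `𝓕`, each member meeting both consecutive subgroups in Sylow subgroups of itself, all
chain members (after `S`) and all the family members used containing `D`.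
-/

namespace Cfsg.Agent.Helper10

open Cfsg Cfsg.Agent.Helper14 Cfsg.Agent.Helper15

variable {G : Type*} [Group G] {p : ℕ}

inductive Lk (p : ℕ) (𝓕 : Set (Subgroup G)) (D : Subgroup G) (S : Subgroup G) : Subgroup G → Prop
  | refl : Lk p 𝓕 D S S
  | step {T U : Subgroup G} (X : Subgroup G) (x : G) : Lk p 𝓕 D S T →
      X ∈ sylowMembers p 𝓕 T → X ∈ sylowMembers p 𝓕 U → x ∈ X → U.map (cj x⁻¹) = T →
      D ≤ U → D ≤ X → Lk p 𝓕 D S U

theorem Lk.trans {𝓕 : Set (Subgroup G)} {D S T U : Subgroup G} (h1 : Lk p 𝓕 D S T)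
    (h2 : Lk p 𝓕 D T U) : Lk p 𝓕 D S U := by
  induction h2 with
  | refl => exact h1
  | step X x _ hX1 hX2 hx hc hD1 hD2 ih => exact Lk.step X x ih hX1 hX2 hx hc hD1 hD2

theorem Lk.mono {𝓕 : Set (Subgroup G)} {D D' S T : Subgroup G} (h : Lk p 𝓕 D S T)
    (hD : D' ≤ D) : Lk p 𝓕 D' S T := by
  induction h with
  | refl => exact Lk.refl
  | step X x _ hX1 hX2 hx hc hD1 hD2 ih =>
    exact Lk.step X x ih hX1 hX2 hx hc (hD.trans hD1) (hD.trans hD2)

theorem sylowMembers_mono {𝓕 𝓕' : Set (Subgroup G)} (h : 𝓕 ⊆ 𝓕') (S : Subgroup G) :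
    sylowMembers p 𝓕 S ⊆ sylowMembers p 𝓕' S := by
  intro X hX
  exact ⟨h hX.1, hX.2⟩

theorem Lk.mono_family {𝓕 𝓕' : Set (Subgroup G)} (h𝓕 : 𝓕 ⊆ 𝓕') {D S T : Subgroup G}
    (h : Lk p 𝓕 D S T) : Lk p 𝓕' D S T := by
  induction h with
  | refl => exact Lk.refl
  | step X x _ hX1 hX2 hx hc hD1 hD2 ih =>
    exact Lk.step X x ih (sylowMembers_mono h𝓕 _ hX1) (sylowMembers_mono h𝓕 _ hX2) hx hc hD1 hD2

theorem Lk.le {𝓕 : Set (Subgroup G)} {D S T : Subgroup G} (h : Lk p 𝓕 D S T) (hS : D ≤ S) :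
    D ≤ T := by
  cases h with
  | refl => exact hS
  | step X x _ hX1 hX2 hx hc hD1 hD2 => exact hD1

theorem Lk.single {𝓕 : Set (Subgroup G)} {D T U : Subgroup G} (X : Subgroup G) (x : G)
    (hX1 : X ∈ sylowMembers p 𝓕 T) (hX2 : X ∈ sylowMembers p 𝓕 U) (hx : x ∈ X)
    (hc : U.map (cj x⁻¹) = T) (hD1 : D ≤ U) (hD2 : D ≤ X) : Lk p 𝓕 D T U :=
  Lk.step X x Lk.refl hX1 hX2 hx hc hD1 hD2

theorem Lk.symm {𝓕 : Set (Subgroup G)} {D S T : Subgroup G} (h : Lk p 𝓕 D S T) (hS : D ≤ S) :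
    Lk p 𝓕 D T S := by
  induction h with
  | refl => exact Lk.refl
  | @step T U X x hST hX1 hX2 hx hc hD1 hD2 ih =>
    have hT : D ≤ T := hST.le hS
    have h1 : Lk p 𝓕 D U T := by
      refine Lk.single X x⁻¹ hX2 hX1 (X.inv_mem hx) ?_ hT hD2
      rw [inv_inv, ← hc, map_cj_inv_map_cj]
    exact h1.trans ih

theorem Lk.map_cj {𝓕 : Set (Subgroup G)} (h𝓕 : IsNormalSet 𝓕) {D S T : Subgroup G}
    (h : Lk p 𝓕 D S T) (a : G) :
    Lk p 𝓕 (D.map (cj a)) (S.map (cj a)) (T.map (cj a)) := by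
  induction h with
  | refl => exact Lk.refl
  | @step T U X x _ hX1 hX2 hx hc hD1 hD2 ih =>
    refine Lk.step (X.map (cj a)) (a * x * a⁻¹) ih (sylowMembers_map_cj h𝓕 hX1 a)
      (sylowMembers_map_cj h𝓕 hX2 a) ⟨x, hx, rfl⟩ ?_ (Subgroup.map_mono hD1) (Subgroup.map_mono hD2)
    rw [← hc, map_cj_mul, map_cj_mul]
    congr 2
    group

/-! ### The `Fin`-chain form -/

theorem lk_of_chain {𝓕 : Set (Subgroup G)} {D : Subgroup G} (n : ℕ) (c : Fin (n + 1) → Sylow p G)
    (X : Fin n → Subgroup G) (x : Fin n → G)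
    (h : ∀ i : Fin n,
        X i ∈ sylowMembers p 𝓕 (c i.castSucc : Subgroup G) ∧ X i ∈ sylowMembers p 𝓕 (c i.succ : Subgroup G) ∧
        x i ∈ X i ∧ subgroupConjRight (x i) (c i.succ : Subgroup G) = (c i.castSucc : Subgroup G) ∧
        D ≤ (c i.succ : Subgroup G) ⊓ X i) :
    Lk p 𝓕 D (c 0 : Subgroup G) (c (Fin.last n) : Subgroup G) := by
  have key : ∀ (k : ℕ) (hk : k < n + 1), Lk p 𝓕 D (c 0 : Subgroup G) (c ⟨k, hk⟩ : Subgroup G) := by
    intro k
    induction k with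
    | zero =>
      intro hk
      exact Lk.refl
    | succ j ih =>
      intro hk
      have hj : j < n := by omega
      obtain ⟨h1, h2, h3, h4, h5⟩ := h ⟨j, hj⟩
      have hprev := ih (by omega)
      have e1 : (⟨j, hj⟩ : Fin n).succ = ⟨j + 1, hk⟩ := rfl
      have e2 : (⟨j, hj⟩ : Fin n).castSucc = ⟨j, by omega⟩ := rfl
      rw [e1] at h2 h4 h5
      rw [e2] at h1 h4
      exact Lk.step (X ⟨j, hj⟩) (x ⟨j, hj⟩) hprev h1 h2 h3 h4 (le_trans h5 inf_le_left)
        (le_trans h5 inf_le_right)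
  exact key n (Nat.lt_succ_self n)

theorem chain_of_lk [Finite G] [Fact p.Prime] {𝓕 : Set (Subgroup G)} {D : Subgroup G}
    (S : Sylow p G) {U : Subgroup G} (h : Lk p 𝓕 D (S : Subgroup G) U) :
    ∃ (n : ℕ) (c : Fin (n + 1) → Sylow p G) (X : Fin n → Subgroup G) (x : Fin n → G),
      c 0 = S ∧ ((c (Fin.last n) : Sylow p G) : Subgroup G) = U ∧
      ∀ i : Fin n,
        X i ∈ sylowMembers p 𝓕 (c i.castSucc : Subgroup G) ∧ X i ∈ sylowMembers p 𝓕 (c i.succ : Subgroup G) ∧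
        x i ∈ X i ∧ subgroupConjRight (x i) (c i.succ : Subgroup G) = (c i.castSucc : Subgroup G) ∧
        D ≤ (c i.succ : Subgroup G) ⊓ X i := by
  induction h with
  | refl => exact ⟨0, fun _ => S, fun i => i.elim0, fun i => i.elim0, rfl, rfl, fun i => i.elim0⟩
  | @step T U X' x' _ hX1 hX2 hx hc hD1 hD2 ih =>
    obtain ⟨n, c, X, x, h0, hlast, hstep⟩ := ih
    have hU : ((x' • c (Fin.last n) : Sylow p G) : Subgroup G) = U := by
      rw [sylow_smul_coe, hlast, ← hc, map_cj_inv_map_cj]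
    refine ⟨n + 1, Fin.snoc c (x' • c (Fin.last n)), Fin.snoc X X', Fin.snoc x x', ?_, ?_, ?_⟩
    · have : (0 : Fin (n + 1 + 1)) = Fin.castSucc (0 : Fin (n + 1)) := rfl
      rw [this, Fin.snoc_castSucc]
      exact h0
    · rw [Fin.snoc_last]
      exact hU
    · intro i
      refine Fin.lastCases ?_ ?_ i
      · have e1 : (Fin.last n).succ = Fin.last (n + 1) := rfl
        rw [e1]
        simp only [Fin.snoc_last, Fin.snoc_castSucc]
        rw [hU, hlast]
        exact ⟨hX1, hX2, hx, hc, le_inf hD1 hD2⟩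
      · intro j
        have e1 : (Fin.castSucc j).succ = Fin.castSucc j.succ := rfl
        rw [e1]
        simp only [Fin.snoc_castSucc]
        exact hstep j

theorem controls_iff_lk [Finite G] [Fact p.Prime] {𝓕 : Set (Subgroup G)} :
    ControlsSylowIntersections p 𝓕 ↔ ∀ S T : Sylow p G, S ≠ T →
      (S : Subgroup G) ⊓ (T : Subgroup G) ≠ ⊥ →
      Lk p 𝓕 ((S : Subgroup G) ⊓ (T : Subgroup G)) (S : Subgroup G) (T : Subgroup G) := by
  constructor
  · intro h S T hne hbot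
    obtain ⟨n, c, X, x, h0, hl, hstep⟩ := h S T hne hbot
    have := lk_of_chain n c X x hstep
    rwa [h0, hl] at this
  · intro h S T hne hbot
    obtain ⟨n, c, X, x, h0, hl, hstep⟩ := chain_of_lk S (h S T hne hbot)
    exact ⟨n, c, X, x, h0, Sylow.ext hl, hstep⟩


/-! ### Transport between a subgroup `M` (as a group) and the ambient group -/

theorem isSylowIn_map_subtype_iff {M : Subgroup G} {U' H' : Subgroup ↥M} :
    IsSylowIn p (U'.map M.subtype) (H'.map M.subtype) ↔ IsSylowIn p U' H' := by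
  constructor
  · rintro ⟨h1, h2, h3⟩
    refine ⟨(Subgroup.map_le_map_iff_of_injective M.subtype_injective).1 h1, ?_, ?_⟩
    · exact h2.of_injective (U'.equivMapOfInjective _ M.subtype_injective).toMonoidHom
        (U'.equivMapOfInjective _ M.subtype_injective).injective
    · intro Q' hQH hQp hle
      have := h3 (Q'.map M.subtype) (Subgroup.map_mono hQH) (hQp.map _) (Subgroup.map_mono hle)
      exact Subgroup.map_injective M.subtype_injective this
  · rintro ⟨h1, h2, h3⟩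
    refine ⟨Subgroup.map_mono h1, h2.map _, ?_⟩
    intro Q hQH hQp hle
    have hQM : Q ≤ M := hQH.trans (Cfsg.Agent.Helper14.map_subtype_le H')
    have hQ' : Q.subgroupOf M ≤ H' := by
      intro x hx
      rw [Subgroup.mem_subgroupOf] at hx
      obtain ⟨y, hy, hyx⟩ := hQH hx
      have : y = x := Subtype.ext hyx
      rwa [← this]
    have hle' : U' ≤ Q.subgroupOf M := by
      intro x hx
      rw [Subgroup.mem_subgroupOf]
      exact hle ⟨x, hx, rfl⟩
    have := h3 (Q.subgroupOf M) hQ' hQp.comap_subtype hle'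
    rw [← this, map_subtype_subgroupOf hQM]

theorem map_subtype_inf {M : Subgroup G} (A B : Subgroup ↥M) :
    (A ⊓ B).map M.subtype = A.map M.subtype ⊓ B.map M.subtype :=
  Subgroup.map_inf A B M.subtype M.subtype_injective

theorem mem_sylowMembers_image_iff {M : Subgroup G} {𝓕 : Set (Subgroup G)} (h𝓕 : ∀ X ∈ 𝓕, X ≤ M)
    {X' T' : Subgroup ↥M} :
    X' ∈ sylowMembers p ((fun X : Subgroup G => X.subgroupOf M) '' 𝓕) T' ↔
      ∃ X ∈ sylowMembers p 𝓕 (T'.map M.subtype), X' = X.subgroupOf M := by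
  rw [mem_sylowMembers_iff]
  constructor
  · rintro ⟨⟨X, hX, rfl⟩, hsyl⟩
    refine ⟨X, ?_, rfl⟩
    rw [mem_sylowMembers_iff]
    refine ⟨hX, ?_⟩
    rw [← isSylowIn_map_subtype_iff, map_subtype_inf, map_subtype_subgroupOf (h𝓕 X hX)] at hsyl
    exact hsyl
  · rintro ⟨X, hX, rfl⟩
    rw [mem_sylowMembers_iff] at hX
    refine ⟨⟨X, hX.1, rfl⟩, ?_⟩
    rw [← isSylowIn_map_subtype_iff, map_subtype_inf, map_subtype_subgroupOf (h𝓕 X hX.1)]
    exact hX.2

theorem map_subtype_map_cj {M : Subgroup G} (U' : Subgroup ↥M) (x : ↥M) :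
    (U'.map (cj x)).map M.subtype = (U'.map M.subtype).map (cj (x : G)) := by
  rw [Subgroup.map_map, Subgroup.map_map]
  congr 1

/-- from a chain inside `↥M` to a chain in the ambient group -/
theorem Lk.map_subtype {M : Subgroup G} {𝓕 : Set (Subgroup G)} (h𝓕 : ∀ X ∈ 𝓕, X ≤ M)
    {D' S' T' : Subgroup ↥M}
    (h : Lk p ((fun X : Subgroup G => X.subgroupOf M) '' 𝓕) D' S' T') :
    Lk p 𝓕 (D'.map M.subtype) (S'.map M.subtype) (T'.map M.subtype) := by
  induction h with
  | refl => exact Lk.refl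
  | @step T' U' X' x' _ hX1 hX2 hx hc hD1 hD2 ih =>
    obtain ⟨X, hX, rfl⟩ := (mem_sylowMembers_image_iff h𝓕).1 hX1
    obtain ⟨X₂, hX₂, hXX⟩ := (mem_sylowMembers_image_iff h𝓕).1 hX2
    have hXM : X ≤ M := h𝓕 X hX.1
    have hX₂M : X₂ ≤ M := h𝓕 X₂ hX₂.1
    have hXeq : X = X₂ := by
      rw [← map_subtype_subgroupOf hXM, ← map_subtype_subgroupOf hX₂M, hXX]
    rw [← hXeq] at hX₂
    refine Lk.step X (x' : G) ih hX hX₂ (Subgroup.mem_subgroupOf.1 hx) ?_ (Subgroup.map_mono hD1) ?_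
    · rw [← hc, map_subtype_map_cj]
      rfl
    · have := Subgroup.map_mono (f := M.subtype) hD2
      rwa [map_subtype_subgroupOf hXM] at this

/-- from a chain in the ambient group, between subgroups of `M`, to a chain inside `↥M` -/
theorem Lk.subgroupOf {M : Subgroup G} {𝓕 : Set (Subgroup G)} (h𝓕 : ∀ X ∈ 𝓕, X ≤ M)
    {D S T : Subgroup G} (hS : S ≤ M) (h : Lk p 𝓕 D S T) :
    T ≤ M ∧ Lk p ((fun X : Subgroup G => X.subgroupOf M) '' 𝓕) (D.subgroupOf M)
      (S.subgroupOf M) (T.subgroupOf M) := by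
  induction h with
  | refl => exact ⟨hS, Lk.refl⟩
  | @step T U X x _ hX1 hX2 hx hc hD1 hD2 ih =>
    obtain ⟨hTM, ih⟩ := ih
    have hXM : X ≤ M := h𝓕 X hX1.1
    have hxM : x ∈ M := hXM hx
    have hUM : U ≤ M := by
      have : U = T.map (cj x) := by rw [← hc, map_cj_inv_map_cj]
      rw [this]
      rintro _ ⟨t, ht, rfl⟩
      exact M.mul_mem (M.mul_mem hxM (hTM ht)) (M.inv_mem hxM)
    refine ⟨hUM, ?_⟩
    refine Lk.step (X.subgroupOf M) ⟨x, hxM⟩ ih ?_ ?_ ?_ ?_ ?_ ?_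
    · rw [mem_sylowMembers_image_iff h𝓕]
      exact ⟨X, by rwa [map_subtype_subgroupOf hTM], rfl⟩
    · rw [mem_sylowMembers_image_iff h𝓕]
      exact ⟨X, by rwa [map_subtype_subgroupOf hUM], rfl⟩
    · exact Subgroup.mem_subgroupOf.2 hx
    · apply Subgroup.map_injective M.subtype_injective
      have e : (⟨x, hxM⟩ : ↥M)⁻¹ = ⟨x⁻¹, M.inv_mem hxM⟩ := rfl
      rw [e, map_subtype_map_cj, map_subtype_subgroupOf hUM, map_subtype_subgroupOf hTM]
      exact hc
    · intro y hy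
      exact Subgroup.mem_subgroupOf.2 (hD1 (Subgroup.mem_subgroupOf.1 hy))
    · intro y hy
      exact Subgroup.mem_subgroupOf.2 (hD2 (Subgroup.mem_subgroupOf.1 hy))

theorem functorFamily_le {f : Subgroup G → Set (Subgroup G)} {M : Subgroup G} :
    ∀ X ∈ functorFamily p f M, X ≤ M := by
  rintro X ⟨P, F, _, rfl⟩
  exact inf_le_left

/-- G-level description of `IsFunctorRegular`. -/
theorem isFunctorRegular_iff [Finite G] [Fact p.Prime] {f : Subgroup G → Set (Subgroup G)}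
    {M : Subgroup G} :
    IsFunctorRegular p f M ↔ ∀ S T : Subgroup G, IsSylowIn p S M → IsSylowIn p T M → S ≠ T →
      S ⊓ T ≠ ⊥ → Lk p (functorFamily p f M) (S ⊓ T) S T := by
  unfold IsFunctorRegular
  rw [controls_iff_lk]
  constructor
  · intro h S T hS hT hne hbot
    have hne' : hS.toSylow ≠ hT.toSylow := by
      intro e
      apply hne
      rw [← hS.toSylow_map, ← hT.toSylow_map, e]
    have hmap : (((hS.toSylow : Sylow p ↥M) : Subgroup ↥M) ⊓
        ((hT.toSylow : Sylow p ↥M) : Subgroup ↥M)).map M.subtype = S ⊓ T := by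
      rw [map_subtype_inf, hS.toSylow_map, hT.toSylow_map]
    have hbot' : ((hS.toSylow : Sylow p ↥M) : Subgroup ↥M) ⊓
        ((hT.toSylow : Sylow p ↥M) : Subgroup ↥M) ≠ ⊥ := by
      intro e
      apply hbot
      rw [← hmap, e, Subgroup.map_bot]
    have := (h hS.toSylow hT.toSylow hne' hbot').map_subtype functorFamily_le
    rwa [hmap, hS.toSylow_map, hT.toSylow_map] at this
  · intro h S' T' hne hbot
    have hS := isSylowIn_of_sylow S'
    have hT := isSylowIn_of_sylow T'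
    have hne' : (S' : Subgroup ↥M).map M.subtype ≠ (T' : Subgroup ↥M).map M.subtype := by
      intro e
      exact hne (Sylow.ext (Subgroup.map_injective M.subtype_injective e))
    have hbot' : (S' : Subgroup ↥M).map M.subtype ⊓ (T' : Subgroup ↥M).map M.subtype ≠ ⊥ := by
      rw [← map_subtype_inf]
      intro e
      apply hbot
      exact (Subgroup.map_eq_bot_iff_of_injective _ M.subtype_injective).1 e
    have := ((h _ _ hS hT hne' hbot').subgroupOf functorFamily_le hS.1).2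
    rwa [← map_subtype_inf, subgroupOf_map_subtype', subgroupOf_map_subtype',
      subgroupOf_map_subtype'] at this


/-! ### The family attached to a normalizer functor -/

theorem isSylowIn_of_le {U M X : Subgroup G} (h : IsSylowIn p U M) (hUX : U ≤ X) (hXM : X ≤ M) :
    IsSylowIn p U X :=
  ⟨hUX, h.2.1, fun Q hQX hQp hle => h.2.2 Q (hQX.trans hXM) hQp hle⟩

theorem card_map_cj' (T : Subgroup G) (g : G) :
    Nat.card ↥(T.map (cj g)) = Nat.card ↥T :=
  (Nat.card_congr (T.equivMapOfInjective _ (cj_injective g)).toEquiv).symm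

theorem isSylowIn_card_eq [Finite G] [Fact p.Prime] {U U' M : Subgroup G} (h : IsSylowIn p U M)
    (h' : IsSylowIn p U' M) : Nat.card ↥U = Nat.card ↥U' := by
  obtain ⟨g, _, rfl⟩ := h.exists_conj h'
  exact (card_map_cj' U g).symm

theorem isSylowIn_top_coe (S₀ : Sylow p G) : IsSylowIn p (S₀ : Subgroup G) ⊤ :=
  ⟨le_top, S₀.isPGroup', fun _ _ hQ hle => S₀.is_maximal' hQ hle⟩

theorem isSylowIn_map_cj_of_mem {U M : Subgroup G} (h : IsSylowIn p U M) {g : G} (hg : g ∈ M) :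
    IsSylowIn p (U.map (cj g)) M := by
  have := h.map_cj g
  rwa [map_cj_eq_self_of_mem hg] at this

theorem isSylowIn_top_of_sylow_le [Finite G] [Fact p.Prime] {T M : Subgroup G} (S₀ : Sylow p G)
    (hS₀ : (S₀ : Subgroup G) ≤ M) (hT : IsSylowIn p T M) : IsSylowIn p T ⊤ := by
  have h0 : IsSylowIn p (S₀ : Subgroup G) ⊤ := isSylowIn_top_coe S₀
  have h0M : IsSylowIn p (S₀ : Subgroup G) M := isSylowIn_of_le h0 hS₀ le_top
  obtain ⟨g, hg, rfl⟩ := h0M.exists_conj hT
  exact isSylowIn_map_cj_of_mem h0 (Subgroup.mem_top g)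

/-- the Sylow object attached to a Sylow subgroup of the whole group -/
def toSylowTop {U : Subgroup G} (h : IsSylowIn p U ⊤) : Sylow p G where
  toSubgroup := U
  isPGroup' := h.2.1
  is_maximal' := fun hQ hle => h.2.2 _ le_top hQ hle

theorem mem_sylowMembers_functorFamily [Finite G] [Fact p.Prime]
    {f : Subgroup G → Set (Subgroup G)} (hf : IsNormalizerFunctor p f) {M S X : Subgroup G}
    (hS : IsSylowIn p S M) :
    X ∈ sylowMembers p (functorFamily p f M) S ↔
      ∃ F ∈ f S, X = M ⊓ Subgroup.normalizer (F : Set G) := by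
  rw [mem_sylowMembers_iff]
  constructor
  · rintro ⟨⟨P, F, hF, rfl⟩, hsyl⟩
    have hP₀ : IsSylowIn p ((P : Subgroup ↥M).map M.subtype) M := isSylowIn_of_sylow P
    have hP₀N : (P : Subgroup ↥M).map M.subtype ≤ Subgroup.normalizer (F : Set G) :=
      le_trans Subgroup.le_normalizer ((hf _ hP₀.2.1).1 F hF).2
    have hP₀X : IsSylowIn p ((P : Subgroup ↥M).map M.subtype)
        (M ⊓ Subgroup.normalizer (F : Set G)) :=
      isSylowIn_of_le hP₀ (le_inf hP₀.1 hP₀N) inf_le_left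
    obtain ⟨g, hg, hconj⟩ := hP₀X.exists_conj hsyl
    have hcard : Nat.card ↥(S ⊓ (M ⊓ Subgroup.normalizer (F : Set G))) = Nat.card ↥S := by
      rw [hconj, card_map_cj', isSylowIn_card_eq hP₀ hS]
    have hSX : S ⊓ (M ⊓ Subgroup.normalizer (F : Set G)) = S :=
      Subgroup.eq_of_le_of_card_ge inf_le_left hcard.ge
    refine ⟨F, ?_, rfl⟩
    have hS' : S = ((P : Subgroup ↥M).map M.subtype).map (cj g) := by rw [← hSX, hconj]
    rw [hS', (hf _ hP₀.2.1).2 g]
    exact ⟨F, hF, mem_normalizer_iff_map_cj.1 hg.2⟩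
  · rintro ⟨F, hF, rfl⟩
    have hSN : S ≤ Subgroup.normalizer (F : Set G) :=
      le_trans Subgroup.le_normalizer ((hf S hS.2.1).1 F hF).2
    refine ⟨⟨hS.toSylow, F, by rwa [hS.toSylow_map], rfl⟩, ?_⟩
    rw [inf_eq_left.2 (le_inf hS.1 hSN)]
    exact isSylowIn_of_le hS (le_inf hS.1 hSN) inf_le_left

theorem functorFamily_map_cj [Finite G] [Fact p.Prime] {f : Subgroup G → Set (Subgroup G)}
    (hf : IsNormalizerFunctor p f) {M X : Subgroup G} (hX : X ∈ functorFamily p f M) {g : G}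
    (hg : g ∈ M) : X.map (cj g) ∈ functorFamily p f M := by
  obtain ⟨P, F, hF, rfl⟩ := hX
  have hP₀ : IsSylowIn p ((P : Subgroup ↥M).map M.subtype) M := isSylowIn_of_sylow P
  have h1 : IsSylowIn p (((P : Subgroup ↥M).map M.subtype).map (cj g)) M := isSylowIn_map_cj_of_mem hP₀ hg
  refine ⟨h1.toSylow, F.map (cj g), ?_, ?_⟩
  · rw [h1.toSylow_map, (hf _ hP₀.2.1).2 g]
    exact ⟨F, hF, rfl⟩
  · rw [map_cj_inf, map_cj_eq_self_of_mem hg, map_cj_normalizer]

theorem isNormalSet_functorFamily_top [Finite G] [Fact p.Prime]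
    {f : Subgroup G → Set (Subgroup G)} (hf : IsNormalizerFunctor p f) :
    IsNormalSet (functorFamily p f (⊤ : Subgroup G)) := by
  intro X hX g
  exact functorFamily_map_cj hf hX (Subgroup.mem_top g⁻¹)

/-- a chain for the family of `M ≥ S₀` is a chain for the family of the whole group -/
theorem Lk.functorFamily_top [Finite G] [Fact p.Prime] {f : Subgroup G → Set (Subgroup G)}
    (hf : IsNormalizerFunctor p f) {M : Subgroup G} (S₀ : Sylow p G)
    (hS₀ : (S₀ : Subgroup G) ≤ M) {D S T : Subgroup G} (hS : IsSylowIn p S M)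
    (h : Lk p (functorFamily p f M) D S T) :
    IsSylowIn p T M ∧ Lk p (functorFamily p f (⊤ : Subgroup G)) D S T := by
  induction h with
  | refl => exact ⟨hS, Lk.refl⟩
  | @step T U X x _ hX1 hX2 hx hc hD1 hD2 ih =>
    obtain ⟨hT, ih⟩ := ih
    obtain ⟨F, hF, rfl⟩ := (mem_sylowMembers_functorFamily hf hT).1 hX1
    have hxM : x ∈ M := hx.1
    have hxN : x ∈ Subgroup.normalizer (F : Set G) := hx.2
    have hU : U = T.map (cj x) := by rw [← hc, map_cj_inv_map_cj]
    have hUs : IsSylowIn p U M := by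
      rw [hU]; exact isSylowIn_map_cj_of_mem hT hxM
    have hFU : F ∈ f U := by
      rw [hU, (hf T hT.2.1).2 x]
      exact ⟨F, hF, mem_normalizer_iff_map_cj.1 hxN⟩
    refine ⟨hUs, Lk.step (⊤ ⊓ Subgroup.normalizer (F : Set G)) x ih ?_ ?_
      ⟨Subgroup.mem_top _, hxN⟩ hc hD1 (le_inf le_top (hD2.trans inf_le_right))⟩
    · exact (mem_sylowMembers_functorFamily hf (isSylowIn_top_of_sylow_le S₀ hS₀ hT)).2 ⟨F, hF, rfl⟩
    · exact (mem_sylowMembers_functorFamily hf (isSylowIn_top_of_sylow_le S₀ hS₀ hUs)).2 ⟨F, hFU, rfl⟩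

end Cfsg.Agent.Helper10


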