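import Mathlib
import Cfsg.Agent.Helper7.LocalLayer

set_option autoImplicit false

/-! # Normal subgroups of prime index -/

namespace Cfsg.Agent.Helper10

open Subgroup

section

variable {p : ℕ} [hp : Fact p.Prime]

/-- pull back a normal subgroup of index `p` along a surjection -/
theorem exists_normal_index_of_surjective {G H : Type*} [Group G] [Group H] (f : G →* H)
    (hf : Function.Surjective f) (h : ∃ N : Subgroup H, N.Normal ∧ N.index = p) :
    ∃ N : Subgroup G, N.Normal ∧ N.index = p := by
  obtain ⟨N, hN, hi⟩ := h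
  exact ⟨N.comap f, hN.comap f, by rw [Subgroup.index_comap_of_surjective N hf]; exact hi⟩

/-- a nontrivial finite abelian `p`-group has a subgroup of index `p` -/
theorem exists_index_p_of_comm_pgroup {A : Type*} [CommGroup A] [Finite A] (hA : IsPGroup p A)
    [Nontrivial A] : ∃ N : Subgroup A, N.Normal ∧ N.index = p := by
  obtain ⟨k, hk⟩ := IsPGroup.iff_card.mp hA
  have hk0 : k ≠ 0 := by
    rintro rfl
    have : 1 < Nat.card A := Finite.one_lt_card
    rw [pow_zero] at hk
    omega
  obtain ⟨k', rfl⟩ := Nat.exists_eq_succ_of_ne_zero hk0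
  have hdvd : p ^ k' ∣ Nat.card A := by
    rw [hk]; exact pow_dvd_pow p (Nat.le_succ k')
  obtain ⟨K, hK⟩ := Sylow.exists_subgroup_card_pow_prime p hdvd
  refine ⟨K, inferInstance, ?_⟩
  have h1 := Subgroup.card_mul_index K
  rw [hK, hk, pow_succ] at h1
  exact Nat.eq_of_mul_eq_mul_left (pow_pos hp.out.pos k') h1

/-- a nontrivial finite `p`-group has a normal subgroup of index `p` -/
theorem exists_normal_index_p_of_pgroup {Q : Type*} [Group Q] [Finite Q] (hQ : IsPGroup p Q)
    [Nontrivial Q] : ∃ N : Subgroup Q, N.Normal ∧ N.index = p := by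
  haveI : Group.IsNilpotent Q := hQ.isNilpotent
  have hlt : commutator Q < ⊤ := Group.IsSolvable.commutator_lt_top_of_nontrivial Q
  have hA : IsPGroup p (Q ⧸ commutator Q) := hQ.to_quotient _
  haveI : Nontrivial (Q ⧸ commutator Q) := by
    rw [← Finite.one_lt_card_iff_nontrivial, ← Subgroup.index_eq_card]
    have h1 : (commutator Q).index ≠ 1 := fun h => hlt.ne (Subgroup.index_eq_one.1 h)
    have h0 : (commutator Q).index ≠ 0 := Subgroup.index_ne_zero_of_finite
    omega
  letI : CommGroup (Q ⧸ commutator Q) := inferInstanceAs (CommGroup (Abelianization Q))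
  exact exists_normal_index_of_surjective (QuotientGroup.mk' (commutator Q))
    (QuotientGroup.mk'_surjective _) (exists_index_p_of_comm_pgroup hA)

/-- a `p`-element outside the derived subgroup yields a normal subgroup of index `p` -/
theorem exists_normal_index_p_of_not_mem_commutator {G : Type*} [Group G] [Finite G] (s : G)
    (hs : ∃ k : ℕ, s ^ p ^ k = 1) (hs' : s ∉ commutator G) :
    ∃ N : Subgroup G, N.Normal ∧ N.index = p := by
  obtain ⟨j, hj⟩ := hs
  obtain ⟨m, hm⟩ : ∃ m, m = (Nat.card (Abelianization G)) / p ^ (Nat.card (Abelianization G)).factorization p :=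
    ⟨_, rfl⟩
  have hcard0 : Nat.card (Abelianization G) ≠ 0 := Nat.card_pos.ne'
  have hmcop : Nat.Coprime p m := by
    rw [hm]; exact Nat.coprime_ordCompl hp.out hcard0
  have hmul : p ^ (Nat.card (Abelianization G)).factorization p * m = Nat.card (Abelianization G) := by
    rw [hm]; exact Nat.ordProj_mul_ordCompl_eq_self _ p
  let f : Abelianization G →* Abelianization G := powMonoidHom m
  have hRp : IsPGroup p ↥f.range := by
    rintro ⟨y, x, rfl⟩
    refine ⟨(Nat.card (Abelianization G)).factorization p, ?_⟩
    apply Subtype.ext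
    show (x ^ m) ^ p ^ (Nat.card (Abelianization G)).factorization p = 1
    rw [← pow_mul, mul_comm, hmul]
    exact pow_card_eq_one'
  have hne : f (Abelianization.of s) ≠ 1 := by
    intro h1
    have h2 : orderOf (Abelianization.of s) ∣ m := orderOf_dvd_of_pow_eq_one h1
    have h3 : orderOf (Abelianization.of s) ∣ p ^ j := by
      apply orderOf_dvd_of_pow_eq_one
      rw [← map_pow, hj, map_one]
    have h4 : orderOf (Abelianization.of s) = 1 :=
      Nat.eq_one_of_dvd_coprimes (Nat.Coprime.pow_left j hmcop) h3 h2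
    rw [orderOf_eq_one_iff] at h4
    apply hs'
    rw [← Abelianization.ker_of (G := G)]
    exact h4
  haveI : Nontrivial ↥f.range :=
    ⟨⟨⟨f (Abelianization.of s), ⟨_, rfl⟩⟩, 1, fun h => hne (congrArg Subtype.val h)⟩⟩
  have hsurj : Function.Surjective (f.rangeRestrict.comp (Abelianization.of (G := G))) :=
    f.rangeRestrict_surjective.comp (QuotientGroup.mk'_surjective (commutator G))
  exact exists_normal_index_of_surjective _ hsurj (exists_normal_index_p_of_pgroup hRp)

/-- a Sylow `p`-subgroup is not inside the derived subgroup when there is a normal subgroup of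
index `p` -/
theorem sylow_not_le_commutator {G : Type*} [Group G] [Finite G] (S : Sylow p G)
    (h : ∃ N : Subgroup G, N.Normal ∧ N.index = p) : ¬ (S : Subgroup G) ≤ commutator G := by
  obtain ⟨N, hN, hi⟩ := h
  intro hle
  have hcard : Nat.card (G ⧸ N) = p := by rw [← Subgroup.index_eq_card, hi]
  haveI : IsCyclic (G ⧸ N) := isCyclic_of_prime_card hcard
  have hcomm : commutator G ≤ N := by
    rw [commutator_eq_closure, Subgroup.closure_le]
    rintro _ ⟨x, y, rfl⟩
    rw [SetLike.mem_coe, ← QuotientGroup.eq_one_iff, commutatorElement_def]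
    have hcm : ∀ a b : G ⧸ N, a * b = b * a := fun a b => Std.Commutative.comm a b
    simp only [QuotientGroup.mk_mul, QuotientGroup.mk_inv]
    rw [hcm (x : G ⧸ N) (y : G ⧸ N)]
    group
  have h1 : N.index ∣ (S : Subgroup G).index := Subgroup.index_dvd_of_le (hle.trans hcomm)
  rw [hi] at h1
  exact S.not_dvd_index h1

/-- lift a `p'`-element along a surjection to a `p'`-element -/
theorem exists_coprime_lift {G H : Type*} [Group G] [Finite G] [Group H] (f : G →* H)
    (hf : Function.Surjective f) (h : H) (hh : (orderOf h).Coprime p) :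
    ∃ g : G, f g = h ∧ (orderOf g).Coprime p := by
  obtain ⟨g₀, rfl⟩ := hf h
  have hcop := Cfsg.Agent.Helper7.orderOf_pow_ordProj_coprime p g₀
  have h1 : (p ^ (orderOf g₀).factorization p).Coprime (orderOf (f g₀)) :=
    Nat.Coprime.pow_left _ hh.symm
  obtain ⟨b, hb⟩ := exists_pow_eq_self_of_coprime h1
  refine ⟨(g₀ ^ p ^ (orderOf g₀).factorization p) ^ b, ?_, ?_⟩
  · rw [map_pow, map_pow, hb]
  · exact Nat.Coprime.coprime_dvd_left (orderOf_pow_dvd b) hcop

/-- a normal Sylow `p`-subgroup centralized by all `p'`-elements: normal subgroup of index `p` -/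
theorem normal_sylow_case {G : Type*} [Group G] [Finite G] (S : Sylow p G)
    (hSn : (S : Subgroup G).Normal) (hS : (S : Subgroup G) ≠ ⊥)
    (hN : ∀ g : G, (orderOf g).Coprime p → g ∈ centralizer ((S : Subgroup G) : Set G)) :
    ∃ N : Subgroup G, N.Normal ∧ N.index = p := by
  obtain ⟨H, hH⟩ := Subgroup.exists_right_complement'_of_coprime (N := (S : Subgroup G))
    S.card_coprime_index
  have hcardH : Nat.card ↥H = (S : Subgroup G).index := hH.symm.index_eq_card.symm
  have hidxH : H.index = Nat.card ↥(S : Subgroup G) := hH.index_eq_card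
  have hHc : H ≤ centralizer ((S : Subgroup G) : Set G) := by
    intro h hh
    apply hN
    have h1 : orderOf h ∣ (S : Subgroup G).index := by
      rw [← hcardH, ← Subgroup.orderOf_mk h hh]
      exact orderOf_dvd_natCard _
    have h2 : ((S : Subgroup G).index).Coprime p := by
      rw [Nat.coprime_comm, Nat.Prime.coprime_iff_not_dvd hp.out]
      exact S.not_dvd_index
    exact Nat.Coprime.coprime_dvd_left h1 h2
  have hHn : H.Normal := by
    rw [← Subgroup.normalizer_eq_top_iff, eq_top_iff, ← hH.sup_eq_top]
    apply sup_le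
    · have : (S : Subgroup G) ≤ centralizer (H : Set G) := by
        rw [← commutator_eq_bot_iff_le_centralizer, commutator_comm,
          commutator_eq_bot_iff_le_centralizer]
        exact hHc
      exact this.trans (Subgroup.centralizer_le_normalizer _)
    · exact Subgroup.le_normalizer
  have hQp : IsPGroup p (G ⧸ H) := by
    obtain ⟨k, hk⟩ := IsPGroup.iff_card.mp S.2
    apply IsPGroup.of_card (n := k)
    rw [← Subgroup.index_eq_card, hidxH, hk]
  haveI : Nontrivial (G ⧸ H) := by
    rw [← Finite.one_lt_card_iff_nontrivial, ← Subgroup.index_eq_card, hidxH]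
    haveI : Nontrivial ↥(S : Subgroup G) := (Subgroup.nontrivial_iff_ne_bot _).2 hS
    exact Finite.one_lt_card
  exact exists_normal_index_of_surjective (QuotientGroup.mk' H) (QuotientGroup.mk'_surjective _)
    (exists_normal_index_p_of_pgroup hQp)

/-- if `G` has a normal subgroup of prime index `p` and all Sylow `q`-subgroups for the other primes
dividing `|G|` are self-normalizing, then `G` is a `p`-group -/
theorem isPGroup_of_index_p_of_self_normalizing {G : Type*} [Group G] [Finite G]
    (h : ∃ N : Subgroup G, N.Normal ∧ N.index = p)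
    (hsn : ∀ q : ℕ, q.Prime → q ≠ p → q ∣ Nat.card G → ∀ Q : Sylow q G,
      normalizer ((Q : Subgroup G) : Set G) = Q) : IsPGroup p G := by
  obtain ⟨M, hMn, hMi⟩ := h
  have hcard : ∀ q : ℕ, q.Prime → q ∣ Nat.card G → q = p := by
    intro q hq hdvd
    by_contra hne
    haveI : Fact q.Prime := ⟨hq⟩
    obtain ⟨Q⟩ : Nonempty (Sylow q G) := inferInstance
    have hQM : (Q : Subgroup G) ≤ M := by
      intro x hx
      rw [← QuotientGroup.eq_one_iff (N := M)]
      have h1 : orderOf ((x : G) : G ⧸ M) ∣ p := by
        have : Nat.card (G ⧸ M) = p := by rw [← Subgroup.index_eq_card, hMi]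
        rw [← this]
        exact orderOf_dvd_natCard _
      obtain ⟨k, hk⟩ := Q.2 ⟨x, hx⟩
      have hk' : x ^ q ^ k = 1 := congrArg Subtype.val hk
      have h2 : orderOf ((x : G) : G ⧸ M) ∣ q ^ k := by
        apply orderOf_dvd_of_pow_eq_one
        rw [← QuotientGroup.mk_pow, hk']
        rfl
      have hcop : (q ^ k).Coprime p :=
        Nat.Coprime.pow_left k ((Nat.coprime_primes hq hp.out).2 hne)
      have h3 := Nat.eq_one_of_dvd_coprimes hcop h2 h1
      exact orderOf_eq_one_iff.1 h3
    have hfr := Sylow.normalizer_sup_eq_top (Q.subtype hQM)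
    have hmap : ((Q.subtype hQM : Sylow q ↥M) : Subgroup ↥M).map M.subtype = (Q : Subgroup G) := by
      rw [Sylow.coe_subtype]
      exact Subgroup.map_subgroupOf_eq_of_le hQM
    rw [hmap, hsn q hq hne hdvd Q] at hfr
    have hMtop : M = ⊤ := by
      rw [eq_top_iff, ← hfr]
      exact sup_le hQM le_rfl
    rw [hMtop, Subgroup.index_top] at hMi
    exact hp.out.one_lt.ne hMi
  -- the order of `G` is a power of `p`
  have hpow : ∃ k, Nat.card G = p ^ k := by
    refine ⟨(Nat.card G).primeFactorsList.length, ?_⟩
    exact Nat.eq_prime_pow_of_unique_prime_dvd Nat.card_pos.ne' (fun {q} hq hdvd => hcard q hq hdvd)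
  obtain ⟨k, hk⟩ := hpow
  exact IsPGroup.of_card hk

end

end Cfsg.Agent.Helper10
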