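import Mathlib

/-!
# qppieces RK1, part a: the linear algebra behind `f⁻¹ E f = e⁻¹ F e`
-/

set_option autoImplicit false

namespace Cfsg.Agent.QPP

variable {k : Type*} [Field k] {M : Type*} [AddCommGroup M] [Module k M]

/-- one inclusion for the kernels -/
theorem RK1_aux_ker_le {a b x y : Module.End k M}
    (hkx : LinearMap.ker x = LinearMap.ker a) (hrx : LinearMap.range x = LinearMap.range a)
    (hky : LinearMap.ker y = LinearMap.ker b) (hry : LinearMap.range y = LinearMap.range b)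
    (hxx : x * x = 0) (hyy : y * y = 0)
    (hdec : LinearMap.ker a = (LinearMap.ker a ⊓ LinearMap.ker b) ⊔ LinearMap.range a)
    (hdec' : LinearMap.ker b = (LinearMap.ker a ⊓ LinearMap.ker b) ⊔ LinearMap.range b)
    (hxy : ∀ m ∈ LinearMap.range a, x (y m) = m) :
    LinearMap.ker ((1 - y) * a * (1 + y)) ≤ LinearMap.ker ((1 - x) * b * (1 + x)) := by
  intro m hm
  rw [LinearMap.mem_ker] at hm ⊢
  have hxx' : ∀ v, x (x v) = 0 := fun v => by
    have := congrArg (fun f : Module.End k M => f v) hxx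
    simpa using this
  have hyy' : ∀ v, y (y v) = 0 := fun v => by
    have := congrArg (fun f : Module.End k M => f v) hyy
    simpa using this
  -- c := (1 + y) m ∈ ker a
  have hc : (1 + y) m ∈ LinearMap.ker a := by
    rw [LinearMap.mem_ker]
    have h1 : ((1 - y) * a * (1 + y)) m = a ((1 + y) m) - y (a ((1 + y) m)) := by
      simp [Module.End.mul_apply]
    rw [h1] at hm
    have h2 : a ((1 + y) m) = y (a ((1 + y) m)) := sub_eq_zero.mp hm
    have h3 : y (a ((1 + y) m)) = 0 := by
      have := congrArg y h2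
      rw [hyy'] at this
      exact this
    rw [h2, h3]
  rw [hdec] at hc
  obtain ⟨c₀, hc₀, a₁, ha₁, hca⟩ := Submodule.mem_sup.mp hc
  have hc₀C : x c₀ = 0 := by
    have : c₀ ∈ LinearMap.ker x := by rw [hkx]; exact hc₀.1
    exact LinearMap.mem_ker.mp this
  have hc₀D : y c₀ = 0 := by
    have : c₀ ∈ LinearMap.ker y := by rw [hky]; exact hc₀.2
    exact LinearMap.mem_ker.mp this
  have hc₀b : b c₀ = 0 := LinearMap.mem_ker.mp hc₀.2
  have hxa₁ : x a₁ = 0 := by
    rw [← hrx] at ha₁
    obtain ⟨v, rfl⟩ := ha₁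
    exact hxx' v
  have hxya₁ : x (y a₁) = a₁ := hxy a₁ ha₁
  -- m = (1 - y) c
  have hm' : m = c₀ + a₁ - y a₁ := by
    have h1 : (1 + y) m = m + y m := by simp
    have h2 : y ((1 + y) m) = y m := by
      rw [h1, map_add, hyy', add_zero]
    have h3 : m = (1 + y) m - y ((1 + y) m) := by rw [h2, h1]; abel
    rw [h3, ← hca, map_add, hc₀D, zero_add]
  -- (1 + x) m = c₀ - y a₁
  have h4 : (1 + x) m = c₀ - y a₁ := by
    rw [hm']
    simp only [LinearMap.add_apply, Module.End.one_apply, map_add, map_sub, hc₀C, hxa₁, hxya₁]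
    abel
  have hyB : b (y a₁) = 0 := by
    have h5 : y a₁ ∈ LinearMap.range b := by rw [← hry]; exact ⟨a₁, rfl⟩
    have h6 : y a₁ ∈ LinearMap.ker b := by
      rw [hdec']; exact Submodule.mem_sup_right h5
    exact LinearMap.mem_ker.mp h6
  have h7 : ((1 - x) * b * (1 + x)) m = (1 - x) (b ((1 + x) m)) := by
    simp [Module.End.mul_apply]
  rw [h7, h4, map_sub, hc₀b, hyB, sub_zero, map_zero]

/-- one inclusion for the ranges -/
theorem RK1_aux_range_le {a b x y : Module.End k M}
    (hrx : LinearMap.range x = LinearMap.range a)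
    (hry : LinearMap.range y = LinearMap.range b)
    (hxx : x * x = 0)
    (hxy : ∀ m ∈ LinearMap.range a, x (y m) = m) :
    LinearMap.range ((1 - y) * a * (1 + y)) ≤ LinearMap.range ((1 - x) * b * (1 + x)) := by
  rintro _ ⟨m, rfl⟩
  have hxx' : ∀ v, x (x v) = 0 := fun v => by
    have := congrArg (fun f : Module.End k M => f v) hxx
    simpa using this
  set a₁ := a ((1 + y) m) with ha₁
  have ha₁A : a₁ ∈ LinearMap.range a := ⟨_, rfl⟩
  have hxya₁ : x (y a₁) = a₁ := hxy a₁ ha₁A
  have hyB : -(y a₁) ∈ LinearMap.range b := by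
    rw [← hry]; exact ⟨-a₁, by simp⟩
  obtain ⟨n, hn⟩ := hyB
  refine ⟨(1 - x) n, ?_⟩
  have h1 : (1 + x) ((1 - x) n) = n := by
    simp only [LinearMap.add_apply, LinearMap.sub_apply, Module.End.one_apply, map_sub, hxx']
    abel
  have h2 : ((1 - x) * b * (1 + x)) ((1 - x) n) = (1 - x) (b ((1 + x) ((1 - x) n))) := by
    simp [Module.End.mul_apply]
  have h3 : ((1 - y) * a * (1 + y)) m = (1 - y) a₁ := by
    simp [Module.End.mul_apply, ha₁]
  rw [h2, h1, hn, h3]
  simp only [LinearMap.sub_apply, Module.End.one_apply, map_neg, hxya₁]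
  abel

/-- kernels and ranges of `f⁻¹ (σ - 1) f` and `e⁻¹ (τ - 1) e` coincide -/
theorem RK1_aux_lin {a b x y : Module.End k M}
    (hkx : LinearMap.ker x = LinearMap.ker a) (hrx : LinearMap.range x = LinearMap.range a)
    (hky : LinearMap.ker y = LinearMap.ker b) (hry : LinearMap.range y = LinearMap.range b)
    (hxx : x * x = 0) (hyy : y * y = 0)
    (hdec : LinearMap.ker a = (LinearMap.ker a ⊓ LinearMap.ker b) ⊔ LinearMap.range a)
    (hdec' : LinearMap.ker b = (LinearMap.ker a ⊓ LinearMap.ker b) ⊔ LinearMap.range b)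
    (hxy : ∀ m ∈ LinearMap.range a, x (y m) = m) (hyx : ∀ m ∈ LinearMap.range b, y (x m) = m) :
    LinearMap.ker ((1 - y) * a * (1 + y)) = LinearMap.ker ((1 - x) * b * (1 + x)) ∧
      LinearMap.range ((1 - y) * a * (1 + y)) = LinearMap.range ((1 - x) * b * (1 + x)) := by
  have hdecs : LinearMap.ker b = (LinearMap.ker b ⊓ LinearMap.ker a) ⊔ LinearMap.range b := by
    rw [inf_comm]; exact hdec'
  have hdecs' : LinearMap.ker a = (LinearMap.ker b ⊓ LinearMap.ker a) ⊔ LinearMap.range a := by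
    rw [inf_comm]; exact hdec
  exact ⟨le_antisymm (RK1_aux_ker_le hkx hrx hky hry hxx hyy hdec hdec' hxy)
      (RK1_aux_ker_le hky hry hkx hrx hyy hxx hdecs hdecs' hyx),
    le_antisymm (RK1_aux_range_le hrx hry hxx hxy) (RK1_aux_range_le hry hrx hyy hyx)⟩

end Cfsg.Agent.QPP
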