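import Mathlib
import Cfsg.Agent.Helper25.QPDefs2
import Cfsg.Agent.Helper25.QPAct
import Cfsg.Agent.Helper18.SL2Ext5
import Cfsg.Agent.Helper23.QPTRANS
import Cfsg.Agent.Helper4.QPROOT
import Cfsg.Agent.Helper5.QPDECOMP
import Cfsg.Agent.Helper17.QPNONU2
import Cfsg.Agent.Helper10.QPRK1a

/-!
# qppieces RK1 (core, with the conclusion of INVY as a hypothesis)
-/

set_option autoImplicit false

noncomputable section

universe u v

namespace Cfsg.Agent.QPP

open Cfsg Cfsg.Agent.Helper25.QP Cfsg.Agent.Helper25.QuadPair Polynomial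

variable {k : Type u} [Field k] {M : Type v} [AddCommGroup M] [Module k M]

local notation "GLkM" => LinearMap.GeneralLinearGroup k M

/-- `g σ g⁻¹ - 1` for `g⁻¹ = 1 + w`, `g = 1 - w`, `w² = 0` -/
theorem RK1_aux_conj (f σ : LinearMap.GeneralLinearGroup k M) (y : Module.End k M)
    (hf : (f : Module.End k M) = 1 + y) (hyy : y * y = 0) :
    ((f⁻¹ * σ * f⁻¹⁻¹ : LinearMap.GeneralLinearGroup k M) : Module.End k M) - 1
      = (1 - y) * ((σ : Module.End k M) - 1) * (1 + y) := by
  have hsq : ((f : Module.End k M) - 1) * ((f : Module.End k M) - 1) = 0 := by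
    rw [hf, add_sub_cancel_left, hyy]
  have hinv : ((f⁻¹ : LinearMap.GeneralLinearGroup k M) : Module.End k M) = 1 - y := by
    rw [val_inv_of_sq_zero hsq, hf, add_sub_cancel_left]
  rw [inv_inv, Units.val_mul, Units.val_mul, hinv, hf]
  have h1 : (1 - y) * (1 + y) = 1 := by
    have : (1 - y) * (1 + y) = 1 - y * y := by noncomm_ring
    rw [this, hyy, sub_zero]
  have h2 : (1 - y) * (σ : Module.End k M) * (1 + y) - 1
      = (1 - y) * ((σ : Module.End k M) - 1) * (1 + y) + ((1 - y) * (1 + y) - 1) := by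
    noncomm_ring
  rw [h2, h1, sub_self, add_zero]

section s5065
variable [FiniteDimensional k M] {G : Subgroup (LinearMap.GeneralLinearGroup k M)}
  {σ τ : LinearMap.GeneralLinearGroup k M}

/-- the rank one condition, one direction; core = `RK1` with the conclusion of `INVY` as a hypothesis -/
theorem RK1_aux_core
    (hINVY : ∀ {d : ℕ} {a b : Module.End k M}, QPair G d a b → ¬ UnipPair a b →
      ∃ y : Module.End k M, QFam G y ∧ LinearMap.ker y = LinearMap.ker b ∧
        LinearMap.range y = LinearMap.range b ∧ (∀ m ∈ LinearMap.range a, a (y m) = m) ∧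
        (∀ m ∈ LinearMap.range b, y (a m) = m))
    (hσ : σ ∈ minimalQuadraticElements G) (hτ : τ ∈ minimalQuadraticElements G)
    (hO : OppPair ((σ : Module.End k M) - 1) ((τ : Module.End k M) - 1)) :
    RankOneCondition (sameActionSubgroup G σ) (sameActionSubgroup G τ) := by
  intro e he he1
  obtain ⟨hQx, hkx, hrx⟩ := ROOT_Qd hσ he he1
  obtain ⟨hmin, hQa⟩ := TRANS_Qd hσ
  obtain ⟨-, hQb⟩ := TRANS_Qd hτ
  have hrk : commutatorRank σ = commutatorRank τ := TRANS_rank hσ hτ
  set a : Module.End k M := (σ : Module.End k M) - 1 with ha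
  set b : Module.End k M := (τ : Module.End k M) - 1 with hb
  set x : Module.End k M := (e : Module.End k M) - 1 with hx
  have hOx : OppPair x b := ⟨by rw [hkx]; exact hO.1, by rw [hrx]; exact hO.2⟩
  have hxx : x * x = 0 := hQx.1.1
  have haa : a * a = 0 := hQa.1.1
  have hbb : b * b = 0 := hQb.1.1
  have hx0 : x ≠ 0 := by
    intro h0
    apply he1
    apply Units.ext
    have : (e : Module.End k M) = 1 := sub_eq_zero.mp h0
    rw [this]; rfl
  have hnu : ¬ UnipPair x b := NONU2 hOx hxx hbb hx0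
  have hQb' : Qd G (commutatorRank σ) b := by rw [hrk]; exact hQb
  have hp : QPair G (commutatorRank σ) x b := ⟨hmin, hQx, hQb'⟩
  obtain ⟨y, hyF, hky, hry, hxy, hyx⟩ := hINVY hp hnu
  have hyy : y * y = 0 := hyF.1
  have hy0 : y ≠ 0 := by
    intro h0
    apply hx0
    have hrb : LinearMap.range b = ⊥ := by rw [← hry, h0]; exact LinearMap.range_zero
    have hkx' : LinearMap.ker x = ⊤ := by
      have := hOx.1.sup_eq_top
      rwa [hrb, sup_bot_eq] at this
    exact LinearMap.ker_eq_top.mp hkx'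
  obtain ⟨f, hfF, hf1, hfy⟩ := ROOT_of hτ hyF hy0 hky hry
  refine ⟨f, hfF, hf1, ?_⟩
  have hfG : f ∈ G := ROOT_le hτ hfF
  have heG : e ∈ G := ROOT_le hσ he
  obtain ⟨hσ', hE⟩ := ROOT_conj hσ (G.inv_mem hfG)
  obtain ⟨hτ', hF⟩ := ROOT_conj hτ (G.inv_mem heG)
  rw [hE, hF]
  have hex : (e : Module.End k M) = 1 + x := by rw [hx]; abel
  have hc1 := RK1_aux_conj f σ y hfy hyy
  have hc2 := RK1_aux_conj e τ x hex hxx
  obtain ⟨-, -, hdec, hdec'⟩ := DECOMP hO haa hbb
  have hxy' : ∀ m ∈ LinearMap.range a, x (y m) = m := by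
    intro m hm
    rw [← hrx] at hm
    exact hxy m hm
  have hlin := RK1_aux_lin hkx hrx hky hry hxx hyy hdec hdec' hxy' hyx
  apply ROOT_eq hσ' hτ'
  · rw [hc1, hc2]; exact hlin.1
  · rw [hc1, hc2]; exact hlin.2

end s5065

end Cfsg.Agent.QPP

end
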