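import Mathlib
import Cfsg.Agent.Helper25.QPDefs2
import Cfsg.Agent.Helper25.QPAct
import Cfsg.Agent.Helper18.SL2Ext5
import Cfsg.Agent.Helper1.QPINVY
import Cfsg.Agent.Helper10.QPRK1b

/-!
# qppieces RK1 : the rank one condition for an opposite pair of root subgroups
(wrapper of `RK1_aux_core` with `INVY`)
-/

set_option autoImplicit false

noncomputable section

universe u v

namespace Cfsg.Agent.QPP

open Cfsg Cfsg.Agent.Helper25.QP Cfsg.Agent.Helper25.QuadPair Polynomial

variable {k : Type u} [Field k] {M : Type v} [AddCommGroup M] [Module k M]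

local notation "GLkM" => LinearMap.GeneralLinearGroup k M

section s5065
variable [FiniteDimensional k M] {G : Subgroup (LinearMap.GeneralLinearGroup k M)}
  {σ τ : LinearMap.GeneralLinearGroup k M}

/-- the rank one condition, one direction -/
theorem RK1 (hk2 : ringChar k ≠ 2) (hk3 : Nat.card k ≠ 3)
    (hσ : σ ∈ minimalQuadraticElements G) (hτ : τ ∈ minimalQuadraticElements G)
    (hO : OppPair ((σ : Module.End k M) - 1) ((τ : Module.End k M) - 1)) :
    RankOneCondition (sameActionSubgroup G σ) (sameActionSubgroup G τ) :=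
  RK1_aux_core (fun hp hnu => INVY hk2 hk3 hp hnu) hσ hτ hO

end s5065

end Cfsg.Agent.QPP

end
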