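import Mathlib
import Cfsg.Agent.Helper27.S0429Defs

/-!
# S0429 board, piece MSYMM (helper10): `Mate a b c → Mate a c b`.
-/

set_option autoImplicit false

namespace Cfsg.Agent.S0429P

open Finset

variable {V : Type*} [Fintype V] [DecidableEq V] {G : SimpleGraph V} [DecidableRel G.Adj]

/-- MSYMM (S). -/
theorem MSYMM {a b c : V} (hm : Mate G a b c) : Mate G a c b := by
  obtain ⟨h1, h2, h3, h4⟩ := hm
  exact ⟨h2, h1, Ne.symm h3, by rw [kap_symm]; exact h4⟩

end Cfsg.Agent.S0429P
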