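import Mathlib
import Cfsg.Agent.Helper27.S0429Defs
import Cfsg.Agent.Helper10.S0429MSYMM

/-!
# S0429 board (helper10): cores of MTRANS, CLSEQ, KAPCLS with the eigenvector lemma EIG as a hypothesis,
and the piece CLSFAR.
-/

set_option autoImplicit false

namespace Cfsg.Agent.S0429P

open Finset

variable {V : Type*} [Fintype V] [DecidableEq V] {G : SimpleGraph V} [DecidableRel G.Adj]

/-- MTRANS, with the needed instance of EIG as a hypothesis. -/
theorem MTRANS_core {a b c d : V} (hc : Mate G a b c) (hd : Mate G a b d) (hcd : c ≠ d)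
    (hE : kap G a d b = kap G a d c) : Mate G a c d := by
  refine ⟨hc.2.1, hd.2.1, hcd, ?_⟩
  rw [kap_symm, ← hE, kap_symm]
  exact hd.2.2.2

/-- CLSFAR (S). -/
theorem CLSFAR {a b c : V} (hab : Far G a b) (hc : c ∈ cls G a b) : Far G a c := by
  rcases mem_cls.mp hc with rfl | hm
  · exact hab
  · exact hm.2.1

/-- CLSEQ, with MTRANS as a hypothesis. -/
theorem CLSEQ_core {a b c : V}
    (hMT : ∀ {b c d : V}, Mate G a b c → Mate G a b d → c ≠ d → Mate G a c d)
    (hc : c ∈ cls G a b) : cls G a c = cls G a b := by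
  rcases mem_cls.mp hc with rfl | hm
  · rfl
  · ext d
    rw [mem_cls, mem_cls]
    constructor
    · rintro (rfl | hcd)
      · exact Or.inr hm
      · by_cases hdb : d = b
        · exact Or.inl hdb
        · exact Or.inr (hMT (MSYMM hm) hcd (fun e => hdb e.symm))
    · rintro (rfl | hbd)
      · exact Or.inr (MSYMM hm)
      · by_cases hdc : d = c
        · exact Or.inl hdc
        · exact Or.inr (hMT hm hbd (fun e => hdc e.symm))

/-- KAPCLS, with EIG as a hypothesis. -/
theorem KAPCLS_core {a b c z : V}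
    (hEIG : ∀ {b c z : V}, Mate G a b c → Far G a z → z ≠ b → z ≠ c → kap G a z b = kap G a z c)
    (hc : c ∈ cls G a b) (hz : Far G a z) (hzb : z ∉ cls G a b) : kap G a z b = kap G a z c := by
  rcases mem_cls.mp hc with rfl | hm
  · rfl
  · refine hEIG hm hz ?_ ?_
    · rintro rfl; exact hzb (self_mem_cls a _)
    · rintro rfl; exact hzb hc

end Cfsg.Agent.S0429P
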