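import Mathlib
import Cfsg.Agent.Helper27.S0429Defs

/-!
# S0429 board (helper10): core of KAP1 (KAPCLS as a hypothesis).
-/

set_option autoImplicit false

namespace Cfsg.Agent.S0429P

open Finset

variable {V : Type*} [Fintype V] [DecidableEq V] {G : SimpleGraph V} [DecidableRel G.Adj]

/-- KAP1, with KAPCLS as a hypothesis. -/
theorem KAP1_core {a b z : V} (hKC : ∀ p ∈ cls G a b, kap G a z b = kap G a z p)
    (hk : kap G a z b = 1) : ∀ p ∈ cls G a b, ¬ G.Adj z p ∧ m3 G a z p = 1 := by
  intro p hp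
  have h1 : kap G a z p = 1 := by rw [← hKC p hp]; exact hk
  unfold kap at h1
  by_cases hzp : G.Adj z p
  · rw [if_pos hzp] at h1; omega
  · rw [if_neg hzp] at h1
    exact ⟨hzp, by omega⟩

end Cfsg.Agent.S0429P
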