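import Mathlib
import Cfsg.Agent.Helper27.S0429Defs
import Cfsg.Agent.Helper10.S0429CLScore
import Cfsg.Agent.Helper10.S0429KAP1core
import Cfsg.Agent.Helper20.S0429EIG

/-!
# S0429 board (helper10): pieces MTRANS, CLSEQ, KAPCLS, KAP1 (from EIG).
-/

set_option autoImplicit false

namespace Cfsg.Agent.S0429P

open Finset

variable {V : Type*} [Fintype V] [DecidableEq V] {G : SimpleGraph V} [DecidableRel G.Adj]

/-- MTRANS (S). -/
theorem MTRANS (h : G.IsSRGWith 77 16 0 4) {a b c d : V} (hc : Mate G a b c) (hd : Mate G a b d) (hcd : c ≠ d) :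
    Mate G a c d :=
  MTRANS_core hc hd hcd (EIG h hc hd.2.1 (Ne.symm hd.2.2.1) (Ne.symm hcd))

/-- CLSEQ (S/M). -/
theorem CLSEQ (h : G.IsSRGWith 77 16 0 4) {a b c : V} (hab : Far G a b) (hc : c ∈ cls G a b) :
    cls G a c = cls G a b :=
  CLSEQ_core (fun hc hd hcd => MTRANS h hc hd hcd) hc

/-- KAPCLS (S/M). -/
theorem KAPCLS (h : G.IsSRGWith 77 16 0 4) {a b c z : V} (hab : Far G a b) (hc : c ∈ cls G a b)
    (hz : Far G a z) (hzb : z ∉ cls G a b) : kap G a z b = kap G a z c :=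
  KAPCLS_core (fun hm hz h1 h2 => EIG h hm hz h1 h2) hc hz hzb

/-- KAP1 (S/M). -/
theorem KAP1 (h : G.IsSRGWith 77 16 0 4) {a b z : V} (hab : Far G a b) (hz : Far G a z)
    (hzb : z ∉ cls G a b) (hk : kap G a z b = 1) : ∀ p ∈ cls G a b, ¬ G.Adj z p ∧ m3 G a z p = 1 :=
  KAP1_core (fun _ hp => KAPCLS h hab hp hz hzb) hk

end Cfsg.Agent.S0429P
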