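import Mathlib
import Cfsg.Agent.Helper27.S0429Defs

/-!
# S0429 board (helper10): cores of KAP2 (hyps KAPCLS, CLS4, M3SUM) and SYN1 (hyps CLSEQ, KAPVAL, KAP1, KAP2, SYN).
-/

set_option autoImplicit false

namespace Cfsg.Agent.S0429P

open Finset

variable {V : Type*} [Fintype V] [DecidableEq V] {G : SimpleGraph V} [DecidableRel G.Adj]

/-- KAP2, with KAPCLS, CLS4, M3SUM as hypotheses. -/
theorem KAP2_core {a b z : V} (hKC : ∀ p ∈ cls G a b, kap G a z b = kap G a z p)
    (hC4 : (cls G a b).card = 4) (hM3 : ∑ p ∈ cls G a b, m3 G a z p = 4)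
    (hk : kap G a z b = 2) : (G.neighborFinset z ∩ cls G a b).card = 2 := by
  have h1 : ∑ p ∈ cls G a b, kap G a z p = 8 := by
    rw [Finset.sum_congr rfl (fun p hp => (hKC p hp).symm.trans hk), Finset.sum_const, hC4]
    rfl
  have h2 : ∑ p ∈ cls G a b, kap G a z p =
      ∑ p ∈ cls G a b, (if G.Adj z p then 2 else 0) + ∑ p ∈ cls G a b, m3 G a z p := by
    unfold kap
    rw [Finset.sum_add_distrib]
  have h3 : ∑ p ∈ cls G a b, (if G.Adj z p then 2 else 0) = 2 * (G.neighborFinset z ∩ cls G a b).card := by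
    rw [Finset.sum_ite, Finset.sum_const_zero, add_zero, Finset.sum_const, smul_eq_mul, mul_comm]
    congr 2
    ext p
    simp only [Finset.mem_filter, Finset.mem_inter, SimpleGraph.mem_neighborFinset]
    tauto
  rw [h2, h3, hM3] at h1
  omega

/-- two different classes are disjoint (CLSEQ as a hypothesis). -/
theorem cls_disjoint_core {a b1 b2 : V}
    (hCE : ∀ {b c : V}, Far G a b → c ∈ cls G a b → cls G a c = cls G a b)
    (h1 : Far G a b1) (h2 : Far G a b2) (h12 : b2 ∉ cls G a b1) :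
    Disjoint (cls G a b1) (cls G a b2) := by
  rw [Finset.disjoint_left]
  intro x hx1 hx2
  apply h12
  rw [← hCE h1 hx1, hCE h2 hx2]
  exact self_mem_cls a b2

/-- SYN1, with its inputs as hypotheses. -/
theorem SYN1_core {a b1 b2 b3 z : V}
    (d12 : Disjoint (cls G a b1) (cls G a b2)) (d13 : Disjoint (cls G a b1) (cls G a b3))
    (d23 : Disjoint (cls G a b2) (cls G a b3))
    (v1 : kap G a z b1 = 1 ∨ kap G a z b1 = 2) (v2 : kap G a z b2 = 1 ∨ kap G a z b2 = 2)
    (v3 : kap G a z b3 = 1 ∨ kap G a z b3 = 2)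
    (o1 : kap G a z b1 = 1 → ∀ p ∈ cls G a b1, ¬ G.Adj z p ∧ m3 G a z p = 1)
    (o2 : kap G a z b2 = 1 → ∀ p ∈ cls G a b2, ¬ G.Adj z p ∧ m3 G a z p = 1)
    (o3 : kap G a z b3 = 1 → ∀ p ∈ cls G a b3, ¬ G.Adj z p ∧ m3 G a z p = 1)
    (t1 : kap G a z b1 = 2 → (G.neighborFinset z ∩ cls G a b1).card = 2)
    (t2 : kap G a z b2 = 2 → (G.neighborFinset z ∩ cls G a b2).card = 2)
    (t3 : kap G a z b3 = 2 → (G.neighborFinset z ∩ cls G a b3).card = 2)
    (hsyn : (G.neighborFinset z ∩ (cls G a b1 ∪ cls G a b2 ∪ cls G a b3)).card = 2) :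
    (kap G a z b1 = 2 ∧ kap G a z b2 = 1 ∧ kap G a z b3 = 1) ∨
    (kap G a z b1 = 1 ∧ kap G a z b2 = 2 ∧ kap G a z b3 = 1) ∨
    (kap G a z b1 = 1 ∧ kap G a z b2 = 1 ∧ kap G a z b3 = 2) := by
  have hz : ∀ b : V, (∀ p ∈ cls G a b, ¬ G.Adj z p ∧ m3 G a z p = 1) →
      (G.neighborFinset z ∩ cls G a b).card = 0 := by
    intro b hb
    rw [Finset.card_eq_zero, Finset.eq_empty_iff_forall_notMem]
    intro p hp
    rw [Finset.mem_inter, SimpleGraph.mem_neighborFinset] at hp
    exact (hb p hp.2).1 hp.1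
  have hsplit : (G.neighborFinset z ∩ (cls G a b1 ∪ cls G a b2 ∪ cls G a b3)).card =
      (G.neighborFinset z ∩ cls G a b1).card + (G.neighborFinset z ∩ cls G a b2).card +
        (G.neighborFinset z ∩ cls G a b3).card := by
    rw [Finset.inter_union_distrib_left, Finset.inter_union_distrib_left,
      Finset.card_union_of_disjoint, Finset.card_union_of_disjoint]
    · exact Finset.disjoint_of_subset_left Finset.inter_subset_right
        (Finset.disjoint_of_subset_right Finset.inter_subset_right d12)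
    · rw [Finset.disjoint_union_left]
      exact ⟨Finset.disjoint_of_subset_left Finset.inter_subset_right
          (Finset.disjoint_of_subset_right Finset.inter_subset_right d13),
        Finset.disjoint_of_subset_left Finset.inter_subset_right
          (Finset.disjoint_of_subset_right Finset.inter_subset_right d23)⟩
  rw [hsplit] at hsyn
  rcases v1 with e1 | e1 <;> rcases v2 with e2 | e2 <;> rcases v3 with e3 | e3
  · have := hz b1 (o1 e1); have := hz b2 (o2 e2); have := hz b3 (o3 e3); omega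
  · exact Or.inr (Or.inr ⟨e1, e2, e3⟩)
  · exact Or.inr (Or.inl ⟨e1, e2, e3⟩)
  · have := hz b1 (o1 e1); have := t2 e2; have := t3 e3; omega
  · exact Or.inl ⟨e1, e2, e3⟩
  · have := t1 e1; have := hz b2 (o2 e2); have := t3 e3; omega
  · have := t1 e1; have := t2 e2; have := hz b3 (o3 e3); omega
  · have := t1 e1; have := t2 e2; have := t3 e3; omega

end Cfsg.Agent.S0429P
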