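import Mathlib
import Cfsg.Agent.Helper27.S0429Defs

/-!
# S0429 board, piece CNT0 (helper10): 47 vertices are far from both `a` and `b`.
-/

set_option autoImplicit false

namespace Cfsg.Agent.S0429P

open Finset

variable {V : Type*} [Fintype V] [DecidableEq V] {G : SimpleGraph V} [DecidableRel G.Adj]

/-- CNT0 (S/M): 47 vertices are far from both `a` and `b`. -/
theorem CNT0 (h : G.IsSRGWith 77 16 0 4) {a b : V} (hab : Far G a b) :
    (Finset.univ.filter (fun c => Far G a c ∧ Far G b c)).card = 47 := by
  obtain ⟨hne, hnadj⟩ := hab
  have hU : (G.neighborFinset a ∪ G.neighborFinset b).card = 28 := by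
    have h1 := Finset.card_union_add_card_inter (G.neighborFinset a) (G.neighborFinset b)
    have h4 : (G.neighborFinset a ∩ G.neighborFinset b).card = 4 := card_cn h (Ne.symm hne) hnadj
    rw [card_nb h, card_nb h, h4] at h1
    omega
  have hset : Finset.univ.filter (fun c => Far G a c ∧ Far G b c) =
      Finset.univ \ (insert a (insert b (G.neighborFinset a ∪ G.neighborFinset b))) := by
    ext c
    rw [Finset.mem_filter]
    simp only [Far, Finset.mem_univ, true_and, Finset.mem_sdiff, Finset.mem_insert,
      Finset.mem_union, SimpleGraph.mem_neighborFinset]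
    tauto
  have hb : b ∉ G.neighborFinset a ∪ G.neighborFinset b := by
    simp only [Finset.mem_union, SimpleGraph.mem_neighborFinset, not_or]
    exact ⟨hnadj, G.loopless.irrefl b⟩
  have ha : a ∉ insert b (G.neighborFinset a ∪ G.neighborFinset b) := by
    simp only [Finset.mem_insert, Finset.mem_union, SimpleGraph.mem_neighborFinset, not_or]
    exact ⟨Ne.symm hne, G.loopless.irrefl a, fun h' => hnadj h'.symm⟩
  rw [hset, Finset.card_sdiff_of_subset (Finset.subset_univ _), card_univ_eq h,
    Finset.card_insert_of_notMem ha, Finset.card_insert_of_notMem hb, hU]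

end Cfsg.Agent.S0429P
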