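import Mathlib

/-! S4504 piece M-REDAC: the residue field of a valuation subring of `ℂ` is algebraically closed. -/

set_option autoImplicit false

namespace Cfsg.Agent.S4504P

open Polynomial

-- M-REDAC
theorem isAlgClosed_residueField (A : ValuationSubring ℂ) :
    IsAlgClosed (IsLocalRing.ResidueField A) := by
  apply IsAlgClosed.of_exists_root
  intro q hqm hqi
  have hsurj : Function.Surjective (IsLocalRing.residue A) := IsLocalRing.residue_surjective
  obtain ⟨Q, hQmap, hQdeg, hQm⟩ := Polynomial.lifts_and_degree_eq_and_monic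
    ((Polynomial.mem_lifts q).mpr (Polynomial.map_surjective _ hsurj q)) hqm
  have hqdeg : q.degree ≠ 0 := Polynomial.degree_pos_of_irreducible hqi |>.ne'
  have hdeg : (Q.map (algebraMap A ℂ)).degree ≠ 0 := by
    rw [hQm.degree_map, hQdeg]
    exact hqdeg
  obtain ⟨z, hz⟩ := IsAlgClosed.exists_root (Q.map (algebraMap A ℂ)) hdeg
  have hzint : IsIntegral A z := by
    refine ⟨Q, hQm, ?_⟩
    rw [← Polynomial.eval_map]
    exact hz
  obtain ⟨y, rfl⟩ := IsIntegrallyClosed.isIntegral_iff.mp hzint
  refine ⟨IsLocalRing.residue A y, ?_⟩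
  have hy : Q.eval y = 0 := by
    have hinj : Function.Injective (algebraMap A ℂ) := Subtype.val_injective
    apply hinj
    rw [map_zero, ← Polynomial.eval_map_apply]
    exact hz
  rw [← hQmap, Polynomial.eval_map_apply, hy, map_zero]

end Cfsg.Agent.S4504P
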