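import Mathlib

/-! S4504 piece M-REDLAT: a finite group of complex matrices is conjugate to a group of matrices with
entries in a given valuation subring of `ℂ`. -/

set_option autoImplicit false

namespace Cfsg.Agent.S4504P

open Module

-- M-REDLAT
theorem exists_integral_basis (A : ValuationSubring ℂ) {G : Type*} [Group G] [Finite G] (n : ℕ)
    (ρ : Representation ℂ G (Fin n → ℂ)) :
    ∃ b : Basis (Fin n) ℂ (Fin n → ℂ), ∀ (g : G) (i j : Fin n),
      LinearMap.toMatrix b b (ρ g) i j ∈ A := by
  classical
  -- the lattice spanned by the translates of the standard basis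
  let gen : G × Fin n → (Fin n → ℂ) := fun q => ρ q.1 (Pi.single q.2 1)
  let L : Submodule A (Fin n → ℂ) := Submodule.span A (Set.range gen)
  have hfg : L.FG := Submodule.fg_span (Set.finite_range gen)
  have hfin : Module.Finite A L := Module.Finite.iff_fg.mpr hfg
  -- `L` is stable under the group
  have hstab : ∀ (g : G) (x : Fin n → ℂ), x ∈ L → ρ g x ∈ L := by
    intro g x hx
    induction hx using Submodule.span_induction with
    | mem x hx =>
      obtain ⟨q, rfl⟩ := hx
      apply Submodule.subset_span
      refine ⟨(g * q.1, q.2), ?_⟩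
      simp only [gen, map_mul, Module.End.mul_apply]
    | zero => rw [map_zero]; exact L.zero_mem
    | add x y _ _ hx hy => rw [map_add]; exact L.add_mem hx hy
    | smul a x _ hx =>
      have : ρ g (a • x) = a • ρ g x := by
        rw [← algebraMap_smul ℂ a x, map_smul, algebraMap_smul]
      rw [this]
      exact L.smul_mem a hx
  -- the standard basis vectors lie in `L`
  have hstd : ∀ j : Fin n, (Pi.single j (1 : ℂ) : Fin n → ℂ) ∈ L := by
    intro j
    apply Submodule.subset_span
    refine ⟨(1, j), ?_⟩
    simp only [gen, map_one, Module.End.one_apply]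
  -- torsion-free, hence flat, hence free
  have htors : Submodule.torsion A L = ⊥ := by
    rw [eq_bot_iff]
    rintro x ⟨⟨a, ha⟩, h⟩
    rw [Submodule.mem_bot]
    have ha0 : a ≠ 0 := nonZeroDivisors.ne_zero ha
    have h' : (a : ℂ) • (x : Fin n → ℂ) = 0 := by
      have := congrArg Subtype.val h
      simpa using this
    have ha0' : (a : ℂ) ≠ 0 := fun h0 => ha0 (Subtype.ext h0)
    apply Subtype.ext
    rcases smul_eq_zero.mp h' with h1 | h1
    · exact absurd h1 ha0'
    · exact h1
  have hflat : Module.Flat A L := Module.Flat.flat_iff_torsion_eq_bot_of_isBezout.mpr htors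
  have hfree : Module.Free A L := Module.free_of_flat_of_isLocalRing
  let bL := Module.Free.chooseBasis A L
  let ι := Module.Free.ChooseBasisIndex A L
  have hιfin : Fintype ι := inferInstance
  let u : ι → (Fin n → ℂ) := fun i => ((bL i : L) : Fin n → ℂ)
  -- linear independence over `ℂ`
  have hliA : LinearIndependent A u := by
    have := bL.linearIndependent.map' L.subtype (Submodule.ker_subtype L)
    exact this
  have hli : LinearIndependent ℂ u := (LinearIndependent.iff_fractionRing A ℂ).mp hliA
  -- spanning
  have hLspan : (L : Set (Fin n → ℂ)) ⊆ Submodule.span ℂ (Set.range u) := by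
    intro x hx
    have hx' : (⟨x, hx⟩ : L) ∈ Submodule.span A (Set.range bL) := by
      rw [bL.span_eq]; trivial
    have h2 : x ∈ Submodule.map L.subtype (Submodule.span A (Set.range bL)) :=
      ⟨⟨x, hx⟩, hx', rfl⟩
    rw [Submodule.map_span, ← Set.range_comp] at h2
    exact Submodule.span_subset_span A ℂ _ h2
  have hsp : ⊤ ≤ Submodule.span ℂ (Set.range u) := by
    rw [← (Pi.basisFun ℂ (Fin n)).span_eq, Submodule.span_le]
    rintro _ ⟨j, rfl⟩
    apply hLspan
    rw [Pi.basisFun_apply]
    exact hstd j
  let b0 : Basis ι ℂ (Fin n → ℂ) := Basis.mk hli hsp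
  have hb0 : ∀ i, b0 i = u i := fun i => Basis.mk_apply hli hsp i
  -- coordinates of elements of `L`
  have hrepr : ∀ (x : Fin n → ℂ) (hx : x ∈ L) (i : ι),
      b0.repr x i = algebraMap A ℂ (bL.repr ⟨x, hx⟩ i) := by
    intro x hx i
    have h1 : x = ∑ i, (algebraMap A ℂ (bL.repr ⟨x, hx⟩ i)) • b0 i := by
      have h := congrArg Subtype.val (bL.sum_repr ⟨x, hx⟩)
      simp only [Submodule.coe_sum, Submodule.coe_smul] at h
      refine h.symm.trans ?_
      refine Finset.sum_congr rfl fun i _ => ?_
      rw [hb0, algebraMap_smul]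
    conv_lhs => rw [h1]
    rw [Basis.repr_sum_self]
  -- reindex
  have hcard : Fintype.card ι = n := by
    rw [← Module.finrank_eq_card_basis b0, Module.finrank_fin_fun]
  let e : ι ≃ Fin n := Fintype.equivFinOfCardEq hcard
  refine ⟨b0.reindex e, ?_⟩
  intro g i j
  rw [LinearMap.toMatrix_apply, Basis.repr_reindex_apply, Basis.reindex_apply, hb0]
  have hmem : ρ g (u (e.symm j)) ∈ L := hstab g _ (bL (e.symm j)).2
  rw [hrepr _ hmem]
  exact (bL.repr ⟨_, hmem⟩ (e.symm i)).2

end Cfsg.Agent.S4504P
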