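import Mathlib
import Cfsg.Agent.Helper14.S2481.Defs
import Cfsg.Agent.Helper14.S2481.DefsM

/-!
# S2481 (driver helper14): piece FORMHYP — the hyperbolic Hermitian form
-/

set_option autoImplicit false
set_option linter.unusedVariables false

namespace Cfsg.Agent.S2481P

open Polynomial

universe u

namespace FORMHYP

variable {F : Type u} [Field F]

/-- the ideals of `F[X]/(ρ^m)` form a chain (own copy of the piece UNISER) -/
theorem uniserial' {ρ : F[X]} (hρ : Irreducible ρ) {m : ℕ} (hm : 1 ≤ m) :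
    AdjoinRoot.mk (ρ ^ m) (ρ ^ (m - 1)) ≠ 0 ∧
      ∀ a : AdjoinRoot (ρ ^ m), a ≠ 0 → ∃ b, a * b = AdjoinRoot.mk (ρ ^ m) (ρ ^ (m - 1)) := by
  constructor
  · rw [Ne, AdjoinRoot.mk_eq_zero]
    intro h
    have h1 : ρ ^ (m - 1) * ρ ∣ ρ ^ (m - 1) * 1 := by
      rw [← pow_succ, mul_one]
      have : m - 1 + 1 = m := by omega
      rw [this]
      exact h
    have := (mul_dvd_mul_iff_left (pow_ne_zero _ hρ.ne_zero)).1 h1
    exact hρ.not_isUnit (isUnit_of_dvd_one this)
  · intro a ha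
    obtain ⟨g, rfl⟩ := AdjoinRoot.mk_surjective a
    rw [Ne, AdjoinRoot.mk_eq_zero] at ha
    have hg0 : g ≠ 0 := by
      rintro rfl
      exact ha (dvd_zero _)
    have hfin : FiniteMultiplicity ρ g := FiniteMultiplicity.of_not_isUnit hρ.not_isUnit hg0
    obtain ⟨g', hg', hndvd⟩ := hfin.exists_eq_pow_mul_and_not_dvd
    obtain ⟨j, hj'⟩ : ∃ j : ℕ, j = multiplicity ρ g := ⟨_, rfl⟩
    rw [← hj'] at hg'
    have hj : j < m := by
      by_contra hjm
      push Not at hjm
      apply ha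
      rw [hg']
      exact dvd_mul_of_dvd_left (pow_dvd_pow ρ hjm) _
    have hcop : IsCoprime g' (ρ ^ m) := by
      apply IsCoprime.pow_right
      exact ((hρ.coprime_iff_not_dvd).2 hndvd).symm
    obtain ⟨u, v, huv⟩ := hcop
    refine ⟨AdjoinRoot.mk _ (u * ρ ^ (m - 1 - j)), ?_⟩
    rw [← map_mul, ← sub_eq_zero, ← map_sub, AdjoinRoot.mk_eq_zero]
    refine ⟨-(ρ ^ (m - 1) * v), ?_⟩
    have hpow : ρ ^ (m - 1) = ρ ^ j * ρ ^ (m - 1 - j) := by
      rw [← pow_add]
      congr 1
      omega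
    rw [hg']
    linear_combination (ρ ^ j * ρ ^ (m - 1 - j)) * huv + (ρ ^ m * v - 1) * hpow

/-- a functional which does not vanish on the socle generator -/
theorem exists_functional {ρ : F[X]} (hρ : Irreducible ρ) {m : ℕ} (hm : 1 ≤ m) :
    ∃ ℓ : AdjoinRoot (ρ ^ m) →ₗ[F] F, ∀ a : AdjoinRoot (ρ ^ m), (∀ b, ℓ (a * b) = 0) → a = 0 := by
  obtain ⟨hs, hu⟩ := uniserial' hρ hm
  obtain ⟨ℓ, hℓ⟩ := Module.Projective.exists_dual_ne_zero F hs
  refine ⟨ℓ, ?_⟩
  intro a ha
  by_contra hne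
  obtain ⟨b, hb⟩ := hu a hne
  apply hℓ
  rw [← hb]
  exact ha b

/-- `S` is `σ`-semilinear -/
theorem S_smul {σ : F →+* F} {f f' : F[X]} (S : AdjoinRoot f' →+* AdjoinRoot f)
    (hS1 : ∀ c : F, S (AdjoinRoot.of f' c) = AdjoinRoot.of f (σ c)) (c : F) (a : AdjoinRoot f') :
    S (c • a) = σ c • S a := by
  rw [Algebra.smul_def, Algebra.smul_def, map_mul, AdjoinRoot.algebraMap_eq,
    AdjoinRoot.algebraMap_eq, hS1]

end FORMHYP

open FORMHYP in
theorem exists_form_hyp {F : Type u} [Field F] {σ : F →+* F}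
    (hσ : IsInvol σ) {ρ ρ' : F[X]} (hρ : Irreducible ρ) {m : ℕ} (hm : 1 ≤ m)
    (S : AdjoinRoot (ρ' ^ m) →+* AdjoinRoot (ρ ^ m))
    (hS1 : ∀ c : F, S (AdjoinRoot.of (ρ' ^ m) c) = AdjoinRoot.of (ρ ^ m) (σ c))
    (hSb : Function.Bijective S) :
    ∃ B : (AdjoinRoot (ρ ^ m) × AdjoinRoot (ρ' ^ m)) →ₛₗ[σ]
        (AdjoinRoot (ρ ^ m) × AdjoinRoot (ρ' ^ m)) →ₗ[F] F, B.IsSymm ∧ B.Nondegenerate ∧
      ∀ (y : AdjoinRoot (ρ ^ m)) (y' : AdjoinRoot (ρ' ^ m)), S y' * y = 1 →
        ∀ v w : AdjoinRoot (ρ ^ m) × AdjoinRoot (ρ' ^ m),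
          B (y * v.1, y' * v.2) (y * w.1, y' * w.2) = B v w := by
  obtain ⟨ℓ, hℓ⟩ := exists_functional hρ hm
  have hsm := S_smul S hS1
  let B : (AdjoinRoot (ρ ^ m) × AdjoinRoot (ρ' ^ m)) →ₛₗ[σ]
        (AdjoinRoot (ρ ^ m) × AdjoinRoot (ρ' ^ m)) →ₗ[F] F :=
    LinearMap.mk₂'ₛₗ σ (RingHom.id F)
      (fun v w => ℓ (S v.2 * w.1) + σ (ℓ (S w.2 * v.1)))
      (by
        intro v₁ v₂ w
        simp only [Prod.fst_add, Prod.snd_add, map_add, add_mul, mul_add]
        ring)
      (by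
        intro c v w
        simp only [Prod.smul_fst, Prod.smul_snd, hsm, smul_mul_assoc, mul_smul_comm, map_smul,
          smul_eq_mul, map_mul]
        ring)
      (by
        intro v w₁ w₂
        simp only [Prod.fst_add, Prod.snd_add, map_add, add_mul, mul_add]
        ring)
      (by
        intro c v w
        simp only [Prod.smul_fst, Prod.smul_snd, hsm, smul_mul_assoc, mul_smul_comm, map_smul,
          smul_eq_mul, map_mul, hσ.sq, RingHom.id_apply]
        ring)
  have hB : ∀ v w, B v w = ℓ (S v.2 * w.1) + σ (ℓ (S w.2 * v.1)) := fun v w => rfl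
  refine ⟨B, ⟨?_⟩, ⟨?_, ?_⟩, ?_⟩
  · intro v w
    rw [hB, hB, map_add, hσ.sq, add_comm]
  · -- separating left
    intro v hv
    have h1 : v.2 = 0 := by
      have : S v.2 = 0 := by
        apply hℓ
        intro b
        have := hv (b, 0)
        rw [hB] at this
        simpa using this
      exact hSb.1 (by rw [this, map_zero])
    have h2 : v.1 = 0 := by
      apply hℓ
      intro b
      obtain ⟨b', rfl⟩ := hSb.2 b
      have := hv (0, b')
      rw [hB] at this
      simp only [mul_zero, map_zero, zero_add] at this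
      have h3 := congrArg σ this
      rw [hσ.sq, map_zero] at h3
      rw [mul_comm]
      exact h3
    exact Prod.ext h2 h1
  · -- separating right
    intro w hw
    have h1 : w.2 = 0 := by
      have : S w.2 = 0 := by
        apply hℓ
        intro b
        have := hw (b, 0)
        rw [hB] at this
        simp only [map_zero, zero_mul, zero_add] at this
        have h3 := congrArg σ this
        rw [hσ.sq, map_zero] at h3
        exact h3
      exact hSb.1 (by rw [this, map_zero])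
    have h2 : w.1 = 0 := by
      apply hℓ
      intro b
      obtain ⟨b', rfl⟩ := hSb.2 b
      have := hw (0, b')
      rw [hB] at this
      simp only [mul_zero, map_zero, add_zero] at this
      rw [mul_comm]
      exact this
    exact Prod.ext h2 h1
  · intro y y' hy v w
    rw [hB, hB]
    have e1 : S (y' * v.2) * (y * w.1) = S v.2 * w.1 := by
      rw [map_mul]
      calc S y' * S v.2 * (y * w.1) = (S y' * y) * (S v.2 * w.1) := by ring
        _ = S v.2 * w.1 := by rw [hy, one_mul]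
    have e2 : S (y' * w.2) * (y * v.1) = S w.2 * v.1 := by
      rw [map_mul]
      calc S y' * S w.2 * (y * v.1) = (S y' * y) * (S w.2 * v.1) := by ring
        _ = S w.2 * v.1 := by rw [hy, one_mul]
    simp only [e1, e2]

end Cfsg.Agent.S2481P
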