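import Mathlib
import Cfsg.Agent.Helper14.S2481.Defs
import Cfsg.Agent.Helper14.S2481.DefsM
import Cfsg.Agent.Helper10.S2481FORMHYP

/-!
# S2481 (driver helper14): piece FORMSD — the Hermitian form on a self dual block
-/

set_option autoImplicit false
set_option linter.unusedVariables false

namespace Cfsg.Agent.S2481P

open Polynomial

universe u

namespace FORMSD

variable {F : Type u} [Field F]

/-- `S` is an involution -/
theorem S_invol {σ : F →+* F} (hσ : IsInvol σ) {f : F[X]} (S : AdjoinRoot f →+* AdjoinRoot f)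
    (hS1 : ∀ c : F, S (AdjoinRoot.of f c) = AdjoinRoot.of f (σ c))
    (hS2 : S (AdjoinRoot.root f) * AdjoinRoot.root f = 1) (a : AdjoinRoot f) : S (S a) = a := by
  have hroot : S (S (AdjoinRoot.root f)) = AdjoinRoot.root f := by
    have h1 : S (S (AdjoinRoot.root f)) * S (AdjoinRoot.root f) = 1 := by
      rw [← map_mul, hS2, map_one]
    calc S (S (AdjoinRoot.root f))
        = S (S (AdjoinRoot.root f)) * (S (AdjoinRoot.root f) * AdjoinRoot.root f) := by
          rw [hS2, mul_one]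
      _ = (S (S (AdjoinRoot.root f)) * S (AdjoinRoot.root f)) * AdjoinRoot.root f := by ring
      _ = AdjoinRoot.root f := by rw [h1, one_mul]
  have key : (S.comp S).comp (AdjoinRoot.mk f) = (RingHom.id _).comp (AdjoinRoot.mk f) := by
    apply Polynomial.ringHom_ext
    · intro c
      simp only [RingHom.comp_apply, RingHom.id_apply]
      rw [AdjoinRoot.mk_C, hS1, hS1, hσ.sq]
    · simp only [RingHom.comp_apply, RingHom.id_apply]
      rw [AdjoinRoot.mk_X, hroot]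
  obtain ⟨p, rfl⟩ := AdjoinRoot.mk_surjective a
  have := congrArg (fun φ => φ p) key
  simpa using this

end FORMSD

open FORMHYP FORMSD in
theorem exists_form_sd {F : Type u} [Field F] {σ : F →+* F}
    (hσ : IsInvol σ) {ρ : F[X]} (hρ : Irreducible ρ) {m : ℕ} (hm : 1 ≤ m)
    (S : AdjoinRoot (ρ ^ m) →+* AdjoinRoot (ρ ^ m))
    (hS1 : ∀ c : F, S (AdjoinRoot.of (ρ ^ m) c) = AdjoinRoot.of (ρ ^ m) (σ c))
    (hS2 : S (AdjoinRoot.root (ρ ^ m)) * AdjoinRoot.root (ρ ^ m) = 1) :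
    ∃ B : AdjoinRoot (ρ ^ m) →ₛₗ[σ] AdjoinRoot (ρ ^ m) →ₗ[F] F, B.IsSymm ∧ B.Nondegenerate ∧
      ∀ y : AdjoinRoot (ρ ^ m), S y * y = 1 → ∀ a b, B (y * a) (y * b) = B a b := by
  have hSS := S_invol hσ S hS1 hS2
  have hsm := S_smul S hS1
  have hSsurj : Function.Surjective S := fun a => ⟨S a, hSS a⟩
  have hSinj : Function.Injective S := by
    intro a b hab
    rw [← hSS a, ← hSS b, hab]
  obtain ⟨hs, hu⟩ := uniserial' hρ hm
  obtain ⟨ℓ₀, hℓ₀⟩ := Module.Projective.exists_dual_ne_zero F hs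
  -- the Hermitian functionals
  have hlam : ∀ lam : F, ∃ ℓ : AdjoinRoot (ρ ^ m) →ₗ[F] F,
      (∀ x, ℓ x = lam * ℓ₀ x + σ (lam * ℓ₀ (S x))) := by
    intro lam
    refine ⟨{ toFun := fun x => lam * ℓ₀ x + σ (lam * ℓ₀ (S x))
              map_add' := ?_
              map_smul' := ?_ }, fun x => rfl⟩
    · intro x y
      simp only [map_add, mul_add]
      ring
    · intro c x
      simp only [hsm, map_smul, smul_eq_mul, map_mul, hσ.sq, RingHom.id_apply]
      ring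
  -- one of them does not vanish on the socle generator
  obtain ⟨ℓ, hℓS, hℓs⟩ : ∃ ℓ : AdjoinRoot (ρ ^ m) →ₗ[F] F,
      (∀ x, ℓ (S x) = σ (ℓ x)) ∧ ℓ (AdjoinRoot.mk (ρ ^ m) (ρ ^ (m - 1))) ≠ 0 := by
    obtain ⟨θ, hθ⟩ : ∃ θ : F, σ θ ≠ θ := by
      by_contra hall
      push Not at hall
      exact hσ.ne (RingHom.ext hall)
    obtain ⟨ℓ1, h1⟩ := hlam 1
    obtain ⟨ℓθ, h2⟩ := hlam θ
    have hherm : ∀ (lam : F) (ℓ' : AdjoinRoot (ρ ^ m) →ₗ[F] F),
        (∀ x, ℓ' x = lam * ℓ₀ x + σ (lam * ℓ₀ (S x))) → ∀ x, ℓ' (S x) = σ (ℓ' x) := by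
      intro lam ℓ' h x
      rw [h, h, hSS, map_add, hσ.sq, add_comm]
    by_cases hc1 : ℓ1 (AdjoinRoot.mk (ρ ^ m) (ρ ^ (m - 1))) ≠ 0
    · exact ⟨ℓ1, hherm 1 ℓ1 h1, hc1⟩
    · refine ⟨ℓθ, hherm θ ℓθ h2, ?_⟩
      push Not at hc1
      intro hc2
      rw [h1] at hc1
      rw [h2] at hc2
      obtain ⟨u, hu'⟩ : ∃ u : F, u = ℓ₀ (AdjoinRoot.mk (ρ ^ m) (ρ ^ (m - 1))) := ⟨_, rfl⟩
      obtain ⟨w, hw'⟩ : ∃ w : F, w = σ (ℓ₀ (S (AdjoinRoot.mk (ρ ^ m) (ρ ^ (m - 1))))) := ⟨_, rfl⟩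
      rw [map_mul, ← hu', ← hw'] at hc1 hc2
      rw [map_one, one_mul, one_mul] at hc1
      have hw : w = -u := by linear_combination hc1
      rw [hw] at hc2
      have h3 : (θ - σ θ) * u = 0 := by linear_combination hc2
      rcases mul_eq_zero.1 h3 with h4 | h4
      · exact hθ (sub_eq_zero.1 h4).symm
      · exact hℓ₀ (hu' ▸ h4)
  have hℓ : ∀ a : AdjoinRoot (ρ ^ m), (∀ b, ℓ (a * b) = 0) → a = 0 := by
    intro a ha
    by_contra hne
    obtain ⟨b, hb⟩ := hu a hne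
    apply hℓs
    rw [← hb]
    exact ha b
  let B : AdjoinRoot (ρ ^ m) →ₛₗ[σ] AdjoinRoot (ρ ^ m) →ₗ[F] F :=
    LinearMap.mk₂'ₛₗ σ (RingHom.id F)
      (fun a b => ℓ (S a * b))
      (by
        intro a₁ a₂ b
        simp only [map_add, add_mul])
      (by
        intro c a b
        simp only [hsm, smul_mul_assoc, map_smul])
      (by
        intro a b₁ b₂
        simp only [map_add, mul_add])
      (by
        intro c a b
        simp only [mul_smul_comm, map_smul, RingHom.id_apply])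
  have hB : ∀ a b, B a b = ℓ (S a * b) := fun a b => rfl
  refine ⟨B, ⟨?_⟩, ⟨?_, ?_⟩, ?_⟩
  · intro a b
    rw [hB, hB, ← hℓS, map_mul S, hSS, mul_comm]
  · intro a ha
    have : S a = 0 := by
      apply hℓ
      intro b
      exact ha b
    exact hSinj (by rw [this, map_zero])
  · intro b hb
    apply hℓ
    intro c
    obtain ⟨a, rfl⟩ := hSsurj c
    rw [mul_comm]
    exact hb a
  · intro y hy a b
    rw [hB, hB, map_mul S]
    congr 1
    calc S y * S a * (y * b) = (S y * y) * (S a * b) := by ring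
      _ = S a * b := by rw [hy, one_mul]

end Cfsg.Agent.S2481P
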