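import Mathlib
import Cfsg.Agent.Helper12.S2999Basic

/-!
# S2999 piece V1EQ, core form (helper10): OPP and QUADg enter as hypotheses.
-/

set_option autoImplicit false

namespace Cfsg.Agent.S2999P

open Cfsg.Agent.S2789P
open scoped commutatorElement

variable {G : Type*} [Group G]

/-- if every element of `K` conjugates `W` into `W`, then `K` normalises `W`. -/
theorem V1EQ_aux_norm {K W : Subgroup G} (h : ∀ k ∈ K, cjs k W ≤ W) :
    K ≤ Subgroup.normalizer ((W : Subgroup G) : Set G) := by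
  intro k hk
  rw [Subgroup.mem_normalizer_iff]
  intro x
  constructor
  · intro hx
    exact h k hk (cj_mem_conj.mpr hx)
  · intro hx
    have h1 : k⁻¹ * (k * x * k⁻¹) * k⁻¹⁻¹ ∈ cjs k⁻¹ W := cj_mem_conj.mpr hx
    have h2 := h k⁻¹ (K.inv_mem hk) h1
    have e : k⁻¹ * (k * x * k⁻¹) * k⁻¹⁻¹ = x := by group
    rwa [e] at h2

/-- one half of the invariance: `B` normalises `C_V(B) ⊔ C_V(C)` when `[V,B] ≤ C_V(B)`. -/
theorem V1EQ_aux_half {V P B C : Subgroup G} (hPV : P ≤ Subgroup.normalizer (V : Set G)) (hBP : B ≤ P)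
    (hq : ⁅V, B⁆ ≤ fixV V B) : ∀ b ∈ B, cjs b (fixV V B ⊔ fixV V C) ≤ fixV V B ⊔ fixV V C := by
  intro b hb
  rw [cj_sup]
  apply sup_le
  · have h1 : cjs b (fixV V B) = fixV V (cjs b B) := (cj_fix B (hPV (hBP hb))).symm
    rw [h1, cj_self hb]
    exact le_sup_left
  · intro x hx
    rw [cj_mem] at hx
    set u := b⁻¹ * x * b with hu
    have huV : u ∈ V := (fix_le V C) hx
    have hxe : x = (b * u * b⁻¹ * u⁻¹) * u := by
      rw [hu]; group
    have hcomm : b * u * b⁻¹ * u⁻¹ ∈ fixV V B := by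
      apply hq
      rw [Subgroup.commutator_comm]
      have := Subgroup.commutator_mem_commutator hb huV
      rwa [commutatorElement_def] at this
    rw [hxe]
    exact Subgroup.mul_mem _ (Subgroup.mem_sup_left hcomm) (Subgroup.mem_sup_right hx)

/-- V1EQ with OPP (first half) and QUADg as hypotheses. -/
theorem V1EQ_aux_core {V P A : Subgroup G} (hPV : P ≤ Subgroup.normalizer (V : Set G)) {g h : G}
    (hg : g ∈ P) (hh : h ∈ P) (hAP : A ≤ P)
    (hopp : cjs g A ⊔ cjs h A = P)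
    (hqg : ⁅V, cjs g A⁆ ≤ fixV V (cjs g A)) (hqh : ⁅V, cjs h A⁆ ≤ fixV V (cjs h A)) :
    fixV V (cjs g A) ⊔ fixV V (cjs h A) = V1 V P A := by
  have hBP : cjs g A ≤ P := cj_le_of_mem hg hAP
  have hCP : cjs h A ≤ P := cj_le_of_mem hh hAP
  set W := fixV V (cjs g A) ⊔ fixV V (cjs h A) with hW
  have hB : cjs g A ≤ Subgroup.normalizer ((W : Subgroup G) : Set G) :=
    V1EQ_aux_norm (V1EQ_aux_half hPV hBP hqg)
  have hC : cjs h A ≤ Subgroup.normalizer ((W : Subgroup G) : Set G) := by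
    apply V1EQ_aux_norm
    intro c hc
    have := V1EQ_aux_half (C := cjs g A) hPV hCP hqh c hc
    rw [sup_comm] at this
    exact this
  have hPW : P ≤ Subgroup.normalizer ((W : Subgroup G) : Set G) := by
    rw [← hopp]
    exact sup_le hB hC
  apply le_antisymm
  · exact sup_le (fix_le_V1 hg) (fix_le_V1 hh)
  · unfold V1
    refine iSup_le fun k => ?_
    have hkg : (k : G) * g⁻¹ ∈ P := P.mul_mem k.2 (P.inv_mem hg)
    have h1 : cjs ((k : G) * g⁻¹) (cjs g A) = cjs (k : G) A := by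
      rw [cj_mul, inv_mul_cancel_right]
    have h2 : fixV V (cjs (k : G) A) = cjs ((k : G) * g⁻¹) (fixV V (cjs g A)) := by
      rw [← h1]
      exact cj_fix (cjs g A) (hPV hkg)
    rw [h2]
    calc cjs ((k : G) * g⁻¹) (fixV V (cjs g A)) ≤ cjs ((k : G) * g⁻¹) W := cj_mono le_sup_left
      _ = W := cj_norm (hPW hkg)

end Cfsg.Agent.S2999P
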