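import Mathlib
import Cfsg.Prelude.Def_ConjugacyFunctors

set_option autoImplicit false

namespace Cfsg.Agent.Helper10

open Cfsg

variable {P : Type*} [Group P]

theorem kLowerStarFamily_anti {Q Q' : Subgroup P} (h : Q ≤ Q') :
    kLowerStarFamily Q' ⊆ kLowerStarFamily Q := by
  intro B hB
  refine ⟨hB.1, le_trans h hB.2.1, ?_⟩
  intro A hA hAQ hBA h1 h2
  exact hB.2.2 A hA (le_trans hAQ h) hBA h1 h2

theorem kUpperStarFamily_anti {Q Q' : Subgroup P} (h : Q ≤ Q') :
    kUpperStarFamily Q' ⊆ kUpperStarFamily Q := by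
  intro B hB
  refine ⟨hB.1, le_trans (Subgroup.commutator_mono le_rfl h) hB.2⟩

/-- `L Q = ⟨lower-star family of Q⟩`. -/
def kL (Q : Subgroup P) : Subgroup P := sSup (kLowerStarFamily Q)
/-- `U Q = ⟨upper-star family of Q⟩`. -/
def kU (Q : Subgroup P) : Subgroup P := sSup (kUpperStarFamily Q)

theorem kL_anti {Q Q' : Subgroup P} (h : Q ≤ Q') : kL Q' ≤ kL Q :=
  sSup_le_sSup (kLowerStarFamily_anti h)

theorem kU_anti {Q Q' : Subgroup P} (h : Q ≤ Q') : kU Q' ≤ kU Q :=
  sSup_le_sSup (kUpperStarFamily_anti h)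

theorem kSeqOdd_succ (n : ℕ) : kSeqOdd P (n + 1) = kU (kL (kSeqOdd P n)) := rfl

theorem kSeqEven_eq (n : ℕ) : kSeqEven P n = kL (kSeqOdd P n) := rfl

theorem kSeqOdd_succ' (n : ℕ) : kSeqOdd P (n + 1) = kU (kSeqEven P n) := rfl

theorem kSeqOdd_succ_le (n : ℕ) : kSeqOdd P (n + 1) ≤ kSeqOdd P n := by
  induction n with
  | zero => exact le_top
  | succ n ih =>
    rw [kSeqOdd_succ (n + 1), kSeqOdd_succ n]
    exact kU_anti (kL_anti ih)

theorem kSeqOdd_antitone : Antitone (kSeqOdd P) := antitone_nat_of_succ_le kSeqOdd_succ_le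

theorem kSeqEven_le_succ (n : ℕ) : kSeqEven P n ≤ kSeqEven P (n + 1) := by
  rw [kSeqEven_eq, kSeqEven_eq]
  exact kL_anti (kSeqOdd_succ_le n)

theorem kSeqEven_monotone : Monotone (kSeqEven P) := monotone_nat_of_le_succ kSeqEven_le_succ


theorem kSeqEven_stabilizes [Finite P] : ∃ n, ∀ m, n ≤ m → kSeqEven P n = kSeqEven P m :=
  WellFoundedGT.monotone_chain_condition ⟨kSeqEven P, kSeqEven_monotone⟩

theorem kSeqOdd_stabilizes [Finite P] : ∃ n, ∀ m, n ≤ m → kSeqOdd P n = kSeqOdd P m :=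
  WellFoundedLT.antitone_chain_condition kSeqOdd_antitone

end Cfsg.Agent.Helper10

namespace Cfsg.Agent.Helper10

universe u

variable {P : Type u} [Group P]

theorem kInfLower_eq_of_stable {n : ℕ} (h : ∀ m, n ≤ m → kSeqEven P n = kSeqEven P m) :
    kInfLower P = kSeqEven P n := by
  apply le_antisymm
  · apply iSup_le
    intro m
    rcases le_total n m with hnm | hmn
    · rw [← h m hnm]
    · exact kSeqEven_monotone hmn
  · exact le_iSup (kSeqEven P) n

theorem kInfUpper_eq_of_stable {n : ℕ} (h : ∀ m, n ≤ m → kSeqOdd P n = kSeqOdd P m) :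
    kInfUpper P = kSeqOdd P n := by
  apply le_antisymm
  · exact iInf_le (kSeqOdd P) n
  · apply le_iInf
    intro m
    rcases le_total n m with hnm | hmn
    · rw [← h m hnm]
    · exact kSeqOdd_antitone hmn

theorem kSeq_eventually [Finite P] :
    ∃ n : ℕ, ∀ m : ℕ, n ≤ m → kSeqEven P m = kInfLower P ∧ kSeqOdd P m = kInfUpper P := by
  obtain ⟨n1, h1⟩ := kSeqEven_stabilizes (P := P)
  obtain ⟨n2, h2⟩ := kSeqOdd_stabilizes (P := P)
  refine ⟨max n1 n2, fun m hm => ⟨?_, ?_⟩⟩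
  · rw [kInfLower_eq_of_stable h1]; exact (h1 m (le_trans (le_max_left _ _) hm)).symm
  · rw [kInfUpper_eq_of_stable h2]; exact (h2 m (le_trans (le_max_right _ _) hm)).symm


theorem le_centralizer_of_isMulCommutative {G : Type*} [Group G] (A : Subgroup G) [hA : IsMulCommutative ↥A] :
    A ≤ Subgroup.centralizer (A : Set G) := by
  intro a ha b hb
  have := hA.is_comm.comm (⟨b, hb⟩ : ↥A) ⟨a, ha⟩
  exact congrArg Subtype.val this

theorem normalAbelian_mem_classTwo {G : Type*} [Group G] (A : Subgroup G) (hA : IsMulCommutative ↥A) :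
    A ∈ classTwoSubgroups G := by
  have h : ⁅A, A⁆ = ⊥ := (Subgroup.commutator_eq_bot_iff_le_centralizer).2 (le_centralizer_of_isMulCommutative A)
  show ⁅A, A⁆ ≤ _
  rw [h]; exact bot_le

theorem normalAbelian_mem_upper {G : Type*} [Group G] (A : Subgroup G) [A.Normal] (hA : IsMulCommutative ↥A)
    (Q : Subgroup G) : A ∈ kUpperStarFamily Q := by
  refine ⟨normalAbelian_mem_classTwo A hA, ?_⟩
  rw [inf_eq_left.2 (le_centralizer_of_isMulCommutative A)]
  exact Subgroup.commutator_le_left A Q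

theorem normalAbelian_mem_lower {G : Type*} [Group G] (A : Subgroup G) [hn : A.Normal] (hA : IsMulCommutative ↥A)
    (Q : Subgroup G) : A ∈ kLowerStarFamily Q := by
  refine ⟨normalAbelian_mem_classTwo A hA, ?_, ?_⟩
  · rw [Subgroup.normalizer_eq_top]; exact le_top
  · intro B _ _ _ _ _
    rw [inf_eq_left.2 (le_centralizer_of_isMulCommutative A)]
    exact Subgroup.commutator_le_left A B

theorem normalAbelian_le_kSeqEven (A : Subgroup P) [A.Normal] (hA : IsMulCommutative ↥A) (n : ℕ) :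
    A ≤ kSeqEven P n :=
  le_sSup (normalAbelian_mem_lower A hA _)

theorem normalAbelian_le_kSeqOdd (A : Subgroup P) [A.Normal] (hA : IsMulCommutative ↥A) (n : ℕ) :
    A ≤ kSeqOdd P n := by
  cases n with
  | zero => exact le_top
  | succ n => exact le_sSup (normalAbelian_mem_upper A hA _)

theorem kInf_eq_top_of_gen (hgen : ⨆ A ∈ {A : Subgroup P | A.Normal ∧ IsMulCommutative ↥A}, A = ⊤) :
    kInfLower P = ⊤ ∧ kInfUpper P = ⊤ := by
  constructor
  · rw [eq_top_iff, ← hgen]
    apply iSup₂_le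
    intro A hA
    have := hA.1
    exact le_trans (normalAbelian_le_kSeqEven A hA.2 0) (le_iSup (kSeqEven P) 0)
  · rw [eq_top_iff, ← hgen]
    apply iSup₂_le
    intro A hA
    have := hA.1
    exact le_iInf (fun n => normalAbelian_le_kSeqOdd A hA.2 n)

end Cfsg.Agent.Helper10
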