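import Mathlib
import Cfsg.Prelude.Def_ConjugacyFunctors
import Cfsg.Agent.Helper10.KSeq
import Cfsg.Agent.Helper10.PGroupBasic

set_option autoImplicit false

namespace Cfsg.Agent.Helper10

open Cfsg
open scoped commutatorElement

variable {G : Type*} [Group G]

theorem commutator_closure_le {S : Set G} {Y W : Subgroup G}
    (hW : ∀ g ∈ Subgroup.closure S, ∀ w ∈ W, g * w * g⁻¹ ∈ W)
    (h : ∀ s ∈ S, ∀ y ∈ Y, ⁅s, y⁆ ∈ W) : ⁅Subgroup.closure S, Y⁆ ≤ W := by
  rw [Subgroup.commutator_le]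
  intro g hg
  induction hg using Subgroup.closure_induction with
  | mem s hs => exact h s hs
  | one => intro y _; simp
  | mul a b ha hb iha ihb =>
    intro y hy
    have : ⁅a * b, y⁆ = a * ⁅b, y⁆ * a⁻¹ * ⁅a, y⁆ := by
      simp only [commutatorElement_def]; group
    rw [this]
    exact W.mul_mem (hW a ha _ (ihb y hy)) (iha y hy)
  | inv a ha iha =>
    intro y hy
    have : ⁅a⁻¹, y⁆ = a⁻¹ * (⁅a, y⁆)⁻¹ * (a⁻¹)⁻¹ := by
      simp only [commutatorElement_def]; group
    rw [this]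
    exact hW a⁻¹ (Subgroup.inv_mem _ ha) _ (W.inv_mem (iha y hy))

theorem commutator_sup_le_of_conj_mem {H₁ H₂ Y W : Subgroup G}
    (hW : ∀ g ∈ H₁ ⊔ H₂, ∀ w ∈ W, g * w * g⁻¹ ∈ W)
    (h1 : ⁅H₁, Y⁆ ≤ W) (h2 : ⁅H₂, Y⁆ ≤ W) : ⁅H₁ ⊔ H₂, Y⁆ ≤ W := by
  have e : H₁ ⊔ H₂ = Subgroup.closure ((H₁ : Set G) ∪ (H₂ : Set G)) := by
    rw [Subgroup.closure_union, Subgroup.closure_eq, Subgroup.closure_eq]
  rw [e] at hW ⊢
  apply commutator_closure_le hW
  rintro s (hs | hs) y hy
  · exact h1 (Subgroup.commutator_mem_commutator hs hy)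
  · exact h2 (Subgroup.commutator_mem_commutator hs hy)

theorem commutator_zpowers_le {x : G} {Y W : Subgroup G}
    (hW : ∀ g ∈ Subgroup.zpowers x, ∀ w ∈ W, g * w * g⁻¹ ∈ W)
    (h : ∀ y ∈ Y, ⁅x, y⁆ ∈ W) : ⁅Subgroup.zpowers x, Y⁆ ≤ W := by
  rw [Subgroup.zpowers_eq_closure] at hW ⊢
  apply commutator_closure_le hW
  rintro s hs y hy
  rw [Set.mem_singleton_iff] at hs
  subst hs
  exact h y hy

theorem commutator_self_le (B : Subgroup G) : ⁅B, B⁆ ≤ B :=
  Subgroup.commutator_le.2 (fun g hg h hh =>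
    B.mul_mem (B.mul_mem (B.mul_mem hg hh) (B.inv_mem hg)) (B.inv_mem hh))

/-- data about `B ⊔ ⟨x⟩` with `x` centralizing `B` -/
def ExtData (B : Subgroup G) (x : G) : Prop := x ∈ Subgroup.centralizer (B : Set G)

theorem ExtData.hx {B : Subgroup G} {x : G} (d : ExtData B x) : x ∈ Subgroup.centralizer (B : Set G) := d

namespace ExtData

variable {B : Subgroup G} {x : G} (d : ExtData B x)
include d

theorem X_le_cent : Subgroup.zpowers x ≤ Subgroup.centralizer (B : Set G) :=
  (Subgroup.zpowers_le).2 d.hx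

theorem X_le_centBs : Subgroup.zpowers x ≤ Subgroup.centralizer ((B ⊔ Subgroup.zpowers x : Subgroup G) : Set G) := by
  rw [Subgroup.le_centralizer_iff]
  apply sup_le
  · exact Subgroup.le_centralizer_iff.1 d.X_le_cent
  · exact Subgroup.le_centralizer_iff_isMulCommutative.2 inferInstance

theorem ZB_le_centBs : B ⊓ Subgroup.centralizer (B : Set G) ≤
    Subgroup.centralizer ((B ⊔ Subgroup.zpowers x : Subgroup G) : Set G) := by
  rw [Subgroup.le_centralizer_iff]
  apply sup_le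
  · exact Subgroup.le_centralizer_iff.1 inf_le_right
  · refine le_trans d.X_le_cent (Subgroup.centralizer_le ?_)
    exact fun y hy => hy.1

theorem ZB_le_ZBs : B ⊓ Subgroup.centralizer (B : Set G) ≤
    (B ⊔ Subgroup.zpowers x) ⊓ Subgroup.centralizer ((B ⊔ Subgroup.zpowers x : Subgroup G) : Set G) :=
  le_inf (le_trans inf_le_left le_sup_left) d.ZB_le_centBs

omit d in
theorem conj_ZBs (B' : Subgroup G) : ∀ g ∈ B', ∀ w ∈ B' ⊓ Subgroup.centralizer (B' : Set G),
    g * w * g⁻¹ ∈ B' ⊓ Subgroup.centralizer (B' : Set G) := by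
  intro g hg w hw
  have := (Subgroup.mem_centralizer_iff.1 hw.2) g hg
  have e : g * w * g⁻¹ = w := by rw [this]; group
  rw [e]; exact hw

omit d in
theorem X_comm_le (Y : Subgroup G) (W : Subgroup G)
    (hWZ : W = (B ⊔ Subgroup.zpowers x) ⊓ Subgroup.centralizer ((B ⊔ Subgroup.zpowers x : Subgroup G) : Set G))
    (h : ∀ y ∈ Y, ⁅x, y⁆ ∈ W) : ⁅Subgroup.zpowers x, Y⁆ ≤ W := by
  apply commutator_zpowers_le _ h
  intro g hg w hw
  subst hWZ
  exact conj_ZBs _ g (le_sup_right (a := B) hg) w hw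

theorem classTwo (hB : B ∈ classTwoSubgroups G) : B ⊔ Subgroup.zpowers x ∈ classTwoSubgroups G := by
  show ⁅B ⊔ Subgroup.zpowers x, B ⊔ Subgroup.zpowers x⁆ ≤ _
  refine le_trans ?_ (inf_le_right : (B ⊔ Subgroup.zpowers x) ⊓ _ ≤ _)
  apply commutator_sup_le_of_conj_mem (conj_ZBs _)
  · rw [Subgroup.commutator_comm]
    apply commutator_sup_le_of_conj_mem (conj_ZBs _)
    · exact le_trans (le_inf (commutator_self_le B) hB) d.ZB_le_ZBs
    · rw [Subgroup.commutator_eq_bot_iff_le_centralizer.2 d.X_le_cent]; exact bot_le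
  · rw [Subgroup.commutator_eq_bot_iff_le_centralizer.2 d.X_le_centBs]; exact bot_le

/-- key: `[x, n] ∈ Z(B)` for `n ∈ N(B)` with `n x n⁻¹ x⁻¹ ∈ B` -/
theorem comm_mem_ZB {n : G} (hn : n ∈ Subgroup.normalizer (B : Set G)) (hnx : n * x * n⁻¹ * x⁻¹ ∈ B) :
    ⁅x, n⁆ ∈ B ⊓ Subgroup.centralizer (B : Set G) := by
  have e : ⁅x, n⁆ = (n * x * n⁻¹ * x⁻¹)⁻¹ := by simp only [commutatorElement_def]; group
  refine ⟨by rw [e]; exact B.inv_mem hnx, ?_⟩
  have h1 : n * x⁻¹ * n⁻¹ ∈ Subgroup.centralizer (B : Set G) :=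
    conj_mem_centralizer_of_mem_normalizer hn (Subgroup.inv_mem _ d.hx)
  have e2 : ⁅x, n⁆ = x * (n * x⁻¹ * n⁻¹) := by simp only [commutatorElement_def]; group
  rw [e2]
  exact Subgroup.mul_mem _ d.hx h1

end ExtData

theorem le_normalizer_of_commutator_le {B Q : Subgroup G} (h : ⁅B, Q⁆ ≤ B) :
    Q ≤ Subgroup.normalizer (B : Set G) := by
  rw [le_normalizer_iff_conj_mem]
  intro q hq b hb
  have h1 : ⁅b⁻¹, q⁆ ∈ B := h (Subgroup.commutator_mem_commutator (B.inv_mem hb) hq)
  have e : q * b * q⁻¹ = b * (⁅b⁻¹, q⁆) := by simp only [commutatorElement_def]; group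
  rw [e]; exact B.mul_mem hb h1

theorem centralizer_le_of_maximal_classTwo (B : Subgroup G) (hB : B ∈ classTwoSubgroups G)
    (hmax : ∀ C ∈ classTwoSubgroups G, B ≤ C → C = B) : Subgroup.centralizer (B : Set G) ≤ B := by
  intro x hx
  have d : ExtData B x := hx
  have := hmax _ (d.classTwo hB) le_sup_left
  rw [← this]
  exact le_sup_right (a := B) (Subgroup.mem_zpowers x)

section pgroup

variable {p : ℕ} [Fact p.Prime] [Finite G] (hG : IsPGroup p G)
include hG

theorem centralizer_le_of_maximal_upper (Q B : Subgroup G) (hB : B ∈ kUpperStarFamily Q)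
    (hmax : ∀ C ∈ kUpperStarFamily Q, B ≤ C → C = B) : Subgroup.centralizer (B : Set G) ≤ B := by
  by_contra hcon
  obtain ⟨x, hxC, hxB, hxN⟩ := exists_centralizer_elt_normalizer_comm hG B hcon
  have d : ExtData B x := hxC
  have hQN : Q ≤ Subgroup.normalizer (B : Set G) :=
    le_normalizer_of_commutator_le (le_trans hB.2 inf_le_left)
  have hmem : B ⊔ Subgroup.zpowers x ∈ kUpperStarFamily Q := by
    refine ⟨d.classTwo hB.1, ?_⟩
    apply commutator_sup_le_of_conj_mem (ExtData.conj_ZBs _)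
    · exact le_trans hB.2 d.ZB_le_ZBs
    · apply ExtData.X_comm_le (B := B) (x := x) Q _ rfl
      intro q hq
      exact d.ZB_le_ZBs (d.comm_mem_ZB (hQN hq) (hxN q (hQN hq)))
  have := hmax _ hmem le_sup_left
  apply hxB
  rw [← this]
  exact le_sup_right (a := B) (Subgroup.mem_zpowers x)

theorem centralizer_le_of_maximal_lower (Q B : Subgroup G) (hB : B ∈ kLowerStarFamily Q)
    (hmax : ∀ C ∈ kLowerStarFamily Q, B ≤ C → C = B) : Subgroup.centralizer (B : Set G) ≤ B := by
  by_contra hcon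
  obtain ⟨x, hxC, hxB, hxN⟩ := exists_centralizer_elt_normalizer_comm hG B hcon
  have d : ExtData B x := hxC
  have hQN : Q ≤ Subgroup.normalizer (B : Set G) := hB.2.1
  have hmem : B ⊔ Subgroup.zpowers x ∈ kLowerStarFamily Q := by
    refine ⟨d.classTwo hB.1, ?_, ?_⟩
    · rw [le_normalizer_iff_conj_mem]
      intro q hq g hg
      have hle : B ⊔ Subgroup.zpowers x ≤
          (B ⊔ Subgroup.zpowers x).comap (MulAut.conj q).toMonoidHom := by
        apply sup_le
        · intro b hb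
          rw [Subgroup.mem_comap]
          exact le_sup_left (b := Subgroup.zpowers x)
            ((le_normalizer_iff_conj_mem.1 hQN) q hq b hb)
        · rw [Subgroup.zpowers_le, Subgroup.mem_comap]
          have e : (MulAut.conj q).toMonoidHom x = (q * x * q⁻¹ * x⁻¹) * x := by
            simp [MulAut.conj_apply]
          rw [e]
          exact Subgroup.mul_mem _ (le_sup_left (b := Subgroup.zpowers x) (hxN q (hQN hq)))
            (le_sup_right (a := B) (Subgroup.mem_zpowers x))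
      have := hle hg
      rw [Subgroup.mem_comap] at this
      simpa [MulAut.conj_apply] using this
    · intro A hA hAQ hBsA h1 h2
      have hBA : ⁅B, A⁆ ≤ B ⊓ Subgroup.centralizer (B : Set G) := by
        apply hB.2.2 A hA hAQ (le_trans le_sup_left hBsA)
        · rw [eq_bot_iff, ← h1]
          exact Subgroup.commutator_mono le_sup_left le_rfl
        · rw [eq_bot_iff, ← h2]
          exact Subgroup.commutator_mono (Subgroup.commutator_mono d.ZB_le_ZBs le_rfl) le_rfl
      apply commutator_sup_le_of_conj_mem (ExtData.conj_ZBs _)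
      · exact le_trans hBA d.ZB_le_ZBs
      · apply ExtData.X_comm_le (B := B) (x := x) A _ rfl
        intro a ha
        have haN := hQN (hAQ ha)
        exact d.ZB_le_ZBs (d.comm_mem_ZB haN (hxN a haN))
  have := hmax _ hmem le_sup_left
  apply hxB
  rw [← this]
  exact le_sup_right (a := B) (Subgroup.mem_zpowers x)

end pgroup

end Cfsg.Agent.Helper10
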