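import Mathlib
import Cfsg.Agent.Helper12.S2999Basic
import Cfsg.Agent.Helper6.S2999QUAD
import Cfsg.Agent.Helper20.S2999OPP
import Cfsg.Agent.Helper10.S2999V1EQcore

/-!
# S2999 piece V1EQ (helper10): `C_V(gAg⁻¹) ⊔ C_V(hAh⁻¹) = V₁` for opposite `g, h`.
-/

set_option autoImplicit false

namespace Cfsg.Agent.S2999P

open Cfsg.Agent.S2789P
open scoped commutatorElement

variable {G : Type*} [Group G] [Finite G] {p : ℕ} [Fact p.Prime] {V P Mg Tg R A : Subgroup G}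

/-- conjugate form of QUAD (local copy of the row QUADg, to avoid waiting for it). -/
theorem V1EQ_aux_quadg (S : Setup p V P Mg Tg R A) {g : G} (hg : g ∈ P) :
    ⁅V, cjs g A⁆ ≤ fixV V (cjs g A) := by
  have h1 : cjs g ⁅V, A⁆ = ⁅V, cjs g A⁆ := by
    rw [cj_comm, S.cjV hg]
  have h2 : fixV V (cjs g A) = cjs g (fixV V A) := S.cjfix A hg
  rw [← h1, h2]
  exact cj_mono (QUAD S)

/-- V1EQ (M): blueprint §2. -/
theorem V1EQ (S : Setup p V P Mg Tg R A) {g h : G} (hg : g ∈ P) (hh : h ∈ P) (hgh : g⁻¹ * h ∉ Mg) :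
    fixV V (cjs g A) ⊔ fixV V (cjs h A) = V1 V P A :=
  V1EQ_aux_core S.hPV hg hh S.hAP (OPP S hg hh hgh).1 (V1EQ_aux_quadg S hg) (V1EQ_aux_quadg S hh)

end Cfsg.Agent.S2999P
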