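import Mathlib
import Cfsg.Agent.Helper12.S2999Basic

/-!
# S2999 piece ANE (helper10, hedge for the row): `A ≠ ⊥`.
-/

set_option autoImplicit false

namespace Cfsg.Agent.S2999P

open Cfsg.Agent.S2789P

variable {G : Type*} [Group G] [Finite G] {p : ℕ} [Fact p.Prime] {V P Mg Tg R A : Subgroup G}

/-- ANE (S): `A ≠ 1` [else (iii) gives `P = 1 ≤ Mg`]. -/
theorem ANE (S : Setup p V P Mg Tg R A) : A ≠ ⊥ := by
  intro hA
  obtain ⟨x, hxP, hxM⟩ := S.hMne
  have h := S.hiii x hxP hxM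
  rw [hA, cj_bot, bot_sup_eq] at h
  rw [← h, Subgroup.mem_bot] at hxP
  apply hxM
  rw [hxP]
  exact Mg.one_mem

end Cfsg.Agent.S2999P
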