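import Mathlib
import Cfsg.Agent.Helper28.S3000Defs

/-!
# S3000 board, piece PKG2 (helper10): transport of coordinates / packages / base points by conjugation.
-/

set_option autoImplicit false
set_option linter.unusedSectionVars false

namespace Cfsg.Agent.S3000P

open Cfsg.Agent.S2789P Cfsg.Agent.S2999P Cfsg.Agent.S3000P
open scoped commutatorElement

variable {G : Type*} [Group G] [Finite G] {p : ℕ} [Fact p.Prime] {V P : Subgroup G} {T : Sylow p ↥P} {M : Subgroup ↥P} {q : ℕ}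

omit [Finite G] in
/-- conjugation by `x⁻¹` on `V`, for `x` normalising `V`. -/
theorem PKG2_aux_mem {x : G} (hx : x ∈ Subgroup.normalizer (V : Set G)) {v : G} (hv : v ∈ V) :
    x⁻¹ * v * x ∈ V := by
  have h1 := (Subgroup.mem_normalizer_iff.mp (Subgroup.inv_mem _ hx) v).mp hv
  simpa using h1

omit [Finite G] in
theorem PKG2_aux_mem' {x : G} (hx : x ∈ Subgroup.normalizer (V : Set G)) {v : G} (hv : v ∈ V) :
    x * v * x⁻¹ ∈ V :=
  (Subgroup.mem_normalizer_iff.mp hx v).mp hv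

/-- the homomorphism `v ↦ x⁻¹ v x` of `V`. -/
def PKG2_aux_conjV {x : G} (hx : x ∈ Subgroup.normalizer (V : Set G)) : ↥V →* ↥V where
  toFun v := ⟨x⁻¹ * v.1 * x, PKG2_aux_mem hx v.2⟩
  map_one' := by
    apply Subtype.ext
    show x⁻¹ * (1 : G) * x = 1
    group
  map_mul' a b := by
    apply Subtype.ext
    show x⁻¹ * (a.1 * b.1) * x = (x⁻¹ * a.1 * x) * (x⁻¹ * b.1 * x)
    group

/-- PKG2a (M): conjugation of coordinates. -/
theorem Coord.conj_nonempty {F : Type} [Field F] {A E : Subgroup G} (c : Coord F V A E) {x : G}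
    (hx : x ∈ Subgroup.normalizer (V : Set G)) : Nonempty (Coord F V (cjs x A) (cjs x E)) := by
  have hinj : Function.Injective (MulAut.conj x).toMonoidHom := (MulAut.conj x).injective
  -- the preimage in `E` of an element of `cjs x E`
  have hpre : ∀ e' : ↥(cjs x E), (e' : G) =
      x * (((E.equivMapOfInjective (MulAut.conj x).toMonoidHom hinj).symm e' : ↥E) : G) * x⁻¹ := by
    intro e'
    have h1 := Subgroup.coe_equivMapOfInjective_apply E (MulAut.conj x).toMonoidHom hinj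
      ((E.equivMapOfInjective (MulAut.conj x).toMonoidHom hinj).symm e')
    have h2 : (E.equivMapOfInjective (MulAut.conj x).toMonoidHom hinj)
        ((E.equivMapOfInjective (MulAut.conj x).toMonoidHom hinj).symm e') = e' :=
      MulEquiv.apply_symm_apply _ _
    exact (congrArg Subtype.val h2).symm.trans h1
  refine ⟨{
    ρ := (E.equivMapOfInjective (MulAut.conj x).toMonoidHom hinj).symm.trans c.ρ
    ψ := c.ψ.comp (PKG2_aux_conjV hx)
    surj := ?_
    ker := ?_
    eqv := ?_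
    hA := ?_ }⟩
  · intro y
    obtain ⟨v, hv⟩ := c.surj y
    refine ⟨⟨x * v.1 * x⁻¹, PKG2_aux_mem' hx v.2⟩, ?_⟩
    rw [MonoidHom.comp_apply, ← hv]
    congr 1
    apply Subtype.ext
    show x⁻¹ * (x * v.1 * x⁻¹) * x = v.1
    group
  · intro v
    rw [MonoidHom.comp_apply, c.ker, cj_fix E hx, cj_mem]
    rfl
  · intro e' v
    obtain ⟨w0, hw0, hw0ψ⟩ := c.eqv ((E.equivMapOfInjective (MulAut.conj x).toMonoidHom hinj).symm e')
      (PKG2_aux_conjV hx v)
    refine ⟨⟨x * w0.1 * x⁻¹, PKG2_aux_mem' hx w0.2⟩, ?_, ?_⟩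
    · show x * w0.1 * x⁻¹ = (e' : G) * (v : G) * (e' : G)⁻¹
      rw [hw0, hpre e']
      show x * (_ * (x⁻¹ * (v : G) * x) * _⁻¹) * x⁻¹ = _
      group
    · have h2 : (c.ψ.comp (PKG2_aux_conjV hx)) ⟨x * w0.1 * x⁻¹, PKG2_aux_mem' hx w0.2⟩ = c.ψ w0 := by
        rw [MonoidHom.comp_apply]
        congr 1
        apply Subtype.ext
        show x⁻¹ * (x * w0.1 * x⁻¹) * x = w0.1
        group
      rw [h2, hw0ψ]
      rfl
  · intro e'
    rw [cj_mem]
    have h3 : x⁻¹ * (e' : G) * x =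
        (((E.equivMapOfInjective (MulAut.conj x).toMonoidHom hinj).symm e' : ↥E) : G) := by
      rw [hpre e']
      group
    rw [h3]
    exact c.hA _

/-- PKG2b (S) -/
theorem Based.conj {Mg A E : Subgroup G} (hB : Based Mg A E) (x : G) : Based (cjs x Mg) (cjs x A) (cjs x E) := by
  refine ⟨cj_mono hB.hAM, fun h => hB.hEM (cj_le_iff.mp h), ?_⟩
  intro e he hcj
  rw [cj_mem] at he ⊢
  apply hB.hN _ he
  have h1 : cjs e (cjs x A) = cjs x (cjs (x⁻¹ * e * x) A) := by
    rw [cj_mul, cj_mul]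
    congr 1
    group
  rw [h1] at hcj
  exact cj_inj.mp hcj

/-- PKG2 (M): conjugation of packages. -/
theorem Pack.conj (Hy : Hyp p V P T M) {A E : Subgroup G} (hK : Pack p V P q A E) {x : G} (hx : x ∈ P) :
    Pack p V P q (cjs x A) (cjs x E) := by
  have hxV : x ∈ Subgroup.normalizer (V : Set G) := Hy.hPV hx
  refine ⟨⟨cj_le_of_mem hx hK.hA.le, hK.hA.so.conj hxV, by rw [cj_card]; exact hK.hA.card⟩,
    cj_mono hK.hAE, cj_le_of_mem hx hK.hEP, ?_, ?_, ?_⟩
  · intro e he hne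
    rw [cj_mem] at he
    have h1 : cjs e (cjs x A) = cjs x (cjs (x⁻¹ * e * x) A) := by
      rw [cj_mul, cj_mul]
      congr 1
      group
    rw [h1] at hne ⊢
    have h2 : cjs (x⁻¹ * e * x) A ≠ A := fun h => hne (by rw [h])
    rw [← cj_sup, hK.hgen _ he h2]
  · rw [cj_fix A hxV, cj_fix E hxV, hK.hUA, cj_sup, cj_comm, cj_norm hxV]
  · obtain ⟨F, iF, iFt, hcard, ⟨c⟩⟩ := hK.hco
    exact ⟨F, iF, iFt, hcard, Coord.conj_nonempty c hxV⟩

end Cfsg.Agent.S3000P
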