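import Mathlib
import Cfsg.Agent.Helper28.S3000Defs
import Cfsg.Agent.Helper28.S3000Cm

/-!
# S3000 board, piece LOC (helper10): a package with `V = [V,E] C_V(E)` gives the local conclusion `LocOut p V E`
(restrict the coordinate map `ψ` to `[V,E]`).
-/

set_option autoImplicit false
set_option linter.unusedSectionVars false

namespace Cfsg.Agent.S3000P

open Cfsg.Agent.S2789P Cfsg.Agent.S2999P Cfsg.Agent.S3000P
open scoped commutatorElement

variable {G : Type*} [Group G] [Finite G] {p : ℕ} [Fact p.Prime] {V P : Subgroup G} {T : Sylow p ↥P} {M : Subgroup ↥P} {q : ℕ}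

omit [Finite G] in
theorem LOC_aux_comm_le {E : Subgroup G} (hEV : E ≤ Subgroup.normalizer (V : Set G)) : ⁅V, E⁆ ≤ V := by
  rw [Subgroup.commutator_le]
  intro v hv e he
  have h1 : e * v⁻¹ * e⁻¹ ∈ V := (Subgroup.mem_normalizer_iff.mp (hEV he) _).mp (V.inv_mem hv)
  have h2 : ⁅v, e⁆ = v * (e * v⁻¹ * e⁻¹) := by rw [commutatorElement_def]; group
  rw [h2]
  exact V.mul_mem hv h1

omit [Finite G] in
theorem LOC_aux_norm {E : Subgroup G} (hEV : E ≤ Subgroup.normalizer (V : Set G)) :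
    E ≤ Subgroup.normalizer ((⁅V, E⁆ : Subgroup G) : Set G) := by
  intro e he
  have h1 : cjs e ⁅V, E⁆ = ⁅V, E⁆ := by
    rw [cj_comm, cj_norm (hEV he), cj_self he]
  rw [Subgroup.mem_normalizer_iff]
  intro x
  rw [← cj_mem_conj (g := e) (e := x) (E := ⁅V, E⁆), h1]

/-- LOC (M) -/
theorem LOC (Hy : Hyp p V P T M) {A E : Subgroup G} (hK : Pack p V P q A E) (hVE : ⁅V, E⁆ ⊔ fixV V E = V) :
    LocOut p V E := by
  obtain ⟨F, iF, iFt, hF, ⟨c⟩⟩ := hK.hco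
  have hEV : E ≤ Subgroup.normalizer (V : Set G) := hK.hEP.trans Hy.hPV
  have hle : ⁅V, E⁆ ≤ V := LOC_aux_comm_le hEV
  have hVc : ∀ v ∈ V, ∀ w ∈ V, v * w = w * v := fun v hv w hw => V_comm_of_elab Hy.hV hv hw
  -- the exponent
  obtain ⟨n, hn⟩ := IsPGroup.iff_card.mp (F2_aux_isPGroup hK.hA.so.hA)
  have hn1 : 1 ≤ n := by
    rcases Nat.eq_zero_or_pos n with h0 | h0
    · exfalso
      rw [h0, pow_zero] at hn
      exact hK.hA.so.ne ((Subgroup.card_eq_one).mp hn)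
    · exact h0
  refine ⟨n, hn1, F, iF, iFt, ?_, ⟨c.ρ⟩, LOC_aux_norm hEV, inf_le_left, c.ρ.toMonoidHom,
    c.ψ.comp (Subgroup.inclusion hle), ?_, ?_, ?_, ?_⟩
  · rw [hF, ← hK.hA.card, hn]
  · exact MonoidHom.range_eq_top.mpr c.ρ.surjective
  · intro y
    obtain ⟨v, hv⟩ := c.surj y
    have hvmem : (v : G) ∈ ⁅V, E⁆ ⊔ fixV V E := by rw [hVE]; exact v.2
    obtain ⟨r, hr, c', hc', hvrc⟩ := mem_sup_of_abelian hVc hle (fix_le V E) hvmem
    refine ⟨⟨r, hr⟩, ?_⟩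
    have h1 : v = (⟨r, hle hr⟩ : ↥V) * ⟨c', fix_le V E hc'⟩ := Subtype.ext hvrc
    have h2 : c.ψ ⟨c', fix_le V E hc'⟩ = 1 := (c.ker _).mpr hc'
    rw [← hv, h1, map_mul, h2, mul_one]
    rfl
  · intro u
    have h1 : (c.ψ.comp (Subgroup.inclusion hle)) u = c.ψ ⟨(u : G), hle u.2⟩ := rfl
    rw [h1, c.ker]
    constructor
    · intro h
      exact ⟨u.2, h.2⟩
    · intro h
      exact ⟨hle u.2, h.2⟩
  · intro e u
    obtain ⟨w', hw', hψ⟩ := c.eqv e ⟨(u : G), hle u.2⟩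
    have hmem : (e : G) * (u : G) * (e : G)⁻¹ ∈ ⁅V, E⁆ :=
      (Subgroup.mem_normalizer_iff.mp (LOC_aux_norm hEV e.2) _).mp u.2
    refine ⟨⟨_, hmem⟩, rfl, ?_⟩
    have h1 : (c.ψ.comp (Subgroup.inclusion hle)) ⟨_, hmem⟩ = c.ψ w' := by
      show c.ψ ⟨_, hle hmem⟩ = c.ψ w'
      congr 1
      exact Subtype.ext hw'.symm
    rw [h1, hψ]
    rfl

end Cfsg.Agent.S3000P
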