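import Cfsg.Agent.Helper11.S3786Defs

/-! # S3786, board `s3786pieces`, row Y_homsum (Lemma Y, step Y2b) -/

set_option autoImplicit false

namespace Cfsg.Agent.S3786P

open Subgroup

universe u

section Y

variable {p : ℕ} [Fact p.Prime] {Γ : Type*} [Group Γ] {M : Type*} [AddCommGroup M] [DistribMulAction Γ M] {Z : Type*}
  [AddCommGroup Z] {B : Subgroup Γ} {w z : Γ} {N : ℕ} {β : M → M → Z}

/-- an odd multiple in a group of exponent 2 -/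
theorem Y_homsum_aux_odd {M : Type*} [AddCommGroup M] (h2 : ∀ m : M, m + m = 0) {n : ℕ} (hn : Odd n) (s : M) :
    n • s = s := by
  obtain ⟨k, rfl⟩ := hn
  rw [add_smul, one_smul, mul_smul, two_smul, h2, zero_add]

/-- Y2b. For `u` normalising the abelian group `B` (odd order), `b ↦ u⁻¹ b u b⁻¹` is an endomorphism of `B`; if the subgroup `Y₁`
lies in its image and the norm of `Y₁` kills `m`, then `Σ_b (u⁻¹ b u b⁻¹) m = 0`. -/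
theorem Y_homsum (S : YSet p B w z N β) [Fintype ↥B] (u : Γ) (hu : ∀ b ∈ B, u⁻¹ * b * u ∈ B)
    (Y₁ : Subgroup Γ) [Fintype ↥Y₁] (hY₁ : ∀ y ∈ Y₁, ∃ b ∈ B, y = u⁻¹ * b * u * b⁻¹)
    (m : M) (hm : ∑ y : ↥Y₁, (y : Γ) • m = 0) :
    ∑ b : ↥B, (u⁻¹ * (b : Γ) * u * (b : Γ)⁻¹) • m = 0 := by
  classical
  -- the endomorphism
  have hφB : ∀ b ∈ B, u⁻¹ * b * u * b⁻¹ ∈ B := fun b hb => B.mul_mem (hu b hb) (B.inv_mem hb)
  have hφmul : ∀ b ∈ B, ∀ c ∈ B,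
      u⁻¹ * (b * c) * u * (b * c)⁻¹ = (u⁻¹ * b * u * b⁻¹) * (u⁻¹ * c * u * c⁻¹) := by
    intro b hb c hc
    have h1 : b⁻¹ * (u⁻¹ * c * u) = (u⁻¹ * c * u) * b⁻¹ :=
      S.Bcomm _ (B.inv_mem hb) _ (hu c hc)
    have h2 : b⁻¹ * c⁻¹ = c⁻¹ * b⁻¹ := S.Bcomm _ (B.inv_mem hb) _ (B.inv_mem hc)
    calc u⁻¹ * (b * c) * u * (b * c)⁻¹
        = (u⁻¹ * b * u) * ((u⁻¹ * c * u) * b⁻¹) * c⁻¹ := by
          rw [mul_inv_rev, ← h2]; group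
      _ = (u⁻¹ * b * u) * (b⁻¹ * (u⁻¹ * c * u)) * c⁻¹ := by rw [h1]
      _ = (u⁻¹ * b * u * b⁻¹) * (u⁻¹ * c * u * c⁻¹) := by group
  -- `Y₁ ≤ B`
  have hY₁B : Y₁ ≤ B := by
    intro y hy
    obtain ⟨b, hb, rfl⟩ := hY₁ y hy
    exact hφB b hb
  set T : M := ∑ b : ↥B, (u⁻¹ * (b : Γ) * u * (b : Γ)⁻¹) • m with hT
  -- translation invariance
  have htrans : ∀ y ∈ Y₁, T = ∑ b : ↥B, (u⁻¹ * (b : Γ) * u * (b : Γ)⁻¹) • (y • m) := by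
    intro y hy
    obtain ⟨c, hc, rfl⟩ := hY₁ y hy
    rw [hT, ← Equiv.sum_comp (Equiv.mulRight (⟨c, hc⟩ : ↥B))
      (fun b : ↥B => (u⁻¹ * (b : Γ) * u * (b : Γ)⁻¹) • m)]
    refine Finset.sum_congr rfl ?_
    intro b _
    change (u⁻¹ * ((b : Γ) * c) * u * ((b : Γ) * c)⁻¹) • m = _
    rw [hφmul b b.2 c hc, mul_smul]
  -- sum over `Y₁`
  have hsum : (Fintype.card ↥Y₁) • T = 0 := by
    calc (Fintype.card ↥Y₁) • T = ∑ _y : ↥Y₁, T := by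
          rw [Finset.sum_const, Finset.card_univ]
      _ = ∑ y : ↥Y₁, ∑ b : ↥B, (u⁻¹ * (b : Γ) * u * (b : Γ)⁻¹) • ((y : Γ) • m) :=
          Finset.sum_congr rfl (fun y _ => htrans y y.2)
      _ = ∑ b : ↥B, ∑ y : ↥Y₁, (u⁻¹ * (b : Γ) * u * (b : Γ)⁻¹) • ((y : Γ) • m) := Finset.sum_comm
      _ = ∑ b : ↥B, (u⁻¹ * (b : Γ) * u * (b : Γ)⁻¹) • ∑ y : ↥Y₁, (y : Γ) • m := by
          refine Finset.sum_congr rfl (fun b _ => ?_)
          rw [Finset.smul_sum]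
      _ = 0 := by
          rw [hm]
          simp
  -- `|Y₁|` is odd
  have hodd : Odd (Fintype.card ↥Y₁) := by
    have hpg : IsPGroup p ↥Y₁ := S.Bp.to_le hY₁B
    obtain ⟨k, hk⟩ := hpg.exists_card_eq
    rw [← Nat.card_eq_fintype_card, hk]
    exact ((Fact.out : p.Prime).odd_of_ne_two S.p_odd).pow
  rw [← Y_homsum_aux_odd S.two hodd T]
  exact hsum

end Y

end Cfsg.Agent.S3786P
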