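import Mathlib
import Cfsg.Agent.Helper26.S3911Defs

/-!
# S3911 piece ML8b (helper10): `|A₀| = |Ab| · |A₀ ∩ M|` when `A₀` maps onto `Ab ≤ G ⧸ M`.
-/

set_option autoImplicit false

namespace Cfsg.Agent.S3911P

/-- ML8b (S/M): `|A₀| = |Ab| · |A₀ ∩ M|`. -/
theorem ML8b {G : Type*} [Group G] [Finite G] (M : Subgroup G) [M.Normal] (Ab : Subgroup (G ⧸ M))
    (A₀ : Subgroup G) (h : A₀.map (QuotientGroup.mk' M) = Ab) :
    Nat.card ↥A₀ = Nat.card ↥Ab * Nat.card ↥(A₀ ⊓ M) := by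
  classical
  set f : ↥A₀ →* G ⧸ M := (QuotientGroup.mk' M).comp A₀.subtype with hf
  have hrange : f.range = Ab := by
    rw [← h, hf, MonoidHom.range_comp, Subgroup.range_subtype]
  have hker : f.ker = (A₀ ⊓ M).subgroupOf A₀ := by
    ext x
    rw [MonoidHom.mem_ker, Subgroup.mem_subgroupOf, hf, MonoidHom.comp_apply,
      QuotientGroup.mk'_apply, QuotientGroup.eq_one_iff, Subgroup.mem_inf]
    constructor
    · intro hx
      exact ⟨x.2, hx⟩
    · intro hx
      exact hx.2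
  have h1 : Nat.card ↥f.ker * f.ker.index = Nat.card ↥A₀ := Subgroup.card_mul_index f.ker
  have h2 : f.ker.index = Nat.card ↥Ab := by
    rw [Subgroup.index_ker, hrange]
  have h3 : Nat.card ↥f.ker = Nat.card ↥(A₀ ⊓ M) := by
    rw [hker]
    exact Nat.card_congr (Subgroup.subgroupOfEquivOfLe inf_le_left).toEquiv
  rw [← h1, h2, h3, Nat.mul_comm]

end Cfsg.Agent.S3911P
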