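import Mathlib
import Cfsg.Agent.Helper26.S3911Defs

/-!
# S3911 piece ML6, core form (helper10 hedge): ML3 and ML6c enter as hypotheses.
-/

set_option autoImplicit false

namespace Cfsg.Agent.S3911P

/-- ML6 with the two inputs (`ML3`: commutators of `A₀` lie in `M`; `ML6c`: a nontrivial Sylow subgroup of
`A₀` for `p ∣ |M|` forces cyclic Sylow subgroups in `G`) as hypotheses. -/
theorem ML6_aux_core {G : Type*} [Group G] [Finite G] (M : Subgroup G) [M.Normal]
    (A₀ : Subgroup G) (p : ℕ) [Fact p.Prime] (S : Sylow p ↥A₀)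
    (h3 : commutator ↥A₀ ≤ (A₀ ⊓ M).subgroupOf A₀)
    (h6c : p ∣ Nat.card ↥M → (S : Subgroup ↥A₀) ≠ ⊥ → ∀ P : Sylow p G, IsCyclic ↥(P : Subgroup G)) :
    ∀ a ∈ S, ∀ b ∈ S, a * b = b * a := by
  classical
  have hp : p.Prime := Fact.out
  intro a ha b hb
  by_cases hpM : p ∣ Nat.card ↥M
  · by_cases hS : (S : Subgroup ↥A₀) = ⊥
    · have ha' : a ∈ (S : Subgroup ↥A₀) := ha
      have hb' : b ∈ (S : Subgroup ↥A₀) := hb
      rw [hS, Subgroup.mem_bot] at ha' hb'
      rw [ha', hb']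
    · have hcyc := h6c hpM hS
      have hpg : IsPGroup p ↥((S : Subgroup ↥A₀).map A₀.subtype) := S.2.map A₀.subtype
      obtain ⟨P, hP⟩ := hpg.exists_le_sylow
      have := hcyc P
      have haP : (a : G) ∈ (P : Subgroup G) := hP (Subgroup.mem_map_of_mem _ ha)
      have hbP : (b : G) ∈ (P : Subgroup G) := hP (Subgroup.mem_map_of_mem _ hb)
      obtain ⟨g, hg⟩ := IsCyclic.exists_generator (α := ↥(P : Subgroup G))
      obtain ⟨m, hm⟩ := Subgroup.mem_zpowers_iff.mp (hg ⟨(a : G), haP⟩)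
      obtain ⟨n, hn⟩ := Subgroup.mem_zpowers_iff.mp (hg ⟨(b : G), hbP⟩)
      have hcomm : (⟨(a : G), haP⟩ : ↥(P : Subgroup G)) * ⟨(b : G), hbP⟩
          = ⟨(b : G), hbP⟩ * ⟨(a : G), haP⟩ := by
        rw [← hm, ← hn]
        exact (Commute.zpow_zpow (Commute.refl g) m n).eq
      have := congrArg Subtype.val hcomm
      simp only [Subgroup.coe_mul] at this
      exact Subtype.ext (by simpa using this)
  · -- `p ∤ |M|`: the commutator is a `p`-element of `M`
    set c : ↥A₀ := a * b * a⁻¹ * b⁻¹ with hc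
    have hcS : c ∈ (S : Subgroup ↥A₀) :=
      (S : Subgroup ↥A₀).mul_mem ((S : Subgroup ↥A₀).mul_mem ((S : Subgroup ↥A₀).mul_mem ha hb)
        ((S : Subgroup ↥A₀).inv_mem ha)) ((S : Subgroup ↥A₀).inv_mem hb)
    have hcM : (c : G) ∈ M := by
      have hmem : c ∈ commutator ↥A₀ := by
        rw [commutator_def, hc, ← commutatorElement_def]
        exact Subgroup.commutator_mem_commutator (Subgroup.mem_top a) (Subgroup.mem_top b)
      have := h3 hmem
      rw [Subgroup.mem_subgroupOf, Subgroup.mem_inf] at this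
      exact this.2
    obtain ⟨k, hk⟩ := (IsPGroup.iff_orderOf.mp S.2) ⟨c, hcS⟩
    have hord : orderOf (c : G) = p ^ k := by
      have h1 : orderOf (⟨c, hcS⟩ : ↥(S : Subgroup ↥A₀)) = orderOf c := Subgroup.orderOf_mk c hcS
      have h2 : orderOf (c : G) = orderOf c := Subgroup.orderOf_coe c
      rw [h2, ← h1, hk]
    have hdvd : orderOf (c : G) ∣ Nat.card ↥M := by
      have : orderOf (⟨(c : G), hcM⟩ : ↥M) ∣ Nat.card ↥M := orderOf_dvd_natCard _
      rwa [Subgroup.orderOf_mk] at this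
    have hk0 : k = 0 := by
      by_contra hk0
      apply hpM
      rw [hord] at hdvd
      exact (dvd_pow_self p hk0).trans hdvd
    rw [hk0, pow_zero, orderOf_eq_one_iff] at hord
    have hc1 : c = 1 := Subtype.ext hord
    rw [hc, ← commutatorElement_def] at hc1
    exact (commutatorElement_eq_one_iff_mul_comm.mp hc1)

end Cfsg.Agent.S3911P
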