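import Mathlib
import Cfsg.Agent.Helper26.S3911Defs
import Cfsg.Agent.S3909

/-!
# S3912 piece QD, core form (helper10): the quaternion fact QF2 enters as a hypothesis.
-/

set_option autoImplicit false

namespace Cfsg.Agent.S3912P

open Cfsg.Agent.S3911P

/-- QD with the conclusion of QF2 (the subgroup of `P` generated by the squares contains an element of
order `4` and misses one) as a hypothesis: impossible for a normal subgroup `P` of a B-group. -/
theorem QD_aux_core {G : Type*} [Group G] [Finite G] (hB : BProp G) (P : Subgroup G)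
    (hP : P.Normal)
    (hQF2 : (∃ d ∈ Subgroup.closure {y : ↥P | ∃ x : ↥P, y = x ^ 2}, orderOf d = 4) ∧
      (∃ b : ↥P, b ∉ Subgroup.closure {y : ↥P | ∃ x : ↥P, y = x ^ 2} ∧ orderOf b = 4)) : False := by
  classical
  have := hP
  set D0 : Subgroup ↥P := Subgroup.closure {y : ↥P | ∃ x : ↥P, y = x ^ 2} with hD0
  -- `D0` is invariant under conjugation by `G`
  have hinv : ∀ g : G, ∀ d ∈ D0, MulAut.conjNormal g d ∈ D0 := by
    intro g d hd
    rw [hD0] at hd
    induction hd using Subgroup.closure_induction with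
    | mem y hy =>
      obtain ⟨x, rfl⟩ := hy
      rw [map_pow]
      exact Subgroup.subset_closure ⟨_, rfl⟩
    | one => rw [map_one]; exact D0.one_mem
    | mul a b _ _ iha ihb => rw [map_mul]; exact D0.mul_mem iha ihb
    | inv a _ iha => rw [map_inv]; exact D0.inv_mem iha
  set D : Subgroup G := D0.map P.subtype with hD
  have hDn : D.Normal := by
    refine ⟨fun n hn g => ?_⟩
    rw [hD] at hn
    obtain ⟨d, hd, rfl⟩ := Subgroup.mem_map.mp hn
    rw [hD]
    refine Subgroup.mem_map.mpr ⟨MulAut.conjNormal g d, hinv g d hd, ?_⟩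
    rw [Subgroup.coe_subtype, MulAut.conjNormal_apply]
  have := hDn
  obtain ⟨⟨d, hd, hd4⟩, ⟨b, hb, hb4⟩⟩ := hQF2
  have habs := (Cfsg.Agent.S3909.result hB D).1
  have hbD : (b : G) ∈ D := by
    apply habs
    refine ⟨(d : G), ?_, ?_⟩
    · rw [hD]
      exact Subgroup.mem_map_of_mem P.subtype hd
    · rw [Subgroup.orderOf_coe, Subgroup.orderOf_coe, hd4, hb4]
  rw [hD] at hbD
  obtain ⟨d', hd', hd'b⟩ := Subgroup.mem_map.mp hbD
  have : d' = b := Subtype.ext hd'b
  rw [this] at hd'
  exact hb hd'

end Cfsg.Agent.S3912P
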