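import Mathlib

/-!
# S3912 piece QF2 (helper10 hedge copy, name `QF2h`): in a generalized quaternion group with `4 ∣ m`
the subgroup generated by the squares contains an element of order `4` and misses one.
-/

set_option autoImplicit false

namespace Cfsg.Agent.S3912P

open QuaternionGroup in
/-- the "rotation" subgroup `{a i}` of `QuaternionGroup m`. -/
def QF2h_aux_rot (m : ℕ) : Subgroup (QuaternionGroup m) where
  carrier := {g | ∃ i, g = a i}
  one_mem' := ⟨0, by rw [a_zero]⟩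
  mul_mem' := by
    rintro _ _ ⟨i, rfl⟩ ⟨j, rfl⟩
    exact ⟨i + j, a_mul_a i j⟩
  inv_mem' := by
    rintro _ ⟨i, rfl⟩
    refine ⟨-i, ?_⟩
    rw [inv_eq_iff_mul_eq_one, a_mul_a, add_neg_cancel, a_zero]

open QuaternionGroup in
theorem QF2h_aux_sq_mem (m : ℕ) (g : QuaternionGroup m) : g ^ 2 ∈ QF2h_aux_rot m := by
  cases g with
  | a i => exact ⟨i + i, by rw [sq, a_mul_a]⟩
  | xa i => exact ⟨(m : ZMod (2 * m)), xa_sq i⟩

open QuaternionGroup in
theorem QF2h_aux_xa_not_mem (m : ℕ) : (xa 0 : QuaternionGroup m) ∉ QF2h_aux_rot m := by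
  rintro ⟨i, hi⟩
  cases hi

open QuaternionGroup in
theorem QF2h_aux_order (c : ℕ) (hc : c ≠ 0) :
    orderOf (a ((2 * c : ℕ) : ZMod (2 * (4 * c))) : QuaternionGroup (4 * c)) = 4 := by
  have : NeZero (4 * c) := ⟨by omega⟩
  have h4 : (a ((2 * c : ℕ) : ZMod (2 * (4 * c))) : QuaternionGroup (4 * c)) ^ 4 = 1 := by
    have : (a ((2 * c : ℕ) : ZMod (2 * (4 * c))) : QuaternionGroup (4 * c)) = (a 1) ^ (2 * c) := by
      rw [a_one_pow]
    rw [this, ← pow_mul, show 2 * c * 4 = 2 * (4 * c) by ring, a_one_pow_n]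
  have h2 : (a ((2 * c : ℕ) : ZMod (2 * (4 * c))) : QuaternionGroup (4 * c)) ^ 2 ≠ 1 := by
    have : (a ((2 * c : ℕ) : ZMod (2 * (4 * c))) : QuaternionGroup (4 * c)) = (a 1) ^ (2 * c) := by
      rw [a_one_pow]
    rw [this, ← pow_mul]
    intro h
    have hdvd := orderOf_dvd_of_pow_eq_one h
    rw [orderOf_a_one] at hdvd
    have := Nat.le_of_dvd (by omega) hdvd
    omega
  have := orderOf_eq_prime_pow (p := 2) (n := 1) (by simpa using h2) (by simpa using h4)
  simpa using this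

/-- QF2 (hedge copy). -/
theorem QF2h {P : Type*} [Group P] (m : ℕ) (hm : 4 ∣ m) (hm0 : m ≠ 0) (e : P ≃* QuaternionGroup m) :
    (∃ d ∈ Subgroup.closure {y : P | ∃ x : P, y = x ^ 2}, orderOf d = 4) ∧
    (∃ b : P, b ∉ Subgroup.closure {y : P | ∃ x : P, y = x ^ 2} ∧ orderOf b = 4) := by
  classical
  obtain ⟨c, rfl⟩ := hm
  have hc : c ≠ 0 := by rintro rfl; exact hm0 rfl
  have : NeZero (4 * c) := ⟨hm0⟩
  constructor
  · refine ⟨e.symm (QuaternionGroup.a ((2 * c : ℕ) : ZMod (2 * (4 * c)))), ?_, ?_⟩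
    · apply Subgroup.subset_closure
      refine ⟨e.symm (QuaternionGroup.a ((c : ℕ) : ZMod (2 * (4 * c)))), ?_⟩
      rw [← map_pow]
      congr 1
      rw [sq, QuaternionGroup.a_mul_a]
      congr 1
      push_cast
      ring
    · rw [MulEquiv.orderOf_eq]
      exact QF2h_aux_order c hc
  · refine ⟨e.symm (QuaternionGroup.xa 0), ?_, ?_⟩
    · intro hmem
      have hle : Subgroup.closure {y : P | ∃ x : P, y = x ^ 2}
          ≤ (QF2h_aux_rot (4 * c)).comap e.toMonoidHom := by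
        rw [Subgroup.closure_le]
        rintro y ⟨x, rfl⟩
        rw [SetLike.mem_coe, Subgroup.mem_comap]
        change e (x ^ 2) ∈ _
        rw [map_pow]
        exact QF2h_aux_sq_mem _ _
      have := hle hmem
      rw [Subgroup.mem_comap] at this
      change e (e.symm _) ∈ _ at this
      rw [MulEquiv.apply_symm_apply] at this
      exact QF2h_aux_xa_not_mem _ this
    · rw [MulEquiv.orderOf_eq]
      exact QuaternionGroup.orderOf_xa 0

end Cfsg.Agent.S3912P
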