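import Mathlib
import Cfsg.Agent.Helper26.S3911Defs
import Cfsg.Agent.Helper10.S3912QDcore
import Cfsg.Agent.Helper10.S3912QF2h

/-!
# S3912 piece QD (helper10): a B-group has no normal quaternion Sylow `2`-subgroup of order `≥ 16`.
-/

set_option autoImplicit false

namespace Cfsg.Agent.S3912P

open Cfsg.Agent.S3911P

/-- QD (M): a B-group has no normal quaternion Sylow `2`-subgroup of order `≥ 16`. -/
theorem QD {G : Type*} [Group G] [Finite G] (hB : BProp G) (P : Sylow 2 G) (m : ℕ) (hm : 4 ∣ m)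
    (hm0 : m ≠ 0) (e : ↥(P : Subgroup G) ≃* QuaternionGroup m) (hP : (P : Subgroup G).Normal) : False :=
  QD_aux_core hB (P : Subgroup G) hP (QF2h m hm hm0 e)

end Cfsg.Agent.S3912P
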