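import Mathlib
import Cfsg.Agent.Helper11.S4409Defs
import Cfsg.Agent.Helper11.S4409Q0
import Cfsg.Agent.Helper26.Basic

/-!
# S4409 board, piece Q6 (helper10), core: `Q8 ∘ Q8` is extraspecial of order `32`.
The two Frattini facts F1 (`Der P ≤ Fr P`) and F5 (`Fr P` is the least subgroup with elementary abelian quotient)
are taken as hypotheses for `P = Y ⊔ C`.
-/

set_option autoImplicit false
set_option linter.unusedVariables false

namespace Cfsg.Agent.S4409P

open Subgroup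
open scoped commutatorElement

variable {S : Type*} [Group S] [Finite S]

omit [Finite S] in
/-- elementwise commuting subgroups: every element of `Y ⊔ C` is a product -/
theorem Q6_aux_mem_sup {Y C : Subgroup S} (hc : ∀ y ∈ Y, ∀ c ∈ C, y * c = c * y)
    {v : S} (hv : v ∈ Y ⊔ C) : ∃ y ∈ Y, ∃ c ∈ C, v = y * c := by
  have hc' : ∀ (a : Y) (b : C), Commute (Y.subtype a) (C.subtype b) := fun a b => hc a a.2 b b.2
  have h1 := MonoidHom.noncommCoprod_range Y.subtype C.subtype hc'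
  rw [Subgroup.range_subtype, Subgroup.range_subtype] at h1
  rw [← h1] at hv
  obtain ⟨⟨a, b⟩, rfl⟩ := hv
  exact ⟨a, a.2, b, b.2, rfl⟩

/-- Q6, core -/
theorem Q6_aux_core (Y C : Subgroup S) (hY : IsQ8 Y) (hC : IsQ8 C) (hCY : C ≤ centralizer (Y : Set S))
    (hint : Y ⊓ C = Zc Y)
    (hF1 : Der (Y ⊔ C) ≤ Fr (Y ⊔ C))
    (hF5 : ∀ H : Subgroup S, H ≤ Y ⊔ C → Der (Y ⊔ C) ≤ H → (∀ x ∈ Y ⊔ C, x * x ∈ H) → Fr (Y ⊔ C) ≤ H) :
    SpecialInt (Y ⊔ C) ∧ Nat.card ↥(Zc (Y ⊔ C)) = 2 ∧ Nat.card ↥(Y ⊔ C) = 32 := by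
  obtain ⟨hZY2, hDerY, hsqY, -, -⟩ := q8_basic Y hY
  obtain ⟨hZC2, hDerC, hsqC, -, -⟩ := q8_basic C hC
  -- elementwise commutation
  have hyc : ∀ y ∈ Y, ∀ c ∈ C, y * c = c * y := by
    intro y hy c hc
    exact (Subgroup.mem_centralizer_iff.mp (hCY hc)) y hy
  -- `Z := Zc Y = Zc C`
  have hZleC : Zc Y ≤ C := by rw [← hint]; exact inf_le_right
  have hZZ : Zc Y ≤ Zc C := by
    intro z hz
    rw [mem_Zc]
    refine ⟨hZleC hz, ?_⟩
    intro c hc
    exact (hyc z (Zc_le Y hz) c hc).symm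
  have hZeq : Zc Y = Zc C := by
    apply Subgroup.eq_of_le_of_card_ge hZZ
    rw [hZY2, hZC2]
  -- the centre
  have hZX : Zc (Y ⊔ C) = Zc Y := by
    apply le_antisymm
    · intro x hx
      obtain ⟨hxX, hxc⟩ := mem_Zc.mp hx
      obtain ⟨y, hy, c, hc, rfl⟩ := Q6_aux_mem_sup hyc hxX
      have hyZ : y ∈ Zc Y := by
        rw [mem_Zc]
        refine ⟨hy, ?_⟩
        intro y' hy'
        have h1 := hxc y' (le_sup_left (a := Y) (b := C) hy')
        have h2 := hyc y' hy' c hc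
        have h3 : y' * y * c = y * y' * c := by
          calc y' * y * c = y' * (y * c) := by group
            _ = y * c * y' := h1
            _ = y * (c * y') := by group
            _ = y * (y' * c) := by rw [h2]
            _ = y * y' * c := by group
        exact mul_right_cancel h3
      have hcZ : c ∈ Zc C := by
        rw [mem_Zc]
        refine ⟨hc, ?_⟩
        intro c' hc'
        have h1 := hxc c' (le_sup_right (a := Y) (b := C) hc')
        have h2 := hyc y hy c' hc'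
        have h3 : y * (c' * c) = y * (c * c') := by
          calc y * (c' * c) = (y * c') * c := by group
            _ = c' * y * c := by rw [h2]
            _ = c' * (y * c) := by group
            _ = y * c * c' := h1
            _ = y * (c * c') := by group
        exact mul_left_cancel h3
      rw [← hZeq] at hcZ
      exact (Zc Y).mul_mem hyZ hcZ
    · intro z hz
      rw [mem_Zc]
      refine ⟨le_sup_left (a := Y) (b := C) (Zc_le Y hz), ?_⟩
      intro x hx
      obtain ⟨y, hy, c, hc, rfl⟩ := Q6_aux_mem_sup hyc hx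
      have h1 := (mem_Zc.mp hz).2 y hy
      have h2 := (mem_Zc.mp (hZZ hz)).2 c hc
      calc y * c * z = y * (c * z) := by group
        _ = y * (z * c) := by rw [h2]
        _ = (y * z) * c := by group
        _ = z * y * c := by rw [h1]
        _ = z * (y * c) := by group
  -- the order
  have hcard : Nat.card ↥(Y ⊔ C) = 32 := by
    have hN : Y ≤ Subgroup.normalizer (C : Set S) := by
      intro y hy
      rw [Subgroup.mem_normalizer_iff]
      intro c
      constructor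
      · intro hc
        have : y * c * y⁻¹ = c := by rw [hyc y hy c hc]; group
        rwa [this]
      · intro hc
        have h2 := hyc y hy _ hc
        have e : c = y * c * y⁻¹ := by
          calc c = y⁻¹ * (y * c * y⁻¹ * y) := by group
            _ = y⁻¹ * (y * (y * c * y⁻¹)) := by rw [← h2]
            _ = y * c * y⁻¹ := by group
        rw [e]; exact hc
    have h1 := Cfsg.Agent.Helper26.card_sup_mul_card_inf hN
    rw [hint, hZY2, hY.1, hC.1] at h1
    omega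
  -- the derived subgroup
  have hDle : Der (Y ⊔ C) ≤ Zc Y := by
    unfold Der
    rw [Subgroup.commutator_le]
    intro a ha b hb
    obtain ⟨y, hy, c, hc, rfl⟩ := Q6_aux_mem_sup hyc ha
    obtain ⟨y', hy', c', hc', rfl⟩ := Q6_aux_mem_sup hyc hb
    have h1 : ⁅y, y'⁆ ∈ Zc Y := by
      rw [← hDerY]; exact Subgroup.commutator_mem_commutator hy hy'
    have h2 : ⁅c, c'⁆ ∈ Zc Y := by
      rw [hZeq, ← hDerC]; exact Subgroup.commutator_mem_commutator hc hc'
    have e : ⁅y * c, y' * c'⁆ = ⁅y, y'⁆ * ⁅c, c'⁆ := by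
      rw [commutatorElement_def, commutatorElement_def, commutatorElement_def]
      have a1 := hyc y hy c' hc'
      have a2 := hyc y' hy' c hc
      have a3 := hyc y' hy' c' hc'
      have a4 := hyc y hy c hc
      have a1' : c'⁻¹ * y = y * c'⁻¹ := by
        have := hyc y hy c'⁻¹ (C.inv_mem hc'); exact this.symm
      have a2' : c⁻¹ * y' = y' * c⁻¹ := by
        have := hyc y' hy' c⁻¹ (C.inv_mem hc); exact this.symm
      have b1 : c * y' = y' * c := a2.symm
      have b2 : c * y⁻¹ = y⁻¹ * c := by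
        have := hyc y⁻¹ (Y.inv_mem hy) c hc; exact this.symm
      have b3 : c' * y⁻¹ = y⁻¹ * c' := by
        have := hyc y⁻¹ (Y.inv_mem hy) c' hc'; exact this.symm
      have b4 : c⁻¹ * y⁻¹ = y⁻¹ * c⁻¹ := by
        have := hyc y⁻¹ (Y.inv_mem hy) c⁻¹ (C.inv_mem hc); exact this.symm
      have b5 : c * y'⁻¹ = y'⁻¹ * c := by
        have := hyc y'⁻¹ (Y.inv_mem hy') c hc; exact this.symm
      have b6 : c' * y'⁻¹ = y'⁻¹ * c' := by
        have := hyc y'⁻¹ (Y.inv_mem hy') c' hc'; exact this.symm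
      have b7 : c⁻¹ * y'⁻¹ = y'⁻¹ * c⁻¹ := by
        have := hyc y'⁻¹ (Y.inv_mem hy') c⁻¹ (C.inv_mem hc); exact this.symm
      have b8 : c'⁻¹ * y'⁻¹ = y'⁻¹ * c'⁻¹ := by
        have := hyc y'⁻¹ (Y.inv_mem hy') c'⁻¹ (C.inv_mem hc'); exact this.symm
      calc y * c * (y' * c') * (y * c)⁻¹ * (y' * c')⁻¹
          = y * (c * y') * c' * c⁻¹ * y⁻¹ * c'⁻¹ * y'⁻¹ := by group
        _ = y * (y' * c) * c' * c⁻¹ * y⁻¹ * c'⁻¹ * y'⁻¹ := by rw [b1]
        _ = y * y' * c * c' * (c⁻¹ * y⁻¹) * c'⁻¹ * y'⁻¹ := by group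
        _ = y * y' * c * c' * (y⁻¹ * c⁻¹) * c'⁻¹ * y'⁻¹ := by rw [b4]
        _ = y * y' * c * (c' * y⁻¹) * c⁻¹ * c'⁻¹ * y'⁻¹ := by group
        _ = y * y' * c * (y⁻¹ * c') * c⁻¹ * c'⁻¹ * y'⁻¹ := by rw [b3]
        _ = y * y' * (c * y⁻¹) * c' * c⁻¹ * c'⁻¹ * y'⁻¹ := by group
        _ = y * y' * (y⁻¹ * c) * c' * c⁻¹ * c'⁻¹ * y'⁻¹ := by rw [b2]
        _ = y * y' * y⁻¹ * c * c' * c⁻¹ * (c'⁻¹ * y'⁻¹) := by group
        _ = y * y' * y⁻¹ * c * c' * c⁻¹ * (y'⁻¹ * c'⁻¹) := by rw [b8]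
        _ = y * y' * y⁻¹ * c * c' * (c⁻¹ * y'⁻¹) * c'⁻¹ := by group
        _ = y * y' * y⁻¹ * c * c' * (y'⁻¹ * c⁻¹) * c'⁻¹ := by rw [b7]
        _ = y * y' * y⁻¹ * c * (c' * y'⁻¹) * c⁻¹ * c'⁻¹ := by group
        _ = y * y' * y⁻¹ * c * (y'⁻¹ * c') * c⁻¹ * c'⁻¹ := by rw [b6]
        _ = y * y' * y⁻¹ * (c * y'⁻¹) * c' * c⁻¹ * c'⁻¹ := by group
        _ = y * y' * y⁻¹ * (y'⁻¹ * c) * c' * c⁻¹ * c'⁻¹ := by rw [b5]
        _ = y * y' * y⁻¹ * y'⁻¹ * (c * c' * c⁻¹ * c'⁻¹) := by group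
    rw [e]
    exact (Zc Y).mul_mem h1 h2
  have hDge : Zc Y ≤ Der (Y ⊔ C) := by
    rw [← hDerY]
    unfold Der
    exact Subgroup.commutator_mono le_sup_left le_sup_left
  have hDer : Der (Y ⊔ C) = Zc Y := le_antisymm hDle hDge
  -- the Frattini subgroup
  have hFr : Fr (Y ⊔ C) = Zc Y := by
    apply le_antisymm
    · apply hF5 (Zc Y) ((Zc_le Y).trans le_sup_left) hDle
      intro x hx
      obtain ⟨y, hy, c, hc, rfl⟩ := Q6_aux_mem_sup hyc hx
      have h1 := hsqY y hy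
      have h2 := hsqC c hc
      rw [← hZeq] at h2
      have e : y * c * (y * c) = (y * y) * (c * c) := by
        calc y * c * (y * c) = y * (c * y) * c := by group
          _ = y * (y * c) * c := by rw [hyc y hy c hc]
          _ = (y * y) * (c * c) := by group
      rw [e]
      exact (Zc Y).mul_mem h1 h2
    · rw [← hDer]; exact hF1
  refine ⟨⟨?_, ?_⟩, ?_, hcard⟩
  · rw [hFr, hZX]
  · rw [hDer, hZX]
  · rw [hZX, hZY2]

end Cfsg.Agent.S4409P
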