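import Mathlib
import Cfsg.Agent.Helper10.S4409Q6core
import Cfsg.Agent.Helper9.S4409F

/-!
# S4409 board, piece Q6 (helper10): `Q8 ∘ Q8` is extraspecial of order `32`.
-/

set_option autoImplicit false
set_option linter.unusedVariables false

namespace Cfsg.Agent.S4409P

open Subgroup
open scoped commutatorElement

variable {S : Type*} [Group S] [Finite S]

/-- Q6 : `Q8 ∘ Q8` is extraspecial of order `32`. -/
theorem q8q8 (Y C : Subgroup S) (hY : IsQ8 Y) (hC : IsQ8 C) (hCY : C ≤ centralizer (Y : Set S)) (hint : Y ⊓ C = Zc Y) :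
    SpecialInt (Y ⊔ C) ∧ Nat.card ↥(Zc (Y ⊔ C)) = 2 ∧ Nat.card ↥(Y ⊔ C) = 32 := by
  have hyc : ∀ y ∈ Y, ∀ c ∈ C, y * c = c * y := by
    intro y hy c hc
    exact (Subgroup.mem_centralizer_iff.mp (hCY hc)) y hy
  have hN : Y ≤ Subgroup.normalizer (C : Set S) := by
    intro y hy
    rw [Subgroup.mem_normalizer_iff]
    intro c
    constructor
    · intro hc
      have : y * c * y⁻¹ = c := by rw [hyc y hy c hc]; group
      rwa [this]
    · intro hc
      have h2 := hyc y hy _ hc
      have e : c = y * c * y⁻¹ := by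
        calc c = y⁻¹ * (y * c * y⁻¹ * y) := by group
          _ = y⁻¹ * (y * (y * c * y⁻¹)) := by rw [← h2]
          _ = y * c * y⁻¹ := by group
      rw [e]; exact hc
  have hP : IsPGroup 2 ↥(Y ⊔ C) := IsPGroup.to_sup_of_normal_right' hY.isPGroup hC.isPGroup hN
  exact Q6_aux_core Y C hY hC hCY hint (F7_aux_der_le_fr (Y ⊔ C) hP)
    (fun H hH hder hsq => fr_le_of (Y ⊔ C) H hP hH hder hsq)

end Cfsg.Agent.S4409P
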