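import Cfsg.Agent.Helper1.S5665.Lib

set_option autoImplicit false
set_option linter.unusedSectionVars false
set_option linter.unusedVariables false

/-! # S5665, piece HEIS: the commutator in the Heisenberg group `Q_z` -/

namespace Cfsg.Agent.S5665P

open Matrix Module Cfsg.Agent.Helper2.Sp Cfsg.Agent.Helper28.Sg Cfsg.Agent.S5700P

variable {F : Type*} [Field F] [Fintype F] {m : ℕ}
  {δ : Matrix (Fin m ⊕ Fin m) (Fin m ⊕ Fin m) F} {d : F}

local notation "V" => (Fin m ⊕ Fin m → F)
local notation "Mat" => Matrix (Fin m ⊕ Fin m) (Fin m ⊕ Fin m) F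
local notation "Sp" => Matrix.symplecticGroup (Fin m) F

namespace HEIS

/-- `g` acts as the Heisenberg element `E r s` relative to `z`:
`v ↦ v + om v r • z + om v z • r + (s * om v z) • z` -/
def IsE (z : V) (g : Sp) (r : V) (s : F) : Prop :=
  ∀ v : V, g.1 *ᵥ v = v + om v r • z + om v z • r + (s * om v z) • z

/-- the product of two of the involutions is a Heisenberg element -/
theorem isE_of_iota {z y y' : V} (h : om z y = 1) (h' : om z y' = 1) {i i' : Sp}
    (hi : IsIota i z y) (hi' : IsIota i' z y') :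
    IsE z (i * i') ((2 : F) • (y' - y)) (-(4 * om y' y)) := by
  intro v
  have hyz : om y' z = -1 := by rw [om_swap z y', h']
  rw [mul_mulVec, hi', hi]
  simp only [om_add_left, om_sub_left, om_smul_left, om_smul_right, om_sub_right, om_self, h,
    hyz]
  module

/-- composition of Heisenberg elements -/
theorem isE_mul {z r r' : V} {s s' : F} {g g' : Sp} (hr : om z r = 0) (hr' : om z r' = 0)
    (hg : IsE z g r s) (hg' : IsE z g' r' s') :
    IsE z (g * g') (r + r') (s + s' + om r' r) := by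
  intro v
  have h1 : om r' z = 0 := by rw [om_swap z r', hr', neg_zero]
  rw [mul_mulVec, hg', hg]
  simp only [om_add_left, om_add_right, om_smul_left, om_self, h1, hr]
  module

/-- a transvection with centre `z` times a Heisenberg element -/
theorem isE_Tg_mul {z r : V} {s : F} {g : Sp} (hr : om z r = 0) (hg : IsE z g r s) (c : F) :
    IsE z (Tg z c * g) r (s - c) := by
  intro v
  rw [mul_mulVec, hg, Tg_mulVec]
  simp only [om_add_right, om_smul_right, om_self, hr]
  rw [om_swap v z]
  module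

theorem isE_ext {z r : V} {s : F} {g g' : Sp} (hg : IsE z g r s) (hg' : IsE z g' r s) :
    g = g' := by
  apply ext_mulVec
  intro v
  rw [hg, hg']

end HEIS

theorem HEIS.comm {z y0 y1 y2 : V} (h0 : om z y0 = 1) (h1 : om z y1 = 1) (h2' : om z y2 = 1)
    {i0 i1 i2 : Sp} (hi0 : IsIota i0 z y0) (hi1 : IsIota i1 z y1) (hi2 : IsIota i2 z y2) :
    (i0 * i1) * (i0 * i2) * (i0 * i1)⁻¹ * (i0 * i2)⁻¹ = Tg z (8 * om (y1 - y0) (y2 - y0)) := by
  have hA := HEIS.isE_of_iota h0 h1 hi0 hi1
  have hB := HEIS.isE_of_iota h0 h2' hi0 hi2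
  have hrA : om z ((2 : F) • (y1 - y0)) = 0 := by
    rw [om_smul_right, om_sub_right, h0, h1]; ring
  have hrB : om z ((2 : F) • (y2 - y0)) = 0 := by
    rw [om_smul_right, om_sub_right, h0, h2']; ring
  have hAB := HEIS.isE_mul hrA hrB hA hB
  have hBA := HEIS.isE_mul hrB hrA hB hA
  have hsum : om z ((2 : F) • (y2 - y0) + (2 : F) • (y1 - y0)) = 0 := by
    rw [om_add_right, hrA, hrB]; ring
  have hT := HEIS.isE_Tg_mul hsum hBA (8 * om (y1 - y0) (y2 - y0))
  have key : (i0 * i1) * (i0 * i2) = Tg z (8 * om (y1 - y0) (y2 - y0)) * ((i0 * i2) * (i0 * i1)) := by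
    refine HEIS.isE_ext (r := (2 : F) • (y1 - y0) + (2 : F) • (y2 - y0)) (z := z)
      (s := -(4 * om y1 y0) + -(4 * om y2 y0) + om ((2 : F) • (y2 - y0)) ((2 : F) • (y1 - y0))) hAB ?_
    intro v
    rw [hT v]
    have e : om ((2 : F) • (y1 - y0)) ((2 : F) • (y2 - y0)) = 4 * om (y1 - y0) (y2 - y0) := by
      rw [om_smul_left, om_smul_right]; ring
    have e' : om ((2 : F) • (y2 - y0)) ((2 : F) • (y1 - y0)) = - (4 * om (y1 - y0) (y2 - y0)) := by
      rw [om_smul_left, om_smul_right, om_swap (y1 - y0) (y2 - y0)]; ring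
    rw [e, e']
    simp only [om_add_right]
    module
  rw [key]
  group

end Cfsg.Agent.S5665P
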