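import Mathlib
import Cfsg.Agent.Helper23.S5961Defs

set_option autoImplicit false

/-! S5961 piece ORTHC: orthogonal complements of nondegenerate subspaces for an alternating
form. -/

namespace Cfsg.Agent.S5961P

open Polynomial Cfsg.Agent.Helper2.SympInvol Cfsg.Agent.Helper2.SympUnits

namespace ORTHC

theorem skew' {F V : Type*} [Field F] [AddCommGroup V] [Module F V]
    (B : LinearMap.BilinForm F V) (halt : ∀ v, B v v = 0) (u v : V) : B u v = - B v u := by
  have h := halt (u + v)
  simp only [map_add, LinearMap.add_apply, halt, zero_add, add_zero] at h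
  exact eq_neg_of_add_eq_zero_left (by rw [add_comm]; exact h)

theorem nondeg_of_isCompl {F V : Type*} [Field F] [AddCommGroup V] [Module F V]
    (B : LinearMap.BilinForm F V) (halt : ∀ v, B v v = 0) (U W : Submodule F V)
    (hc : IsCompl U W) (ho : Orth B U W) (hnd : Nondeg B ⊤) : Nondeg B W := by
  intro m hm hm0
  obtain ⟨v, -, hv⟩ := hnd m trivial hm0
  have hv' : v ∈ U ⊔ W := by rw [hc.sup_eq_top]; trivial
  obtain ⟨u, hu, w, hw, rfl⟩ := Submodule.mem_sup.mp hv'
  refine ⟨w, hw, ?_⟩
  intro h0
  apply hv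
  rw [map_add, h0, add_zero, skew' B halt, ho u hu m hm, neg_zero]

end ORTHC

open ORTHC in
/-- ORTHC: orthogonal complements of nondegenerate invariant subspaces -/
theorem orth_compl {F V : Type*} [Field F] [AddCommGroup V] [Module F V] [FiniteDimensional F V]
    (B : LinearMap.BilinForm F V) (halt : ∀ v, B v v = 0) (U : Submodule F V) (hU : Nondeg B U) :
    IsCompl U (B.orthogonal U) ∧ Orth B U (B.orthogonal U) ∧ Orth B (B.orthogonal U) U ∧
    (Nondeg B ⊤ → Nondeg B (B.orthogonal U)) ∧
    (∀ y : Module.End F V, (∀ u v, B (y u) (y v) = B u v) → Function.Injective y → U.map y ≤ U →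
      (B.orthogonal U).map y ≤ B.orthogonal U) ∧
    (∀ W : Submodule F V, IsCompl U W → Orth B U W → Nondeg B ⊤ → Nondeg B W) := by
  have hrefl : B.IsRefl := by
    intro u v h
    rw [skew' B halt, h, neg_zero]
  have hdisj : Disjoint U (B.orthogonal U) := by
    rw [Submodule.disjoint_def]
    intro x hx1 hx2
    by_contra hx0
    obtain ⟨v, hv, hne⟩ := hU x hx1 hx0
    apply hne
    rw [skew' B halt, (LinearMap.BilinForm.mem_orthogonal_iff.mp hx2) v hv, neg_zero]
  have hcompl : IsCompl U (B.orthogonal U) :=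
    (LinearMap.BilinForm.isCompl_orthogonal_iff_disjoint hrefl).mpr hdisj
  have ho1 : Orth B U (B.orthogonal U) := by
    intro u hu v hv
    exact (LinearMap.BilinForm.mem_orthogonal_iff.mp hv) u hu
  have ho2 : Orth B (B.orthogonal U) U := by
    intro v hv u hu
    rw [skew' B halt, ho1 u hu v hv, neg_zero]
  refine ⟨hcompl, ho1, ho2, ?_, ?_, ?_⟩
  · intro hnd
    exact nondeg_of_isCompl B halt U _ hcompl ho1 hnd
  · intro y hyB hinj hUy
    have hmap : U.map y = U := by
      apply Submodule.eq_of_le_of_finrank_eq hUy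
      exact (LinearEquiv.finrank_eq (Submodule.equivMapOfInjective y hinj U)).symm
    rintro _ ⟨m, hm, rfl⟩
    rw [LinearMap.BilinForm.mem_orthogonal_iff]
    intro n hn
    rw [← hmap] at hn
    obtain ⟨n', hn', rfl⟩ := hn
    rw [hyB]
    exact (LinearMap.BilinForm.mem_orthogonal_iff.mp hm) n' hn'
  · intro W hc ho hnd
    exact nondeg_of_isCompl B halt U W hc ho hnd

end Cfsg.Agent.S5961P
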