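import Mathlib
import Cfsg.Agent.Helper23.S5961Defs

set_option autoImplicit false

/-! S5961 piece FIXSPLIT: for an isometry `y` with `y ^ r = 1`, `r` prime to the characteristic,
`V = ker (y - 1) ⊥ range (y - 1)`. -/

namespace Cfsg.Agent.S5961P

open Polynomial Cfsg.Agent.Helper2.SympInvol Cfsg.Agent.Helper2.SympUnits

namespace FIXSPLIT

theorem cast_ne_zero {F : Type*} [Field F] {p : ℕ} [Fact p.Prime] [CharP F p] (r : ℕ)
    [Fact r.Prime] (hrp : r ≠ p) : (r : F) ≠ 0 := by
  intro h
  have hd : p ∣ r := (CharP.cast_eq_zero_iff F p r).mp h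
  have := (Nat.prime_dvd_prime_iff_eq (Fact.out : p.Prime) (Fact.out : r.Prime)).mp hd
  exact hrp this.symm

theorem pow_apply_of_fixed {F V : Type*} [Field F] [AddCommGroup V] [Module F V]
    (y : Module.End F V) (v : V) (hv : y v = v) (j : ℕ) : (y ^ j) v = v := by
  induction j with
  | zero => simp
  | succ j ih => rw [pow_succ, Module.End.mul_apply, hv, ih]

end FIXSPLIT

open FIXSPLIT in
/-- FIXSPLIT: `V = ker (y-1) ⊥ range (y-1)` -/
theorem fix_split {F V : Type*} [Field F] [AddCommGroup V] [Module F V] [FiniteDimensional F V]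
    {p : ℕ} [Fact p.Prime] [CharP F p] (r : ℕ) [Fact r.Prime] (hrp : r ≠ p)
    (B : LinearMap.BilinForm F V) (y : Module.End F V)
    (hyB : ∀ u v, B (y u) (y v) = B u v) (hy : y ^ r = 1) :
    IsCompl (LinearMap.ker (y - 1)) (LinearMap.range (y - 1)) ∧
    Orth B (LinearMap.ker (y - 1)) (LinearMap.range (y - 1)) ∧
    Orth B (LinearMap.range (y - 1)) (LinearMap.ker (y - 1)) ∧
    (LinearMap.range (y - 1)).map y ≤ LinearMap.range (y - 1) ∧
    (LinearMap.ker (y - 1)).map y ≤ LinearMap.ker (y - 1) := by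
  have hr0 : (r : F) ≠ 0 := cast_ne_zero (F := F) (p := p) r hrp
  have hker : ∀ v, v ∈ LinearMap.ker (y - 1) ↔ y v = v := by
    intro v
    rw [LinearMap.mem_ker, LinearMap.sub_apply, Module.End.one_apply, sub_eq_zero]
  have hdisj : Disjoint (LinearMap.ker (y - 1)) (LinearMap.range (y - 1)) := by
    rw [Submodule.disjoint_def]
    intro v hv1 hv2
    have hfix : y v = v := (hker v).mp hv1
    obtain ⟨w, rfl⟩ := hv2
    -- `S = ∑ y^j` kills the range and multiplies fixed vectors by `r`
    have hS : (∑ j ∈ Finset.range r, y ^ j) * (y - 1) = 0 := by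
      rw [geom_sum_mul, hy, sub_self]
    have h1 : (∑ j ∈ Finset.range r, y ^ j) ((y - 1) w) = 0 := by
      rw [← Module.End.mul_apply, hS, LinearMap.zero_apply]
    have h2 : (∑ j ∈ Finset.range r, y ^ j) ((y - 1) w) = (r : F) • ((y - 1) w) := by
      rw [LinearMap.sum_apply]
      rw [Finset.sum_congr rfl (fun j _ => pow_apply_of_fixed y _ hfix j)]
      rw [Finset.sum_const, Finset.card_range, Nat.cast_smul_eq_nsmul]
    rw [h2] at h1
    exact (smul_eq_zero.mp h1).resolve_left hr0
  have hcompl : IsCompl (LinearMap.ker (y - 1)) (LinearMap.range (y - 1)) := by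
    refine ⟨hdisj, ?_⟩
    rw [codisjoint_iff]
    apply Submodule.eq_top_of_disjoint
    · rw [add_comm, LinearMap.finrank_range_add_finrank_ker]
    · exact hdisj
  refine ⟨hcompl, ?_, ?_, ?_, ?_⟩
  · intro u hu v hv
    have hfix : y u = u := (hker u).mp hu
    obtain ⟨w, rfl⟩ := hv
    rw [LinearMap.sub_apply, Module.End.one_apply, map_sub]
    nth_rewrite 1 [← hfix]
    rw [hyB, sub_self]
  · intro v hv u hu
    have hfix : y u = u := (hker u).mp hu
    obtain ⟨w, rfl⟩ := hv
    rw [LinearMap.sub_apply, Module.End.one_apply, map_sub, LinearMap.sub_apply]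
    nth_rewrite 1 [← hfix]
    rw [hyB, sub_self]
  · rintro _ ⟨v, hv, rfl⟩
    obtain ⟨w, rfl⟩ := hv
    refine ⟨y w, ?_⟩
    simp only [LinearMap.sub_apply, Module.End.one_apply, map_sub]
  · rintro _ ⟨v, hv, rfl⟩
    have hfix : y v = v := (hker v).mp hv
    rw [hfix]
    exact hv

end Cfsg.Agent.S5961P
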