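import Mathlib
import Cfsg.Agent.Helper5.VL.Defs

/-!
# S3777 board, piece PHI2 (helper10): `x ^ p ∈ Phi p G`.
-/

set_option autoImplicit false
set_option linter.style.haveILetI false
set_option linter.unusedSectionVars false
set_option linter.unusedVariables false

namespace Cfsg.Agent.Helper5.VL

open Subgroup
open scoped commutatorElement

universe u
variable {p : ℕ} [Fact p.Prime] {G : Type u} [Group G] [Finite G]

/-- PHI2 -/
theorem pow_mem_Phi (x : G) : x ^ p ∈ Phi p G := by
  rw [mem_Phi]
  intro φ
  rw [map_pow]
  apply Multiplicative.toAdd.injective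
  rw [toAdd_pow, toAdd_one, nsmul_eq_mul, ZMod.natCast_self, zero_mul]

end Cfsg.Agent.Helper5.VL
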