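import Mathlib
import Cfsg.Agent.Helper5.VL.Defs

/-!
# S3777 board, piece PHI3 (helper10): a subgroup containing `Phi p G` is normal.
-/

set_option autoImplicit false
set_option linter.style.haveILetI false
set_option linter.unusedSectionVars false
set_option linter.unusedVariables false

namespace Cfsg.Agent.Helper5.VL

open Subgroup
open scoped commutatorElement

universe u
variable {p : ℕ} [Fact p.Prime] {G : Type u} [Group G] [Finite G]

omit [Fact p.Prime] [Finite G] in
/-- the commutator subgroup lies in `Phi` (own copy of PHI1). -/
theorem PHI3_aux_comm : commutator G ≤ Phi p G := by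
  unfold Phi
  refine le_iInf fun φ => ?_
  exact Abelianization.commutator_subset_ker φ

/-- PHI3 -/
theorem normal_of_Phi_le {K : Subgroup G} (hK : Phi p G ≤ K) : K.Normal :=
  Subgroup.Normal.of_commutator_le (G := G) ((PHI3_aux_comm (p := p)).trans hK)

end Cfsg.Agent.Helper5.VL
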