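import Mathlib
import Cfsg.Agent.Helper5.VL.Defs

/-!
# S3777 board, piece UNION2 (helper10): `G` is not the union of `ker φ0` and a proper subgroup.
-/

set_option autoImplicit false
set_option linter.style.haveILetI false
set_option linter.unusedSectionVars false
set_option linter.unusedVariables false

namespace Cfsg.Agent.Helper5.VL

open Subgroup
open scoped commutatorElement

universe u
variable {p : ℕ} [Fact p.Prime] {G : Type u} [Group G] [Finite G]

/-- UNION2 -/
theorem exists_affine_not_mem {φ0 : Fn p G} (hφ0 : φ0 ≠ 1) {K : Subgroup G} (hK : K ≠ ⊤) :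
    ∃ x : G, φ0 x ≠ 1 ∧ x ∉ K := by
  have h1 : ∃ a : G, φ0 a ≠ 1 := by
    by_contra hcon
    push Not at hcon
    apply hφ0
    ext x
    rw [hcon x]; rfl
  have h2 : ∃ k : G, k ∉ K := by
    by_contra hcon
    push Not at hcon
    exact hK (Subgroup.eq_top_iff' K |>.mpr hcon)
  obtain ⟨a, ha⟩ := h1
  obtain ⟨k, hk⟩ := h2
  by_cases haK : a ∈ K
  · by_cases hk1 : φ0 k = 1
    · refine ⟨a * k, ?_, ?_⟩
      · rw [map_mul, hk1, mul_one]; exact ha
      · intro hak
        apply hk
        have := K.mul_mem (K.inv_mem haK) hak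
        simpa using this
    · exact ⟨k, hk1, hk⟩
  · exact ⟨a, ha, haK⟩

end Cfsg.Agent.Helper5.VL
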