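import Mathlib
import Cfsg.Prelude.Def_Local
import Cfsg.Prelude.Def_SylowChains
import Cfsg.Agent.Helper7.PPrimeCore
import Cfsg.Agent.Helper14.PCore
import Cfsg.Agent.Helper14.Conj
import Cfsg.Agent.Helper15.SylowGraph

set_option autoImplicit false
set_option linter.unusedSectionVars false
set_option linter.unusedVariables false

/-! # Transport of `O_{p',p}` and of Sylow chain-connectedness along isomorphisms -/

namespace Cfsg.Agent.Helper10

open Subgroup Cfsg Cfsg.Agent.Helper14

section equiv

variable {A B : Type*} [Group A] [Group B]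

theorem pPrimePCore_map_equiv (p : ℕ) (e : A ≃* B) :
    (pPrimePCore p A).map e.toMonoidHom = pPrimePCore p B := by
  have h := Cfsg.Agent.Helper7.pPrimeCore_map_equiv p e
  let ē : (A ⧸ pPrimeCore p A) ≃* (B ⧸ pPrimeCore p B) :=
    QuotientGroup.congr (pPrimeCore p A) (pPrimeCore p B) e h
  have hc := pCore_map_equiv p ē
  ext y
  constructor
  · rintro ⟨a, ha, rfl⟩
    unfold pPrimePCore at ha ⊢
    rw [SetLike.mem_coe, mem_comap] at ha
    rw [mem_comap]
    rw [← hc]
    refine ⟨_, ha, ?_⟩
    exact QuotientGroup.congr_mk _ _ e h a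
  · intro hy
    refine ⟨e.symm y, ?_, by simp⟩
    unfold pPrimePCore at hy ⊢
    rw [mem_comap] at hy
    rw [SetLike.mem_coe, mem_comap]
    rw [← hc] at hy
    obtain ⟨z, hz, hzy⟩ := hy
    have : z = QuotientGroup.mk' (pPrimeCore p A) (e.symm y) := by
      apply ē.injective
      rw [MulEquiv.coe_toMonoidHom] at hzy
      rw [hzy]
      have := QuotientGroup.congr_mk (pPrimeCore p A) (pPrimeCore p B) e h (e.symm y)
      rw [MulEquiv.apply_symm_apply] at this
      exact this.symm
    rw [← this]; exact hz

open Cfsg.Agent.Helper15 in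
theorem isSylowChainConnected_of_mulEquiv [Finite A] (p : ℕ) [Fact p.Prime] (e : A ≃* B)
    (h : IsSylowChainConnected p A) : IsSylowChainConnected p B := by
  rw [isSylowChainConnected_iff] at h ⊢
  have hsurj : Function.Surjective (e.toMonoidHom : A →* B) := e.surjective
  have hadj : ∀ S T : Sylow p A, sAdj S T →
      sAdj (S.mapSurjective hsurj) (T.mapSurjective hsurj) := by
    intro S T hST
    refine ⟨?_, ?_⟩
    · intro heq
      apply hST.1
      apply Sylow.ext
      have h1 : ((S.mapSurjective hsurj : Sylow p B) : Subgroup B) =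
          ((T.mapSurjective hsurj : Sylow p B) : Subgroup B) := by rw [heq]
      rw [Sylow.coe_mapSurjective, Sylow.coe_mapSurjective] at h1
      exact Subgroup.map_injective e.injective h1
    · obtain ⟨x, hxS, hxT, hx1⟩ := inf_ne_bot_iff.mp hST.2
      rw [inf_ne_bot_iff]
      refine ⟨e x, ?_, ?_, ?_⟩
      · rw [Sylow.coe_mapSurjective]; exact ⟨x, hxS, rfl⟩
      · rw [Sylow.coe_mapSurjective]; exact ⟨x, hxT, rfl⟩
      · intro h1
        apply hx1
        exact e.injective (by rw [h1, map_one])
  have hreach : ∀ S T : Sylow p A, sReach S T →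
      sReach (S.mapSurjective hsurj) (T.mapSurjective hsurj) := by
    intro S T hST
    induction hST with
    | refl => exact sReach_refl _
    | tail _ hbc ih => exact Relation.ReflTransGen.tail ih (hadj _ _ hbc)
  intro S' T'
  obtain ⟨S, rfl⟩ := Sylow.mapSurjective_surjective hsurj p S'
  obtain ⟨T, rfl⟩ := Sylow.mapSurjective_surjective hsurj p T'
  exact hreach S T (h S T)

end equiv

section conj

variable {G : Type*} [Group G]

/-- conjugation transports `O_{p',p}` of a subgroup -/
theorem map_pPrimePCore_map_cj (p : ℕ) (K : Subgroup G) (y : G) :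
    ((pPrimePCore p ↥K).map K.subtype).map (cj y) =
      (pPrimePCore p ↥(K.map (cj y))).map (K.map (cj y)).subtype := by
  let e0 : ↥K ≃* ↥(K.map (cj y)) := K.equivMapOfInjective (cj y) (cj_injective y)
  rw [← pPrimePCore_map_equiv p e0, Subgroup.map_map, Subgroup.map_map]
  congr 1

/-- the conjugation isomorphism on a section -/
noncomputable def sectionCjEquiv (H K : Subgroup G) (y : G) [(H.subgroupOf K).Normal]
    [((H.map (cj y)).subgroupOf (K.map (cj y))).Normal] :
    (↥K ⧸ H.subgroupOf K) ≃* (↥(K.map (cj y)) ⧸ (H.map (cj y)).subgroupOf (K.map (cj y))) :=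
  QuotientGroup.congr _ _ (K.equivMapOfInjective (cj y) (cj_injective y)) (by
    ext ⟨z, hz⟩
    constructor
    · rintro ⟨k, hk, hkz⟩
      rw [SetLike.mem_coe, mem_subgroupOf] at hk
      rw [mem_subgroupOf]
      have h1 : ((K.equivMapOfInjective (cj y) (cj_injective y) k : ↥(K.map (cj y))) : G) = z :=
        congrArg Subtype.val hkz
      rw [coe_equivMapOfInjective_apply] at h1
      exact ⟨k, hk, h1⟩
    · intro hz'
      rw [mem_subgroupOf] at hz'
      obtain ⟨h, hh, hhz⟩ := hz'
      obtain ⟨k, hk, hkz⟩ := hz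
      have hkh : k = h := cj_injective y (hkz.trans hhz.symm)
      refine ⟨⟨k, hk⟩, ?_, ?_⟩
      · rw [SetLike.mem_coe, mem_subgroupOf]
        show k ∈ H
        rw [hkh]; exact hh
      · apply Subtype.ext
        show ((K.equivMapOfInjective (cj y) (cj_injective y) ⟨k, hk⟩ : ↥(K.map (cj y))) : G) = z
        rw [coe_equivMapOfInjective_apply]
        exact hkz)

theorem not_chainConnected_map_cj [Finite G] (p : ℕ) [Fact p.Prime] {H K H' K' : Subgroup G} (y : G)
    (hK : K' = K.map (cj y)) (hH : H' = H.map (cj y)) [h1 : (H.subgroupOf K).Normal]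
    [h2 : (H'.subgroupOf K').Normal]
    (h : ¬ IsSylowChainConnected p (↥K ⧸ H.subgroupOf K)) :
    ¬ IsSylowChainConnected p (↥K' ⧸ H'.subgroupOf K') := by
  subst hK hH
  intro hc
  apply h
  exact isSylowChainConnected_of_mulEquiv p (sectionCjEquiv H K y).symm hc

end conj

end Cfsg.Agent.Helper10
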