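import Mathlib
import Cfsg.Prelude.Def_Local
import Cfsg.Prelude.Def_Transfer
import Cfsg.Prelude.Def_SylowChains
import Cfsg.Agent.Helper10.AGStrongA
import Cfsg.Agent.Helper10.AG
import Cfsg.Agent.Helper10.WellPlaced
import Cfsg.Agent.Helper14.WcFactor

set_option autoImplicit false
set_option linter.unusedSectionVars false
set_option linter.unusedVariables false

/-! # The strong Alperin–Goldschmidt theorem: the decomposition framework -/

namespace Cfsg.Agent.Helper10

open Subgroup Cfsg Cfsg.Agent.Helper14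

universe u

variable {G : Type u} [Group G]

/-- decomposition of a conjugation along steps `(T, x)` with `x` in a prescribed set `E T` -/
def DecE (E : Subgroup G → Set G) : Set G → List (Subgroup G × G) → Prop
  | _, [] => True
  | A, (T, x) :: l => x ∈ E T ∧ A ⊆ T ∧ DecE E (rc x A) l

theorem DecE.mono {E : Subgroup G → Set G} {l : List (Subgroup G × G)} :
    ∀ {A B : Set G}, B ⊆ A → DecE E A l → DecE E B l := by
  induction l with
  | nil => intro A B _ _; trivial
  | cons a l ih =>
    obtain ⟨T, x⟩ := a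
    intro A B hBA h
    exact ⟨h.1, hBA.trans h.2.1, ih (rc_mono x hBA) h.2.2⟩

theorem DecE.append {E : Subgroup G → Set G} {l₁ l₂ : List (Subgroup G × G)} :
    ∀ {A : Set G}, DecE E A l₁ → DecE E (rc (lprod l₁) A) l₂ → DecE E A (l₁ ++ l₂) := by
  induction l₁ with
  | nil =>
    intro A _ h2
    rw [lprod_nil, rc_one] at h2
    exact h2
  | cons a l ih =>
    obtain ⟨T, x⟩ := a
    intro A h1 h2
    rw [lprod_cons, rc_mul] at h2
    exact ⟨h1.1, h1.2.1, ih h1.2.2 h2⟩

theorem DecE.aux {E : Subgroup G → Set G} {l : List (Subgroup G × G)} :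
    ∀ {A : Set G}, DecE E A l →
      ∀ (i : ℕ) (h : i < l.length), l[i].2 ∈ E l[i].1 ∧
        rc (((l.map Prod.snd).take i).prod) A ⊆ ((l[i].1 : Subgroup G) : Set G) := by
  induction l with
  | nil => intro A _ i h; simp at h
  | cons a l ih =>
    obtain ⟨T, x⟩ := a
    intro A hd i h
    cases i with
    | zero =>
      refine ⟨hd.1, ?_⟩
      simp only [List.take_zero, List.prod_nil, rc_one]
      exact hd.2.1
    | succ j =>
      have hj : j < l.length := by simpa using h
      obtain ⟨h1, h2⟩ := ih hd.2.2 j hj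
      refine ⟨h1, ?_⟩
      have : ((((T, x) :: l).map Prod.snd).take (j + 1)).prod =
          x * ((l.map Prod.snd).take j).prod := by
        simp
      rw [this, rc_mul]
      exact h2

/-- `g` is decomposable relative to `A` -/
def GoodE (E : Subgroup G → Set G) (A : Set G) (g : G) : Prop :=
  ∃ c ∈ centralizer A, ∃ l : List (Subgroup G × G), DecE E A l ∧ g = c * lprod l

theorem GoodE.mono {E : Subgroup G → Set G} {A B : Set G} {g : G} (hBA : B ⊆ A)
    (h : GoodE E A g) : GoodE E B g := by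
  obtain ⟨c, hc, l, hl, hg⟩ := h
  exact ⟨c, centralizer_le hBA hc, l, hl.mono hBA, hg⟩

theorem GoodE.one (E : Subgroup G → Set G) (A : Set G) : GoodE E A 1 :=
  ⟨1, one_mem _, [], trivial, by simp [lprod_nil]⟩

theorem GoodE.single {E : Subgroup G → Set G} {T : Subgroup G} {x : G} (hx : x ∈ E T) :
    GoodE E (T : Set G) x :=
  ⟨1, one_mem _, [(T, x)], ⟨hx, subset_rfl, trivial⟩, by rw [lprod_cons, lprod_nil]; group⟩

theorem GoodE.mul {E : Subgroup G → Set G} {A : Set G} {g₁ g₂ : G} (h1 : GoodE E A g₁)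
    (h2 : GoodE E (rc g₁ A) g₂) : GoodE E A (g₁ * g₂) := by
  obtain ⟨c₁, hc₁, l₁, hl₁, hg₁⟩ := h1
  obtain ⟨c₂, hc₂, l₂, hl₂, hg₂⟩ := h2
  have hrc : rc g₁ A = rc (lprod l₁) A := by
    rw [hg₁, rc_mul, rc_of_mem_centralizer hc₁]
  rw [hrc] at hc₂ hl₂
  refine ⟨c₁ * (lprod l₁ * c₂ * (lprod l₁)⁻¹), ?_, l₁ ++ l₂, DecE.append hl₁ hl₂, ?_⟩
  · refine mul_mem hc₁ ?_
    rw [mem_centralizer_iff]
    intro b hb
    have hb' : (lprod l₁)⁻¹ * b * lprod l₁ ∈ rc (lprod l₁) A := ⟨b, hb, rfl⟩
    have h1 := mem_centralizer_iff.1 hc₂ _ hb'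
    have e1 : b * (lprod l₁ * c₂ * (lprod l₁)⁻¹) =
        lprod l₁ * ((lprod l₁)⁻¹ * b * lprod l₁ * c₂) * (lprod l₁)⁻¹ := by group
    have e2 : lprod l₁ * c₂ * (lprod l₁)⁻¹ * b =
        lprod l₁ * (c₂ * ((lprod l₁)⁻¹ * b * lprod l₁)) * (lprod l₁)⁻¹ := by group
    rw [e1, e2, h1]
  · rw [lprod_append, hg₁, hg₂]; group

/-- the conditions of the strong form of the Alperin–Goldschmidt theorem on `H` and `X` -/
def StrongPair (p : ℕ) (P : Sylow p G) (H X : Subgroup G) : Prop :=
  H ≤ (P : Subgroup G) ∧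
  ¬ p ∣ ((P : Subgroup G) ⊓ normalizer (H : Set G)).relIndex (normalizer (H : Set G)) ∧
  (P : Subgroup G) ⊓ centralizer (H : Set G) ≤ H ∧
  (Cfsg.pPrimePCore p ↥(normalizer (H : Set G))).map (normalizer (H : Set G)).subtype =
    H ⊔ centralizer (H : Set G) ∧
  ¬ Cfsg.IsSylowChainConnected p
      (↥(normalizer (H : Set G)) ⧸ H.subgroupOf (normalizer (H : Set G))) ∧
  (H ≤ X ∧ X ≤ normalizer (H : Set G) ∧
    (X.subgroupOf (normalizer (H : Set G))).Normal ∧ p ∣ H.relIndex X ∧
    ∀ Y : Subgroup G, H ≤ Y → Y ≤ normalizer (H : Set G) →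
      (Y.subgroupOf (normalizer (H : Set G))).Normal → p ∣ H.relIndex Y → X ≤ Y)

/-- the elements allowed in a strong step at `H` -/
def strongElts (p : ℕ) (P : Sylow p G) (H : Subgroup G) : Set G :=
  {x | ∃ X : Subgroup G, StrongPair p P H X ∧ x ∈ (Cfsg.pResidual p ↥X).map X.subtype}

/-- strong steps, together with steps in `N_G(P)` -/
def mixElts (p : ℕ) (P : Sylow p G) (H : Subgroup G) : Set G :=
  strongElts p P H ∪ {y | H = (P : Subgroup G) ∧ y ∈ normalizer ((P : Subgroup G) : Set G)}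

section conj

variable [Finite G] {p : ℕ} [Fact p.Prime] (P : Sylow p G)

theorem map_cj_sylow_of_mem_normalizer {y : G} (hy : y ∈ normalizer ((P : Subgroup G) : Set G)) :
    (P : Subgroup G).map (cj y) = P :=
  mem_normalizer_iff_map_cj.1 hy

theorem normal_subgroupOf_map_cj {X N : Subgroup G} (hXN : X ≤ N) (h : (X.subgroupOf N).Normal)
    (y : G) : ((X.map (cj y)).subgroupOf (N.map (cj y))).Normal := by
  rw [normal_subgroupOf_iff_le_normalizer hXN] at h
  rw [normal_subgroupOf_iff_le_normalizer (Subgroup.map_mono hXN), ← map_cj_normalizer]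
  exact Subgroup.map_mono h

theorem StrongPair.conj {H X : Subgroup G} (h : StrongPair p P H X) {y : G}
    (hy : y ∈ normalizer ((P : Subgroup G) : Set G)) :
    StrongPair p P (H.map (cj y)) (X.map (cj y)) := by
  obtain ⟨h1, h2, h3, h4, h5, h6, h7, h8, h9, h10⟩ := h
  have hP := map_cj_sylow_of_mem_normalizer P hy
  have hN : normalizer ((H.map (cj y) : Subgroup G) : Set G) =
      (normalizer (H : Set G)).map (cj y) := (map_cj_normalizer H y).symm
  have hC : centralizer ((H.map (cj y) : Subgroup G) : Set G) =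
      (centralizer (H : Set G)).map (cj y) := (map_cj_centralizer H y).symm
  refine ⟨?_, ?_, ?_, ?_, ?_, ?_, ?_, ?_, ?_, ?_⟩
  · rw [← hP]; exact Subgroup.map_mono h1
  · rw [hN]
    have : (P : Subgroup G) ⊓ (normalizer (H : Set G)).map (cj y) =
        ((P : Subgroup G) ⊓ normalizer (H : Set G)).map (cj y) := by
      rw [map_cj_inf, hP]
    rw [this, relIndex_map_cj]
    exact h2
  · rw [hC]
    have : (P : Subgroup G) ⊓ (centralizer (H : Set G)).map (cj y) =
        ((P : Subgroup G) ⊓ centralizer (H : Set G)).map (cj y) := by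
      rw [map_cj_inf, hP]
    rw [this]
    exact Subgroup.map_mono h3
  · have key : ∀ K' : Subgroup G, K' = (normalizer (H : Set G)).map (cj y) →
        (Cfsg.pPrimePCore p ↥K').map K'.subtype =
          ((Cfsg.pPrimePCore p ↥(normalizer (H : Set G))).map
            (normalizer (H : Set G)).subtype).map (cj y) := by
      intro K' hK'
      subst hK'
      exact (map_pPrimePCore_map_cj p _ y).symm
    rw [key _ hN, h4, Subgroup.map_sup, hC]
  · have : (H.subgroupOf (normalizer (H : Set G))).Normal := normal_in_normalizer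
    have : ((H.map (cj y)).subgroupOf (normalizer ((H.map (cj y) : Subgroup G) : Set G))).Normal :=
      normal_in_normalizer
    exact not_chainConnected_map_cj p y hN rfl h5
  · exact Subgroup.map_mono h6
  · rw [hN]; exact Subgroup.map_mono h7
  · rw [hN]; exact normal_subgroupOf_map_cj h7 h8 y
  · rw [relIndex_map_cj]; exact h9
  · intro Y hHY hYN hYn hpY
    have hYN' : Y.map (cj y⁻¹) ≤ normalizer (H : Set G) := by
      rw [map_cj_le_iff, inv_inv, ← hN]; exact hYN
    have hHY' : H ≤ Y.map (cj y⁻¹) := by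
      rw [← map_cj_le_iff]; exact hHY
    have hn' : ((Y.map (cj y⁻¹)).subgroupOf (normalizer (H : Set G))).Normal := by
      have := normal_subgroupOf_map_cj hYN hYn y⁻¹
      rw [hN, map_cj_map_cj_inv] at this
      exact this
    have hp' : p ∣ H.relIndex (Y.map (cj y⁻¹)) := by
      have := relIndex_map_cj (H.map (cj y)) Y y⁻¹
      rw [map_cj_map_cj_inv] at this
      rw [this]; exact hpY
    have := h10 _ hHY' hYN' hn' hp'
    rw [map_cj_le_iff]
    exact this

theorem strongElts_conj {H : Subgroup G} {z : G} (hz : z ∈ strongElts p P H) {y : G}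
    (hy : y ∈ normalizer ((P : Subgroup G) : Set G)) :
    y * z * y⁻¹ ∈ strongElts p P (H.map (cj y)) := by
  obtain ⟨X, hX, hzX⟩ := hz
  refine ⟨X.map (cj y), hX.conj P hy, ?_⟩
  rw [← pResidualOf_map_cj]
  exact ⟨z, hzX, rfl⟩

/-- conjugate of a list of steps -/
def conjL (y : G) (l : List (Subgroup G × G)) : List (Subgroup G × G) :=
  l.map (fun a => (a.1.map (cj y), y * a.2 * y⁻¹))

theorem lprod_conjL (y : G) (l : List (Subgroup G × G)) :
    lprod (conjL y l) = y * lprod l * y⁻¹ := by
  induction l with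
  | nil => simp [conjL, lprod]
  | cons a l ih =>
    obtain ⟨T, x⟩ := a
    have : conjL y ((T, x) :: l) = (T.map (cj y), y * x * y⁻¹) :: conjL y l := rfl
    rw [this, lprod_cons, lprod_cons, ih]; group

theorem DecE.conjL {y : G} (hy : y ∈ normalizer ((P : Subgroup G) : Set G))
    {l : List (Subgroup G × G)} :
    ∀ {B : Set G}, DecE (strongElts p P) B l → DecE (strongElts p P) (rc y⁻¹ B) (conjL y l) := by
  induction l with
  | nil => intro B _; trivial
  | cons a l ih =>
    obtain ⟨T, x⟩ := a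
    intro B hd
    have : Cfsg.Agent.Helper10.conjL y ((T, x) :: l) =
        (T.map (cj y), y * x * y⁻¹) :: Cfsg.Agent.Helper10.conjL y l := rfl
    rw [this]
    refine ⟨strongElts_conj P hd.1 hy, ?_, ?_⟩
    · rintro _ ⟨b, hb, rfl⟩
      refine ⟨b, hd.2.1 hb, ?_⟩
      rw [cj_apply]; group
    · have h1 := ih hd.2.2
      have e : rc (y * x * y⁻¹) (rc y⁻¹ B) = rc y⁻¹ (rc x B) := by
        rw [← rc_mul, ← rc_mul]
        congr 1; group
      rw [e]; exact h1

/-- pull the `N_G(P)`-steps to the end -/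
theorem DecE.extract {l : List (Subgroup G × G)} :
    ∀ {A : Set G}, DecE (mixElts p P) A l →
      ∃ (l' : List (Subgroup G × G)) (y : G), y ∈ normalizer ((P : Subgroup G) : Set G) ∧
        DecE (strongElts p P) A l' ∧ lprod l = lprod l' * y := by
  induction l with
  | nil =>
    intro A _
    exact ⟨[], 1, one_mem _, trivial, by simp [lprod_nil]⟩
  | cons a l ih =>
    obtain ⟨T, x⟩ := a
    intro A hd
    obtain ⟨l'', y'', hy'', hl'', hprod⟩ := ih hd.2.2
    rcases hd.1 with hx | ⟨hTP, hxP⟩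
    · refine ⟨(T, x) :: l'', y'', hy'', ⟨hx, hd.2.1, hl''⟩, ?_⟩
      rw [lprod_cons, lprod_cons, hprod]; group
    · refine ⟨Cfsg.Agent.Helper10.conjL x l'', x * y'', mul_mem hxP hy'', ?_, ?_⟩
      · have := DecE.conjL P hxP hl''
        rw [rc_inv_rc] at this
        exact this
      · rw [lprod_cons, hprod, lprod_conjL]; group

end conj

end Cfsg.Agent.Helper10
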