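import Mathlib
import Cfsg.Agent.Helper10.AGStrongB
import Cfsg.Agent.Helper10.AGClassic
import Cfsg.Agent.Helper15.SylowGraph
import Cfsg.Agent.Helper15.StrongEmb
import Cfsg.Agent.Helper15.StrongEmb3
import Cfsg.Agent.Helper19.Sylow
import Cfsg.Agent.Helper1.SylowBasic
import Cfsg.Agent.Helper14.Subnormal2

set_option autoImplicit false
set_option linter.unusedSectionVars false
set_option linter.unusedVariables false
set_option maxHeartbeats 1000000

/-! # The strong Alperin–Goldschmidt theorem: the local step -/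

namespace Cfsg.Agent.Helper10

open Subgroup Cfsg Cfsg.Agent.Helper14

universe u

/-- a `p'`-element of the image lifts to a `p'`-element (a power of any lift) -/
theorem exists_coprime_lift_ag {A B : Type*} [Group A] [Group B] [Finite A] (f : A →* B) {p : ℕ}
    (hp : p.Prime) (x : A) (h : (orderOf (f x)).Coprime p) :
    ∃ k : ℕ, (orderOf (x ^ k)).Coprime p ∧ f (x ^ k) = f x := by
  have hx0 : orderOf x ≠ 0 := (orderOf_pos x).ne'
  obtain ⟨a, m, hm, hxm⟩ := Nat.exists_eq_pow_mul_and_not_dvd hx0 p hp.ne_one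
  have hcop : (p ^ a).Coprime (orderOf (f x)) := Nat.Coprime.pow_left a h.symm
  obtain ⟨j, hj⟩ := exists_pow_eq_self_of_coprime hcop
  refine ⟨p ^ a * j, ?_, ?_⟩
  · have h1 : (x ^ (p ^ a * j)) ^ m = 1 := by
      rw [← pow_mul]
      have : p ^ a * j * m = orderOf x * j := by rw [hxm]; ring
      rw [this, pow_mul, pow_orderOf_eq_one, one_pow]
    have h2 : orderOf (x ^ (p ^ a * j)) ∣ m := orderOf_dvd_of_pow_eq_one h1
    have h3 : m.Coprime p := ((Nat.Prime.coprime_iff_not_dvd hp).2 hm).symm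
    exact Nat.Coprime.coprime_dvd_left h2 h3
  · rw [map_pow, pow_mul]; exact hj

variable {G : Type u} [Group G]

theorem relIndex_eq_card_map_mk {T Y : Subgroup G} (hYN : Y ≤ normalizer (T : Set G))
    [hn : (T.subgroupOf (normalizer (T : Set G))).Normal] :
    T.relIndex Y = Nat.card ↥((Y.subgroupOf (normalizer (T : Set G))).map
      (QuotientGroup.mk' (T.subgroupOf (normalizer (T : Set G))))) := by
  have h1 := relIndex_subgroupOf (H := T) hYN
  have h2 := relIndex_comap (⊥ : Subgroup (↥(normalizer (T : Set G)) ⧸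
    T.subgroupOf (normalizer (T : Set G)))) (QuotientGroup.mk' (T.subgroupOf (normalizer (T : Set G))))
    (Y.subgroupOf (normalizer (T : Set G)))
  rw [MonoidHom.comap_bot, QuotientGroup.ker_mk', relIndex_bot_left] at h2
  rw [← h1, h2]

/-- a subgroup generated by a conjugation-invariant set is normal -/
theorem closure_normal_of_conj_invariant_ag {Q : Type*} [Group Q] (S : Set Q)
    (hS : ∀ g : Q, ∀ s ∈ S, g * s * g⁻¹ ∈ S) : (Subgroup.closure S).Normal := by
  have : Subgroup.closure S = Subgroup.normalClosure S := by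
    unfold Subgroup.normalClosure
    congr 1
    apply Set.Subset.antisymm Group.subset_conjugatesOfSet
    intro x hx
    rw [Group.mem_conjugatesOfSet_iff] at hx
    obtain ⟨a, ha, hax⟩ := hx
    rw [isConj_iff] at hax
    obtain ⟨c, rfl⟩ := hax
    exact hS c a ha
  rw [this]
  exact Subgroup.normalClosure_normal

section step

variable [Finite G] {p : ℕ} [hp : Fact p.Prime] (P : Sylow p G)

open Cfsg.Agent.Helper15 in
theorem step_lemma {T : Subgroup G} (hT : T ∈ agFam p P (agK p)) (hTP : T ≠ (P : Subgroup G))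
    (IH : ∀ E : Subgroup G, E ≤ (P : Subgroup G) → Nat.card ↥T < Nat.card ↥E → ∀ g : G,
      E.map (cj g⁻¹) ≤ (P : Subgroup G) → GoodE (mixElts p P) (E : Set G) g)
    (x : G) (hx : x ∈ normalizer (T : Set G)) : GoodE (mixElts p P) (T : Set G) x := by
  classical
  have hTle : T ≤ (P : Subgroup G) := agFam_le P hT
  have hTp : IsPGroup p ↥T := P.2.to_le hTle
  have hext : IsExt p (P : Subgroup G) T := agFam_isExt P hT
  obtain ⟨N, hN⟩ : ∃ N : Subgroup G, N = normalizer (T : Set G) := ⟨_, rfl⟩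
  obtain ⟨R, hR⟩ : ∃ R : Subgroup G, R = (P : Subgroup G) ⊓ N := ⟨_, rfl⟩
  have hTN : T ≤ N := hN ▸ le_normalizer
  have hRP : R ≤ (P : Subgroup G) := hR ▸ inf_le_left
  have hRN : R ≤ N := hR ▸ inf_le_right
  have hTR : T ≤ R := hR ▸ le_inf hTle hTN
  have hTn : (T.subgroupOf N).Normal := hN ▸ normal_in_normalizer
  rw [← hN] at hx
  have hext' : ¬ p ∣ (R.subgroupOf N).index := by
    have : ¬ p ∣ R.relIndex N := by rw [hR, hN]; exact hext
    exact this
  -- an element of `R` outside `T`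
  obtain ⟨r₀, hr₀R, hr₀T⟩ : ∃ r₀, r₀ ∈ R ∧ r₀ ∉ T := by
    have hlt : T < (P : Subgroup G) := lt_of_le_of_ne hTle hTP
    obtain ⟨r, hrP, hrN, hrT⟩ := Cfsg.Agent.Helper19.exists_mem_normalizer_not_mem P.2 hlt
    exact ⟨r, hR ▸ ⟨hrP, hN ▸ hrN⟩, hrT⟩
  obtain ⟨π, hπdef⟩ : ∃ π : ↥N →* (↥N ⧸ T.subgroupOf N), π = QuotientGroup.mk' (T.subgroupOf N) :=
    ⟨_, rfl⟩
  have hπ : Function.Surjective π := hπdef ▸ QuotientGroup.mk'_surjective _
  have hπ1 : ∀ n : ↥N, π n = 1 ↔ (n : G) ∈ T := by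
    intro n
    rw [hπdef, QuotientGroup.mk'_apply, QuotientGroup.eq_one_iff, mem_subgroupOf]
  have hπeq : ∀ a b : ↥N, π a = π b ↔ ((a : G))⁻¹ * (b : G) ∈ T := by
    intro a b
    rw [hπdef, QuotientGroup.mk'_apply, QuotientGroup.mk'_apply, QuotientGroup.eq, mem_subgroupOf]
    rfl
  have hRp : IsPGroup p ↥(R.subgroupOf N) := (P.2.to_le hRP).comap_subtype
  obtain ⟨Rs, hRs⟩ : ∃ Rs : Sylow p ↥N, (Rs : Subgroup ↥N) = R.subgroupOf N :=
    ⟨hRp.toSylow hext', IsPGroup.toSylow_coe _ _⟩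
  obtain ⟨Sb, hSb⟩ : ∃ Sb : Sylow p (↥N ⧸ T.subgroupOf N),
      (Sb : Subgroup (↥N ⧸ T.subgroupOf N)) = (R.subgroupOf N).map π :=
    ⟨Rs.mapSurjective hπ, by rw [Sylow.coe_mapSurjective, hRs]⟩
  have hmemSb : ∀ z, z ∈ Sb ↔ ∃ r : ↥N, (r : G) ∈ R ∧ π r = z := by
    intro z
    have : z ∈ Sb ↔ z ∈ (Sb : Subgroup (↥N ⧸ T.subgroupOf N)) := Iff.rfl
    rw [this, hSb, Subgroup.mem_map]
    constructor
    · rintro ⟨r, hr, rfl⟩; exact ⟨r, mem_subgroupOf.1 hr, rfl⟩
    · rintro ⟨r, hr, rfl⟩; exact ⟨r, mem_subgroupOf.2 hr, rfl⟩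
  have hSb_ne : (Sb : Subgroup (↥N ⧸ T.subgroupOf N)) ≠ ⊥ := by
    intro hbot
    have h1 : π ⟨r₀, hRN hr₀R⟩ ∈ Sb := (hmemSb _).2 ⟨⟨r₀, hRN hr₀R⟩, hr₀R, rfl⟩
    have h2 : π ⟨r₀, hRN hr₀R⟩ ∈ (Sb : Subgroup (↥N ⧸ T.subgroupOf N)) := h1
    rw [hbot, Subgroup.mem_bot, hπ1] at h2
    exact hr₀T h2
  have hrcT : ∀ n : ↥N, rc (n : G) (T : Set G) = T := fun n =>
    rc_of_mem_normalizer (hN ▸ n.2)
  -- Claim 1
  have claim1 : ∀ n : ↥N,
      (Sb : Subgroup (↥N ⧸ T.subgroupOf N)) ⊓ ((π n • Sb : Sylow p (↥N ⧸ T.subgroupOf N)) :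
        Subgroup (↥N ⧸ T.subgroupOf N)) ≠ ⊥ → GoodE (mixElts p P) (T : Set G) (n : G) := by
    intro n hne
    obtain ⟨z, hzS, hzn, hz1⟩ := inf_ne_bot_iff.mp hne
    obtain ⟨r, hrR, hrz⟩ := (hmemSb z).1 hzS
    have hzn' : (π n)⁻¹ * z * π n ∈ Sb := (Cfsg.Agent.Helper1.mem_sylow_smul_iff Sb (π n) z).1 hzn
    obtain ⟨r', hr'R, hr'z⟩ := (hmemSb _).1 hzn'
    have hπe : π r = π (n * r' * n⁻¹) := by
      rw [map_mul, map_mul, map_inv, hr'z, hrz]; group
    have hmemT : ((r : G))⁻¹ * ((n : G) * (r' : G) * ((n : G))⁻¹) ∈ T := by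
      have := (hπeq r (n * r' * n⁻¹)).1 hπe
      simpa using this
    obtain ⟨e, he⟩ : ∃ e : G, e = (n : G) * (r' : G) * ((n : G))⁻¹ := ⟨_, rfl⟩
    rw [← he] at hmemT
    have heR : e ∈ R := by
      have : e = (r : G) * (((r : G))⁻¹ * e) := by group
      rw [this]
      exact mul_mem hrR (hTR hmemT)
    have heRn : e ∈ R.map (cj (n : G)) := by
      rw [mem_map_cj, he]
      have : ((n : G))⁻¹ * ((n : G) * (r' : G) * ((n : G))⁻¹) * (n : G) = (r' : G) := by group
      rw [this]; exact hr'R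
    have heT : e ∉ T := by
      intro heT
      apply hz1
      rw [← hrz, hπe, hπ1]
      simpa [he] using heT
    have hTE : T ≤ R ⊓ R.map (cj (n : G)) := by
      refine le_inf hTR ?_
      intro t ht
      rw [mem_map_cj]
      apply hTR
      have hn' : ((n : G))⁻¹ ∈ normalizer (T : Set G) := inv_mem (hN ▸ n.2)
      have := (mem_normalizer_iff.1 hn' t).1 ht
      simpa using this
    have hlt : T < R ⊓ R.map (cj (n : G)) :=
      lt_of_le_of_ne hTE (fun heq => heT (heq ▸ ⟨heR, heRn⟩))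
    have hEP : R ⊓ R.map (cj (n : G)) ≤ (P : Subgroup G) := inf_le_left.trans hRP
    have hEmap : (R ⊓ R.map (cj (n : G))).map (cj ((n : G))⁻¹) ≤ (P : Subgroup G) := by
      refine le_trans (Subgroup.map_mono inf_le_right) ?_
      rw [map_cj_map_cj_inv]; exact hRP
    exact (IH _ hEP (card_lt_of_lt hlt) (n : G) hEmap).mono hTE
  -- Claim 3
  have claim3 : ∀ S' : Sylow p (↥N ⧸ T.subgroupOf N), sReach Sb S' →
      ∀ n : ↥N, π n • Sb = S' → GoodE (mixElts p P) (T : Set G) (n : G) := by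
    intro S' hS'
    induction hS' with
    | refl =>
      intro n hn
      apply claim1
      rw [hn, inf_idem]; exact hSb_ne
    | @tail b c hab hbc ih =>
      intro n hn
      obtain ⟨ub, hub⟩ := MulAction.exists_smul_eq (↥N ⧸ T.subgroupOf N) Sb b
      obtain ⟨u, rfl⟩ := hπ ub
      have hu := ih u hub
      have hadj : sAdj (π u • Sb) (π n • Sb) := by rw [hub, hn]; exact hbc
      have hadj' := sAdj_smul (π u)⁻¹ hadj
      rw [smul_smul, smul_smul, inv_mul_cancel, one_smul] at hadj'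
      have hmul : (π u)⁻¹ * π n = π (u⁻¹ * n) := by rw [map_mul, map_inv]
      rw [hmul] at hadj'
      have h2 := claim1 (u⁻¹ * n) hadj'.2
      have h3 : GoodE (mixElts p P) (rc (u : G) (T : Set G)) ((u⁻¹ * n : ↥N) : G) := by
        rw [hrcT]; exact h2
      have h4 := GoodE.mul hu h3
      have : (u : G) * ((u⁻¹ * n : ↥N) : G) = (n : G) := by
        simp
      rw [this] at h4
      exact h4
  have hcomp : ∀ n : ↥N, π n ∈ compStab Sb → GoodE (mixElts p P) (T : Set G) (n : G) :=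
    fun n hn => claim3 _ (mem_compStab.1 hn) n rfl
  by_cases hconn : IsSylowChainConnected p (↥N ⧸ T.subgroupOf N)
  · rw [isSylowChainConnected_iff] at hconn
    exact claim3 _ (hconn Sb _) ⟨x, hx⟩ rfl
  · -- the strongly embedded case
    obtain ⟨M, hMdef⟩ : ∃ M : Subgroup (↥N ⧸ T.subgroupOf N), M = compStab Sb := ⟨_, rfl⟩
    have hse : ∀ g : ↥N ⧸ T.subgroupOf N, g ∉ M →
        ¬ p ∣ Nat.card ↥(M ⊓ M.map (MulAut.conj g).toMonoidHom) := by
      rw [hMdef]; exact compStab_inter Sb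
    have hSbM : (Sb : Subgroup (↥N ⧸ T.subgroupOf N)) ≤ M := hMdef ▸ le_compStab Sb
    have hpM : p ∣ Nat.card ↥M :=
      dvd_trans (dvd_card_of_isPGroup_ne_bot Sb.isPGroup' hSb_ne) (Subgroup.card_dvd_of_le hSbM)
    have hMtop : M ≠ ⊤ := by
      intro htop
      apply hconn
      rw [isSylowChainConnected_iff]
      have h1 : ∀ S' : Sylow p (↥N ⧸ T.subgroupOf N), sReach Sb S' := by
        intro S'
        obtain ⟨g, hg⟩ := MulAction.exists_smul_eq (↥N ⧸ T.subgroupOf N) Sb S'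
        have : g ∈ M := by rw [htop]; trivial
        rw [hMdef, mem_compStab, hg] at this
        exact this
      intro S₁ S₂
      exact sReach_trans (sReach_symm (h1 S₁)) (h1 S₂)
    -- the smallest normal subgroup of order divisible by `p`
    obtain ⟨𝒩, h𝒩⟩ : ∃ 𝒩 : Set (Subgroup (↥N ⧸ T.subgroupOf N)),
        𝒩 = {K : Subgroup (↥N ⧸ T.subgroupOf N) | K.Normal ∧ p ∣ Nat.card ↥K} := ⟨_, rfl⟩
    have h𝒩top : (⊤ : Subgroup (↥N ⧸ T.subgroupOf N)) ∈ 𝒩 := by
      rw [h𝒩]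
      refine ⟨inferInstance, ?_⟩
      rw [Subgroup.card_top]
      exact hpM.trans (Subgroup.card_subgroup_dvd_card M)
    obtain ⟨Xb, hXb, hXbmin⟩ := Set.exists_min_image 𝒩 (fun K => Nat.card ↥K) (Set.toFinite _)
      ⟨⊤, h𝒩top⟩
    rw [h𝒩] at hXb
    have hXbn : Xb.Normal := hXb.1
    have hXble : ∀ K : Subgroup (↥N ⧸ T.subgroupOf N), K.Normal → p ∣ Nat.card ↥K → Xb ≤ K := by
      intro K hKn hKp
      have hinf : Xb ⊓ K ∈ 𝒩 := by
        rw [h𝒩]
        exact ⟨inferInstance, dvd_card_inf_of_stronglyEmbedded M hMtop hpM hse Xb K hXb.2 hKp⟩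
      have h1 := hXbmin _ hinf
      have h2 := Subgroup.eq_of_le_of_card_ge (inf_le_left : Xb ⊓ K ≤ Xb) h1
      rw [← h2]; exact inf_le_right
    obtain ⟨X, hXdef⟩ : ∃ X : Subgroup G, X = (Xb.comap π).map N.subtype := ⟨_, rfl⟩
    have hXN : X ≤ N := hXdef ▸ Subgroup.map_subtype_le _
    have hXsub : X.subgroupOf N = Xb.comap π := by
      rw [hXdef]
      exact Subgroup.comap_map_eq_self_of_injective (Subgroup.subtype_injective N) _
    have hmemX : ∀ n : ↥N, (n : G) ∈ X ↔ π n ∈ Xb := by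
      intro n
      rw [← mem_subgroupOf, hXsub, mem_comap]
    have hTX : T ≤ X := by
      intro t ht
      have : ((⟨t, hTN ht⟩ : ↥N) : G) ∈ X := by
        rw [hmemX, (hπ1 _).2 ht]; exact one_mem _
      exact this
    -- the strong pair
    have hpair : StrongPair p P T X := by
      subst hN
      refine ⟨hTle, hext, ?_, ?_, hconn, hTX, hXN, ?_, ?_, ?_⟩
      · exact le_trans (inf_le_inf_left _ le_sup_right) (hT.2 true)
      · apply le_antisymm
        · rw [← agFam_sup_eq P hT]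
          exact sup_le ((pPrimeCore_normalizer_le_centralizer hTp).trans le_sup_right) le_sup_left
        · exact sup_le (le_map_pPrimePCore_normalizer hTp) (agFam_centralizer_le P hT)
      · rw [hXsub]; exact hXbn.comap π
      · rw [relIndex_eq_card_map_mk hXN, hXsub, ← hπdef, Subgroup.map_comap_eq_self_of_surjective hπ]
        exact hXb.2
      · intro Y hTY hYN hYn hpY
        have hYbn : ((Y.subgroupOf (normalizer (T : Set G))).map π).Normal := hYn.map π hπ
        have hYbp : p ∣ Nat.card ↥((Y.subgroupOf (normalizer (T : Set G))).map π) := by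
          rw [hπdef, ← relIndex_eq_card_map_mk hYN]; exact hpY
        have hle := hXble _ hYbn hYbp
        intro g hg
        have hgN : g ∈ normalizer (T : Set G) := hXN hg
        have h1 : π ⟨g, hgN⟩ ∈ Xb := (hmemX ⟨g, hgN⟩).1 hg
        obtain ⟨y', hy', hy'g⟩ := hle h1
        rw [SetLike.mem_coe, mem_subgroupOf] at hy'
        have h2 := (hπeq y' ⟨g, hgN⟩).1 hy'g
        have : g = (y' : G) * (((y' : G))⁻¹ * g) := by group
        rw [this]
        exact mul_mem hy' (hTY h2)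
    -- decomposition of `π x`
    obtain ⟨Lb, hLb⟩ : ∃ Lb : Subgroup (↥N ⧸ T.subgroupOf N),
        Lb = Subgroup.closure {g | g ∈ Xb ∧ (orderOf g).Coprime p} := ⟨_, rfl⟩
    have hsup : M ⊔ Lb = ⊤ := by
      rw [hLb]; exact stronglyEmbedded_sup_pResidual M hpM hse Xb hXb.2
    have hLbn : Lb.Normal := by
      rw [hLb]
      apply closure_normal_of_conj_invariant_ag
      rintro g s ⟨hs1, hs2⟩
      refine ⟨hXbn.conj_mem s hs1 g, ?_⟩
      have : g * s * g⁻¹ = MulAut.conj g s := by simp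
      rw [this, MulEquiv.orderOf_eq]; exact hs2
    have htop : π ⟨x, hx⟩ ∈ ((Lb ⊔ M : Subgroup (↥N ⧸ T.subgroupOf N)) : Set (↥N ⧸ T.subgroupOf N)) := by
      rw [sup_comm, hsup]; trivial
    rw [Subgroup.normal_mul] at htop
    obtain ⟨wb, hwb, mb, hmb, hwm⟩ := Set.mem_mul.1 htop
    -- lift `wb`
    have hlift : Lb ≤ ((((Cfsg.pResidual p ↥X).map X.subtype : Subgroup G)).subgroupOf N).map π := by
      rw [hLb, Subgroup.closure_le]
      rintro g ⟨hgX, hgcop⟩
      obtain ⟨n₀, rfl⟩ := hπ g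
      obtain ⟨k, hk1, hk2⟩ := exists_coprime_lift_ag π hp.out n₀ hgcop
      refine ⟨n₀ ^ k, ?_, hk2⟩
      rw [SetLike.mem_coe, mem_subgroupOf, pResidualOf_eq_closure]
      apply Subgroup.subset_closure
      refine ⟨(hmemX _).2 (by rw [hk2]; exact hgX), ?_⟩
      rw [Subgroup.orderOf_coe]; exact hk1
    obtain ⟨w', hw'L, hw'⟩ := hlift hwb
    rw [SetLike.mem_coe, mem_subgroupOf] at hw'L
    have hwstrong : (w' : G) ∈ mixElts p P T := Or.inl ⟨X, hpair, hw'L⟩
    have hGw : GoodE (mixElts p P) (T : Set G) (w' : G) := GoodE.single hwstrong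
    have hm' : π (w'⁻¹ * ⟨x, hx⟩) ∈ compStab Sb := by
      rw [map_mul, map_inv, hw', ← hwm, ← hMdef]
      have : wb⁻¹ * (wb * mb) = mb := by group
      rw [this]; exact hmb
    have hGm := hcomp _ hm'
    have h3 : GoodE (mixElts p P) (rc (w' : G) (T : Set G)) ((w'⁻¹ * ⟨x, hx⟩ : ↥N) : G) := by
      rw [hrcT]; exact hGm
    have h4 := GoodE.mul hGw h3
    have : (w' : G) * ((w'⁻¹ * ⟨x, hx⟩ : ↥N) : G) = x := by simp
    rw [this] at h4
    exact h4

end step

end Cfsg.Agent.Helper10
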