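import Mathlib
import Cfsg.Agent.Helper10.AGStrongC

set_option autoImplicit false
set_option linter.unusedSectionVars false
set_option linter.unusedVariables false

/-! # The strong Alperin–Goldschmidt theorem: the induction -/

namespace Cfsg.Agent.Helper10

open Subgroup Cfsg Cfsg.Agent.Helper14

universe u

variable {G : Type u} [Group G] [Finite G] {p : ℕ} [hp : Fact p.Prime] (P : Sylow p G)

theorem strong_inner (m : ℕ)
    (Hm : ∀ T ∈ agFam p P (agK p), m ≤ Nat.card ↥T → ∀ x ∈ normalizer (T : Set G),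
      GoodE (mixElts p P) (T : Set G) x) :
    ∀ (l₀ : List (Subgroup G × G)) (B : Subgroup G), m ≤ Nat.card ↥B →
      Dec (agFam p P (agK p)) (B : Set G) l₀ → GoodE (mixElts p P) (B : Set G) (lprod l₀) := by
  intro l₀
  induction l₀ with
  | nil =>
    intro B _ _
    rw [lprod_nil]; exact GoodE.one _ _
  | cons a l₀ ih =>
    obtain ⟨T, x⟩ := a
    intro B hmB hd
    obtain ⟨hT, hxT, hBT, hd'⟩ := hd
    have hBT' : B ≤ T := hBT
    have h1 : GoodE (mixElts p P) (B : Set G) x :=
      (Hm T hT (hmB.trans (Subgroup.card_le_of_le hBT')) x hxT).mono hBT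
    rw [rc_coe] at hd'
    have hcard : m ≤ Nat.card ↥(B.map (cj x⁻¹)) := by rw [card_map_cj]; exact hmB
    have h2 := ih (B.map (cj x⁻¹)) hcard hd'
    rw [← rc_coe] at h2
    rw [lprod_cons]
    exact GoodE.mul h1 h2

theorem strong_main : ∀ (n : ℕ) (D : Subgroup G), D ≤ (P : Subgroup G) →
    Nat.card ↥(P : Subgroup G) - Nat.card ↥D = n → ∀ g : G, D.map (cj g⁻¹) ≤ (P : Subgroup G) →
    GoodE (mixElts p P) (D : Set G) g := by
  intro n
  induction n using Nat.strong_induction_on with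
  | _ n ih =>
  intro D hDP hn g hg
  obtain ⟨c, hc, l₀, hl₀, hgl⟩ := ag_main P (agK p) (fun i T _ => agK_le p i T)
    (fun i T _ => normalizer_le_normalizer_agK p i T)
    (fun i T hT => agK_pow_mem i (P.2.to_le (tameFam_le hT))) _ D hDP rfl g hg
  have hDcard : Nat.card ↥D ≤ Nat.card ↥(P : Subgroup G) := Subgroup.card_le_of_le hDP
  have Hm : ∀ T ∈ agFam p P (agK p), Nat.card ↥D ≤ Nat.card ↥T → ∀ x ∈ normalizer (T : Set G),
      GoodE (mixElts p P) (T : Set G) x := by
    intro T hT hDT x hx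
    by_cases hTP : T = (P : Subgroup G)
    · refine GoodE.single (Or.inr ⟨hTP, ?_⟩)
      rw [← hTP]; exact hx
    · apply step_lemma P hT hTP _ x hx
      intro E hEP hTE g' hg'
      have hEcard : Nat.card ↥E ≤ Nat.card ↥(P : Subgroup G) := Subgroup.card_le_of_le hEP
      exact ih (Nat.card ↥(P : Subgroup G) - Nat.card ↥E) (by omega) E hEP rfl g' hg'
  obtain ⟨c', hc', l, hl, hlp⟩ := strong_inner P (Nat.card ↥D) Hm l₀ D le_rfl hl₀
  exact ⟨c * c', mul_mem hc hc', l, hl, by rw [hgl, hlp]; group⟩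

theorem strong_set (A : Set G) (g : G) (hA : A ⊆ ((P : Subgroup G) : Set G))
    (hAg : rc g A ⊆ ((P : Subgroup G) : Set G)) :
    ∃ c ∈ centralizer A, ∃ (l : List (Subgroup G × G)) (y : G),
      y ∈ normalizer ((P : Subgroup G) : Set G) ∧
      DecE (strongElts p P) A l ∧ g = c * lprod l * y := by
  have hT : Subgroup.closure A ≤ (P : Subgroup G) := (Subgroup.closure_le _).mpr hA
  have hTg : (Subgroup.closure A).map (cj g⁻¹) ≤ (P : Subgroup G) := by
    rw [MonoidHom.map_closure, Subgroup.closure_le]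
    rintro _ ⟨a, ha, rfl⟩
    apply hAg
    exact ⟨a, ha, by simp⟩
  obtain ⟨c, hc, l, hl, hg⟩ := strong_main P _ _ hT rfl g hTg
  obtain ⟨l', y, hy, hl', hprod⟩ := DecE.extract P (hl.mono Subgroup.subset_closure)
  exact ⟨c, centralizer_le Subgroup.subset_closure hc, l', y, hy, hl',
    by rw [hg, hprod, mul_assoc]⟩

/-- The strong form of the Alperin–Goldschmidt theorem. -/
theorem strong_alperin_goldschmidt (A : Set G) (hA : A ⊆ ((P : Subgroup G) : Set G)) (g : G)
    (hAg : (fun a => g⁻¹ * a * g) '' A ⊆ ((P : Subgroup G) : Set G)) :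
    ∃ (n : ℕ) (H X : Fin n → Subgroup G) (x : Fin n → G) (c y : G),
      c ∈ centralizer A ∧ y ∈ normalizer ((P : Subgroup G) : Set G) ∧
      g = c * (List.ofFn x).prod * y ∧
      ∀ i : Fin n, StrongPair p P (H i) (X i) ∧
        x i ∈ (Cfsg.pResidual p ↥(X i)).map (X i).subtype ∧
        (fun a => (((List.ofFn x).take i.val).prod)⁻¹ * a * ((List.ofFn x).take i.val).prod) '' A ⊆
          ((H i : Subgroup G) : Set G) := by
  have hAg' : rc g A ⊆ ((P : Subgroup G) : Set G) := hAg
  obtain ⟨c, hc, l, y, hy, hl, hg⟩ := strong_set P A g hA hAg'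
  have haux := DecE.aux hl
  have hx : List.ofFn (fun i : Fin l.length => (l[(i : ℕ)]).2) = l.map Prod.snd :=
    List.ofFn_getElem_eq_map _ Prod.snd
  refine ⟨l.length, fun i => (l[(i : ℕ)]).1, fun i => Classical.choose (haux i i.2).1,
    fun i => (l[(i : ℕ)]).2, c, y, hc, hy, ?_, ?_⟩
  · rw [hx]; exact hg
  · intro i
    refine ⟨(Classical.choose_spec (haux i i.2).1).1, (Classical.choose_spec (haux i i.2).1).2, ?_⟩
    rw [hx]
    exact (haux i i.2).2

end Cfsg.Agent.Helper10
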