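import Mathlib
import Cfsg.Prelude.Def_Characters
import Cfsg.Agent.Helper23.AVDefs

/-!
S4560 piece VAL2: the number of fixed points of `g` on the `2`-subsets of `Ω`.
-/

set_option autoImplicit false

namespace Cfsg.Agent.Helper23.AV

open MulAction
open scoped Pointwise

universe u v

variable {G : Type u} [Group G] {Ω : Type v} [MulAction G Ω]

theorem val2_pair_eq [DecidableEq Ω] {a b x y : Ω} :
    ({a, b} : Finset Ω) = {x, y} ↔ (a = x ∧ b = y) ∨ (a = y ∧ b = x) := by
  rw [← Finset.coe_inj]
  push_cast
  exact Set.pair_eq_pair_iff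

theorem val2_smul_pair [DecidableEq Ω] (g : G) (a b : Ω) :
    g • ({a, b} : Finset Ω) = {g • a, g • b} := by
  rw [Finset.smul_finset_insert, Finset.smul_finset_singleton]

theorem two_mul_card_fixedBy_X2 [Finite Ω] [DecidableEq Ω] (g : G) :
    2 * (Nat.card (fixedBy (Set.powersetCard Ω 2) g) : ℂ) =
      fx G Ω g ^ 2 - 2 * fx G Ω g + fx G Ω (g ^ 2) := by
  classical
  have : Fintype Ω := Fintype.ofFinite Ω
  -- the fixed 2-subsets, as a finset of finsets
  let F : Finset (Finset Ω) := Finset.univ.filter (fun s => s.card = 2 ∧ g • s = s)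
  have hF : Nat.card (fixedBy (Set.powersetCard Ω 2) g) = F.card := by
    have e : fixedBy (Set.powersetCard Ω 2) g ≃ {s : Finset Ω // s ∈ F} :=
      { toFun := fun s => ⟨(s.1 : Finset Ω), by
            simp only [F, Finset.mem_filter, Finset.mem_univ, true_and]
            refine ⟨s.1.2, ?_⟩
            have h := s.2
            rw [mem_fixedBy] at h
            have h' := congrArg (fun t : Set.powersetCard Ω 2 => (t : Finset Ω)) h
            simpa using h'⟩
        invFun := fun s => ⟨⟨s.1, by
            have h := s.2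
            simp only [F, Finset.mem_filter, Finset.mem_univ, true_and] at h
            exact h.1⟩, by
            have h := s.2
            simp only [F, Finset.mem_filter, Finset.mem_univ, true_and] at h
            rw [mem_fixedBy]
            apply Subtype.ext
            rw [Set.powersetCard.coe_smul]
            exact h.2⟩
        left_inv := fun s => rfl
        right_inv := fun s => rfl }
    rw [Nat.card_congr e, Nat.card_eq_fintype_card, Fintype.card_coe]
  -- fixed points
  let A : Finset Ω := Finset.univ.filter (fun a => g • a = a)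
  let B : Finset Ω := Finset.univ.filter (fun a => (g ^ 2) • a = a)
  have hA : Nat.card (fixedBy Ω g) = A.card := by
    rw [Nat.card_eq_fintype_card, ← Finset.card_univ]
    rw [Finset.card_univ, Fintype.card_subtype]
    rfl
  have hB : Nat.card (fixedBy Ω (g ^ 2)) = B.card := by
    rw [Nat.card_eq_fintype_card, Fintype.card_subtype]
    rfl
  have hAB : A ⊆ B := by
    intro a ha
    simp only [A, B, Finset.mem_filter, Finset.mem_univ, true_and] at ha ⊢
    rw [pow_two, mul_smul, ha, ha]
  -- ordered pairs
  let D : Finset (Ω × Ω) := Finset.univ.filter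
    (fun p => p.1 ≠ p.2 ∧ g • ({p.1, p.2} : Finset Ω) = {p.1, p.2})
  let D1 : Finset (Ω × Ω) := A.offDiag
  let D2 : Finset (Ω × Ω) := (B \ A).image (fun a => (a, g • a))
  have hinj : Function.Injective (fun a : Ω => (a, g • a)) := fun a b h => (Prod.ext_iff.mp h).1
  have hD : D = D1 ∪ D2 := by
    ext ⟨a, b⟩
    simp only [D, D1, D2, A, B, Finset.mem_filter, Finset.mem_univ, true_and, Finset.mem_union,
      Finset.mem_offDiag, Finset.mem_image, Finset.mem_sdiff,
      Prod.mk.injEq, val2_smul_pair, val2_pair_eq]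
    constructor
    · rintro ⟨hab, h | h⟩
      · exact Or.inl ⟨h.1, h.2, hab⟩
      · refine Or.inr ⟨a, ⟨?_, ?_⟩, rfl, h.1⟩
        · rw [pow_two, mul_smul, h.1, h.2]
        · intro h'
          exact hab (h'.symm.trans h.1)
    · rintro (⟨h1, h2, hab⟩ | ⟨c, ⟨hc2, hc1⟩, rfl, rfl⟩)
      · exact ⟨hab, Or.inl ⟨h1, h2⟩⟩
      · refine ⟨fun h => hc1 h.symm, Or.inr ⟨rfl, ?_⟩⟩
        rw [← mul_smul, ← pow_two]
        exact hc2
  have hdisj : Disjoint D1 D2 := by
    rw [Finset.disjoint_left]
    rintro ⟨a, b⟩ h1 h2
    simp only [D1, D2, A, B, Finset.mem_offDiag, Finset.mem_filter, Finset.mem_univ, true_and,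
      Finset.mem_image, Finset.mem_sdiff, Prod.mk.injEq] at h1 h2
    obtain ⟨c, ⟨_, hc1⟩, rfl, rfl⟩ := h2
    exact hc1 h1.1
  have hDcard : D.card = (A.card * A.card - A.card) + (B.card - A.card) := by
    rw [hD, Finset.card_union_of_disjoint hdisj, Finset.offDiag_card, Finset.card_image_of_injective _ hinj,
      Finset.card_sdiff_of_subset hAB]
  -- the 2-to-1 map
  have h2to1 : D.card = 2 * F.card := by
    have hmaps : ∀ p ∈ D, ({p.1, p.2} : Finset Ω) ∈ F := by
      intro p hp
      simp only [D, F, Finset.mem_filter, Finset.mem_univ, true_and] at hp ⊢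
      exact ⟨Finset.card_pair hp.1, hp.2⟩
    rw [Finset.card_eq_sum_card_fiberwise hmaps]
    rw [Finset.sum_const_nat (m := 2), mul_comm]
    intro s hs
    simp only [F, Finset.mem_filter, Finset.mem_univ, true_and] at hs
    obtain ⟨x, y, hxy, rfl⟩ := Finset.card_eq_two.mp hs.1
    have : D.filter (fun p => ({p.1, p.2} : Finset Ω) = {x, y}) = {(x, y), (y, x)} := by
      ext ⟨a, b⟩
      simp only [D, Finset.mem_filter, Finset.mem_univ, true_and, Finset.mem_insert,
        Finset.mem_singleton, Prod.mk.injEq]
      constructor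
      · rintro ⟨_, h⟩
        exact val2_pair_eq.mp h
      · intro h
        have h' : ({a, b} : Finset Ω) = {x, y} := val2_pair_eq.mpr h
        refine ⟨⟨?_, ?_⟩, h'⟩
        · rcases h with ⟨rfl, rfl⟩ | ⟨rfl, rfl⟩
          · exact hxy
          · exact hxy.symm
        · rw [h']
          exact hs.2
    rw [this, Finset.card_pair]
    intro h
    exact hxy (Prod.ext_iff.mp h).1
  unfold fx
  rw [hF, hA, hB]
  have h1 : A.card ≤ A.card * A.card := Nat.le_mul_self _
  have h2 : A.card ≤ B.card := Finset.card_le_card hAB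
  have key : (2 * F.card : ℕ) = (A.card * A.card - A.card) + (B.card - A.card) := by
    rw [← h2to1, hDcard]
  have keyC : ((2 * F.card : ℕ) : ℂ) = (((A.card * A.card - A.card) + (B.card - A.card) : ℕ) : ℂ) := by
    rw [key]
  rw [Nat.cast_add, Nat.cast_sub h1, Nat.cast_sub h2] at keyC
  push_cast at keyC
  rw [keyC]
  ring

end Cfsg.Agent.Helper23.AV
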