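import Mathlib
import Cfsg.Prelude.Def_Characters
import Cfsg.Agent.Helper23.AVDefs

/-!
S4560 piece VAL3: the number of fixed points of `g` on `Fin 2 ↪ Ω`.
-/

set_option autoImplicit false

namespace Cfsg.Agent.Helper23.AV

open MulAction

universe u v

variable {G : Type u} [Group G] {Ω : Type v} [MulAction G Ω]

/-- Fixed embeddings are embeddings into the fixed points. -/
noncomputable def val3_equiv (g : G) : fixedBy (Fin 2 ↪ Ω) g ≃ (Fin 2 ↪ fixedBy Ω g) where
  toFun f := ⟨fun i => ⟨f.1 i, by
      have h := DFunLike.congr_fun f.2 i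
      rw [mem_fixedBy]
      simpa using h⟩, fun i j h => f.1.injective (by simpa using congrArg Subtype.val h)⟩
  invFun f := ⟨⟨fun i => (f i).1, fun i j h => f.injective (Subtype.ext h)⟩, by
      rw [mem_fixedBy]
      ext i
      have h := (f i).2
      rw [mem_fixedBy] at h
      rw [Function.Embedding.smul_apply]
      exact h⟩
  left_inv f := by
    ext i
    rfl
  right_inv f := by
    ext i
    rfl

theorem card_fixedBy_X3 [Finite Ω] (g : G) :
    (Nat.card (fixedBy (Fin 2 ↪ Ω) g) : ℂ) = fx G Ω g ^ 2 - fx G Ω g := by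
  classical
  have : Fintype Ω := Fintype.ofFinite Ω
  have : Fintype (fixedBy Ω g) := Fintype.ofFinite _
  rw [Nat.card_congr (val3_equiv g), Nat.card_eq_fintype_card, Fintype.card_embedding_eq]
  unfold fx
  rw [Nat.card_eq_fintype_card, Fintype.card_fin]
  set m := Fintype.card (fixedBy Ω g) with hm
  have h2 : m.descFactorial 2 = m * m - m := by
    rw [Nat.descFactorial_succ, Nat.descFactorial_one]
    rcases m with _ | m
    · simp
    · simp only [Nat.add_sub_cancel]
      have : (m + 1) * (m + 1) = (m * m + m) + (m + 1) := by ring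
      rw [this, Nat.add_sub_cancel]
      ring
  rw [h2]
  have hle : m ≤ m * m := Nat.le_mul_self m
  rw [Nat.cast_sub hle]
  push_cast
  ring

end Cfsg.Agent.Helper23.AV
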