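import Mathlib
import Cfsg.Agent.Helper29.KWGeneral

/-!
Products `G = A B` of an abelian subgroup `A` and a subgroup `B` of class at most two.
Key lemma: if moreover `G = A * (B')^G` then `B` is abelian.
-/

set_option autoImplicit false

namespace Cfsg.Agent.Helper10.AbClass2

open Subgroup
open scoped commutatorElement

universe u

variable {G : Type u} [Group G]

/-- a group whose commutators are central is nilpotent -/
theorem nilpotent_of_comm_central (K : Type*) [Group K]
    (h : ∀ x y z : K, ⁅x, y⁆ * z = z * ⁅x, y⁆) : Group.IsNilpotent K := by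
  refine ⟨⟨2, ?_⟩⟩
  rw [eq_top_iff]
  intro x _
  rw [Subgroup.mem_upperCentralSeries_succ_iff]
  intro y
  rw [Subgroup.upperCentralSeries_one, Subgroup.mem_center_iff]
  intro z
  exact (h x y z).symm

/-- hypotheses on a pair of subgroups: `A` abelian, commutators of `B` central in `B` -/
structure Hyp (A B : Subgroup G) : Prop where
  comm : ∀ x ∈ A, ∀ y ∈ A, x * y = y * x
  cent : ∀ x ∈ B, ∀ y ∈ B, ∀ z ∈ B, ⁅x, y⁆ * z = z * ⁅x, y⁆
  fac : ∀ g : G, ∃ a ∈ A, ∃ b ∈ B, g = a * b

theorem Hyp.nilpA {A B : Subgroup G} (h : Hyp A B) : Group.IsNilpotent A := by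
  apply nilpotent_of_comm_central
  intro x y z
  have hxy : ⁅x, y⁆ = 1 := by
    rw [commutatorElement_eq_one_iff_mul_comm]
    exact Subtype.ext (h.comm x x.2 y y.2)
  rw [hxy]; simp

theorem Hyp.nilpB {A B : Subgroup G} (h : Hyp A B) : Group.IsNilpotent B := by
  apply nilpotent_of_comm_central
  intro x y z
  apply Subtype.ext
  have := h.cent x x.2 y y.2 z z.2
  simpa [commutatorElement_def] using this

theorem Hyp.solvable [Finite G] {A B : Subgroup G} (h : Hyp A B) : Group.IsSolvable G :=
  Cfsg.Agent.Helper29.KW.kegel_wielandt h.nilpA h.nilpB h.fac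

/-- commutator subgroup of `B` is centralized by `B` -/
theorem Hyp.comm_mem {A B : Subgroup G} (h : Hyp A B) {c z : G} (hc : c ∈ ⁅B, B⁆) (hz : z ∈ B) :
    c * z = z * c := by
  have hle : ⁅B, B⁆ ≤ centralizer ({z} : Set G) := by
    rw [Subgroup.commutator_le]
    intro x hx y hy
    rw [Subgroup.mem_centralizer_iff]
    intro w hw
    rw [Set.mem_singleton_iff] at hw
    subst hw
    exact (h.cent x hx y hy w hz).symm
  have := hle hc
  rw [Subgroup.mem_centralizer_iff] at this
  exact (this z rfl).symm

end Cfsg.Agent.Helper10.AbClass2
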