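import Mathlib
import Cfsg.Agent.Helper10.AbClass2A

/-!
Key lemma: if `G = A B`, `A` abelian, `B' ≤ Z(B)` and `G = A * (B')^G`, then `B` is abelian.
-/

set_option autoImplicit false

namespace Cfsg.Agent.Helper10.AbClass2

open Subgroup
open scoped commutatorElement

universe u

variable {G : Type u} [Group G]

/-- a subgroup containing all commutators is normal -/
theorem normal_of_commutator_le' {F : Subgroup G} (hF : ∀ q f : G, ⁅q, f⁆ ∈ F) : F.Normal := by
  refine ⟨fun f hf q => ?_⟩
  have h1 : q * f * q⁻¹ = ⁅q, f⁆ * f := by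
    rw [commutatorElement_def]; group
  rw [h1]
  exact F.mul_mem (hF q f) hf

/-- centralizer of a normal subgroup is normal -/
theorem centralizer_normal' {F : Subgroup G} [hF : F.Normal] :
    (centralizer (F : Set G)).Normal := by
  refine ⟨fun x hx q => ?_⟩
  rw [Subgroup.mem_centralizer_iff] at hx ⊢
  intro f hf
  have hf' : q⁻¹ * f * q ∈ F := by
    have := hF.conj_mem f hf q⁻¹
    simpa using this
  have := hx _ hf'
  calc f * (q * x * q⁻¹) = q * ((q⁻¹ * f * q) * x) * q⁻¹ := by group
    _ = q * (x * (q⁻¹ * f * q)) * q⁻¹ := by rw [this]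
    _ = q * x * q⁻¹ * f := by group

theorem comm_eq_bot_of_top [Finite G] {A B : Subgroup G} (h : Hyp A B)
    (hAN : ∀ g : G, ∃ a ∈ A, ∃ n ∈ normalClosure ((⁅B, B⁆ : Subgroup G) : Set G), g = a * n) :
    ⁅B, B⁆ = ⊥ := by
  classical
  have : Group.IsSolvable G := h.solvable
  have hBN : ⁅B, B⁆ ≤ normalClosure ((⁅B, B⁆ : Subgroup G) : Set G) := Subgroup.le_normalClosure
  have hBD1 : ⁅B, B⁆ ≤ commutator G := by
    rw [_root_.commutator_def]; exact Subgroup.commutator_mono le_top le_top
  -- (a) N ≤ D1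
  have hND1 : normalClosure ((⁅B, B⁆ : Subgroup G) : Set G) ≤ commutator G :=
    normalClosure_le_normal hBD1
  -- the quotient by G''
  let π : G →* G ⧸ ⁅commutator G, commutator G⁆ := QuotientGroup.mk' _
  have hπ : ∀ x : G, π x = 1 ↔ x ∈ ⁅commutator G, commutator G⁆ := fun x =>
    QuotientGroup.eq_one_iff x
  have hπsurj : Function.Surjective π := QuotientGroup.mk'_surjective _
  -- (c1) images of elements of G' commute
  have c1 : ∀ x ∈ commutator G, ∀ y ∈ commutator G, Commute (π x) (π y) := by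
    intro x hx y hy
    have : π ⁅x, y⁆ = 1 := (hπ _).2 (Subgroup.commutator_mem_commutator hx hy)
    rw [map_commutatorElement, commutatorElement_eq_one_iff_commute] at this
    exact this
  -- F = π(B) ⊔ π(G')
  let F : Subgroup (G ⧸ ⁅commutator G, commutator G⁆) := B.map π ⊔ (commutator G).map π
  have hFn : F.Normal := by
    apply normal_of_commutator_le'
    intro q f
    obtain ⟨g1, rfl⟩ := hπsurj q
    obtain ⟨g2, rfl⟩ := hπsurj f
    rw [← map_commutatorElement]
    refine (le_sup_right : (commutator G).map π ≤ F) ⟨⁅g1, g2⁆, ?_, rfl⟩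
    rw [_root_.commutator_def]
    exact Subgroup.commutator_mem_commutator (Subgroup.mem_top g1) (Subgroup.mem_top g2)
  have := hFn
  have hEn : (centralizer (F : Set (G ⧸ ⁅commutator G, commutator G⁆))).Normal :=
    centralizer_normal'
  have hcomapn : ((centralizer (F : Set (G ⧸ ⁅commutator G, commutator G⁆))).comap π).Normal :=
    hEn.comap π
  have := hcomapn
  -- B' maps into the centralizer of F
  have hBE : ((⁅B, B⁆ : Subgroup G) : Set G) ⊆
      ((centralizer (F : Set (G ⧸ ⁅commutator G, commutator G⁆))).comap π : Subgroup G) := by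
    intro c hc
    rw [SetLike.mem_coe, Subgroup.mem_comap, Subgroup.mem_centralizer_iff]
    intro f hf
    have hle : F ≤ centralizer ({π c} : Set (G ⧸ ⁅commutator G, commutator G⁆)) := by
      apply sup_le
      · rintro _ ⟨b, hb, rfl⟩
        rw [Subgroup.mem_centralizer_iff]
        intro w hw
        rw [Set.mem_singleton_iff] at hw
        subst hw
        rw [← map_mul, ← map_mul, h.comm_mem hc hb]
      · rintro _ ⟨y, hy, rfl⟩
        rw [Subgroup.mem_centralizer_iff]
        intro w hw
        rw [Set.mem_singleton_iff] at hw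
        subst hw
        exact (c1 c (hBD1 hc) y hy).eq
    have := hle hf
    rw [Subgroup.mem_centralizer_iff] at this
    exact (this _ rfl).symm
  have hNE : normalClosure ((⁅B, B⁆ : Subgroup G) : Set G) ≤
      (centralizer (F : Set (G ⧸ ⁅commutator G, commutator G⁆))).comap π :=
    normalClosure_le_normal hBE
  -- (c2) elements of N commute with B modulo G''
  have c2 : ∀ n ∈ normalClosure ((⁅B, B⁆ : Subgroup G) : Set G), ∀ b ∈ B,
      Commute (π n) (π b) := by
    intro n hn b hb
    have := hNE hn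
    rw [Subgroup.mem_comap, Subgroup.mem_centralizer_iff] at this
    have hbF : π b ∈ F := (le_sup_left : B.map π ≤ F) ⟨b, hb, rfl⟩
    exact (this _ hbF).symm
  -- (d) B' ≤ G''
  have hd : ⁅B, B⁆ ≤ ⁅commutator G, commutator G⁆ := by
    rw [Subgroup.commutator_le]
    intro b1 hb1 b2 hb2
    obtain ⟨a1, ha1, n1, hn1, e1⟩ := hAN b1
    obtain ⟨a2, ha2, n2, hn2, e2⟩ := hAN b2
    rw [← hπ, map_commutatorElement, commutatorElement_eq_one_iff_commute]
    have hn1' := hND1 hn1
    have hn2' := hND1 hn2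
    have v11 : Commute (π n1) (π n2) := c1 _ hn1' _ hn2'
    have v1b2 : Commute (π n1) (π b2) := c2 _ hn1 _ hb2
    have v2b1 : Commute (π n2) (π b1) := c2 _ hn2 _ hb1
    have v1b1 : Commute (π n1) (π b1) := c2 _ hn1 _ hb1
    have v2b2 : Commute (π n2) (π b2) := c2 _ hn2 _ hb2
    have ha1e : π a1 = π b1 * (π n1)⁻¹ := by rw [e1, map_mul]; group
    have ha2e : π a2 = π b2 * (π n2)⁻¹ := by rw [e2, map_mul]; group
    have haa : Commute (π a1) (π a2) := by
      show π a1 * π a2 = π a2 * π a1
      rw [← map_mul, ← map_mul, h.comm a1 ha1 a2 ha2]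
    have v1a2 : Commute (π n1) (π a2) := by
      rw [ha2e]; exact v1b2.mul_right (c1 _ hn1' _ hn2').inv_right
    have v2a1 : Commute (π n2) (π a1) := by
      rw [ha1e]; exact v2b1.mul_right (c1 _ hn2' _ hn1').inv_right
    have hb1e : π b1 = π a1 * π n1 := by rw [e1, map_mul]
    have hb2e : π b2 = π a2 * π n2 := by rw [e2, map_mul]
    rw [hb1e, hb2e]
    exact (haa.mul_right v2a1.symm).mul_left (v1a2.mul_right v11)
  -- N ≤ G''
  have hNd : normalClosure ((⁅B, B⁆ : Subgroup G) : Set G) ≤ ⁅commutator G, commutator G⁆ :=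
    normalClosure_le_normal hd
  -- (b) G' ≤ N
  have hD1N : commutator G ≤ normalClosure ((⁅B, B⁆ : Subgroup G) : Set G) := by
    rw [_root_.commutator_def, Subgroup.commutator_le]
    intro g1 _ g2 _
    obtain ⟨a1, ha1, n1, hn1, rfl⟩ := hAN g1
    obtain ⟨a2, ha2, n2, hn2, rfl⟩ := hAN g2
    rw [← QuotientGroup.eq_one_iff]
    have e1 : ((a1 * n1 : G) : G ⧸ normalClosure ((⁅B, B⁆ : Subgroup G) : Set G)) = (a1 : G) :=
      QuotientGroup.mk_mul_of_mem a1 hn1
    have e2 : ((a2 * n2 : G) : G ⧸ normalClosure ((⁅B, B⁆ : Subgroup G) : Set G)) = (a2 : G) :=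
      QuotientGroup.mk_mul_of_mem a2 hn2
    have e3 := map_commutatorElement
      (QuotientGroup.mk' (normalClosure ((⁅B, B⁆ : Subgroup G) : Set G))) (a1 * n1) (a2 * n2)
    simp only [QuotientGroup.mk'_apply] at e3
    rw [e3, e1, e2, commutatorElement_eq_one_iff_mul_comm, ← QuotientGroup.mk_mul,
      ← QuotientGroup.mk_mul, h.comm a1 ha1 a2 ha2]
  -- G' ≤ G''
  have hfin : commutator G ≤ ⁅commutator G, commutator G⁆ := hD1N.trans hNd
  by_contra hne
  have hD1ne : commutator G ≠ ⊥ := by
    intro h0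
    apply hne
    rw [eq_bot_iff, ← h0]
    exact hBD1
  have := Group.IsSolvable.commutator_lt_of_ne_bot hD1ne
  exact absurd hfin (not_le_of_gt this)

end Cfsg.Agent.Helper10.AbClass2
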