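import Mathlib
import Cfsg.Agent.Helper10.AbClass2B
import Cfsg.Agent.S0572

/-!
Derived length of a product of an abelian group and a group of class at most two.
-/

set_option autoImplicit false

namespace Cfsg.Agent.Helper10.AbClass2

open Subgroup
open scoped commutatorElement

universe u

theorem length_pfl_lt {a b : ℕ} (hb : b ≠ 0) (hab : a ∣ b) (hne : a ≠ b) :
    a.primeFactorsList.length < b.primeFactorsList.length := by
  obtain ⟨c, rfl⟩ := hab
  have ha0 : a ≠ 0 := by rintro rfl; simp at hb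
  have hc0 : c ≠ 0 := by rintro rfl; simp at hb
  have hc1 : c ≠ 1 := by rintro rfl; simp at hne
  have hperm := Nat.perm_primeFactorsList_mul ha0 hc0
  rw [hperm.length_eq, List.length_append]
  have : 0 < c.primeFactorsList.length := by
    rw [List.length_pos_iff]
    intro hnil
    rw [Nat.primeFactorsList_eq_nil] at hnil
    rcases hnil with h | h
    · exact hc0 h
    · exact hc1 h
  omega

theorem derivedSeries_add_le {G : Type u} [Group G] (H : Subgroup G) (k : ℕ)
    (hk : derivedSeries G k ≤ H) (m : ℕ) :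
    derivedSeries G (k + m) ≤ (derivedSeries H m).map H.subtype := by
  induction m with
  | zero =>
    rw [derivedSeries_zero, ← MonoidHom.range_eq_map, Subgroup.range_subtype]
    exact hk
  | succ m ih =>
    rw [← add_assoc, derivedSeries_succ, derivedSeries_succ, Subgroup.map_commutator]
    exact Subgroup.commutator_mono ih ih

theorem Hyp.subgroupOf {G : Type u} [Group G] {A B : Subgroup G} (h : Hyp A B) (H : Subgroup G)
    (hAH : A ≤ H) : Hyp (A.subgroupOf H) (B.subgroupOf H) := by
  refine ⟨?_, ?_, ?_⟩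
  · intro x hx y hy
    rw [Subgroup.mem_subgroupOf] at hx hy
    exact Subtype.ext (h.comm _ hx _ hy)
  · intro x hx y hy z hz
    rw [Subgroup.mem_subgroupOf] at hx hy hz
    apply Subtype.ext
    have := h.cent _ hx _ hy _ hz
    simpa [commutatorElement_def] using this
  · intro g
    obtain ⟨a, ha, b, hb, e⟩ := h.fac (g : G)
    have hbH : b ∈ H := by
      have : b = a⁻¹ * (g : G) := by rw [e]; group
      rw [this]
      exact H.mul_mem (H.inv_mem (hAH ha)) g.2
    refine ⟨⟨a, hAH ha⟩, ?_, ⟨b, hbH⟩, ?_, ?_⟩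
    · rw [Subgroup.mem_subgroupOf]; exact ha
    · rw [Subgroup.mem_subgroupOf]; exact hb
    · exact Subtype.ext e

/-- the commutator subgroup of `B.subgroupOf H`, mapped to the ambient group -/
theorem map_comm_subgroupOf {G : Type u} [Group G] (B H : Subgroup G) :
    (⁅B.subgroupOf H, B.subgroupOf H⁆ : Subgroup H).map H.subtype = ⁅B ⊓ H, B ⊓ H⁆ := by
  rw [Subgroup.map_commutator, Subgroup.subgroupOf_map_subtype]

/-- the normal closure of `B'` in `G = A B` coincides with the normal closure taken inside any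
subgroup `H` containing `A`, provided `H ∩ B` has the same commutator subgroup as `B` -/
theorem normalClosure_le_map {G : Type u} [Group G] {A B : Subgroup G} (h : Hyp A B)
    (H : Subgroup G) (hAH : A ≤ H) (heq : (⁅B ⊓ H, B ⊓ H⁆ : Subgroup G) = ⁅B, B⁆) :
    normalClosure ((⁅B, B⁆ : Subgroup G) : Set G) ≤
      (normalClosure ((⁅B.subgroupOf H, B.subgroupOf H⁆ : Subgroup H) : Set H)).map H.subtype := by
  have key : ∀ x ∈ Group.conjugatesOfSet ((⁅B, B⁆ : Subgroup G) : Set G),
      x ∈ (normalClosure ((⁅B.subgroupOf H, B.subgroupOf H⁆ : Subgroup H) : Set H)).map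
        H.subtype := by
    intro x hx
    rw [Group.mem_conjugatesOfSet_iff] at hx
    obtain ⟨c, hc, hcx⟩ := hx
    rw [isConj_iff] at hcx
    obtain ⟨g0, rfl⟩ := hcx
    obtain ⟨a0, ha0, b0, hb0, rfl⟩ := h.fac g0
    have hc' : c ∈ (⁅B, B⁆ : Subgroup G) := hc
    have e1 : a0 * b0 * c * (a0 * b0)⁻¹ = a0 * c * a0⁻¹ := by
      have := h.comm_mem hc' hb0
      calc a0 * b0 * c * (a0 * b0)⁻¹ = a0 * (b0 * c) * b0⁻¹ * a0⁻¹ := by group
        _ = a0 * (c * b0) * b0⁻¹ * a0⁻¹ := by rw [this]
        _ = a0 * c * a0⁻¹ := by group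
    rw [e1]
    rw [← heq, ← map_comm_subgroupOf] at hc'
    obtain ⟨c0, hc0, rfl⟩ := hc'
    refine ⟨(⟨a0, hAH ha0⟩ : H) * c0 * (⟨a0, hAH ha0⟩ : H)⁻¹, ?_, ?_⟩
    · exact (Subgroup.normalClosure_normal).conj_mem _
        (Subgroup.le_normalClosure hc0) _
    · simp
  exact (Subgroup.closure_le _).2 key

theorem main (n : ℕ) : ∀ (G : Type u) [Group G] [Finite G] (A B : Subgroup G), Hyp A B →
    Nat.card G = n →
    derivedSeries G (2 * (1 + (Nat.card ↥(⁅B, B⁆ : Subgroup G)).primeFactorsList.length)) = ⊥ := by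
  induction n using Nat.strong_induction_on with
  | _ n ih =>
  intro G _ _ A B h hn
  classical
  by_cases hB' : (⁅B, B⁆ : Subgroup G) = ⊥
  · -- Itô's theorem
    have hc : Nat.card ↥(⁅B, B⁆ : Subgroup G) = 1 := by rw [hB']; simp
    rw [hc]
    have : IsMulCommutative A := ⟨⟨fun a b => Subtype.ext (h.comm a a.2 b b.2)⟩⟩
    have : IsMulCommutative B := ⟨⟨fun a b => by
      apply Subtype.ext
      have : ⁅(a : G), (b : G)⁆ ∈ (⁅B, B⁆ : Subgroup G) :=
        Subgroup.commutator_mem_commutator a.2 b.2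
      rw [hB', Subgroup.mem_bot, commutatorElement_eq_one_iff_mul_comm] at this
      exact this⟩⟩
    have := Cfsg.Agent.S0572.result A B h.fac
    simpa using this
  · -- the inductive step
    have hcomm_ne : Nat.card ↥(⁅B, B⁆ : Subgroup G) ≠ 0 := Nat.card_pos.ne'
    -- K = normal closure of B'
    obtain ⟨K, hK⟩ : ∃ K : Subgroup G, K = normalClosure ((⁅B, B⁆ : Subgroup G) : Set G) :=
      ⟨_, rfl⟩
    have hKn : K.Normal := by rw [hK]; infer_instance
    have hBK : (⁅B, B⁆ : Subgroup G) ≤ K := by rw [hK]; exact Subgroup.le_normalClosure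
    -- (i) G'' ≤ K
    have hG2 : derivedSeries G 2 ≤ K := by
      let π : G →* G ⧸ K := QuotientGroup.mk' K
      have hπsurj : Function.Surjective π := QuotientGroup.mk'_surjective K
      have : IsMulCommutative (A.map π) := ⟨⟨fun x y => by
        apply Subtype.ext
        obtain ⟨a, ha, hax⟩ := x.2
        obtain ⟨a', ha', hay⟩ := y.2
        rw [Subgroup.coe_mul, Subgroup.coe_mul, ← hax, ← hay, ← map_mul, ← map_mul,
          h.comm a ha a' ha']⟩⟩
      have : IsMulCommutative (B.map π) := ⟨⟨fun x y => by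
        apply Subtype.ext
        obtain ⟨b, hb, hbx⟩ := x.2
        obtain ⟨b', hb', hby⟩ := y.2
        rw [Subgroup.coe_mul, Subgroup.coe_mul, ← hbx, ← hby]
        have h1 : π ⁅b, b'⁆ = 1 := by
          rw [QuotientGroup.mk'_apply, QuotientGroup.eq_one_iff]
          exact hBK (Subgroup.commutator_mem_commutator hb hb')
        rw [map_commutatorElement, commutatorElement_eq_one_iff_mul_comm] at h1
        exact h1⟩⟩
      have hfac : ∀ q : G ⧸ K, ∃ x ∈ A.map π, ∃ y ∈ B.map π, q = x * y := by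
        intro q
        obtain ⟨g, rfl⟩ := hπsurj q
        obtain ⟨a, ha, b, hb, rfl⟩ := h.fac g
        exact ⟨π a, ⟨a, ha, rfl⟩, π b, ⟨b, hb, rfl⟩, map_mul π a b⟩
      have ito := Cfsg.Agent.S0572.result (A.map π) (B.map π) hfac
      have h2 := map_derivedSeries_eq hπsurj 2
      rw [ito, Subgroup.map_eq_bot_iff, QuotientGroup.ker_mk'] at h2
      exact h2
    -- H = A K
    obtain ⟨H, hH⟩ : ∃ H : Subgroup G, H = A ⊔ K := ⟨_, rfl⟩
    have hAH : A ≤ H := by rw [hH]; exact le_sup_left
    have hKH : K ≤ H := by rw [hH]; exact le_sup_right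
    have hmemH : ∀ g ∈ H, ∃ a ∈ A, ∃ k ∈ K, g = a * k := by
      intro g hg
      rw [hH, Subgroup.mem_sup_of_normal_right] at hg
      obtain ⟨a, ha, k, hk, e⟩ := hg
      exact ⟨a, ha, k, hk, e.symm⟩
    -- (iii) H ≠ ⊤
    have hHtop : H ≠ ⊤ := by
      intro htop
      apply hB'
      apply comm_eq_bot_of_top h
      intro g
      have hg : g ∈ H := by rw [htop]; exact Subgroup.mem_top g
      obtain ⟨a, ha, k, hk, e⟩ := hmemH g hg
      exact ⟨a, ha, k, hK ▸ hk, e⟩
    have hcardH : Nat.card ↥H < n := by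
      rw [← hn]
      apply lt_of_le_of_ne (Subgroup.card_le_card_group _)
      intro he
      exact hHtop (Subgroup.card_eq_iff_eq_top _ |>.1 he)
    have hyp' := h.subgroupOf H hAH
    have key := ih _ hcardH ↥H (A.subgroupOf H) (B.subgroupOf H) hyp' rfl
    -- (v) the commutator subgroup got smaller
    have hC0le : (⁅B ⊓ H, B ⊓ H⁆ : Subgroup G) ≤ ⁅B, B⁆ :=
      Subgroup.commutator_mono inf_le_left inf_le_left
    have hcardC0 : Nat.card ↥(⁅B.subgroupOf H, B.subgroupOf H⁆ : Subgroup ↥H) =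
        Nat.card ↥(⁅B ⊓ H, B ⊓ H⁆ : Subgroup G) := by
      rw [← map_comm_subgroupOf, Subgroup.card_subtype]
    have hC0ne : (⁅B ⊓ H, B ⊓ H⁆ : Subgroup G) ≠ ⁅B, B⁆ := by
      intro heq
      have hKM := normalClosure_le_map h H hAH heq
      have hbot := comm_eq_bot_of_top hyp' (by
        intro g
        obtain ⟨a, ha, k, hk, e⟩ := hmemH g g.2
        obtain ⟨k0, hk0, hk0e⟩ := hKM (hK ▸ hk)
        refine ⟨⟨a, hAH ha⟩, ?_, k0, hk0, ?_⟩
        · rw [Subgroup.mem_subgroupOf]; exact ha
        · apply Subtype.ext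
          rw [Subgroup.coe_mul, e]
          congr 1
          exact hk0e.symm)
      apply hB'
      rw [← heq, ← map_comm_subgroupOf, hbot, Subgroup.map_bot]
    have hΩ : (Nat.card ↥(⁅B.subgroupOf H, B.subgroupOf H⁆ :
          Subgroup ↥H)).primeFactorsList.length <
        (Nat.card ↥(⁅B, B⁆ : Subgroup G)).primeFactorsList.length := by
      rw [hcardC0]
      apply length_pfl_lt hcomm_ne (Subgroup.card_dvd_of_le hC0le)
      intro he
      exact hC0ne (Subgroup.eq_of_le_of_card_ge hC0le he.ge)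
    -- (vi), (vii)
    have hle := derivedSeries_add_le H 2 (hG2.trans hKH)
      (2 * (1 + (Nat.card ↥(⁅B.subgroupOf H, B.subgroupOf H⁆ :
          Subgroup ↥H)).primeFactorsList.length))
    rw [key, Subgroup.map_bot, le_bot_iff] at hle
    rw [eq_bot_iff, ← hle]
    apply derivedSeries_antitone
    omega

end Cfsg.Agent.Helper10.AbClass2
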