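import Mathlib
import Cfsg.Agent.Lead.Gaschutz

set_option autoImplicit false
open Pointwise

/-! # Crossed homomorphisms into an abelian normal subgroup: restriction to a subgroup of
coprime index is injective on `H¹` (extracted from the proof of Gaschütz's theorem in
`Cfsg.Agent.Lead.Gaschutz`). -/

namespace Cfsg.Agent.Helper10

open Subgroup
open scoped IsMulCommutative
open Cfsg.Agent.Lead (out_smul_inv_mul_mem)

/-- A crossed homomorphism `δ : G → K` (`K` abelian normal) that vanishes on a subgroup `U` of
index coprime to `|K|` is principal. -/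
theorem crossedHom_principal {G : Type*} [Group G] [Finite G] (K U : Subgroup G) [K.Normal]
    [IsMulCommutative K] (hcop : (Nat.card K).Coprime U.index)
    (δ : G → K) (hδmul : ∀ g g', δ (g * g') = δ g * MulAut.conjNormal g (δ g'))
    (hδU : ∀ u ∈ U, δ u = 1) :
    ∃ d : K, ∀ g, δ g = d * (MulAut.conjNormal g d)⁻¹ := by
  classical
  let _ := Fintype.ofFinite (G ⧸ U)
  have hδcoset : ∀ g, ∀ u ∈ U, δ (g * u) = δ g := by
    intro g u hu
    rw [hδmul, hδU u hu, map_one, mul_one]
  set c : K := ∏ q : G ⧸ U, δ (Quotient.out q) with hc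
  have hkey : ∀ g : G, c = δ g ^ U.index * MulAut.conjNormal g c := by
    intro g
    have h1 : ∀ q : G ⧸ U, δ (Quotient.out (g • q)) = δ (g * Quotient.out q) := by
      intro q
      have hmem := out_smul_inv_mul_mem U g q
      have e : g * Quotient.out q = Quotient.out (g • q) *
          ((Quotient.out (g • q))⁻¹ * (g * Quotient.out q)) := by group
      rw [e, hδcoset _ _ hmem]
    calc c = ∏ q : G ⧸ U, δ (Quotient.out (g • q)) :=
          (Fintype.prod_equiv (MulAction.toPerm g) _ _ (fun q => rfl)).symm
      _ = ∏ q : G ⧸ U, δ (g * Quotient.out q) := Finset.prod_congr rfl (fun q _ => h1 q)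
      _ = ∏ q : G ⧸ U, (δ g * MulAut.conjNormal g (δ (Quotient.out q))) := by
          simp only [hδmul]
      _ = δ g ^ U.index * MulAut.conjNormal g c := by
          rw [Finset.prod_mul_distrib, Finset.prod_const, Finset.card_univ,
            ← Nat.card_eq_fintype_card, ← index_eq_card, hc, map_prod]
  obtain ⟨d, hd⟩ := (powCoprime hcop).surjective c
  rw [powCoprime_apply] at hd
  refine ⟨d, ?_⟩
  intro g
  apply (powCoprime hcop).injective
  change δ g ^ U.index = (d * (MulAut.conjNormal g d)⁻¹) ^ U.index
  rw [mul_pow, inv_pow, ← map_pow, hd, eq_mul_inv_iff_mul_eq]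
  exact (hkey g).symm

end Cfsg.Agent.Helper10
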