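import Mathlib
import Cfsg.Prelude.Def_Local
import Cfsg.Agent.Helper7.FStar
import Cfsg.Agent.Helper7.Fitting
import Cfsg.Agent.Helper7.PPrimeCore
import Cfsg.Agent.Helper14.PCore
import Cfsg.Agent.Helper10.CrossedHom

set_option autoImplicit false
set_option linter.unusedSectionVars false
set_option linter.unusedVariables false

/-! # Automorphisms fixing a Sylow `p`-subgroup and the layer elementwise are inner when
`O_{p'}(G) = 1`. -/

namespace Cfsg.Agent.Helper10

open Subgroup Cfsg
open Cfsg.Agent.Helper7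
open scoped IsMulCommutative

universe u

variable {G : Type u} [Group G] [Finite G] {p : ℕ} [hp : Fact p.Prime]

/-- With `O_{p'}(G) = 1` the Fitting subgroup lies in every Sylow `p`-subgroup. -/
theorem fittingSubgroup_le_sylow (hcore : pPrimeCore p G = ⊥) (T : Sylow p G) :
    fittingSubgroup G ≤ (T : Subgroup G) := by
  rw [fittingSubgroup_eq_pCoreSup, pCoreSup_le_iff]
  intro q hq
  by_cases hqp : q = p
  · subst hqp
    exact Cfsg.Agent.Helper14.pCore_le_sylow q T
  · have : Fact q.Prime := ⟨hq⟩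
    have h1 : IsPGroup q ↥(pCore q G) := Cfsg.Agent.Helper14.pCore_isPGroup q
    obtain ⟨n, hn⟩ := IsPGroup.iff_card.1 h1
    have h2 : (Nat.card ↥(pCore q G)).Coprime p := by
      rw [hn]
      exact Nat.Coprime.pow_left n ((Nat.coprime_primes hq hp.out).2 hqp)
    have h3 := le_pPrimeCore (Cfsg.Agent.Helper14.pCore_normal q) h2
    rw [hcore] at h3
    exact h3.trans bot_le

theorem aut_inner_of_fixes_sylow_layer (hcore : pPrimeCore p G = ⊥) (T : Sylow p G)
    (α : MulAut G) (hfixT : ∀ x ∈ (T : Subgroup G), α x = x)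
    (hfixE : ∀ x ∈ layer G, α x = x) : ∃ g : G, ∀ x : G, α x = g * x * g⁻¹ := by
  -- `α` fixes `F*(G)` elementwise
  have hfixF : ∀ x ∈ generalizedFittingSubgroup G, α x = x := by
    have h1 : generalizedFittingSubgroup G ≤ (α.toMonoidHom).eqLocus (MonoidHom.id G) := by
      unfold generalizedFittingSubgroup
      apply sup_le
      · intro x hx
        exact hfixE x hx
      · intro x hx
        exact hfixT x (fittingSubgroup_le_sylow hcore T hx)
    intro x hx
    exact h1 hx
  obtain ⟨Z, hZ⟩ : ∃ Z : Subgroup G, Z = centralizer (generalizedFittingSubgroup G : Set G) :=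
    ⟨_, rfl⟩
  have hZn : Z.Normal := by rw [hZ]; infer_instance
  have hZF : Z ≤ generalizedFittingSubgroup G := by
    rw [hZ]; exact centralizer_generalizedFitting_le
  have hZc : IsMulCommutative Z := by
    refine ⟨⟨fun a b => ?_⟩⟩
    apply Subtype.ext
    have h1 : (b : G) ∈ centralizer (generalizedFittingSubgroup G : Set G) := hZ ▸ b.2
    exact mem_centralizer_iff.1 h1 a (hZF a.2)
  have hZT : Z ≤ (T : Subgroup G) := by
    have hnil : Group.IsNilpotent Z := by
      let _ : CommGroup Z :=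
        { (inferInstance : Group Z) with mul_comm := fun a b => hZc.is_comm.comm a b }
      infer_instance
    exact (le_fittingSubgroup hZn hnil).trans (fittingSubgroup_le_sylow hcore T)
  have hcop : (Nat.card Z).Coprime (T : Subgroup G).index := by
    have h1 : IsPGroup p Z := T.2.to_le hZT
    obtain ⟨n, hn⟩ := IsPGroup.iff_card.1 h1
    rw [hn]
    apply Nat.Coprime.pow_left
    rw [Nat.Prime.coprime_iff_not_dvd hp.out]
    exact T.not_dvd_index
  have hmem : ∀ g : G, α g * g⁻¹ ∈ Z := by
    intro g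
    rw [hZ, mem_centralizer_iff]
    intro x hx
    have hy : g⁻¹ * x * g ∈ generalizedFittingSubgroup G := by
      have := (generalizedFittingSubgroup_normal G).conj_mem x hx g⁻¹
      simpa using this
    have h1 := hfixF _ hy
    rw [map_mul, map_mul, map_inv] at h1
    have h2 := hfixF x hx
    rw [h2] at h1
    -- h1 : (α g)⁻¹ * x * α g = g⁻¹ * x * g
    have h3 : x = α g * (g⁻¹ * x * g) * (α g)⁻¹ := by rw [← h1]; group
    calc x * (α g * g⁻¹) = α g * (g⁻¹ * x * g) * (α g)⁻¹ * (α g * g⁻¹) := by rw [← h3]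
      _ = α g * g⁻¹ * x := by group
  obtain ⟨δ, hδ⟩ : ∃ δ : G → Z, ∀ g, δ g = ⟨α g * g⁻¹, hmem g⟩ := ⟨_, fun g => rfl⟩
  have hδmul : ∀ g g', δ (g * g') = δ g * MulAut.conjNormal g (δ g') := by
    intro g g'
    apply Subtype.ext
    rw [Subgroup.coe_mul, MulAut.conjNormal_apply, hδ, hδ, hδ]
    simp only [map_mul]
    group
  have hδT : ∀ u ∈ (T : Subgroup G), δ u = 1 := by
    intro u hu
    apply Subtype.ext
    rw [hδ]
    simp only [hfixT u hu, mul_inv_cancel, OneMemClass.coe_one]
  obtain ⟨d, hd⟩ := crossedHom_principal Z (T : Subgroup G) hcop δ hδmul hδT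
  refine ⟨(d : G), ?_⟩
  intro x
  have h1 := congrArg (fun z : Z => (z : G)) (hd x)
  simp only [hδ, Subgroup.coe_mul, InvMemClass.coe_inv, MulAut.conjNormal_apply] at h1
  -- h1 : α x * x⁻¹ = d * (x * d * x⁻¹)⁻¹
  calc α x = α x * x⁻¹ * x := by group
    _ = (d : G) * (x * (d : G) * x⁻¹)⁻¹ * x := by rw [h1]
    _ = (d : G) * x * (d : G)⁻¹ := by group

end Cfsg.Agent.Helper10
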