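import Mathlib
import Cfsg.Prelude.Def_OddOrderLocal

/-!
# `NoPair`: in setting T3 there is no Frobenius pair `(T₀, R)` with `T₀ ≤ E₃`, `R ≤ E₁`

The Prop consumed by the final assembly of `Tau3` (helper9) and proved in
`Cfsg.Agent.Helper10.BG13Q` (helper10).
-/

set_option autoImplicit false

namespace Cfsg.Agent.Helper10.BG13P

open Subgroup

universe u

/-- **NoPair**: `M` a maximal subgroup, `E` a complement of `M_σ`, `τ₃(M) ∩ κ(M) ≠ ∅`,
`E₁`, `E₃` Hall `τ₁(M)`-, `τ₃(M)`-subgroups of `E`: every subgroup of prime order of `E₁`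
centralizes every subgroup of prime order of `E₃`. -/
def NoPair (G : Type u) [Group G] : Prop :=
  ∀ M : Subgroup G, IsCoatom M → ∀ E : Subgroup G, Cfsg.IsComplIn E (Cfsg.sigmaCore M) M →
    ∀ p : ℕ, p ∈ Cfsg.tau3 M → p ∈ Cfsg.kappa M →
    ∀ E1 E3 : Subgroup G, Cfsg.IsPiHallOf (Cfsg.tau1 M) E1 E → Cfsg.IsPiHallOf (Cfsg.tau3 M) E3 E →
    ∀ R T0 : Subgroup G, R ≤ E1 → T0 ≤ E3 → (Nat.card R).Prime → (Nat.card T0).Prime →
      R ≤ centralizer (T0 : Set G)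

end Cfsg.Agent.Helper10.BG13P
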