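import Mathlib
import Cfsg.Agent.S1350
import Cfsg.Agent.S1415
import Cfsg.Agent.S1428
import Cfsg.Agent.Helper10.BG13L
import Cfsg.Agent.Helper10.BG13M
import Cfsg.Agent.Helper10.BG13P
import Cfsg.Agent.Helper20.BG13N
import Cfsg.Agent.Helper4.BG13E2
import Cfsg.Agent.Helper5.FrobModH
import Cfsg.Agent.Lead.PiHall
import Cfsg.Agent.Lead.BG142d
import Cfsg.Agent.Helper9.BG12a
import Cfsg.Agent.Helper9.BG12c
import Cfsg.Agent.Helper9.BG12f
import Cfsg.Agent.Helper21.BG10b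

/-!
# `NoPair` (step (N4)(B) of the `Tau3` proof)

In setting T3 (`M` maximal, `E` a complement of `M_σ`, `p ∈ τ₃(M) ∩ κ(M)`, `E₁`, `E₃` Hall
`τ₁`-, `τ₃`-subgroups of `E`) there is no pair `R ≤ E₁`, `T₀ ≤ E₃` of subgroups of prime order with
`[T₀, R] ≠ 1`.  The pieces of the proof due to other helpers enter as the hypotheses `T3Basics`
(helper4, F1–F4), `NotBad1` (helper20), `F5b` and `Mirror` (helper21).
-/

set_option autoImplicit false
set_option linter.unusedSectionVars false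
set_option linter.unusedVariables false

namespace Cfsg.Agent.Helper10.BG13Q

open Subgroup
open Cfsg.Agent.Helper10.BG13P (NoPair)

universe u

/-- helper4's F1–F4: the basic facts of setting T3. -/
def T3Basics (G : Type u) [Group G] : Prop :=
  ∀ (M E X E3 E1 : Subgroup G) (p : ℕ), IsCoatom M → Cfsg.IsComplIn E (Cfsg.sigmaCore M) M →
    p ∈ Cfsg.tau3 M → p ∈ Cfsg.kappa M → X ≤ E → Nat.card X = p →
    Cfsg.IsPiHallOf (Cfsg.tau3 M) E3 E → Cfsg.IsPiHallOf (Cfsg.tau1 M) E1 E →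
    (∀ q : ℕ, q.Prime → q ∉ Cfsg.sigma M → Cfsg.PRankLE q 1 M) ∧ X ≤ E3 ∧
    E ≤ normalizer (X : Set G) ∧
    (∀ H : Subgroup G, IsCoatom H → normalizer (X : Set G) ≤ H →
      p ∈ Cfsg.sigma H ∧ (∀ g : G, H ≠ M.map (MulAut.conj g).toMonoidHom) ∧
      Cfsg.sigmaCore M ⊓ H = Cfsg.sigmaCore M ⊓ centralizer (X : Set G) ∧ E ≤ H) ∧
    (∀ e ∈ E3, e ≠ 1 → Cfsg.sigmaCore M ⊓ centralizer ({e} : Set G) =
      Cfsg.sigmaCore M ⊓ centralizer (X : Set G)) ∧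
    (∀ x ∈ E1, x ≠ 1 → Cfsg.sigmaCore M ⊓ centralizer ({x} : Set G) =
      Cfsg.sigmaCore M ⊓ centralizer (E1 : Set G))

/-- helper20's (N4b): BAD1 is impossible: in setting T3 a subgroup `R₀ ≤ E₁` of prime order not
centralizing some `T₀ ≤ E₃` of prime order cannot centralize `Y₀ = C_{M_σ}(X)`. -/
def NotBad1 (G : Type u) [Group G] : Prop :=
  ∀ (M E X E3 E1 R0 T0 : Subgroup G) (p : ℕ), IsCoatom M →
    Cfsg.IsComplIn E (Cfsg.sigmaCore M) M →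
    p ∈ Cfsg.tau3 M → p ∈ Cfsg.kappa M → X ≤ E → Nat.card X = p →
    Cfsg.IsPiHallOf (Cfsg.tau3 M) E3 E → Cfsg.IsPiHallOf (Cfsg.tau1 M) E1 E →
    R0 ≤ E1 → (Nat.card R0).Prime → T0 ≤ E3 → (Nat.card T0).Prime →
    ¬ R0 ≤ centralizer (T0 : Set G) →
    R0 ≤ centralizer ((Cfsg.sigmaCore M ⊓ centralizer (X : Set G) : Subgroup G) : Set G) → False

/-- helper21's (N4c) = F5b. -/
def F5b (G : Type u) [Group G] : Prop :=
  ∀ (M H Y R : Subgroup G), IsCoatom M → IsCoatom H →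
    (∀ g : G, H ≠ M.map (MulAut.conj g).toMonoidHom) →
    Y ≤ Cfsg.sigmaCore M ⊓ H → R ≤ M ⊓ H → (Nat.card R).Prime → Nat.card R ∉ Cfsg.sigma M →
    ¬ R ≤ centralizer (Y : Set G) → Nat.card R ∈ Cfsg.tau1 H

/-- helper21's (N4e) = the mirror step. -/
def Mirror (G : Type u) [Group G] : Prop :=
  ∀ (M H T0 R : Subgroup G), IsCoatom M → IsCoatom H →
    (∀ g : G, H ≠ M.map (MulAut.conj g).toMonoidHom) →
    T0 ≤ Cfsg.sigmaCore H → T0 ≠ ⊥ → T0 ≤ M → R ≤ M ⊓ H → (Nat.card R).Prime →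
    Nat.card R ∉ Cfsg.sigma M → Nat.card R ∈ Cfsg.tau1 H →
    ¬ R ≤ centralizer ((Cfsg.sigmaCore M ⊓ H : Subgroup G) : Set G) →
    Cfsg.sigmaCore M ⊓ H ≤ centralizer (T0 : Set G) →
    ∃ (r : ℕ) (Q1 EH : Subgroup G), r ∈ Cfsg.tau3 H ∧ r ∈ Cfsg.kappa H ∧
      Cfsg.IsComplIn EH (Cfsg.sigmaCore H) H ∧ Q1 ⊔ R ≤ EH ∧ Q1 ≤ Cfsg.sigmaCore M ⊓ H ∧
      IsPGroup r Q1 ∧ Q1 ≠ ⊥ ∧
      ∀ X : Subgroup G, X ≤ Q1 → Nat.card X = r → ¬ R ≤ centralizer (X : Set G)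

variable {G : Type u} [Group G] [Finite G]

/-- a subgroup of prime order of a group of prime order is everything -/
theorem eq_of_card_prime {R E1 : Subgroup G} (hR : R ≤ E1) (hRp : (Nat.card R).Prime)
    (hE1p : (Nat.card E1).Prime) : R = E1 := by
  apply Subgroup.eq_of_le_of_card_ge hR
  have hd : Nat.card R ∣ Nat.card E1 := Subgroup.card_dvd_of_le hR
  rcases (Nat.dvd_prime hE1p).mp hd with h | h
  · exact absurd h hRp.one_lt.ne'
  · exact h.ge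

/-- **F8**: a Frobenius pair `(T₀, R)` acting coprimely on a solvable group `N` not centralized by
`T₀`: then `C_N(R) ≠ 1`. -/
theorem fix_ne_bot {N T0 R : Subgroup G} (hNsolv : Group.IsSolvable ↥N)
    (hTn : R ≤ normalizer (T0 : Set G))
    (hfpf : ∀ e ∈ R, e ≠ 1 → ∀ u ∈ T0, e * u = u * e → u = 1)
    (hN : T0 ⊔ R ≤ normalizer (N : Set G))
    (hcop : (Nat.card N).Coprime (Nat.card ↥(T0 ⊔ R)))
    (hT0N : ¬ N ≤ centralizer (T0 : Set G)) : N ⊓ centralizer (R : Set G) ≠ ⊥ := by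
  intro hbot
  have hUn : ∀ e ∈ R, ∀ u ∈ T0, e * u * e⁻¹ ∈ T0 := by
    intro e he u hu
    exact (Subgroup.mem_normalizer_iff.mp (hTn he) u).mp hu
  have hinv : ∀ x ∈ T0 ⊔ R, ∀ h ∈ N, x * h * x⁻¹ ∈ N := by
    intro x hx h hh
    exact (Subgroup.mem_normalizer_iff.mp (hN hx) h).mp hh
  have hform := Cfsg.Agent.Helper5.FrobMod.frobenius_fixed_point_formula T0 R hUn hfpf N hinv
    hNsolv hcop
  have h1 : N ⊓ centralizer ((T0 ⊔ R : Subgroup G) : Set G) = ⊥ := by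
    apply le_antisymm _ bot_le
    rw [← hbot]
    apply inf_le_inf_left
    apply Subgroup.centralizer_le
    exact_mod_cast (le_sup_right : R ≤ T0 ⊔ R)
  simp only [h1, hbot, Subgroup.card_bot, one_pow, one_mul] at hform
  have h2 : N ⊓ centralizer (T0 : Set G) = N :=
    Subgroup.eq_of_le_of_card_ge inf_le_left hform.le
  exact hT0N (h2 ▸ inf_le_right)

/-- the data on one side needed by the counting lemma: in setting T3 with a Frobenius pair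
`(T₀, R)`: `E₁ = R`, `C_M(R) = C_{M_σ}(R) R`, `C_{M_σ}(R) ≠ 1` of order prime to `|R|`, and the
uniqueness property of its elements of prime order. -/
theorem side_data (hG : Cfsg.IsMinSimpleOddOrder G) (hT3 : T3Basics G)
    {M E X E3 E1 R T0 : Subgroup G} {p : ℕ} (hM : IsCoatom M)
    (hE : Cfsg.IsComplIn E (Cfsg.sigmaCore M) M) (hp3 : p ∈ Cfsg.tau3 M) (hpκ : p ∈ Cfsg.kappa M)
    (hXE : X ≤ E) (hXp : Nat.card X = p)
    (hE3 : Cfsg.IsPiHallOf (Cfsg.tau3 M) E3 E) (hE1 : Cfsg.IsPiHallOf (Cfsg.tau1 M) E1 E)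
    (hR : R ≤ E1) (hRp : (Nat.card R).Prime) (hT0 : T0 ≤ E3) (hT0p : (Nat.card T0).Prime)
    (hpair : ¬ R ≤ centralizer (T0 : Set G)) :
    R = E1 ∧
    centralizer (R : Set G) ⊓ M ≤ (Cfsg.sigmaCore M ⊓ centralizer (R : Set G)) ⊔ R ∧
    Cfsg.sigmaCore M ⊓ centralizer (R : Set G) ≠ ⊥ ∧
    (Nat.card ↥(Cfsg.sigmaCore M ⊓ centralizer (R : Set G))).Coprime (Nat.card R) ∧
    (∀ y ∈ Cfsg.sigmaCore M ⊓ centralizer (R : Set G), (orderOf y).Prime →
      centralizer ({y} : Set G) ≤ M ∧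
        ∀ L : Subgroup G, IsCoatom L → centralizer ({y} : Set G) ≤ L → L = M) := by
  have h1350 : Cfsg.Agent.H9.BG12.St1350 G := fun M hM => Cfsg.Agent.S1350.result hG M hM
  have h1428 : Cfsg.Agent.Lead.BG142.St1428 G := fun M hM E hE p hp P hPE hP R hRE hR =>
    Cfsg.Agent.S1428.result hG M hM E hE p hp P hPE hP R hRE hR
  obtain ⟨hτ2, hXE3, hEX, hF2, hF3, hF4⟩ := hT3 M E X E3 E1 p hM hE hp3 hpκ hXE hXp hE3 hE1
  obtain ⟨-, -, h3⟩ := Cfsg.Agent.S1415.result hG M hM E hE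
  obtain ⟨hE3c, hE3comm, hE3n⟩ := h3 E3 hE3
  have hpp : p.Prime := hp3.1
  have hEM : E ≤ M := hE.1
  have hKM : Cfsg.sigmaCore M ≤ M := hE.2.1
  -- coprimality
  have hHallE := Cfsg.Agent.H9.BG12.isPiHallOf_compl h1350 hM hE
  have hcopE : (Nat.card E).Coprime (Nat.card (Cfsg.sigmaCore M)) := by
    apply Nat.coprime_of_dvd
    intro k hk hk1 hk2
    exact hHallE.2.1 k hk hk1 (Cfsg.Agent.H9.BG12.mem_sigma_of_dvd_card_sigmaCore hk hk2)
  have hcop31 : (Nat.card E3).Coprime (Nat.card E1) := by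
    apply Nat.coprime_of_dvd
    intro k hk hk1 hk2
    have h3' := hE3.2.1 k hk hk1
    have h1' := hE1.2.1 k hk hk2
    exact h1'.2.2.2.1 h3'.2.2.1
  have htau1 : ∀ r : ℕ, r.Prime → r ∣ Nat.card E1 → r ∈ Cfsg.tau1 M := hE1.2.1
  -- `Y₀ ≠ M_σ`
  have hX1 : X ≠ ⊥ := by
    intro h; rw [h, Subgroup.card_bot] at hXp; exact hpp.one_lt.ne hXp
  have hXt : X ≠ ⊤ := fun h => hM.1 (top_le_iff.mp (h ▸ hXE.trans hEM))
  have hY0 : Cfsg.sigmaCore M ⊓ centralizer (X : Set G) ≠ Cfsg.sigmaCore M := by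
    intro h
    have h1 : Cfsg.sigmaCore M ≤ normalizer (X : Set G) := by
      rw [← h]; exact inf_le_right.trans (Subgroup.centralizer_le_normalizer _)
    have h2 : M ≤ normalizer (X : Set G) := by
      intro m hm
      obtain ⟨a, ha, b, hb, rfl⟩ := hE.2.2.2 m hm
      exact (normalizer (X : Set G)).mul_mem (hEX ha) (h1 hb)
    obtain ⟨L, hL, hNL⟩ := Cfsg.Agent.Helper21.BG10.exists_coatom_normalizer_le hG.2.1 hX1 hXt
    have hLM : L = M := by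
      by_contra hne
      exact hL.1 (hM.2 L (lt_of_le_of_ne (h2.trans hNL) (Ne.symm hne)))
    have := (hF2 L hL hNL).2.1 1
    apply this
    rw [hLM]
    ext x; simp
  -- CONFIG A
  obtain ⟨hfpf, hE1p⟩ := Cfsg.Agent.Helper20.BG13N.configA_of_pair hG h1428 hM hE hE3.1 hE1.1
    hE3n hE3c hcopE hcop31 htau1 hF3 hY0 hF4 hR hRp hT0 hT0p hpair
  have hRE1 : R = E1 := eq_of_card_prime hR hRp hE1p
  have hτ2' : ∀ q : ℕ, q.Prime → q ∣ Nat.card E → q ∉ Cfsg.tau2 M := by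
    intro q hq hqE hq2
    exact hq2.2.2.2 (hτ2 q hq hq2.2.1)
  obtain ⟨hsup, -, -, h4⟩ :=
    Cfsg.Agent.Helper4.BG13E.centralizer_tau1_hall hG hM hE hE1 hE3 hτ2'
  have hT0E : T0 ≤ E := hT0.trans hE3.1
  have hRE : R ≤ E := hR.trans hE1.1
  refine ⟨hRE1, ?_, ?_, ?_, ?_⟩
  · rw [hRE1, inf_comm, h4]
  · have hNsolv : Group.IsSolvable ↥(Cfsg.sigmaCore M) :=
      Cfsg.Agent.H9.BG12.solvable_of_le_coatom hG hM hKM
    have hTn : R ≤ normalizer (T0 : Set G) :=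
      hRE.trans (hE3n.trans (Cfsg.Agent.H9.BG12.normalizer_le_normalizer_of_isCyclic hE3c hT0))
    have hfpf' : ∀ e ∈ R, e ≠ 1 → ∀ u ∈ T0, e * u = u * e → u = 1 := by
      intro e he he1 u hu hcomm
      have hmem : u ∈ E3 ⊓ centralizer ({e} : Set G) := by
        refine Subgroup.mem_inf.mpr ⟨hT0 hu, ?_⟩
        rw [Subgroup.mem_centralizer_iff]
        intro g hg
        rw [Set.mem_singleton_iff] at hg
        subst hg
        exact hcomm
      rw [hfpf e (hR he) he1] at hmem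
      exact (Subgroup.mem_bot).mp hmem
    have hN : T0 ⊔ R ≤ normalizer (Cfsg.sigmaCore M : Set G) :=
      (sup_le hT0E hRE).trans (hEM.trans (Cfsg.Agent.H9.BG12.le_normalizer_sigmaCore M))
    have hcop : (Nat.card (Cfsg.sigmaCore M)).Coprime (Nat.card ↥(T0 ⊔ R)) :=
      (Nat.Coprime.coprime_dvd_left (Subgroup.card_dvd_of_le (sup_le hT0E hRE)) hcopE).symm
    have hT0N : ¬ Cfsg.sigmaCore M ≤ centralizer (T0 : Set G) := by
      intro hle
      obtain ⟨e, he, he1⟩ := Cfsg.Agent.Helper16.BG11.exists_mem_ne_one_of_card_prime hT0p rfl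
      apply hY0
      rw [← hF3 e (hT0 he) he1]
      apply inf_eq_left.mpr
      exact hle.trans (Subgroup.centralizer_le (Set.singleton_subset_iff.mpr he))
    exact fix_ne_bot hNsolv hTn hfpf' hN hcop hT0N
  · exact Nat.Coprime.coprime_dvd_left (Subgroup.card_dvd_of_le inf_le_left)
      (Nat.Coprime.coprime_dvd_right (Subgroup.card_dvd_of_le hRE) hcopE.symm)
  · intro y hy hyp
    have hE31 : E ≤ E3 ⊔ R := by rw [hRE1, hsup]
    exact Cfsg.Agent.Helper10.BG13M.centralizer_unique_of_fix hG hM hE hE3comm hRE hE31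
      hy.1 hy.2 hyp

/-- **NoPair** from the pieces. -/
theorem noPair_of (hG : Cfsg.IsMinSimpleOddOrder G) (hT3 : T3Basics G) (hB1 : NotBad1 G)
    (hF5 : F5b G) (hMir : Mirror G) : NoPair G := by
  intro M hM E hE p hp3 hpκ E1 E3 hE1 hE3 R T0 hR hT0 hRp hT0p
  by_contra hpair
  have h1350 : Cfsg.Agent.H9.BG12.St1350 G := fun M hM => Cfsg.Agent.S1350.result hG M hM
  have hpp : p.Prime := hp3.1
  -- a subgroup `X ≤ E` of order `p`
  have hpE : p ∣ Nat.card E := by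
    have h1 : p ∣ Nat.card M :=
      hp3.2.2.1.trans (Subgroup.card_dvd_of_le (commutator_le_self M))
    have h2 := Cfsg.Agent.H9.BG12.card_mul_of_isComplIn hE
    rw [← h2] at h1
    rcases (Nat.Prime.dvd_mul hpp).mp h1 with h | h
    · exact h
    · exact absurd (Cfsg.Agent.H9.BG12.mem_sigma_of_dvd_card_sigmaCore hpp h) hp3.2.1
  obtain ⟨x, hxE, hxp⟩ := Cfsg.Agent.Lead.BG142.exists_mem_orderOf_eq hpp hpE
  obtain ⟨X, hX⟩ : ∃ X : Subgroup G, X = Subgroup.zpowers x := ⟨_, rfl⟩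
  have hXE : X ≤ E := by rw [hX]; exact Subgroup.zpowers_le.mpr hxE
  have hXp : Nat.card X = p := by rw [hX, Nat.card_zpowers, hxp]
  obtain ⟨hτ2, hXE3, hEX, hF2, hF3, hF4⟩ := hT3 M E X E3 E1 p hM hE hp3 hpκ hXE hXp hE3 hE1
  obtain ⟨hRE1, hDM, hC1, hcop, huM⟩ :=
    side_data hG hT3 hM hE hp3 hpκ hXE hXp hE3 hE1 hR hRp hT0 hT0p hpair
  -- BAD1?
  by_cases hcent : R ≤ centralizer
      ((Cfsg.sigmaCore M ⊓ centralizer (X : Set G) : Subgroup G) : Set G)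
  · exact hB1 M E X E3 E1 R T0 p hM hE hp3 hpκ hXE hXp hE3 hE1 hR hRp hT0 hT0p hpair hcent
  -- the maximal subgroup `H ≥ N_G(X)`
  have hEM : E ≤ M := hE.1
  have hX1 : X ≠ ⊥ := by
    intro h; rw [h, Subgroup.card_bot] at hXp; exact hpp.one_lt.ne hXp
  have hXt : X ≠ ⊤ := fun h => hM.1 (top_le_iff.mp (h ▸ hXE.trans hEM))
  obtain ⟨H, hH, hNH⟩ := Cfsg.Agent.Helper21.BG10.exists_coatom_normalizer_le hG.2.1 hX1 hXt
  obtain ⟨hpσH, hnc, hMH, hEH⟩ := hF2 H hH hNH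
  have hREM : R ≤ E := hR.trans hE1.1
  have hRMH : R ≤ M ⊓ H := le_inf (hREM.trans hEM) (hREM.trans hEH)
  have hsσ : Nat.card R ∉ Cfsg.sigma M :=
    (hE1.2.1 _ hRp (Subgroup.card_dvd_of_le hR)).2.1
  have hcent' : ¬ R ≤ centralizer ((Cfsg.sigmaCore M ⊓ H : Subgroup G) : Set G) := by
    rw [hMH]; exact hcent
  have hs1H : Nat.card R ∈ Cfsg.tau1 H :=
    hF5 M H (Cfsg.sigmaCore M ⊓ H) R hM hH hnc le_rfl hRMH hRp hsσ hcent'
  -- the mirror step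
  have : Fact p.Prime := ⟨hpp⟩
  have hXH : X ≤ H := le_normalizer.trans hNH
  have hXσH : X ≤ Cfsg.sigmaCore H :=
    Cfsg.Agent.H9.BG12.le_sigmaCore_of_isPGroup h1350 hH hpσH hXH
      (IsPGroup.of_card (n := 1) (by rw [hXp, pow_one]))
  have hYX : Cfsg.sigmaCore M ⊓ H ≤ centralizer (X : Set G) := by
    rw [hMH]; exact inf_le_right
  obtain ⟨r, Q1, EH, hr3, hrκ, hEHc, hQ1R, hQ1Y, hQ1p, hQ1ne, hmoved⟩ :=
    hMir M H X R hM hH hnc hXσH hX1 (hXE.trans hEM) hRMH hRp hsσ hs1H hcent' hYX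
  have hrp : r.Prime := hr3.1
  -- `X' ≤ Q₁` of order `r`
  have hrQ1 : r ∣ Nat.card Q1 := by
    have : Fact r.Prime := ⟨hrp⟩
    obtain ⟨k, hk⟩ := IsPGroup.iff_card.mp hQ1p
    have hk0 : k ≠ 0 := by
      rintro rfl
      rw [pow_zero] at hk
      exact hQ1ne (Subgroup.card_eq_one.mp hk)
    rw [hk]; exact dvd_pow_self r hk0
  obtain ⟨x', hx'Q, hx'r⟩ := Cfsg.Agent.Lead.BG142.exists_mem_orderOf_eq hrp hrQ1
  obtain ⟨X', hX'⟩ : ∃ X' : Subgroup G, X' = Subgroup.zpowers x' := ⟨_, rfl⟩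
  have hX'Q : X' ≤ Q1 := by rw [hX']; exact Subgroup.zpowers_le.mpr hx'Q
  have hX'r : Nat.card X' = r := by rw [hX', Nat.card_zpowers, hx'r]
  have hX'EH : X' ≤ EH := hX'Q.trans (le_sup_left.trans hQ1R)
  have hREH : R ≤ EH := le_sup_right.trans hQ1R
  -- Hall subgroups of `E_H`
  have hEHsolv : Group.IsSolvable ↥EH :=
    Cfsg.Agent.H9.BG12.solvable_of_le_coatom hG hH hEHc.1
  have hRpi : Cfsg.Agent.Lead.IsPiNum (Cfsg.tau1 H) (Nat.card R) := by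
    intro q hq hd
    have := (Nat.prime_dvd_prime_iff_eq hq hRp).mp hd
    rw [this]; exact hs1H
  obtain ⟨E1H, hE1H, hRE1H⟩ := Cfsg.Agent.Lead.exists_isPiHallOf_ge hEHsolv hREH hRpi
  obtain ⟨E3H, hE3H⟩ := Cfsg.Agent.Lead.exists_isPiHallOf (Cfsg.tau3 H) hEHsolv
  obtain ⟨-, hX'E3H, -, -, -, -⟩ :=
    hT3 H EH X' E3H E1H r hH hEHc hr3 hrκ hX'EH hX'r hE3H hE1H
  have hX'p : (Nat.card X').Prime := by rw [hX'r]; exact hrp
  obtain ⟨-, hDH, hC1', hcop', huH⟩ :=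
    side_data hG hT3 hH hEHc hr3 hrκ hX'EH hX'r hE3H hE1H hRE1H hRp hX'E3H hX'p
      (hmoved X' hX'Q hX'r)
  -- the counting lemma
  have hRc : IsCyclic ↥R := by
    have : Fact (Nat.card R).Prime := ⟨hRp⟩
    exact isCyclic_of_prime_card rfl
  have hZab : R ≤ centralizer (R : Set G) := by
    intro a ha
    rw [Subgroup.mem_centralizer_iff]
    intro b hb
    exact Cfsg.Agent.Lead.BG142.comm_of_isCyclic hRc hb ha
  exact Cfsg.Agent.Helper10.BG13K.counting_lemma hM hH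
    (fun g hg => Cfsg.Agent.H9.BG12.mem_of_map_cj_eq hG hM hg)
    (fun g hg => Cfsg.Agent.H9.BG12.mem_of_map_cj_eq hG hH hg) hnc hZab inf_le_right inf_le_right
    hDM hDH hC1 hC1' hcop hcop' huM huH

end Cfsg.Agent.Helper10.BG13Q
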