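import Mathlib
import Cfsg.Agent.Helper10.BG13Q
import Cfsg.Agent.Helper4.BG13T3
import Cfsg.Agent.Helper20.BG13O
import Cfsg.Agent.Helper21.BG13f
import Cfsg.Agent.Helper23.BG13SOd

/-!
# `NoPair G`, unconditionally

Glue of `Cfsg.Agent.Helper10.BG13Q.noPair_of` with helper4's F1–F4 (`Helper4.BG13T3`), helper20's
`not_bad1`, helper21's `mem_tau1_of_not_le_centralizer` and `mirror`, and helper23's
`sigma_partition`.
-/

set_option autoImplicit false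
set_option linter.unusedSectionVars false
set_option linter.unusedVariables false

namespace Cfsg.Agent.Helper10.BG13Q

open Subgroup
open Cfsg.Agent.Helper10.BG13P (NoPair)
open Cfsg.Agent.Helper4.BG13T3 (T3)

universe u
variable {G : Type u} [Group G] [Finite G]

theorem t3Basics (hG : Cfsg.IsMinSimpleOddOrder G) : T3Basics G := by
  intro M E X E3 E1 p hM hE hp3 hpκ hXE hXp hE3 hE1
  have c : T3 M E X p := ⟨hM, hE, hp3, hpκ, hXE, hXp⟩
  refine ⟨c.tau2_free hG, c.le_E3 hG hE3, c.le_normalizer hG, ?_,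
    (c.centralizer_singleton_eq hG hE3).1,
    Cfsg.Agent.Helper4.BG13T3.prime_action_tau1 hG hM hE hE1⟩
  intro H hH hNH
  exact ⟨c.mem_sigma hG hH hNH, c.not_conj hG hH hNH, c.sigmaCore_inf hG hH hNH, c.E_le hG hNH⟩

theorem notBad1 (hG : Cfsg.IsMinSimpleOddOrder G) : NotBad1 G := by
  intro M E X E3 E1 R0 T0 p hM hE hp3 hpκ hXE hXp hE3 hE1 hR0 hR0p hT0 hT0p hpair hcent
  have h1350 : Cfsg.Agent.H9.BG12.St1350 G := fun M hM => Cfsg.Agent.S1350.result hG M hM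
  have c : T3 M E X p := ⟨hM, hE, hp3, hpκ, hXE, hXp⟩
  obtain ⟨-, -, h3⟩ := Cfsg.Agent.S1415.result hG M hM E hE
  obtain ⟨hE3c, hE3comm, hE3n⟩ := h3 E3 hE3
  have hτ2' : ∀ q : ℕ, q.Prime → q ∣ Nat.card E → q ∉ Cfsg.tau2 M := by
    intro q hq hqE hq2
    exact hq2.2.2.2 (c.tau2_free hG q hq hq2.2.1)
  obtain ⟨hsup, -, -, -⟩ :=
    Cfsg.Agent.Helper4.BG13E.centralizer_tau1_hall hG hM hE hE1 hE3 hτ2'
  have hHallE := Cfsg.Agent.H9.BG12.isPiHallOf_compl h1350 hM hE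
  have hcopE : (Nat.card E).Coprime (Nat.card (Cfsg.sigmaCore M)) := by
    apply Nat.coprime_of_dvd
    intro k hk hk1 hk2
    exact hHallE.2.1 k hk hk1 (Cfsg.Agent.H9.BG12.mem_sigma_of_dvd_card_sigmaCore hk hk2)
  have ht3 : Nat.card T0 ∈ Cfsg.tau3 M := hE3.2.1 _ hT0p (Subgroup.card_dvd_of_le hT0)
  have hT0α : Nat.card T0 ∉ Cfsg.alpha M := by
    intro hα
    have : Fact (Nat.card T0).Prime := ⟨hT0p⟩
    exact hα.2 (Cfsg.Agent.H9.BG12.pRankLE_succ ht3.2.2.2)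
  have c' : T3 M E T0 (Nat.card T0) := c.of_le_E3 hG hE3 hT0 hT0p
  have hnu : ¬ Cfsg.InUniqueMaximal (M ⊓ centralizer (T0 : Set G)) := by
    intro hu
    obtain ⟨H, hH, hNH⟩ := c'.exists_coatom hG
    obtain ⟨L, -, hLu⟩ := hu
    have h1 : M = L := hLu M ⟨hM, inf_le_left⟩
    have h2 : H = L := hLu H ⟨hH, inf_le_right.trans
      ((Subgroup.centralizer_le_normalizer _).trans hNH)⟩
    have := c'.not_conj hG hH hNH 1
    apply this
    rw [h2, ← h1]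
    ext x; simp
  exact Cfsg.Agent.Helper20.BG13N.not_bad1 hG hM hE hE3.1 hE1.1 hsup.ge hE3c hE3n hE3comm hcopE
    hE1.2.1 (c.centralizer_singleton_eq hG hE3).1 c.Y0_ne_bot
    (Cfsg.Agent.Helper4.BG13T3.prime_action_tau1 hG hM hE hE1) hR0 hR0p hT0 hT0p hT0α hnu
    hpair hcent

theorem f5b (hG : Cfsg.IsMinSimpleOddOrder G) : F5b G := by
  intro M H Y R hM hH hnc hY hRMH hRp hsσ hne
  have : Fact (Nat.card R).Prime := ⟨hRp⟩
  exact Cfsg.Agent.Helper21.BG13.mem_tau1_of_not_le_centralizer hG hM hH hnc hY rfl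
    (hRMH.trans inf_le_left) (hRMH.trans inf_le_right) hsσ hne

theorem mirror' (hG : Cfsg.IsMinSimpleOddOrder G) : Mirror G := by
  intro M H T0 R hM hH hnc hT0σ hT01 hT0M hRMH hRp hsσ hs1H hne hYT
  have : Fact (Nat.card R).Prime := ⟨hRp⟩
  have hSP : Cfsg.Agent.Helper21.BG13.SigmaPart G := fun M H hM hH hnc q hq =>
    Cfsg.Agent.Helper23.BG13SO.sigma_partition hG hM hH hnc hq
  obtain ⟨-, r, hrF, Q1, EH, hr3, hrκ, hEHc, hQ1EH, hREH, hQ1syl, hQ1c, hQ1ne, hRN, hfix, hmoved⟩ :=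
    Cfsg.Agent.Helper21.BG13.mirror hG hSP hM hH hnc hT0σ hT0M hT01 hYT rfl
      (hRMH.trans inf_le_left) (hRMH.trans inf_le_right) hsσ hne
  refine ⟨r, Q1, EH, hr3, hrκ, hEHc, sup_le hQ1EH hREH, hQ1syl.1, hQ1syl.2.1, hQ1ne, ?_⟩
  intro X hX hXr
  apply hmoved X hX
  intro h
  rw [h, Subgroup.card_bot] at hXr
  exact hr3.1.one_lt.ne hXr

/-- **NoPair**, unconditionally. -/
theorem noPair (hG : Cfsg.IsMinSimpleOddOrder G) : NoPair G :=
  noPair_of hG (t3Basics hG) (notBad1 hG) (f5b hG) (mirror' hG)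

end Cfsg.Agent.Helper10.BG13Q
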