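import Mathlib
import Cfsg.Prelude.Def_Solvable
import Cfsg.Agent.Helper14.PCore
import Cfsg.Agent.Helper19.Cores
import Cfsg.Agent.Helper23.NilpotentElts
import Cfsg.Agent.Helper27.BG15D
import Cfsg.Agent.Helper18.FocalFusion

/-!
# `O_p(H)` and `O_{p'}(H)` of a nilpotent subgroup `H`, as subgroups of the ambient group

Elementwise descriptions, decomposition `H = O_p(H) × O_{p'}(H)`.
-/

set_option autoImplicit false
set_option linter.unusedSectionVars false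
set_option linter.unusedVariables false
set_option linter.style.haveILetI false

namespace Cfsg.Agent.Helper10.BG157

open Subgroup
open scoped commutatorElement

variable {G : Type*} [Group G] [Finite G] {p : ℕ} [hp : Fact p.Prime]

/-- `O_p(H)` as a subgroup of `G` -/
abbrev Op (p : ℕ) (H : Subgroup G) : Subgroup G := (Cfsg.pCore p ↥H).map H.subtype

/-- `O_{p'}(H)` as a subgroup of `G` -/
abbrev Op' (p : ℕ) (H : Subgroup G) : Subgroup G := (Cfsg.pPrimeCore p ↥H).map H.subtype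

theorem Op_le (H : Subgroup G) : Op p H ≤ H := Subgroup.map_subtype_le _

theorem Op'_le (H : Subgroup G) : Op' p H ≤ H := Subgroup.map_subtype_le _

theorem Op_isPGroup (H : Subgroup G) : IsPGroup p (Op p H) :=
  (Cfsg.Agent.Helper19.pCore_isPGroup (G := ↥H) p).map _

theorem card_Op (H : Subgroup G) : Nat.card (Op p H) = Nat.card (Cfsg.pCore p ↥H) :=
  Subgroup.card_map_of_injective H.subtype_injective

theorem card_Op' (H : Subgroup G) : Nat.card (Op' p H) = Nat.card (Cfsg.pPrimeCore p ↥H) :=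
  Subgroup.card_map_of_injective H.subtype_injective

theorem Op'_coprime (H : Subgroup G) : (Nat.card (Op' p H)).Coprime p := by
  rw [card_Op']; exact Cfsg.Agent.Helper19.pPrimeCore_coprime p

theorem mem_Op_iff {H : Subgroup G} (hH : Group.IsNilpotent H) {x : G} :
    x ∈ Op p H ↔ x ∈ H ∧ ∃ k : ℕ, x ^ p ^ k = 1 := by
  constructor
  · intro hx
    refine ⟨Op_le H hx, ?_⟩
    obtain ⟨k, hk⟩ := (Op_isPGroup (p := p) H) ⟨x, hx⟩
    exact ⟨k, congrArg Subtype.val hk⟩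
  · rintro ⟨hxH, k, hk⟩
    haveI := hH
    obtain ⟨P⟩ : Nonempty (Sylow p ↥H) := inferInstance
    have hPn : (P : Subgroup ↥H).Normal := inferInstance
    have hle : (P : Subgroup ↥H) ≤ Cfsg.pCore p ↥H :=
      Cfsg.Agent.Helper14.le_pCore (p := p) hPn P.isPGroup'
    have hxP : (⟨x, hxH⟩ : ↥H) ∈ P := by
      apply Cfsg.Agent.Helper23.mem_sylow_of_isNilpotent
      intro y
      obtain ⟨y, hy⟩ := y
      obtain ⟨n, rfl⟩ := Subgroup.mem_zpowers_iff.mp hy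
      refine ⟨k, ?_⟩
      apply Subtype.ext
      show ((⟨x, hxH⟩ : ↥H) ^ n) ^ p ^ k = 1
      rw [← zpow_natCast, ← zpow_mul, mul_comm, zpow_mul, zpow_natCast]
      have : (⟨x, hxH⟩ : ↥H) ^ p ^ k = 1 := Subtype.ext (by simpa using hk)
      rw [this, one_zpow]
    exact ⟨⟨x, hxH⟩, hle hxP, rfl⟩

theorem orderOf_coprime_of_mem_Op' {H : Subgroup G} {x : G} (hx : x ∈ Op' p H) :
    (orderOf x).Coprime p := by
  have h1 : orderOf x ∣ Nat.card (Op' p H) := by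
    have := orderOf_dvd_natCard (⟨x, hx⟩ : ↥(Op' p H))
    rwa [Subgroup.orderOf_mk] at this
  exact Nat.Coprime.coprime_dvd_left h1 (Op'_coprime H)

/-- In a nilpotent group, every `p'`-element lies in `O_{p'}`. -/
theorem mem_pPrimeCore_of_coprime {X : Type*} [Group X] [Finite X] [Group.IsNilpotent X]
    (c : X) (hc : (orderOf c).Coprime p) : c ∈ Cfsg.pPrimeCore p X := by
  obtain ⟨P⟩ : Nonempty (Sylow p X) := inferInstance
  have hPn : (P : Subgroup X).Normal := inferInstance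
  have hcop : (Nat.card (P : Subgroup X)).Coprime (P : Subgroup X).index := P.card_coprime_index
  obtain ⟨Q, hQ⟩ := Subgroup.exists_left_complement'_of_coprime hcop
  have hcard := hQ.card_mul_card
  have hidx : Q.index = Nat.card (P : Subgroup X) := by
    have h1 := Q.card_mul_index
    have hpos : 0 < Nat.card Q := Nat.card_pos
    apply Nat.eq_of_mul_eq_mul_left hpos
    rw [h1, hcard]
  have hQcard : Nat.card Q = (P : Subgroup X).index := by
    have h1 := (P : Subgroup X).card_mul_index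
    have hpos : 0 < Nat.card (P : Subgroup X) := Nat.card_pos
    apply Nat.eq_of_mul_eq_mul_left hpos
    rw [h1, mul_comm, hcard]
  have hQhall : (Nat.card Q).Coprime Q.index := by
    rw [hidx, hQcard]; exact hcop.symm
  have hQn : Q.Normal := Cfsg.Agent.Helper27.BG15.normal_of_hall_of_isNilpotent Q hQhall
  have hQp : (Nat.card Q).Coprime p := by
    rw [hQcard]
    exact (Nat.Prime.coprime_iff_not_dvd hp.out).2 P.not_dvd_index |>.symm
  have hQle : Q ≤ Cfsg.pPrimeCore p X := le_sSup ⟨hQn, hQp⟩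
  apply hQle
  -- the image of c in X ⧸ Q has order dividing both orderOf c and a power of p
  have hquot : Nat.card (X ⧸ Q) = Nat.card (P : Subgroup X) := by
    rw [← hidx]; rfl
  have h1 : orderOf ((QuotientGroup.mk' Q) c) ∣ orderOf c := orderOf_map_dvd _ c
  have h2 : orderOf ((QuotientGroup.mk' Q) c) ∣ Nat.card (X ⧸ Q) := orderOf_dvd_natCard _
  obtain ⟨k, hk⟩ := IsPGroup.iff_card.mp P.isPGroup'
  rw [hquot, hk] at h2
  have h3 : orderOf ((QuotientGroup.mk' Q) c) = 1 := by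
    have := Nat.Coprime.coprime_dvd_left h1 (Nat.Coprime.pow_right k hc)
    exact Nat.Coprime.eq_one_of_dvd this h2
  rw [orderOf_eq_one_iff] at h3
  exact (QuotientGroup.eq_one_iff c).mp h3

theorem mem_Op'_iff {H : Subgroup G} (hH : Group.IsNilpotent H) {x : G} :
    x ∈ Op' p H ↔ x ∈ H ∧ (orderOf x).Coprime p := by
  constructor
  · intro hx
    exact ⟨Op'_le H hx, orderOf_coprime_of_mem_Op' hx⟩
  · rintro ⟨hxH, hc⟩
    haveI := hH
    have h1 : (⟨x, hxH⟩ : ↥H) ∈ Cfsg.pPrimeCore p ↥H := by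
      apply mem_pPrimeCore_of_coprime
      rwa [Subgroup.orderOf_mk]
    exact ⟨⟨x, hxH⟩, h1, rfl⟩

/-- `O_p(H)` and `O_{p'}(H)` commute elementwise, `H` nilpotent. -/
theorem Op_commute_Op' {H : Subgroup G} (hH : Group.IsNilpotent H) {a b : G} (ha : a ∈ Op p H)
    (hb : b ∈ Op' p H) : a * b = b * a := by
  haveI := hH
  obtain ⟨haH, k, hk⟩ := (mem_Op_iff hH).mp ha
  obtain ⟨hbH, hc⟩ := (mem_Op'_iff hH).mp hb
  have h1 := Cfsg.Agent.Helper23.commute_of_isNilpotent_of_coprime (K := ↥H) (p := p)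
    ⟨a, haH⟩ ⟨b, hbH⟩ ?_ (by rwa [Subgroup.orderOf_mk])
  · exact congrArg Subtype.val h1.eq
  · intro y
    obtain ⟨y, hy⟩ := y
    obtain ⟨n, rfl⟩ := Subgroup.mem_zpowers_iff.mp hy
    refine ⟨k, ?_⟩
    apply Subtype.ext
    show ((⟨a, haH⟩ : ↥H) ^ n) ^ p ^ k = 1
    rw [← zpow_natCast, ← zpow_mul, mul_comm, zpow_mul, zpow_natCast]
    have : (⟨a, haH⟩ : ↥H) ^ p ^ k = 1 := Subtype.ext (by simpa using hk)
    rw [this, one_zpow]

/-- decomposition `a = y * c`, `y ∈ O_p(H)`, `c ∈ O_{p'}(H)` -/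
theorem exists_Op_mul_Op' {H : Subgroup G} (hH : Group.IsNilpotent H) {a : G} (ha : a ∈ H) :
    ∃ y ∈ Op p H, ∃ c ∈ Op' p H, a = y * c := by
  obtain ⟨x, y, hxy, hx, hy, ⟨k, hk⟩, hcop⟩ := Cfsg.Agent.Helper18.exists_pPart_decomp p a
  have hzA : zpowers a ≤ H := zpowers_le.mpr ha
  refine ⟨x, (mem_Op_iff hH).mpr ⟨hzA hx, k, ?_⟩, y, (mem_Op'_iff hH).mpr ⟨hzA hy, hcop⟩, hxy⟩
  rw [← hk, pow_orderOf_eq_one]

theorem Op_inf_Op' (H : Subgroup G) : Op p H ⊓ Op' p H = ⊥ := by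
  rw [eq_bot_iff]
  rintro x ⟨h1, h2⟩
  have hc := orderOf_coprime_of_mem_Op' h2
  obtain ⟨k, hk⟩ := (Op_isPGroup (p := p) H) ⟨x, h1⟩
  have hk' : x ^ p ^ k = 1 := congrArg Subtype.val hk
  have h3 : orderOf x ∣ p ^ k := orderOf_dvd_of_pow_eq_one hk'
  have h4 : orderOf x = 1 :=
    Nat.Coprime.eq_one_of_dvd (Nat.Coprime.pow_right k hc) h3
  rw [Subgroup.mem_bot]
  exact orderOf_eq_one_iff.mp h4

/-- conjugation by an element normalizing `H` preserves `O_p(H)` -/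
theorem normalizer_le_normalizer_Op {H : Subgroup G} (hH : Group.IsNilpotent H) :
    normalizer (H : Set G) ≤ normalizer (Op p H : Set G) := by
  have key : ∀ g ∈ normalizer (H : Set G), ∀ x ∈ Op p H, g * x * g⁻¹ ∈ Op p H := by
    intro g hg x hx
    obtain ⟨hxH, k, hk⟩ := (mem_Op_iff hH).mp hx
    refine (mem_Op_iff hH).mpr ⟨(mem_normalizer_iff.mp hg x).mp hxH, k, ?_⟩
    rw [conj_pow, hk]; group
  intro g hg
  rw [mem_normalizer_iff]
  intro x
  refine ⟨key g hg x, fun h => ?_⟩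
  have := key g⁻¹ (inv_mem hg) _ h
  simpa [mul_assoc] using this

/-- conjugation by an element normalizing `H` preserves `O_{p'}(H)` -/
theorem normalizer_le_normalizer_Op' {H : Subgroup G} (hH : Group.IsNilpotent H) :
    normalizer (H : Set G) ≤ normalizer (Op' p H : Set G) := by
  have key : ∀ g ∈ normalizer (H : Set G), ∀ x ∈ Op' p H, g * x * g⁻¹ ∈ Op' p H := by
    intro g hg x hx
    obtain ⟨hxH, hc⟩ := (mem_Op'_iff hH).mp hx
    refine (mem_Op'_iff hH).mpr ⟨(mem_normalizer_iff.mp hg x).mp hxH, ?_⟩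
    have : orderOf (g * x * g⁻¹) = orderOf x := by
      have := orderOf_injective (MulAut.conj g).toMonoidHom (MulAut.conj g).injective x
      simpa using this
    rwa [this]
  intro g hg
  rw [mem_normalizer_iff]
  intro x
  refine ⟨key g hg x, fun h => ?_⟩
  have := key g⁻¹ (inv_mem hg) _ h
  simpa [mul_assoc] using this

/-- if `O_{p'}(H)` is abelian then `H' = O_p(H)'`. -/
theorem commutator_le_of_Op'_comm {H : Subgroup G} (hH : Group.IsNilpotent H)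
    (hZ : ∀ a ∈ Op' p H, ∀ b ∈ Op' p H, a * b = b * a) :
    ⁅H, H⁆ ≤ ⁅Op p H, Op p H⁆ := by
  rw [Subgroup.commutator_le]
  intro a ha b hb
  obtain ⟨y₁, hy₁, c₁, hc₁, rfl⟩ := exists_Op_mul_Op' (p := p) hH ha
  obtain ⟨y₂, hy₂, c₂, hc₂, rfl⟩ := exists_Op_mul_Op' (p := p) hH hb
  have e1 := Op_commute_Op' hH hy₁ hc₁
  have e2 := Op_commute_Op' hH hy₂ hc₂
  have e3 := Op_commute_Op' hH hy₁ hc₂
  have e4 := Op_commute_Op' hH hy₂ hc₁
  have e5 := hZ c₁ hc₁ c₂ hc₂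
  have : ⁅y₁ * c₁, y₂ * c₂⁆ = ⁅y₁, y₂⁆ := by
    rw [commutatorElement_def, commutatorElement_def]
    have i1 : (y₁ * c₁)⁻¹ = c₁⁻¹ * y₁⁻¹ := mul_inv_rev _ _
    have i2 : (y₂ * c₂)⁻¹ = c₂⁻¹ * y₂⁻¹ := mul_inv_rev _ _
    rw [i1, i2]
    -- move all c's to the right
    have c1y2 : c₁ * y₂ = y₂ * c₁ := e4.symm
    have c2y1i : c₂ * y₁⁻¹ = y₁⁻¹ * c₂ := by
      have := e3; 
      calc c₂ * y₁⁻¹ = y₁⁻¹ * (y₁ * c₂) * y₁⁻¹ := by group
        _ = y₁⁻¹ * (c₂ * y₁) * y₁⁻¹ := by rw [e3]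
        _ = y₁⁻¹ * c₂ := by group
    calc y₁ * c₁ * (y₂ * c₂) * (c₁⁻¹ * y₁⁻¹) * (c₂⁻¹ * y₂⁻¹)
        = y₁ * (c₁ * y₂) * c₂ * c₁⁻¹ * y₁⁻¹ * c₂⁻¹ * y₂⁻¹ := by group
      _ = y₁ * (y₂ * c₁) * c₂ * c₁⁻¹ * y₁⁻¹ * c₂⁻¹ * y₂⁻¹ := by rw [c1y2]
      _ = y₁ * y₂ * (c₁ * c₂) * c₁⁻¹ * y₁⁻¹ * c₂⁻¹ * y₂⁻¹ := by group
      _ = y₁ * y₂ * (c₂ * c₁) * c₁⁻¹ * y₁⁻¹ * c₂⁻¹ * y₂⁻¹ := by rw [e5]
      _ = y₁ * y₂ * (c₂ * y₁⁻¹) * c₂⁻¹ * y₂⁻¹ := by group
      _ = y₁ * y₂ * (y₁⁻¹ * c₂) * c₂⁻¹ * y₂⁻¹ := by rw [c2y1i]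
      _ = y₁ * y₂ * y₁⁻¹ * y₂⁻¹ := by group
  rw [this]
  exact Subgroup.commutator_mem_commutator hy₁ hy₂

end Cfsg.Agent.Helper10.BG157
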