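import Mathlib
import Cfsg.Agent.Helper10.BG157A
import Cfsg.Agent.Helper10.BG16E
import Cfsg.Agent.Helper10.BG16G
import Cfsg.Agent.Helper10.BG13H
import Cfsg.Agent.Helper10.BG13M
import Cfsg.Agent.Helper16.BG11R
import Cfsg.Agent.Helper27.BG15H
import Cfsg.Agent.Helper18.BG16Ba
import Cfsg.Agent.Helper18.BG108c
import Cfsg.Agent.Helper4.BG12T
import Cfsg.Agent.Helper9.BG12n
import Cfsg.Agent.S1350
import Cfsg.Agent.S1351
import Cfsg.Agent.S1352
import Cfsg.Agent.S1364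
import Cfsg.Agent.S1374
import Cfsg.Agent.S1375
import Cfsg.Agent.S1419
import Cfsg.Agent.S1423
import Cfsg.Agent.S1426
import Cfsg.Agent.S1430
import Cfsg.Agent.S1431

/-!
# B&G Theorem 15.7, case `K ≠ 1`, `U = 1`, `M_F = M_σ` not TI: the local analysis

`x ∈ H = M_σ` of prime order `p` with `C_G(x) ⊄ M`; `N` the maximal subgroup over `C_G(x)`;
`p ∈ τ₂(N)`, `τ₂(N) = {p}`, `O_{p'}(H)` cyclic, `O_p(H)` nonabelian and narrow,
`K* ≤ O_p(H)'`, `[O_p(H), K] = O_p(H)`.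
-/

set_option autoImplicit false
set_option linter.unusedSectionVars false
set_option linter.unusedVariables false
set_option linter.style.haveILetI false

namespace Cfsg.Agent.Helper10.BG157

open Subgroup Cfsg
open Cfsg.Agent.Helper14 (cj)
open scoped Pointwise commutatorElement

universe u
variable {G : Type u} [Group G] [Finite G]

/-- non-TI gives a prime-order witness -/
theorem exists_prime_witness {H M : Subgroup G} (hMH : M ≤ normalizer (H : Set G))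
    (hnTI : ¬ Cfsg.IsTISubset (H : Set G)) :
    ∃ g : G, g ∉ M ∧ ∃ x ∈ H, (orderOf x).Prime ∧ g * x * g⁻¹ ∈ H := by
  unfold Cfsg.IsTISubset at hnTI
  push Not at hnTI
  obtain ⟨g, hgN, x, hx, hgx, hx1⟩ := hnTI
  have hgM : g ∉ M := fun h => hgN (hMH h)
  have hn : orderOf x ≠ 1 := by rwa [Ne, orderOf_eq_one_iff]
  obtain ⟨q, hq, hqd⟩ := Nat.exists_prime_and_dvd hn
  refine ⟨g, hgM, x ^ (orderOf x / q), H.pow_mem hx _, ?_, ?_⟩
  · rw [orderOf_pow_orderOf_div (orderOf_pos x).ne' hqd]; exact hq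
  · have : g * x ^ (orderOf x / q) * g⁻¹ = (g * x * g⁻¹) ^ (orderOf x / q) := by rw [conj_pow]
    rw [this]; exact H.pow_mem hgx _

/-- the local configuration -/
structure Loc (M K : Subgroup G) (p : ℕ) (x : G) : Prop where
  hG : Cfsg.IsMinSimpleOddOrder G
  hM : IsCoatom M
  hK : Cfsg.IsPiHallOf (Cfsg.kappa M) K M
  hKc : IsCyclic K
  hK1 : K ≠ ⊥
  hcompl : Cfsg.IsComplIn K (Cfsg.sigmaCore M) M
  hF : Cfsg.fittingHallOf M = Cfsg.sigmaCore M
  hp : p.Prime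
  hx : x ∈ Cfsg.sigmaCore M
  hxo : orderOf x = p
  hxM : ¬ centralizer ({x} : Set G) ≤ M

/-- the configuration exists when `M_F = M_σ` is not TI -/
theorem exists_loc (hG : Cfsg.IsMinSimpleOddOrder G) {M K U : Subgroup G} (hM : IsCoatom M)
    (hKU : Cfsg.IsSigmaDecomposition M K U) (hK1 : K ≠ ⊥) (hU : U = ⊥)
    (hF : Cfsg.fittingHallOf M = Cfsg.sigmaCore M)
    (hnTI : ¬ Cfsg.IsTISubset (Cfsg.fittingHallOf M : Set G)) :
    ∃ (p : ℕ) (x : G), Loc M K p x := by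
  have hMH : M ≤ normalizer (Cfsg.fittingHallOf M : Set G) :=
    fun m hm => Cfsg.Agent.Helper23.le_normalizer_fittingHallOf M hm
  obtain ⟨g, hgM, x, hx, hxp, hgx⟩ := exists_prime_witness hMH hnTI
  rw [hF] at hx hgx
  have h1374 : Cfsg.Agent.Helper27.BG15.St1374 G :=
    fun M hM x hx hx1 => Cfsg.Agent.S1374.result hG M hM x hx hx1
  set y := g * x * g⁻¹ with hy
  have hyo : orderOf y = orderOf x := by
    have := orderOf_injective (MulAut.conj g).toMonoidHom (MulAut.conj g).injective x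
    simpa using this
  have hy1 : y ≠ 1 := by
    intro h
    rw [h, orderOf_one] at hyo
    rw [← hyo] at hxp
    exact Nat.not_prime_one hxp
  have hxMM : x ∈ M := Cfsg.Agent.H9.BG12.sigmaCore_le M hx
  have hyg : y ∈ M.map (cj g) := ⟨x, hxMM, rfl⟩
  have hyM := Cfsg.Agent.Helper27.BG15.centralizer_not_le_of_mem_conj hG h1374 hM hgM hgx hy1 hyg
  have hc := Cfsg.Agent.Helper18.BG16B.complIn_sup hKU
  rw [hU, bot_sup_eq] at hc
  exact ⟨orderOf x, y, hG, hM, hKU.hall, hKU.cyclic, hK1, hc, hF, hxp, hgx, hyo, hyM⟩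

namespace Loc

variable {M K : Subgroup G} {p : ℕ} {x : G}

theorem fact (c : Loc M K p x) : Fact p.Prime := ⟨c.hp⟩

theorem h1350 (c : Loc M K p x) : Cfsg.Agent.H9.BG12.St1350 G :=
  fun M hM => Cfsg.Agent.S1350.result c.hG M hM

theorem x_ne_one (c : Loc M K p x) : x ≠ 1 := by
  intro h
  have := c.hxo
  rw [h, orderOf_one] at this
  exact Nat.not_prime_one (this ▸ c.hp)

theorem nilp (c : Loc M K p x) : Group.IsNilpotent ↥(Cfsg.sigmaCore M) := by
  rw [← c.hF]; exact Cfsg.Agent.Helper10.BG16.fittingHallOf_isNilpotent M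

theorem p_dvd (c : Loc M K p x) : p ∣ Nat.card (Cfsg.sigmaCore M) := by
  have := orderOf_dvd_natCard (⟨x, c.hx⟩ : ↥(Cfsg.sigmaCore M))
  rwa [Subgroup.orderOf_mk, c.hxo] at this

theorem p_mem_sigma (c : Loc M K p x) : p ∈ Cfsg.sigma M :=
  Cfsg.Agent.H9.BG12.mem_sigma_of_dvd_card_sigmaCore c.hp c.p_dvd

theorem p_ne_two (c : Loc M K p x) : p ≠ 2 :=
  Cfsg.Agent.Helper4.BG12T.ne_two_of_dvd_card c.hG c.p_dvd

theorem x_mem_Op (c : Loc M K p x) : x ∈ Op p (Cfsg.sigmaCore M) := by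
  haveI := c.fact
  refine (mem_Op_iff c.nilp).mpr ⟨c.hx, 1, ?_⟩
  rw [pow_one, ← c.hxo, pow_orderOf_eq_one]

/-- S1423: `p ∉ β(M)` -/
theorem p_not_mem_beta (c : Loc M K p x) : p ∉ Cfsg.beta M := by
  haveI := c.fact
  intro hβ
  have hXM : zpowers x ≤ M := by
    rw [zpowers_le]; exact Cfsg.Agent.H9.BG12.sigmaCore_le M c.hx
  have hXc : Nat.card (zpowers x) = p := by rw [Nat.card_zpowers, c.hxo]
  obtain ⟨P⟩ : Nonempty (Sylow p ↥(Cfsg.sigmaCore M)) := inferInstance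
  obtain ⟨⟨h1, -⟩, -⟩ := Cfsg.Agent.S1423.result c.hG M c.hM p c.p_mem_sigma (zpowers x) hXM hXc P
    (Or.inl hβ)
  rw [Cfsg.Agent.Helper10.BG13M.centralizer_zpowers_eq] at h1
  exact c.hxM h1


/-- the maximal subgroup `N` over `C_G(x)`; `p ∈ τ₂(N)` -/
theorem exists_N (c : Loc M K p x) :
    ∃ N : Subgroup G, IsCoatom N ∧ centralizer ({x} : Set G) ≤ N ∧ N ≠ M ∧
      Cfsg.IsComplIn (M ⊓ N) (Cfsg.sigmaCore N) N ∧ p ∈ Cfsg.tau2 N := by
  have h1350 : Cfsg.Agent.Helper27.BG15.St1350 G := fun M hM => Cfsg.Agent.S1350.result c.hG M hM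
  have h1351 : Cfsg.Agent.Helper27.BG15.St1351 G := fun M hM => Cfsg.Agent.S1351.result c.hG M hM
  have h1352 : Cfsg.Agent.Helper27.BG15.St1352 G :=
    fun M hM K hKc hK => Cfsg.Agent.S1352.result c.hG M hM K hKc hK
  have h1375 : Cfsg.Agent.Helper27.BG15.St1375 G :=
    fun M hM x hx hx1 hxM => Cfsg.Agent.S1375.result c.hG M hM x hx hx1 hxM
  obtain ⟨N, hN, hxN, -, -, hcomp, -, hτ⟩ := Cfsg.Agent.Helper27.BG15.exists_N_tau2 c.hG h1350 h1351
    h1352 h1375 c.hM c.hx c.x_ne_one c.hxM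
  refine ⟨N, hN, hxN, ?_, hcomp, hτ p c.hp (by rw [c.hxo])⟩
  rintro rfl
  exact c.hxM hxN

/-- `O_{p'}(H)` centralizes `x` -/
theorem Op'_le_centralizer (c : Loc M K p x) :
    Op' p (Cfsg.sigmaCore M) ≤ centralizer ({x} : Set G) := by
  haveI := c.fact
  intro z hz
  rw [mem_centralizer_iff]
  intro y hy
  rw [Set.mem_singleton_iff] at hy
  subst hy
  exact Op_commute_Op' c.nilp c.x_mem_Op hz

/-- `O_p(H)` is nonabelian -/
theorem Op_not_comm (c : Loc M K p x) {N : Subgroup G} (hN : IsCoatom N)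
    (hxN : centralizer ({x} : Set G) ≤ N) (hNM : N ≠ M) :
    ¬ ∀ a ∈ Op p (Cfsg.sigmaCore M), ∀ b ∈ Op p (Cfsg.sigmaCore M), a * b = b * a := by
  intro hab
  haveI := c.fact
  have hHN : Cfsg.sigmaCore M ≤ N := by
    intro a ha
    apply hxN
    obtain ⟨y, hy, z, hz, rfl⟩ := exists_Op_mul_Op' (p := p) c.nilp ha
    rw [mem_centralizer_iff]
    intro h hh
    rw [Set.mem_singleton_iff] at hh
    subst hh
    have e1 := hab h c.x_mem_Op y hy
    have e2 := Op_commute_Op' c.nilp c.x_mem_Op hz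
    calc h * (y * z) = (h * y) * z := by group
      _ = y * (h * z) := by rw [e1]; group
      _ = y * z * h := by rw [e2]; group
  have h1430 : Cfsg.Agent.Helper10.BG16.St1430 G :=
    fun M hM K hK hK1 => Cfsg.Agent.S1430.result c.hG M hM K hK hK1
  have hKs := Cfsg.Agent.Helper10.BG16.kstar_ne_bot h1430 c.hM c.hK c.hK1
  have hcard : Nat.card ↥(Cfsg.sigmaCore M ⊓ centralizer (K : Set G)) ≠ 1 :=
    fun h => hKs (Subgroup.card_eq_one.mp h)
  obtain ⟨r, hr, hrd⟩ := Nat.exists_prime_and_dvd hcard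
  haveI : Fact r.Prime := ⟨hr⟩
  obtain ⟨S⟩ : Nonempty (Sylow r ↥(Cfsg.sigmaCore M)) := inferInstance
  obtain ⟨-, -, h3, -⟩ := Cfsg.Agent.S1431.result c.hG M c.hM K c.hK c.hK1
  obtain ⟨hU, hSM, -⟩ := h3 r hr hrd S
  have hSN : (S : Subgroup ↥(Cfsg.sigmaCore M)).map (Cfsg.sigmaCore M).subtype ≤ N :=
    (Subgroup.map_subtype_le _).trans hHN
  exact hNM (hU.unique ⟨hN, hSN⟩ ⟨c.hM, hSM⟩)

/-- the Sylow `p`-subgroups of `G` are nonabelian -/
theorem sylow_not_comm (c : Loc M K p x)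
    (hnc : ¬ ∀ a ∈ Op p (Cfsg.sigmaCore M), ∀ b ∈ Op p (Cfsg.sigmaCore M), a * b = b * a) :
    haveI := c.fact
    ∀ S : Sylow p G, ¬ IsMulCommutative (S : Subgroup G) := by
  haveI := c.fact
  intro S hS
  apply hnc
  obtain ⟨S₀, hS₀⟩ := (Op_isPGroup (p := p) (Cfsg.sigmaCore M)).exists_le_sylow
  obtain ⟨g, hg⟩ := MulAction.exists_smul_eq G S S₀
  intro a ha b hb
  have ha' : a ∈ (g • S : Sylow p G) := by rw [hg]; exact hS₀ ha
  have hb' : b ∈ (g • S : Sylow p G) := by rw [hg]; exact hS₀ hb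
  have key : ∀ a : G, a ∈ (g • S : Sylow p G) → g⁻¹ * a * g ∈ (S : Subgroup G) := by
    intro a ha
    have h1 : a ∈ (MulAut.conj g • (S : Subgroup G)) := by
      rw [← Sylow.pointwise_smul_def]; exact ha
    rw [Subgroup.mem_pointwise_smul_iff_inv_smul_mem] at h1
    simpa [MulAut.smul_def, MulAut.conj_inv_apply] using h1
  have h2 := hS.is_comm.comm ⟨_, key a ha'⟩ ⟨_, key b hb'⟩
  have h3 : g⁻¹ * a * g * (g⁻¹ * b * g) = g⁻¹ * b * g * (g⁻¹ * a * g) := congrArg Subtype.val h2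
  calc a * b = g * (g⁻¹ * a * g * (g⁻¹ * b * g)) * g⁻¹ := by group
    _ = g * (g⁻¹ * b * g * (g⁻¹ * a * g)) * g⁻¹ := by rw [h3]
    _ = b * a := by group


/-- `τ₂(N) = {p}` -/
theorem tau2_eq (c : Loc M K p x) {N : Subgroup G} (hN : IsCoatom N) (hτ : p ∈ Cfsg.tau2 N)
    (hnc : ¬ ∀ a ∈ Op p (Cfsg.sigmaCore M), ∀ b ∈ Op p (Cfsg.sigmaCore M), a * b = b * a) :
    Cfsg.tau2 N = {p} := by
  haveI := c.fact
  obtain ⟨A, hAN, hAe, hAc⟩ := Cfsg.Agent.Helper4.BG12T.exists_elemAb_sq_of_tau2 hτ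
  have hbg := Cfsg.Agent.Helper16.BG11.bg_of_results c.hG
  obtain ⟨E, hE, hAE⟩ := Cfsg.Agent.Helper10.BG13F.exists_compl_ge hbg hN hτ.2.1 hAN
    (IsPGroup.of_card hAc)
  exact (Cfsg.Agent.S1419.result c.hG N hN E hE p hτ (c.sylow_not_comm hnc) A ⟨hAE, hAe, hAc⟩).1

/-- `O_{p'}(H)` is cyclic -/
theorem isCyclic_Op' (c : Loc M K p x) : IsCyclic ↥(Op' p (Cfsg.sigmaCore M)) := by
  haveI := c.fact
  obtain ⟨N, hN, hxN, hNM, hcomp, hτ⟩ := c.exists_N
  have hnc := c.Op_not_comm hN hxN hNM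
  have hτ2 := c.tau2_eq hN hτ hnc
  set Z := Op' p (Cfsg.sigmaCore M) with hZ
  have hZN : Z ≤ N := c.Op'_le_centralizer.trans hxN
  have hZM : Z ≤ M := (Op'_le _).trans (Cfsg.Agent.H9.BG12.sigmaCore_le M)
  have hZMN : Z ≤ M ⊓ N := le_inf hZM hZN
  haveI : Group.IsNilpotent ↥Z := Cfsg.Agent.Helper29.nilpotent_of_le (Op'_le _) c.nilp
  haveI : IsZGroup ↥Z := by
    refine ⟨fun r hr R => ?_⟩
    haveI : Fact r.Prime := ⟨hr⟩
    by_cases hrd : r ∣ Nat.card ↥Z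
    · have hrN : r ∉ Cfsg.sigma N := by
        intro hrσ
        obtain ⟨⟨hle, hπ, hidx⟩, -, -⟩ := c.h1350 N hN
        apply hidx r hr hrσ
        have h1 := Cfsg.Agent.Helper23.card_of_isComplIn _ _ _ hcomp
        have h2 := Cfsg.Agent.Lead.relIndex_mul_card' hle
        have h3 : (Cfsg.sigmaCore N).relIndex N = Nat.card ↥(M ⊓ N) := by
          apply Nat.eq_of_mul_eq_mul_right (Nat.card_pos (α := ↥(Cfsg.sigmaCore N)))
          rw [h2, h1]
        rw [h3]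
        exact hrd.trans (Subgroup.card_dvd_of_le hZMN)
      have hU := Cfsg.Agent.Helper4.BG12SD.uniq c.hG
      have hr2 : Cfsg.PRankLE r 2 ↥N := Cfsg.Agent.Helper4.BG10.sigma'_pRankLE_two c.hG hU hN hrN
      have hrp : r ≠ p := by
        rintro rfl
        have := Op'_coprime (p := r) (Cfsg.sigmaCore M)
        exact (Nat.Prime.coprime_iff_not_dvd hr).mp this.symm hrd
      have hr1 : Cfsg.PRankLE r 1 ↥N := by
        by_contra h
        have : r ∈ Cfsg.tau2 N := ⟨hr, hrN, hr2, h⟩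
        rw [hτ2, Set.mem_singleton_iff] at this
        exact hrp this
      have hr2' : r ≠ 2 := Cfsg.Agent.Helper4.BG12T.ne_two_of_dvd_card c.hG hrd
      let f : ↥(R : Subgroup ↥Z) →* ↥N :=
        (Subgroup.inclusion hZN).comp (R : Subgroup ↥Z).subtype
      have hf : Function.Injective f :=
        (Subgroup.inclusion_injective hZN).comp (Subgroup.subtype_injective _)
      exact Cfsg.Agent.Helper16.BG12.isCyclic_of_pRankLE_one hr2' R.isPGroup'
        (Cfsg.Agent.Helper7.PRankLE.of_injective f hf hr1)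
    · have hcard : Nat.card ↥(R : Subgroup ↥Z) = 1 := by
        obtain ⟨k, hk⟩ := IsPGroup.iff_card.mp R.isPGroup'
        have hdvd : Nat.card ↥(R : Subgroup ↥Z) ∣ Nat.card ↥Z := Subgroup.card_subgroup_dvd_card _
        rw [hk] at hdvd ⊢
        cases k with
        | zero => rfl
        | succ k => exact absurd ((dvd_pow_self r (Nat.succ_ne_zero k)).trans hdvd) hrd
      haveI : Subsingleton ↥(R : Subgroup ↥Z) := (Nat.card_eq_one_iff_unique.mp hcard).1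
      exact isCyclic_of_subsingleton
  infer_instance

/-- `K* ≤ O_p(H)'` -/
theorem kstar_le (c : Loc M K p x) :
    Cfsg.sigmaCore M ⊓ centralizer (K : Set G) ≤
      ⁅Op p (Cfsg.sigmaCore M), Op p (Cfsg.sigmaCore M)⁆ := by
  haveI := c.fact
  obtain ⟨h1, -, -⟩ := Cfsg.Agent.S1426.result c.hG M c.hM K c.hcompl
  refine h1.trans (commutator_le_of_Op'_comm c.nilp ?_)
  have hcyc := c.isCyclic_Op'
  intro a ha b hb
  letI := IsCyclic.commGroup (α := ↥(Op' p (Cfsg.sigmaCore M)))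
  exact congrArg Subtype.val (mul_comm (⟨a, ha⟩ : ↥(Op' p (Cfsg.sigmaCore M))) ⟨b, hb⟩)

theorem K_le_normalizer_Op (c : Loc M K p x) :
    K ≤ normalizer (Op p (Cfsg.sigmaCore M) : Set G) := by
  haveI := c.fact
  exact (c.hK.1.trans (Cfsg.Agent.H9.BG12.le_normalizer_sigmaCore M)).trans
    (normalizer_le_normalizer_Op c.nilp)

/-- `[O_p(H), K] = O_p(H)` -/
theorem commutator_Op_K (c : Loc M K p x) :
    ⁅Op p (Cfsg.sigmaCore M), K⁆ = Op p (Cfsg.sigmaCore M) := by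
  haveI := c.fact
  set H := Cfsg.sigmaCore M with hH
  set P := Op p H with hP
  set Z := Op' p H with hZ
  have hKH : K ≤ normalizer (H : Set G) :=
    c.hK.1.trans (Cfsg.Agent.H9.BG12.le_normalizer_sigmaCore M)
  have hKP : K ≤ normalizer (P : Set G) := c.K_le_normalizer_Op
  have hKZ : K ≤ normalizer (Z : Set G) := hKH.trans (normalizer_le_normalizer_Op' c.nilp)
  have hle : ⁅P, K⁆ ≤ P := by
    rw [Subgroup.commutator_le]
    intro a ha k hk
    have h1 : k * a⁻¹ * k⁻¹ ∈ P := (mem_normalizer_iff.mp (hKP hk) a⁻¹).mp (inv_mem ha)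
    have e : ⁅a, k⁆ = a * (k * a⁻¹ * k⁻¹) := by rw [commutatorElement_def]; group
    rw [e]; exact mul_mem ha h1
  apply le_antisymm hle
  obtain ⟨-, h2, -⟩ := Cfsg.Agent.S1426.result c.hG M c.hM K c.hcompl
  have hsub : ⁅H, K⁆ ≤ ⁅P, K⁆ ⊔ Z := by
    rw [Subgroup.commutator_le]
    intro a ha k hk
    obtain ⟨y, hy, z, hz, rfl⟩ := exists_Op_mul_Op' (p := p) c.nilp ha
    have hzk : ⁅z, k⁆ ∈ Z := by
      have h1 : k * z⁻¹ * k⁻¹ ∈ Z := (mem_normalizer_iff.mp (hKZ hk) z⁻¹).mp (inv_mem hz)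
      have e : ⁅z, k⁆ = z * (k * z⁻¹ * k⁻¹) := by rw [commutatorElement_def]; group
      rw [e]; exact mul_mem hz h1
    have hyk : ⁅y, k⁆ ∈ ⁅P, K⁆ := Subgroup.commutator_mem_commutator hy hk
    have hcomm : y * ⁅z, k⁆ = ⁅z, k⁆ * y := Op_commute_Op' c.nilp hy hzk
    have e : ⁅y * z, k⁆ = ⁅z, k⁆ * ⁅y, k⁆ := by
      calc ⁅y * z, k⁆ = y * ⁅z, k⁆ * (k * y⁻¹ * k⁻¹) := by
            simp only [commutatorElement_def]; group
        _ = ⁅z, k⁆ * y * (k * y⁻¹ * k⁻¹) := by rw [hcomm]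
        _ = ⁅z, k⁆ * ⁅y, k⁆ := by simp only [commutatorElement_def]; group
    rw [e]
    exact mul_mem (mem_sup_right hzk) (mem_sup_left hyk)
  have hPZ : ⁅P, Z⁆ = ⊥ := by
    rw [Subgroup.commutator_eq_bot_iff_le_centralizer]
    intro a ha
    rw [mem_centralizer_iff]
    intro z hz
    exact (Op_commute_Op' c.nilp ha hz).symm
  have hZn : Z ≤ normalizer ((⁅P, K⁆ : Subgroup G) : Set G) := by
    apply Cfsg.Agent.Helper7.le_normalizer_of_commutator_eq_bot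
    rw [eq_bot_iff, ← hPZ]
    exact Subgroup.commutator_mono hle le_rfl
  intro a ha
  have haH : a ∈ H := Op_le H ha
  have h3 : a ∈ ⁅P, K⁆ ⊔ Z := hsub (h2.symm ▸ haH)
  obtain ⟨n, hn, z, hz, hnz⟩ := (Cfsg.Agent.Helper7.mem_sup_of_le_normalizer hZn).mp h3
  have hzP : z ∈ P := by
    have : z = n⁻¹ * a := by rw [← hnz]; group
    rw [this]; exact mul_mem (inv_mem (hle hn)) ha
  have hz1 : z ∈ P ⊓ Z := ⟨hzP, hz⟩
  rw [Op_inf_Op', Subgroup.mem_bot] at hz1
  rw [← hnz, hz1, mul_one]; exact hn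

/-- `O_p(H)` is narrow -/
theorem isNarrow_Op (c : Loc M K p x) : Cfsg.IsNarrow p ↥(Op p (Cfsg.sigmaCore M)) := by
  haveI := c.fact
  set P := Op p (Cfsg.sigmaCore M) with hP
  have hPM : P ≤ M := (Op_le _).trans (Cfsg.Agent.H9.BG12.sigmaCore_le M)
  by_cases hα : p ∈ Cfsg.alpha M
  · obtain ⟨S, hS⟩ := Cfsg.Agent.Helper18.BG108.exists_narrow_sylow c.p_ne_two hα c.p_not_mem_beta
      c.p_mem_sigma
    have h1 : (S : Subgroup M).map M.subtype ≤ Cfsg.sigmaCore M := by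
      apply Cfsg.Agent.Helper10.BG16.le_sigmaCore_of_pi c.h1350 c.hM (Subgroup.map_subtype_le _)
      intro q hq hqd
      have : q = p := Cfsg.Agent.Helper10.BG16.prime_eq_of_dvd_card_pGroup
        (S.isPGroup'.map M.subtype) hq hqd
      rw [this]; exact c.p_mem_sigma
    have h2 : (S : Subgroup M).map M.subtype ≤ P := by
      intro a ha
      obtain ⟨k, hk⟩ := (S.isPGroup'.map M.subtype) ⟨a, ha⟩
      exact (mem_Op_iff c.nilp).mpr ⟨h1 ha, k, congrArg Subtype.val hk⟩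
    have h3 : P.subgroupOf M = S := by
      have hp' : IsPGroup p (P.subgroupOf M) := (Op_isPGroup (p := p) _).comap_subtype
      have hle : (S : Subgroup M) ≤ P.subgroupOf M :=
        fun s hs => Subgroup.mem_subgroupOf.mpr (h2 ⟨s, hs, rfl⟩)
      exact S.is_maximal' hp' hle
    have e1 : ↥(S : Subgroup M) ≃* ↥(P.subgroupOf M) := MulEquiv.subgroupCongr h3.symm
    have e2 : ↥(P.subgroupOf M) ≃* ↥P := Subgroup.subgroupOfEquivOfLe hPM
    exact Cfsg.Agent.Helper10.BG13M.isNarrow_of_mulEquiv (e1.trans e2) hS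
  · left
    have h2 : Cfsg.PRankLE p 2 ↥M := by
      by_contra h; exact hα ⟨c.hp, h⟩
    exact Cfsg.Agent.Helper7.PRankLE.of_injective (Subgroup.inclusion hPM)
      (Subgroup.inclusion_injective hPM) h2

end Loc

end Cfsg.Agent.Helper10.BG157
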