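import Mathlib
import Cfsg.Agent.Helper10.BG16C
import Cfsg.Agent.Helper25.OrderPCube2
import Cfsg.Agent.Helper7.Layer
import Cfsg.Agent.S1443
import Cfsg.Agent.S1448
import Cfsg.Agent.S1454

/-!
# B&G Theorem 15.7, case (3) numerics: reduction to the extraspecial group of order `p ^ 3`

`K` cyclic of odd order acting faithfully and in a prime manner on the narrow nonabelian `p`-group
`P = [P, K]` with `1 ≠ C_P(K) ≤ P'`: then `#K ∣ p - 1`, or `#P = p ^ 3` and (by the extraspecial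
lemma, here a hypothesis) `#K ∣ p + 1`.
-/

set_option autoImplicit false
set_option linter.unusedSectionVars false
set_option linter.unusedVariables false
set_option linter.style.haveILetI false

namespace Cfsg.Agent.Helper10.BG157

open Subgroup
open scoped commutatorElement

universe u
variable {G : Type u} [Group G] [Finite G] {p : ℕ} [hp : Fact p.Prime]

/-- the derived subgroup of a nonabelian subgroup of order `p ^ 3` has order `p` and is its
centre -/
theorem card_commutator_of_card_cube {R : Subgroup G} (hR : Nat.card R = p ^ 3)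
    (hna : ¬ IsMulCommutative R) :
    Nat.card ↥⁅R, R⁆ = p ∧ ∀ a ∈ R, (∀ b ∈ R, a * b = b * a) → a ∈ ⁅R, R⁆ := by
  have hna' : ∃ a b : ↥R, a * b ≠ b * a := by
    by_contra h
    push Not at h
    exact hna ⟨⟨h⟩⟩
  have h1 := Cfsg.Agent.Helper25.OrderPCube.card_center p hR hna'
  have h2 := Cfsg.Agent.Helper25.OrderPCube.commutator_eq_center p hR hna'
  have h3 : (commutator ↥R).map R.subtype = ⁅R, R⁆ :=
    Cfsg.Agent.Helper10.BG16.map_subtype_commutator_eq R
  constructor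
  · rw [← h3, Subgroup.card_map_of_injective R.subtype_injective, h2, h1]
  · intro a ha hc
    rw [← h3, h2]
    refine ⟨⟨a, ha⟩, ?_, rfl⟩
    show (⟨a, ha⟩ : ↥R) ∈ Subgroup.center ↥R
    rw [Subgroup.mem_center_iff]
    intro b
    exact Subtype.ext (hc b b.2).symm

theorem numerics (hp2 : p ≠ 2) {P K : Subgroup G} (hP : IsPGroup p P)
    (hPna : ¬ ∀ a ∈ P, ∀ b ∈ P, a * b = b * a) (hnar : Cfsg.IsNarrow p ↥P)
    (hKP : K ≤ normalizer (P : Set G)) (hKc : IsCyclic K) (hKodd : Odd (Nat.card K))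
    (hcop : (Nat.card K).Coprime p)
    (hprime : ∀ k ∈ K, k ≠ 1 → P ⊓ centralizer ({k} : Set G) = P ⊓ centralizer (K : Set G))
    (hCle : P ⊓ centralizer (K : Set G) ≤ ⁅P, P⁆)
    (hC1 : P ⊓ centralizer (K : Set G) ≠ ⊥)
    (hPK : ⁅P, K⁆ = P)
    (hA : Nat.card P = p ^ 3 → (∀ k ∈ K, ∀ z ∈ ⁅P, P⁆, k * z = z * k) →
      (∀ k ∈ K, k ≠ 1 → ∀ x ∈ P, k * x = x * k → x ∈ ⁅P, P⁆) →
      Nat.card K ∣ p - 1 ∨ Nat.card K ∣ p + 1) :
    Nat.card K ∣ p - 1 ∨ (Nat.card P = p ^ 3 ∧ Nat.card K ∣ p + 1) := by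
  have hP1 : P ≠ ⊥ := by
    rintro rfl
    apply hPna
    intro a ha b hb
    rw [Subgroup.mem_bot] at ha hb
    rw [ha, hb]
  have hPnc : ¬ IsMulCommutative P := by
    intro hc
    apply hPna
    intro a ha b hb
    exact congrArg Subtype.val (hc.is_comm.comm ⟨a, ha⟩ ⟨b, hb⟩)
  -- faithful
  have hfaith : K ⊓ centralizer (P : Set G) = ⊥ := by
    rw [eq_bot_iff]
    rintro k ⟨hkK, hkP⟩
    rw [Subgroup.mem_bot]
    by_contra hk1
    have h1 := hprime k hkK hk1
    have h2 : P ≤ centralizer ({k} : Set G) := by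
      intro a ha
      rw [mem_centralizer_iff]
      intro y hy
      rw [Set.mem_singleton_iff] at hy
      subst hy
      exact (mem_centralizer_iff.mp hkP a ha).symm
    have h3 : P ≤ centralizer (K : Set G) := by
      have : P ⊓ centralizer ({k} : Set G) = P := inf_eq_left.mpr h2
      rw [this] at h1
      exact inf_eq_left.mp h1.symm
    have h4 : ⁅P, K⁆ = ⊥ := Subgroup.commutator_eq_bot_iff_le_centralizer.mpr h3
    rw [hPK] at h4
    exact hP1 h4
  have hKsolv : Group.IsSolvable K := by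
    letI := IsCyclic.commGroup (α := ↥K)
    exact Group.isSolvable_of_comm (fun a b => mul_comm a b)
  obtain ⟨k₀, hk₀⟩ := IsCyclic.exists_ofOrder_eq_natCard (α := ↥K)
  by_cases hr : Cfsg.PRankLE p 2 ↥P
  swap
  · -- rank ≥ 3
    left
    obtain ⟨-, h2, -⟩ := Cfsg.Agent.S1454.result p hp2 P K hP hnar hKP hKsolv hKodd hfaith
    have h3 := h2 hr (k₀ : G) k₀.2 ?_
    · rwa [Subgroup.orderOf_coe, hk₀] at h3
    · rw [Subgroup.orderOf_coe, hk₀]; exact hcop
  · -- rank ≤ 2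
    obtain ⟨-, h2⟩ := Cfsg.Agent.S1448.result p hp2 P K hP hP1 hr hKP hcop hKodd hPK
    rcases h2 with h2 | ⟨R₁, R₂, hsup, hcomm, hR₁na, hR₁c, -, hR₂c, hΩ⟩
    · exact absurd h2 hPnc
    have hR₁P : R₁ ≤ P := hsup ▸ le_sup_left
    have hR₂P : R₂ ≤ P := hsup ▸ le_sup_right
    have hR₂comm : ∀ a ∈ R₂, ∀ b ∈ R₂, a * b = b * a := by
      intro a ha b hb
      letI := IsCyclic.commGroup (α := ↥R₂)
      exact congrArg Subtype.val (mul_comm (⟨a, ha⟩ : ↥R₂) ⟨b, hb⟩)
    have hR₂n : R₂ ≤ normalizer (R₁ : Set G) := by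
      apply Cfsg.Agent.Helper7.le_normalizer_of_commutator_eq_bot
      rw [Subgroup.commutator_eq_bot_iff_le_centralizer]
      intro a ha
      rw [mem_centralizer_iff]
      intro b hb
      exact (hcomm a ha b hb).symm
    have hdec : ∀ a ∈ P, ∃ a₁ ∈ R₁, ∃ a₂ ∈ R₂, a₁ * a₂ = a := by
      intro a ha
      rw [← hsup] at ha
      exact (Cfsg.Agent.Helper7.mem_sup_of_le_normalizer hR₂n).mp ha
    -- R₂ is central in P
    have hR₂Z : ∀ b ∈ R₂, ∀ a ∈ P, a * b = b * a := by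
      intro b hb a ha
      obtain ⟨a₁, ha₁, a₂, ha₂, rfl⟩ := hdec a ha
      have e1 := hcomm a₁ ha₁ b hb
      have e2 := hR₂comm a₂ ha₂ b hb
      calc a₁ * a₂ * b = a₁ * (a₂ * b) := by group
        _ = a₁ * (b * a₂) := by rw [e2]
        _ = (a₁ * b) * a₂ := by group
        _ = b * a₁ * a₂ := by rw [e1]
        _ = b * (a₁ * a₂) := by group
    obtain ⟨hDcard, hDZ⟩ := card_commutator_of_card_cube hR₁c hR₁na
    -- P' = R₁'
    have hD : ⁅P, P⁆ = ⁅R₁, R₁⁆ := by
      apply le_antisymm _ (Subgroup.commutator_mono hR₁P hR₁P)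
      rw [Subgroup.commutator_le]
      intro a ha b hb
      obtain ⟨a₁, ha₁, a₂, ha₂, rfl⟩ := hdec a ha
      obtain ⟨b₁, hb₁, b₂, hb₂, rfl⟩ := hdec b hb
      have ea := hR₂Z a₂ ha₂
      have eb := hR₂Z b₂ hb₂
      have e : ⁅a₁ * a₂, b₁ * b₂⁆ = ⁅a₁, b₁⁆ := by
        have e1 : a₂ * (b₁ * b₂) = (b₁ * b₂) * a₂ := by
          have := ea (b₁ * b₂) (mul_mem (hR₁P hb₁) (hR₂P hb₂))
          exact this.symm
        have e2 : b₂ * a₁⁻¹ = a₁⁻¹ * b₂ := (eb a₁⁻¹ (inv_mem (hR₁P ha₁))).symm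
        have e3 : a₁ * b₂ = b₂ * a₁ := eb a₁ (hR₁P ha₁)
        simp only [commutatorElement_def, mul_inv_rev]
        calc a₁ * a₂ * (b₁ * b₂) * (a₂⁻¹ * a₁⁻¹) * (b₂⁻¹ * b₁⁻¹)
            = a₁ * (a₂ * (b₁ * b₂)) * a₂⁻¹ * a₁⁻¹ * b₂⁻¹ * b₁⁻¹ := by group
          _ = a₁ * ((b₁ * b₂) * a₂) * a₂⁻¹ * a₁⁻¹ * b₂⁻¹ * b₁⁻¹ := by rw [e1]
          _ = a₁ * b₁ * (b₂ * a₁⁻¹) * b₂⁻¹ * b₁⁻¹ := by group
          _ = a₁ * b₁ * (a₁⁻¹ * b₂) * b₂⁻¹ * b₁⁻¹ := by rw [e2]
          _ = a₁ * b₁ * a₁⁻¹ * b₁⁻¹ := by group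
      rw [e]
      exact Subgroup.commutator_mem_commutator ha₁ hb₁
    -- C = P'
    have hCD : P ⊓ centralizer (K : Set G) = ⁅P, P⁆ := by
      have hcard : Nat.card ↥⁅P, P⁆ = p := by rw [hD]; exact hDcard
      have hdvd : Nat.card ↥(P ⊓ centralizer (K : Set G)) ∣ p := by
        rw [← hcard]; exact Subgroup.card_dvd_of_le hCle
      rcases (Nat.dvd_prime hp.out).mp hdvd with h | h
      · exact absurd (Subgroup.card_eq_one.mp h) hC1
      · exact Subgroup.eq_of_le_of_card_ge hCle (by rw [hcard, h])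
    have hKD : ∀ k ∈ K, ∀ z ∈ ⁅P, P⁆, k * z = z * k := by
      intro k hk z hz
      rw [← hCD] at hz
      exact mem_centralizer_iff.mp hz.2 k hk
    -- the centre of P
    set Zc : Subgroup G := P ⊓ centralizer (P : Set G) with hZc
    have hZcp : IsPGroup p Zc := hP.to_le inf_le_left
    have hKZc : K ≤ normalizer (Zc : Set G) := by
      intro k hk
      have hkP := hKP hk
      rw [mem_normalizer_iff]
      intro z
      have key : ∀ (k : G), k ∈ normalizer (P : Set G) → ∀ z ∈ Zc, k * z * k⁻¹ ∈ Zc := by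
        intro k hkP z hz
        refine Subgroup.mem_inf.mpr ⟨(mem_normalizer_iff.mp hkP z).mp hz.1, ?_⟩
        rw [mem_centralizer_iff]
        intro a ha
        have ha' : k⁻¹ * a * k ∈ P := by
          have := (mem_normalizer_iff.mp (inv_mem hkP) a).mp ha
          simpa using this
        have e := mem_centralizer_iff.mp hz.2 _ ha'
        calc a * (k * z * k⁻¹) = k * ((k⁻¹ * a * k) * z) * k⁻¹ := by group
          _ = k * (z * (k⁻¹ * a * k)) * k⁻¹ := by rw [e]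
          _ = k * z * k⁻¹ * a := by group
      refine ⟨key k hkP z, fun h => ?_⟩
      have := key k⁻¹ (inv_mem hkP) _ h
      simpa [mul_assoc] using this
    -- elements of order p of Zc lie in P'
    have hΩZ : ∀ z ∈ Zc, z ^ p = 1 → z ∈ ⁅P, P⁆ := by
      intro z hz hzp
      obtain ⟨a₁, ha₁, a₂, ha₂, rfl⟩ := hdec z hz.1
      have ha₁Z : ∀ b ∈ R₁, a₁ * b = b * a₁ := by
        intro b hb
        have e1 := (mem_centralizer_iff.mp hz.2 b (hR₁P hb))
        have e2 := hcomm b hb a₂ ha₂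
        -- b * (a₁ * a₂) = (a₁ * a₂) * b
        have : b * a₁ * a₂ = a₁ * b * a₂ := by
          calc b * a₁ * a₂ = b * (a₁ * a₂) := by group
            _ = a₁ * a₂ * b := e1
            _ = a₁ * (a₂ * b) := by group
            _ = a₁ * (b * a₂) := by rw [e2]
            _ = a₁ * b * a₂ := by group
        exact (mul_right_cancel this).symm
      have ha₁D : a₁ ∈ ⁅R₁, R₁⁆ := hDZ a₁ ha₁ ha₁Z
      have ha₁R₂ : a₁ ∈ R₂ := by
        rw [← hΩ] at ha₁D
        have hle : closure {x : G | x ∈ R₂ ∧ x ^ p = 1} ≤ R₂ := by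
          rw [Subgroup.closure_le]; intro x hx; exact hx.1
        exact hle ha₁D
      rw [hD, ← hΩ]
      exact Subgroup.subset_closure ⟨mul_mem ha₁R₂ ha₂, hzp⟩
    -- K centralizes Zc
    have hbotE : Cfsg.IsElementaryAbelian p (⊥ : Subgroup G) := by
      refine ⟨⟨⟨?_⟩⟩, ?_⟩
      · rintro ⟨a, ha⟩ ⟨b, hb⟩
        rw [Subgroup.mem_bot] at ha hb
        subst ha; subst hb; rfl
      · intro a ha
        rw [Subgroup.mem_bot] at ha
        rw [ha, one_pow]
    have hKcZ : K ≤ centralizer (Zc : Set G) := by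
      apply Cfsg.Agent.S1443.result p hp2 Zc ⊥ K hZcp bot_le hbotE hKZc hcop
      intro z hz hzo
      have hzD : z ∈ ⁅P, P⁆ := hΩZ z hz.1 (by rw [← hzo, pow_orderOf_eq_one])
      intro k hk
      rw [mem_centralizer_iff]
      intro y hy
      rw [Set.mem_singleton_iff] at hy
      subst hy
      exact (hKD k hk y hzD).symm
    have hZcD : Zc ≤ ⁅P, P⁆ := by
      rw [← hCD]
      intro z hz
      refine Subgroup.mem_inf.mpr ⟨hz.1, ?_⟩
      rw [mem_centralizer_iff]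
      intro k hk
      exact (mem_centralizer_iff.mp (hKcZ hk) z hz).symm
    have hR₂Zc : R₂ ≤ Zc := by
      intro b hb
      refine Subgroup.mem_inf.mpr ⟨hR₂P hb, ?_⟩
      rw [mem_centralizer_iff]
      intro a ha
      exact hR₂Z b hb a ha
    have hR₂R₁ : R₂ ≤ R₁ := by
      refine (hR₂Zc.trans hZcD).trans ?_
      rw [hD]
      rw [Subgroup.commutator_le]
      intro a ha b hb
      rw [commutatorElement_def]
      exact R₁.mul_mem (R₁.mul_mem (R₁.mul_mem ha hb) (inv_mem ha)) (inv_mem hb)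
    have hPR₁ : P = R₁ := by
      rw [← hsup]; exact sup_eq_left.mpr hR₂R₁
    have hPcard : Nat.card P = p ^ 3 := by rw [hPR₁]; exact hR₁c
    have hfree : ∀ k ∈ K, k ≠ 1 → ∀ x ∈ P, k * x = x * k → x ∈ ⁅P, P⁆ := by
      intro k hk hk1 x hx hkx
      rw [← hCD, ← hprime k hk hk1]
      refine Subgroup.mem_inf.mpr ⟨hx, ?_⟩
      rw [mem_centralizer_iff]
      intro y hy
      rw [Set.mem_singleton_iff] at hy
      subst hy
      exact hkx
    rcases hA hPcard hKD hfree with h | h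
    · exact Or.inl h
    · exact Or.inr ⟨hPcard, h⟩

end Cfsg.Agent.Helper10.BG157
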