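import Mathlib
import Cfsg.Agent.Helper10.BG157B
import Cfsg.Agent.Helper10.BG157C

/-!
# B&G Theorem 15.7, case `K ≠ 1`, `U = 1`, `M_F = M_σ` not TI: the Type V numerics,
relative to the extraspecial lemma
-/

set_option autoImplicit false
set_option linter.unusedSectionVars false
set_option linter.unusedVariables false
set_option linter.style.haveILetI false

namespace Cfsg.Agent.Helper10.BG157

open Subgroup Cfsg

universe u
variable {G : Type u} [Group G] [Finite G]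

/-- the statement of the extraspecial lemma for the group `G` -/
def ExtraSpecialNumerics (G : Type u) [Group G] [Finite G] : Prop :=
  ∀ (p : ℕ) [Fact p.Prime], p ≠ 2 → ∀ (P K : Subgroup G), Nat.card P = p ^ 3 →
    ¬ IsMulCommutative P → K ≤ normalizer (P : Set G) → IsCyclic K → Odd (Nat.card K) →
    (Nat.card K).Coprime p → (∀ k ∈ K, ∀ z ∈ ⁅P, P⁆, k * z = z * k) →
    (∀ k ∈ K, k ≠ 1 → ∀ x ∈ P, k * x = x * k → x ∈ ⁅P, P⁆) →
    Nat.card K ∣ p - 1 ∨ Nat.card K ∣ p + 1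

theorem typeV_numerics_of (hES : ExtraSpecialNumerics G) (hG : Cfsg.IsMinSimpleOddOrder G)
    {M K U : Subgroup G} (hM : IsCoatom M)
    (hKU : Cfsg.IsSigmaDecomposition M K U) (hK1 : K ≠ ⊥) (hU : U = ⊥)
    (hF : Cfsg.fittingHallOf M = Cfsg.sigmaCore M)
    (hnTI : ¬ Cfsg.IsTISubset (Cfsg.fittingHallOf M : Set G)) :
    (∃ p : ℕ, p.Prime ∧ p ∣ Nat.card (Cfsg.fittingHallOf M) ∧ Nat.card K ∣ p - 1 ∧
        IsCyclic (Cfsg.pPrimeCore p (Cfsg.fittingHallOf M))) ∨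
      (∃ p : ℕ, p.Prime ∧ p ∣ Nat.card (Cfsg.fittingHallOf M) ∧
        Nat.card (Cfsg.pCore p (Cfsg.fittingHallOf M)) = p ^ 3 ∧ Nat.card K ∣ p + 1 ∧
        IsCyclic (Cfsg.pPrimeCore p (Cfsg.fittingHallOf M))) := by
  obtain ⟨p, x, c⟩ := exists_loc hG hM hKU hK1 hU hF hnTI
  haveI := c.fact
  rw [hF]
  set H := Cfsg.sigmaCore M with hH
  set P := Op p H with hP
  obtain ⟨N, hN, hxN, hNM, -, -⟩ := c.exists_N
  have hnc := c.Op_not_comm hN hxN hNM
  -- `O_{p'}(H)` cyclic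
  have hcyc : IsCyclic (Cfsg.pPrimeCore p ↥H) := by
    have h1 := c.isCyclic_Op'
    have e : ↥(Cfsg.pPrimeCore p ↥H) ≃* ↥(Op' p H) :=
      (Cfsg.pPrimeCore p ↥H).equivMapOfInjective H.subtype H.subtype_injective
    exact e.isCyclic.mpr h1
  have hKodd : Odd (Nat.card K) :=
    Odd.of_dvd_nat hG.1 (Subgroup.card_subgroup_dvd_card K)
  have hcop : (Nat.card K).Coprime p := by
    apply Nat.Coprime.symm
    rw [Nat.Prime.coprime_iff_not_dvd c.hp]
    intro hd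
    exact (c.hK.2.1 p c.hp hd).2.2.1 c.p_mem_sigma
  obtain ⟨h1430a, -, -⟩ := Cfsg.Agent.S1430.result hG M hM K c.hK hK1
  have hPH : P ⊓ H = P := inf_eq_left.mpr (Op_le H)
  have hprime : ∀ k ∈ K, k ≠ 1 →
      P ⊓ centralizer ({k} : Set G) = P ⊓ centralizer (K : Set G) := by
    intro k hk hk1
    rw [← hPH, inf_assoc, inf_assoc, h1430a k hk hk1]
  have hPP : ⁅P, P⁆ ≤ P := by
    rw [Subgroup.commutator_le]
    intro a ha b hb
    rw [commutatorElement_def]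
    exact P.mul_mem (P.mul_mem (P.mul_mem ha hb) (inv_mem ha)) (inv_mem hb)
  have hCle : P ⊓ centralizer (K : Set G) ≤ ⁅P, P⁆ :=
    (inf_le_inf_right _ (Op_le H)).trans c.kstar_le
  have h1430 : Cfsg.Agent.Helper10.BG16.St1430 G :=
    fun M hM K hK hK1 => Cfsg.Agent.S1430.result hG M hM K hK hK1
  have hKs := Cfsg.Agent.Helper10.BG16.kstar_ne_bot h1430 hM c.hK hK1
  have hC1 : P ⊓ centralizer (K : Set G) ≠ ⊥ := by
    intro h
    apply hKs
    rw [eq_bot_iff, ← h]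
    exact le_inf (c.kstar_le.trans hPP) inf_le_right
  have hnum := numerics c.p_ne_two (Op_isPGroup (p := p) H) hnc c.isNarrow_Op c.K_le_normalizer_Op
    c.hKc hKodd hcop hprime hCle hC1 c.commutator_Op_K
    (fun h1 h2 h3 => hES p c.p_ne_two P K h1
      (fun hc => hnc (fun a ha b hb => congrArg Subtype.val (hc.is_comm.comm ⟨a, ha⟩ ⟨b, hb⟩)))
      c.K_le_normalizer_Op c.hKc hKodd hcop h2 h3)
  rcases hnum with h | ⟨h1, h2⟩
  · exact Or.inl ⟨p, c.hp, c.p_dvd, h, hcyc⟩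
  · refine Or.inr ⟨p, c.hp, c.p_dvd, ?_, h2, hcyc⟩
    rw [← card_Op, h1]

end Cfsg.Agent.Helper10.BG157
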