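import Mathlib
import Cfsg.Agent.Helper10.BG16C
import Cfsg.Agent.Helper10.BG157D
import Cfsg.Agent.Helper25.OrderPCube2
import Cfsg.Agent.Helper4.Zassenhaus3
import Cfsg.Agent.Helper29.Eigen
import Cfsg.Agent.Helper19.RankTwoStructA

/-!
# The extraspecial lemma for B&G 15.7 case (3)

`K` cyclic of odd order prime to `p` acting on a nonabelian group `P` of order `p ^ 3`,
centralizing `P'` and with `C_P(k) ≤ P'` for all `k ≠ 1`: `#K ∣ p - 1` or `#K ∣ p + 1`.
-/

set_option autoImplicit false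
set_option linter.unusedSectionVars false
set_option linter.unusedVariables false
set_option linter.style.haveILetI false

namespace Cfsg.Agent.Helper10.BG157

open Subgroup
open scoped commutatorElement

universe u
variable {G : Type u} [Group G] [Finite G] {p : ℕ} [hp : Fact p.Prime]

/-- basic facts on a nonabelian subgroup of order `p ^ 3` -/
structure Cube (p : ℕ) (P : Subgroup G) : Prop where
  card : Nat.card P = p ^ 3
  cardD : Nat.card ↥⁅P, P⁆ = p
  le : ⁅P, P⁆ ≤ P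
  central : ∀ d ∈ ⁅P, P⁆, ∀ b ∈ P, d * b = b * d
  ofCentral : ∀ a ∈ P, (∀ b ∈ P, a * b = b * a) → a ∈ ⁅P, P⁆
  powMem : ∀ x ∈ P, x ^ p ∈ ⁅P, P⁆
  powD : ∀ d ∈ ⁅P, P⁆, d ^ p = 1

theorem cube_of {P : Subgroup G} (hP : Nat.card P = p ^ 3) (hna : ¬ IsMulCommutative P) :
    Cube p P := by
  have hna' : ∃ a b : ↥P, a * b ≠ b * a := by
    by_contra h
    push Not at h
    exact hna ⟨⟨h⟩⟩
  have h1 := Cfsg.Agent.Helper25.OrderPCube.card_center p hP hna'
  have h2 := Cfsg.Agent.Helper25.OrderPCube.commutator_eq_center p hP hna'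
  have h3 : (commutator ↥P).map P.subtype = ⁅P, P⁆ :=
    Cfsg.Agent.Helper10.BG16.map_subtype_commutator_eq P
  have hmem : ∀ a : G, a ∈ ⁅P, P⁆ ↔ ∃ h : a ∈ P, (⟨a, h⟩ : ↥P) ∈ Subgroup.center ↥P := by
    intro a
    rw [← h3, h2]
    constructor
    · rintro ⟨b, hb, rfl⟩
      exact ⟨b.2, hb⟩
    · rintro ⟨h, hc⟩
      exact ⟨⟨a, h⟩, hc, rfl⟩
  obtain ⟨hDc, hDZ⟩ := card_commutator_of_card_cube hP hna
  have hle : ⁅P, P⁆ ≤ P := fun a ha => ((hmem a).mp ha).1
  refine ⟨hP, hDc, hle, ?_, hDZ, ?_, ?_⟩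
  · intro d hd b hb
    obtain ⟨h, hc⟩ := (hmem d).mp hd
    have := Subgroup.mem_center_iff.mp hc ⟨b, hb⟩
    exact (congrArg Subtype.val this).symm
  · intro x hx
    have := Cfsg.Agent.Helper25.OrderPCube.pow_mem_center p hP hna' ⟨x, hx⟩
    exact (hmem _).mpr ⟨P.pow_mem hx p, this⟩
  · intro d hd
    have h4 : (⟨d, hd⟩ : ↥⁅P, P⁆) ^ Nat.card ↥⁅P, P⁆ = 1 := pow_card_eq_one'
    rw [hDc] at h4
    exact congrArg Subtype.val h4

namespace Cube

variable {P : Subgroup G}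

theorem D_le_centralizer (c : Cube p P) {x : G} (hx : x ∈ P) :
    ⁅P, P⁆ ≤ P ⊓ centralizer ({x} : Set G) := by
  intro d hd
  refine Subgroup.mem_inf.mpr ⟨c.le hd, ?_⟩
  rw [mem_centralizer_iff]
  intro y hy
  rw [Set.mem_singleton_iff] at hy
  subst hy
  exact (c.central d hd y hx).symm

theorem self_mem_centralizer {x : G} (hx : x ∈ P) : x ∈ P ⊓ centralizer ({x} : Set G) := by
  refine Subgroup.mem_inf.mpr ⟨hx, ?_⟩
  rw [mem_centralizer_iff]
  intro y hy
  rw [Set.mem_singleton_iff] at hy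
  subst hy
  rfl

/-- a subgroup strictly between `P'` and ... has order `≥ p ^ 2` -/
theorem card_ne_of_lt (c : Cube p P) {S : Subgroup G} (hDS : ⁅P, P⁆ ≤ S) {x : G} (hxS : x ∈ S)
    (hxD : x ∉ ⁅P, P⁆) {j : ℕ} (hj : Nat.card S = p ^ j) : 2 ≤ j := by
  by_contra hlt
  have hle : Nat.card S ≤ Nat.card ↥⁅P, P⁆ := by
    rw [c.cardD, hj]
    have : j ≤ 1 := by omega
    calc p ^ j ≤ p ^ 1 := Nat.pow_le_pow_right hp.out.pos this
      _ = p := pow_one p
  have := Subgroup.eq_of_le_of_card_ge hDS hle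
  exact hxD (this ▸ hxS)

/-- `#C_P(x) = p ^ 2` for `x ∈ P \ P'` -/
theorem card_centralizer (c : Cube p P) {x : G} (hx : x ∈ P) (hxD : x ∉ ⁅P, P⁆) :
    Nat.card ↥(P ⊓ centralizer ({x} : Set G)) = p ^ 2 := by
  set C := P ⊓ centralizer ({x} : Set G) with hC
  have hdvd : Nat.card C ∣ p ^ 3 := by
    rw [← c.card]; exact Subgroup.card_dvd_of_le inf_le_left
  obtain ⟨j, hj3, hj⟩ := (Nat.dvd_prime_pow hp.out).mp hdvd
  have h2 := c.card_ne_of_lt (c.D_le_centralizer hx) (self_mem_centralizer hx) hxD hj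
  have h3 : j ≠ 3 := by
    rintro rfl
    have hCP : C = P := Subgroup.eq_of_le_of_card_ge inf_le_left (by rw [hj, c.card])
    apply hxD
    apply c.ofCentral x hx
    intro b hb
    have hb' : b ∈ C := hCP ▸ hb
    have := mem_centralizer_iff.mp hb'.2 x rfl
    exact this
  have : j = 2 := by omega
  rw [hj, this]

/-- elements of `P` commuting with `x ∈ P \ P'` lie in `⟨x⟩ P'` -/
theorem exists_pow_mul (c : Cube p P) {x y : G} (hx : x ∈ P) (hxD : x ∉ ⁅P, P⁆) (hy : y ∈ P)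
    (hxy : x * y = y * x) : ∃ i : ℕ, ∃ d ∈ ⁅P, P⁆, y = x ^ i * d := by
  set C := P ⊓ centralizer ({x} : Set G) with hC
  set A := zpowers x ⊔ ⁅P, P⁆ with hA
  have hAC : A ≤ C := sup_le (zpowers_le.mpr (self_mem_centralizer hx)) (c.D_le_centralizer hx)
  have hdvd : Nat.card A ∣ p ^ 2 := by
    rw [← c.card_centralizer hx hxD]; exact Subgroup.card_dvd_of_le hAC
  obtain ⟨j, hj2, hj⟩ := (Nat.dvd_prime_pow hp.out).mp hdvd
  have h2 := c.card_ne_of_lt (le_sup_right : ⁅P, P⁆ ≤ A)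
    ((le_sup_left : zpowers x ≤ A) (mem_zpowers x)) hxD hj
  have hj' : j = 2 := by omega
  have hAeq : A = C :=
    Subgroup.eq_of_le_of_card_ge hAC (by rw [hj, hj', c.card_centralizer hx hxD])
  have hyC : y ∈ C := by
    refine Subgroup.mem_inf.mpr ⟨hy, ?_⟩
    rw [mem_centralizer_iff]
    intro z hz
    rw [Set.mem_singleton_iff] at hz
    subst hz
    exact hxy
  rw [← hAeq, hA] at hyC
  have hDn : ⁅P, P⁆ ≤ normalizer ((zpowers x : Subgroup G) : Set G) := by
    refine le_trans ?_ (Subgroup.centralizer_le_normalizer _)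
    intro d hd
    rw [mem_centralizer_iff]
    intro h hh
    obtain ⟨n, rfl⟩ := mem_zpowers_iff.mp hh
    have : Commute x d := (c.central d hd x hx).symm
    exact (this.zpow_left n).eq
  obtain ⟨a, ha, d, hd, rfl⟩ := (Cfsg.Agent.Helper7.mem_sup_of_le_normalizer hDn).mp hyC
  have hfin : IsOfFinOrder x := isOfFinOrder_of_finite x
  rw [← hfin.mem_powers_iff_mem_zpowers] at ha
  obtain ⟨i, rfl⟩ := ha
  exact ⟨i, d, hd, rfl⟩

end Cube

/-- conjugation by an element of the normalizer, as an endomorphism of `P` -/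
def conjEnd (P : Subgroup G) (a : G) (ha : a ∈ normalizer (P : Set G)) : ↥P →* ↥P where
  toFun x := ⟨a * x * a⁻¹, (mem_normalizer_iff.mp ha x).mp x.2⟩
  map_one' := by
    apply Subtype.ext
    simp
  map_mul' x y := by
    apply Subtype.ext
    simp [mul_assoc]

theorem conjEnd_apply (P : Subgroup G) (a : G) (ha : a ∈ normalizer (P : Set G)) (x : ↥P) :
    ((conjEnd P a ha x : ↥P) : G) = a * x * a⁻¹ := rfl

theorem conjEnd_iterate (P : Subgroup G) (a : G) (ha : a ∈ normalizer (P : Set G)) (j : ℕ)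
    (x : ↥P) : (((conjEnd P a ha)^[j] x : ↥P) : G) = a ^ j * x * (a ^ j)⁻¹ := by
  induction j with
  | zero => simp
  | succ j ih =>
    rw [Function.iterate_succ_apply', conjEnd_apply, ih, pow_succ']
    group

/-- an eigenvector modulo `P'` for an element whose order divides `p - 1` -/
theorem Cube.exists_eigen {P : Subgroup G} (c : Cube p P) {a : G}
    (ha : a ∈ normalizer (P : Set G)) {r : ℕ} (har : a ^ r = 1) (hr : r ∣ p - 1) :
    ∃ x ∈ P, x ∉ ⁅P, P⁆ ∧ ∃ l : ℕ, ∃ d ∈ ⁅P, P⁆, a * x * a⁻¹ = x ^ l * d := by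
  have h3 : (commutator ↥P).map P.subtype = ⁅P, P⁆ :=
    Cfsg.Agent.Helper10.BG16.map_subtype_commutator_eq P
  have hmemD : ∀ y : ↥P, y ∈ commutator ↥P ↔ (y : G) ∈ ⁅P, P⁆ := by
    intro y
    rw [← h3]
    constructor
    · intro h; exact ⟨y, h, rfl⟩
    · rintro ⟨z, hz, hzy⟩
      have : z = y := Subtype.ext hzy
      rw [← this]; exact hz
  have hof1 : ∀ y : ↥P, Abelianization.of y = 1 ↔ (y : G) ∈ ⁅P, P⁆ := by
    intro y
    rw [← hmemD, ← Abelianization.ker_of, MonoidHom.mem_ker]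
  have hsurj : ∀ v : Abelianization ↥P, ∃ y : ↥P, Abelianization.of y = v := by
    intro v
    obtain ⟨y, rfl⟩ := QuotientGroup.mk_surjective v
    exact ⟨y, rfl⟩
  -- `V = P / P'` is nontrivial of exponent `p`
  haveI : Nontrivial (Abelianization ↥P) := by
    by_contra hnt
    rw [not_nontrivial_iff_subsingleton] at hnt
    -- then every element of P lies in P'
    have hall : ∀ y : ↥P, (y : G) ∈ ⁅P, P⁆ := by
      intro y
      rw [← hof1]
      exact Subsingleton.elim _ _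
    have hle : P ≤ ⁅P, P⁆ := fun y hy => hall ⟨y, hy⟩
    have hcard := Subgroup.card_le_of_le hle
    rw [c.card, c.cardD] at hcard
    have h2 := hp.out.two_le
    have h5 : p * 4 ≤ p ^ 3 := by
      have : p ^ 3 = p * (p * p) := by ring
      rw [this]
      exact Nat.mul_le_mul_left p (by nlinarith)
    omega
  have hexp : ∀ v : Abelianization ↥P, v ^ p = 1 := by
    intro v
    obtain ⟨y, rfl⟩ := hsurj v
    rw [← map_pow, hof1]
    exact c.powMem y y.2
  set ψ : Abelianization ↥P →* Abelianization ↥P := Abelianization.map (conjEnd P a ha) with hψ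
  have hψiter : ∀ (j : ℕ) (y : ↥P),
      ψ^[j] (Abelianization.of y) = Abelianization.of ((conjEnd P a ha)^[j] y) := by
    intro j
    induction j with
    | zero => intro y; rfl
    | succ j ih =>
      intro y
      rw [Function.iterate_succ_apply', Function.iterate_succ_apply', ih, hψ,
        Abelianization.map_of]
  have hap : a ^ p = a := by
    obtain ⟨m, hm⟩ := hr
    have h1 : p = 1 + r * m := by
      have := hp.out.one_le
      omega
    rw [h1, pow_add, pow_one, pow_mul, har, one_pow, mul_one]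
  have hψp : ∀ v, ψ^[p] v = ψ v := by
    intro v
    obtain ⟨y, rfl⟩ := hsurj v
    rw [hψiter, hψ, Abelianization.map_of]
    congr 1
    apply Subtype.ext
    rw [conjEnd_iterate, hap, conjEnd_apply]
  obtain ⟨v, hv1, l, hl⟩ := Cfsg.Agent.Helper29.exists_eigen_of_iterate p hexp ψ hψp
  obtain ⟨y, rfl⟩ := hsurj v
  refine ⟨y, y.2, fun h => hv1 ((hof1 y).mpr h), l, ?_⟩
  rw [hψ, Abelianization.map_of, ← map_pow] at hl
  -- of (conjEnd y) = of (y ^ l)
  have h4 : Abelianization.of ((y ^ l)⁻¹ * conjEnd P a ha y) = 1 := by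
    rw [map_mul, map_inv, hl, inv_mul_cancel]
  rw [hof1] at h4
  refine ⟨_, h4, ?_⟩
  simp only [Subgroup.coe_mul, Subgroup.coe_inv, Subgroup.coe_pow, conjEnd_apply]
  group

/-- the action data -/
structure Act (p : ℕ) (P K : Subgroup G) : Prop where
  cube : Cube p P
  hKP : K ≤ normalizer (P : Set G)
  hcop : (Nat.card K).Coprime p
  hcent : ∀ k ∈ K, ∀ z ∈ ⁅P, P⁆, k * z = z * k
  hfree : ∀ k ∈ K, k ≠ 1 → ∀ x ∈ P, k * x = x * k → x ∈ ⁅P, P⁆

namespace Act

variable {P K : Subgroup G}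

theorem conj_mem (A : Act p P K) {k : G} (hk : k ∈ K) {x : G} (hx : x ∈ P) : k * x * k⁻¹ ∈ P :=
  (mem_normalizer_iff.mp (A.hKP hk) x).mp hx

theorem conj_D (A : Act p P K) {k : G} (hk : k ∈ K) {d : G} (hd : d ∈ ⁅P, P⁆) :
    k * d * k⁻¹ = d := by
  rw [A.hcent k hk d hd]; group

theorem conj_not_mem_D (A : Act p P K) {k : G} (hk : k ∈ K) {x : G} (hx : x ∉ ⁅P, P⁆) :
    k * x * k⁻¹ ∉ ⁅P, P⁆ := by
  intro h
  apply hx
  have h1 := A.conj_D (inv_mem hk) h
  have h2 : k⁻¹ * (k * x * k⁻¹) * k⁻¹⁻¹ = x := by group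
  rw [h2] at h1
  rw [h1]; exact h

/-- `K` acts freely on `S \ P'` for a `K`-invariant subgroup `P' ≤ S ≤ P` -/
theorem card_dvd_sub (A : Act p P K) {S : Subgroup G} (hDS : ⁅P, P⁆ ≤ S) (hSP : S ≤ P)
    (hinv : ∀ k ∈ K, ∀ u ∈ S, k * u * k⁻¹ ∈ S) :
    Nat.card K ∣ Nat.card S - p := by
  have h := Cfsg.Agent.Helper4.card_dvd_ncard_of_free_conj K
    ((S : Set G) \ ((⁅P, P⁆ : Subgroup G) : Set G))
    (fun k hk x hx => ⟨hinv k hk x hx.1, A.conj_not_mem_D hk hx.2⟩)
    (fun k hk x hx hkx => by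
      by_contra hk1
      apply hx.2
      apply A.hfree k hk hk1 x (hSP hx.1)
      calc k * x = k * x * k⁻¹ * k := by group
        _ = x * k := by rw [hkx])
  rw [Set.ncard_sdiff (fun x hx => hDS hx) (Set.toFinite _)] at h
  have e1 : ((S : Set G)).ncard = Nat.card S := (Nat.card_coe_set_eq _).symm
  have e2 : (((⁅P, P⁆ : Subgroup G) : Set G)).ncard = Nat.card ↥⁅P, P⁆ :=
    (Nat.card_coe_set_eq _).symm
  rw [e1, e2, A.cube.cardD] at h
  exact h


/-- freeness modulo `P'` -/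
theorem eq_one_of_conj_eq_mul (A : Act p P K) {k : G} (hk : k ∈ K) {x d : G} (hx : x ∈ P)
    (hxD : x ∉ ⁅P, P⁆) (hd : d ∈ ⁅P, P⁆) (h : k * x * k⁻¹ = x * d) : k = 1 := by
  have hiter : ∀ m : ℕ, k ^ m * x * (k ^ m)⁻¹ = x * d ^ m := by
    intro m
    induction m with
    | zero => simp
    | succ m ih =>
      have hdm : d ^ m ∈ ⁅P, P⁆ := Subgroup.pow_mem _ hd m
      calc k ^ (m + 1) * x * (k ^ (m + 1))⁻¹ = k * (k ^ m * x * (k ^ m)⁻¹) * k⁻¹ := by
            rw [pow_succ']; group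
        _ = k * (x * d ^ m) * k⁻¹ := by rw [ih]
        _ = (k * x * k⁻¹) * (k * d ^ m * k⁻¹) := by group
        _ = x * d * d ^ m := by rw [h, A.conj_D hk hdm]
        _ = x * d ^ (m + 1) := by rw [pow_succ']; group
  have h1 := hiter (orderOf k)
  rw [pow_orderOf_eq_one] at h1
  have h2 : d ^ orderOf k = 1 := by
    have : x * d ^ orderOf k = x * 1 := by rw [← h1]; group
    exact mul_left_cancel this
  have h3 : orderOf d ∣ orderOf k := orderOf_dvd_of_pow_eq_one h2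
  have h4 : orderOf d ∣ p := orderOf_dvd_of_pow_eq_one (A.cube.powD d hd)
  have h5 : orderOf k ∣ Nat.card K := by
    have := orderOf_dvd_natCard (⟨k, hk⟩ : ↥K)
    rwa [Subgroup.orderOf_mk] at this
  have hc : (orderOf k).Coprime p := Nat.Coprime.coprime_dvd_left h5 A.hcop
  have h6 : orderOf d = 1 := Nat.Coprime.eq_one_of_dvd (hc.coprime_dvd_left h3) h4
  have hd1 : d = 1 := orderOf_eq_one_iff.mp h6
  rw [hd1, mul_one] at h
  by_contra hk1
  apply hxD
  apply A.hfree k hk hk1 x hx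
  calc k * x = k * x * k⁻¹ * k := by group
    _ = x * k := by rw [h]

/-- the pairing argument: if `a ∈ K` (odd order, `≠ 1`) has the eigenvector `x` modulo `P'`, then
`x` commutes with all its `K`-conjugates -/
theorem commute_of_eigen (A : Act p P K) (hp2 : p ≠ 2) {a k : G} (ha : a ∈ K) (hk : k ∈ K)
    (hak : a * k = k * a) (hodd : Odd (orderOf a)) (ha1 : a ≠ 1) {x d : G} {l : ℕ} (hx : x ∈ P)
    (hxD : x ∉ ⁅P, P⁆) (hd : d ∈ ⁅P, P⁆) (hax : a * x * a⁻¹ = x ^ l * d) :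
    x * (k * x * k⁻¹) = (k * x * k⁻¹) * x := by
  set y := k * x * k⁻¹ with hy
  have hyP : y ∈ P := A.conj_mem hk hx
  have c := A.cube
  have hay : a * y * a⁻¹ = y ^ l * d := by
    have e1 : a * y * a⁻¹ = k * (a * x * a⁻¹) * k⁻¹ := by
      rw [hy]
      have hak2 : k⁻¹ * a⁻¹ = a⁻¹ * k⁻¹ := by
        rw [← mul_inv_rev, ← mul_inv_rev, hak]
      calc a * (k * x * k⁻¹) * a⁻¹ = (a * k) * x * (k⁻¹ * a⁻¹) := by group
        _ = (k * a) * x * (a⁻¹ * k⁻¹) := by rw [hak, hak2]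
        _ = k * (a * x * a⁻¹) * k⁻¹ := by group
    rw [e1, hax]
    calc k * (x ^ l * d) * k⁻¹ = (k * x * k⁻¹) ^ l * (k * d * k⁻¹) := by rw [conj_pow]; group
      _ = y ^ l * d := by rw [A.conj_D hk hd]
  set z := ⁅x, y⁆ with hz
  have hzD : z ∈ ⁅P, P⁆ := Subgroup.commutator_mem_commutator hx hyP
  have hzx : Commute z x := c.central z hzD x hx
  have hzy : Commute z y := c.central z hzD y hyP
  have hz1 : a * z * a⁻¹ = z := A.conj_D ha hzD
  have hz2 : a * z * a⁻¹ = z ^ (l * l) := by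
    have e1 : a * z * a⁻¹ = ⁅a * x * a⁻¹, a * y * a⁻¹⁆ := by
      rw [hz]; simp only [commutatorElement_def]; group
    rw [e1, hax, hay]
    have e2 : ⁅x ^ l * d, y ^ l * d⁆ = ⁅x ^ l, y ^ l⁆ := by
      have hdx : d * x ^ l = x ^ l * d := c.central d hd _ (P.pow_mem hx l)
      have hdy : d * y ^ l = y ^ l * d := c.central d hd _ (P.pow_mem hyP l)
      have hdxi : d * (x ^ l)⁻¹ = (x ^ l)⁻¹ * d := (Commute.inv_right hdx).eq
      simp only [commutatorElement_def, mul_inv_rev]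
      calc x ^ l * d * (y ^ l * d) * (d⁻¹ * (x ^ l)⁻¹) * (d⁻¹ * (y ^ l)⁻¹)
          = x ^ l * (d * y ^ l) * (x ^ l)⁻¹ * d⁻¹ * (y ^ l)⁻¹ := by group
        _ = x ^ l * (y ^ l * d) * (x ^ l)⁻¹ * d⁻¹ * (y ^ l)⁻¹ := by rw [hdy]
        _ = x ^ l * y ^ l * (d * (x ^ l)⁻¹) * d⁻¹ * (y ^ l)⁻¹ := by group
        _ = x ^ l * y ^ l * ((x ^ l)⁻¹ * d) * d⁻¹ * (y ^ l)⁻¹ := by rw [hdxi]
        _ = x ^ l * y ^ l * (x ^ l)⁻¹ * (y ^ l)⁻¹ := by group
    rw [e2, Cfsg.Agent.Helper19.RankTwoStruct.commutator_pow_pow x y hzx hzy l l]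
  rw [← commutatorElement_eq_one_iff_mul_comm]
  by_contra hne
  have hzo : orderOf z = p := orderOf_eq_prime (c.powD z hzD) hne
  have hpow : z ^ (l * l) = z ^ 1 := by rw [← hz2, hz1, pow_one]
  have hmod : l * l ≡ 1 [MOD p] := by
    rw [← hzo]; exact pow_eq_pow_iff_modEq.mp hpow
  have hll : 1 ≤ l * l := by
    rcases Nat.eq_zero_or_pos (l * l) with h0 | h0
    · rw [h0] at hmod
      have := (Nat.modEq_zero_iff_dvd.mp hmod.symm)
      exact absurd (Nat.dvd_one.mp this) hp.out.one_lt.ne'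
    · exact h0
  obtain ⟨t, ht⟩ := (Nat.modEq_iff_dvd' hll).mp hmod.symm
  have hll' : l * l = 1 + p * t := by
    rw [← ht]; exact (Nat.add_sub_cancel' hll).symm
  -- `a * a` fixes `x` modulo `P'`
  have hdl : Commute (x ^ l) d := (c.central d hd _ (P.pow_mem hx l)).symm
  have haa : (a * a) * x * (a * a)⁻¹ = x * ((x ^ p) ^ t * d ^ l * d) := by
    calc (a * a) * x * (a * a)⁻¹ = a * (a * x * a⁻¹) * a⁻¹ := by group
      _ = a * (x ^ l * d) * a⁻¹ := by rw [hax]
      _ = (a * x * a⁻¹) ^ l * (a * d * a⁻¹) := by rw [conj_pow]; group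
      _ = (x ^ l * d) ^ l * d := by rw [hax, A.conj_D ha hd]
      _ = (x ^ l) ^ l * d ^ l * d := by rw [hdl.mul_pow]
      _ = x ^ (l * l) * d ^ l * d := by rw [← pow_mul]
      _ = x * ((x ^ p) ^ t * d ^ l * d) := by
          rw [hll', pow_add, pow_one, pow_mul]; group
  have hd'' : (x ^ p) ^ t * d ^ l * d ∈ ⁅P, P⁆ :=
    mul_mem (mul_mem (Subgroup.pow_mem _ (c.powMem x hx) t) (Subgroup.pow_mem _ hd l)) hd
  have haa1 := A.eq_one_of_conj_eq_mul (mul_mem ha ha) hx hxD hd'' haa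
  have h2 : orderOf a ∣ 2 := orderOf_dvd_of_pow_eq_one (by rw [pow_two]; exact haa1)
  have h3 : orderOf a = 1 := by
    rcases (Nat.dvd_prime Nat.prime_two).mp h2 with h | h
    · exact h
    · rw [h] at hodd; exact absurd hodd (by decide)
  exact ha1 (orderOf_eq_one_iff.mp h3)

end Act

/-- **the extraspecial lemma** -/
theorem extraSpecialNumerics : ExtraSpecialNumerics G := by
  intro p _ hp2 P K hP hna hKP hKc hKodd hcop hcent hfree
  have hpp : p.Prime := Fact.out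
  have c := cube_of hP hna
  have A : Act p P K := ⟨c, hKP, hcop, hcent, hfree⟩
  -- `#K ∣ (p - 1) (p + 1)`
  have h1 : Nat.card K ∣ p ^ 3 - p := by
    have := A.card_dvd_sub c.le le_rfl (fun k hk u hu => A.conj_mem hk hu)
    rwa [hP] at this
  have hp1 : 1 ≤ p := hpp.one_le
  have h2 : Nat.card K ∣ (p - 1) * (p + 1) := by
    have e : p ^ 3 - p = p * ((p - 1) * (p + 1)) := by
      obtain ⟨q, rfl⟩ : ∃ q, p = q + 1 := ⟨p - 1, by omega⟩
      simp only [Nat.add_sub_cancel]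
      have : (q + 1) ^ 3 = (q + 1) * (q * (q + 1 + 1)) + (q + 1) := by ring
      rw [this, Nat.add_sub_cancel]
    rw [e] at h1
    exact hcop.dvd_of_dvd_mul_left h1
  by_cases hex : ∃ r : ℕ, r.Prime ∧ r ∣ Nat.card K ∧ r ∣ p - 1
  · left
    obtain ⟨r, hr, hrK, hrp⟩ := hex
    haveI : Fact r.Prime := ⟨hr⟩
    obtain ⟨a', ha'⟩ := exists_prime_orderOf_dvd_card' (G := ↥K) r hrK
    have hao : orderOf (a' : G) = r := by rw [Subgroup.orderOf_coe]; exact ha'
    have haK : (a' : G) ∈ K := a'.2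
    have ha1 : (a' : G) ≠ 1 := by
      intro h
      rw [h, orderOf_one] at hao
      exact hr.one_lt.ne hao
    have har : (a' : G) ^ r = 1 := by rw [← hao, pow_orderOf_eq_one]
    have hrodd : Odd (orderOf (a' : G)) := by
      rw [hao]
      exact Odd.of_dvd_nat hKodd hrK
    obtain ⟨x, hx, hxD, l, d, hd, hax⟩ := c.exists_eigen (hKP haK) har hrp
    have hKcomm : ∀ u ∈ K, ∀ v ∈ K, u * v = v * u := by
      intro u hu v hv
      letI := IsCyclic.commGroup (α := ↥K)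
      exact congrArg Subtype.val (mul_comm (⟨u, hu⟩ : ↥K) ⟨v, hv⟩)
    have hcomm : ∀ k ∈ K, x * (k * x * k⁻¹) = (k * x * k⁻¹) * x := fun k hk =>
      A.commute_of_eigen hp2 haK hk (hKcomm _ haK k hk) hrodd ha1 hx hxD hd hax
    -- `C_P(x)` is `K`-invariant
    have hinv : ∀ k ∈ K, ∀ u ∈ P ⊓ centralizer ({x} : Set G),
        k * u * k⁻¹ ∈ P ⊓ centralizer ({x} : Set G) := by
      intro k hk u hu
      have hux : x * u = u * x := mem_centralizer_iff.mp hu.2 x rfl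
      obtain ⟨i, e, he, rfl⟩ := c.exists_pow_mul hx hxD hu.1 hux
      refine Subgroup.mem_inf.mpr ⟨A.conj_mem hk hu.1, ?_⟩
      rw [mem_centralizer_iff]
      intro w hw
      rw [Set.mem_singleton_iff] at hw
      subst hw
      have e1 : k * (w ^ i * e) * k⁻¹ = (k * w * k⁻¹) ^ i * e := by
        calc k * (w ^ i * e) * k⁻¹ = (k * w * k⁻¹) ^ i * (k * e * k⁻¹) := by
              rw [conj_pow]; group
          _ = (k * w * k⁻¹) ^ i * e := by rw [A.conj_D hk he]
      rw [e1]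
      have hc1 : Commute w (k * w * k⁻¹) := hcomm k hk
      have hc2 : Commute w e := (c.central e he w hx).symm
      exact ((hc1.pow_right i).mul_right hc2).eq
    have h3 := A.card_dvd_sub (c.D_le_centralizer hx) inf_le_left hinv
    rw [c.card_centralizer hx hxD] at h3
    have e : p ^ 2 - p = p * (p - 1) := by
      obtain ⟨q, rfl⟩ : ∃ q, p = q + 1 := ⟨p - 1, by omega⟩
      simp only [Nat.add_sub_cancel]
      have : (q + 1) ^ 2 = (q + 1) * q + (q + 1) := by ring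
      rw [this, Nat.add_sub_cancel]
    rw [e] at h3
    exact hcop.dvd_of_dvd_mul_left h3
  · right
    have hcop' : (Nat.card K).Coprime (p - 1) :=
      Nat.coprime_of_dvd (fun r hr h1 h2 => hex ⟨r, hr, h1, h2⟩)
    exact hcop'.dvd_of_dvd_mul_left h2

/-- **B&G Theorem 15.7(e), Type V numerics**, unconditional -/
theorem typeV_numerics (hG : Cfsg.IsMinSimpleOddOrder G)
    {M K U : Subgroup G} (hM : IsCoatom M)
    (hKU : Cfsg.IsSigmaDecomposition M K U) (hK1 : K ≠ ⊥) (hU : U = ⊥)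
    (hF : Cfsg.fittingHallOf M = Cfsg.sigmaCore M)
    (hnTI : ¬ Cfsg.IsTISubset (Cfsg.fittingHallOf M : Set G)) :
    (∃ p : ℕ, p.Prime ∧ p ∣ Nat.card (Cfsg.fittingHallOf M) ∧ Nat.card K ∣ p - 1 ∧
        IsCyclic (Cfsg.pPrimeCore p (Cfsg.fittingHallOf M))) ∨
      (∃ p : ℕ, p.Prime ∧ p ∣ Nat.card (Cfsg.fittingHallOf M) ∧
        Nat.card (Cfsg.pCore p (Cfsg.fittingHallOf M)) = p ^ 3 ∧ Nat.card K ∣ p + 1 ∧
        IsCyclic (Cfsg.pPrimeCore p (Cfsg.fittingHallOf M))) :=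
  typeV_numerics_of extraSpecialNumerics hG hM hKU hK1 hU hF hnTI

end Cfsg.Agent.Helper10.BG157
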