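import Mathlib
import Cfsg.Prelude.Def_OddOrderLocal
import Cfsg.Agent.Helper10.BG16E

set_option autoImplicit false
set_option linter.unusedSectionVars false
set_option linter.unusedVariables false
set_option linter.style.haveILetI false

/-! # Type V (S1383) relative to the weak form of B&G 15.7 (the non-TI numerics) -/

namespace Cfsg.Agent.Helper10.BG16

open Subgroup Cfsg
open Cfsg.Agent.H9.BG12 (St1350 sigmaCore_le le_normalizer_sigmaCore)

universe u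

variable {G : Type u} [Group G] [Finite G]

/-- **S1383** (Type V ↔ `K ≠ 1`, `U = 1`, `M_F = M_σ`) relative to the statements of S1350,
S1354-S1356, S1364, S1365, S1370 and the non-TI numerics of B&G 15.7(e)(2,3). -/
theorem s1383_of_weak (h1350 : St1350 G) {M K U : Subgroup G} (hM : IsCoatom M)
    (hKU : Cfsg.IsSigmaDecomposition M K U) (hP : PHyp M K U)
    (hnum : K ≠ ⊥ → U = ⊥ → Cfsg.fittingHallOf M = Cfsg.sigmaCore M →
      ¬ Cfsg.IsTISubset (Cfsg.fittingHallOf M : Set G) →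
      (∃ p : ℕ, p.Prime ∧ p ∣ Nat.card (Cfsg.fittingHallOf M) ∧ Nat.card K ∣ p - 1 ∧
          IsCyclic (Cfsg.pPrimeCore p (Cfsg.fittingHallOf M))) ∨
        (∃ p : ℕ, p.Prime ∧ p ∣ Nat.card (Cfsg.fittingHallOf M) ∧
          Nat.card (Cfsg.pCore p (Cfsg.fittingHallOf M)) = p ^ 3 ∧ Nat.card K ∣ p + 1 ∧
          IsCyclic (Cfsg.pPrimeCore p (Cfsg.fittingHallOf M)))) :
    Cfsg.IsOfTypeV M ↔ (K ≠ ⊥ ∧ U = ⊥ ∧ Cfsg.fittingHallOf M = Cfsg.sigmaCore M) := by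
  obtain ⟨hF1, hFσ, hσM', hM'lt, hnil⟩ := hP.h1355
  obtain ⟨hM''F, hFeq, hFle⟩ := hP.h1356
  constructor
  · rintro ⟨W₁, V, W₂, hT, hV, -⟩
    have hK1 := K_ne_bot_of_typeP h1350 hM hKU hFσ hσM' hT
    obtain ⟨hM'eq, -⟩ := hP.h1365 hK1
    have hM'F : ⁅M, M⁆ ≤ Cfsg.fittingHallOf M := by
      intro m hm
      obtain ⟨a, ha, b, hb, rfl⟩ := hT.U_compl.2.2.2 m hm
      rw [hV, Subgroup.mem_bot] at hb
      rw [hb, mul_one]; exact ha
    refine ⟨hK1, ?_, le_antisymm hFσ (hσM'.trans hM'F)⟩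
    apply sd_U_eq_bot_of_le hKU
    have : U ≤ ⁅M, M⁆ := by rw [hM'eq]; exact le_sup_left
    exact this.trans (hM'F.trans hFσ)
  · rintro ⟨hK1, hU, hFeqσ⟩
    obtain ⟨hM'eq, -⟩ := hP.h1365 hK1
    have hM'F : ⁅M, M⁆ = Cfsg.fittingHallOf M := by
      rw [hM'eq, hU, bot_sup_eq, hFeqσ]
    have hVc : Cfsg.IsComplIn (Cfsg.fittingHallOf M) ⊥ ⁅M, M⁆ := by
      refine ⟨hM'F.ge, bot_le, inf_bot_eq _, ?_⟩
      intro m hm
      exact ⟨m, hM'F ▸ hm, 1, Subgroup.mem_bot.mpr rfl, (mul_one m).symm⟩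
    have hVK : K ≤ normalizer (((⊥ : Subgroup G) : Subgroup G) : Set G) := by
      have : normalizer (((⊥ : Subgroup G) : Subgroup G) : Set G) = ⊤ :=
        Subgroup.normalizer_eq_top_iff.mpr inferInstance
      rw [this]; exact le_top
    have hT := typeP_of h1350 hM hKU hK1 hP (V := ⊥) inferInstance hVK hVc
    refine ⟨K, ⊥, _, hT, rfl, ?_⟩
    by_cases hTI : Cfsg.IsTISubset (Cfsg.fittingHallOf M : Set G)
    · exact Or.inl hTI
    · exact Or.inr (hnum hK1 hU hFeqσ hTI)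

end Cfsg.Agent.Helper10.BG16
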