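import Mathlib
import Cfsg.Prelude.Def_OddOrderLocal
import Cfsg.Agent.Helper10.BG16G
import Cfsg.Agent.Helper27.BG15C
import Cfsg.Agent.Helper29.NilpHall
import Cfsg.Agent.Helper7.Fitting
import Cfsg.Agent.Lead.BG8a
import Cfsg.Agent.Lead.Bender3

/-!
# B&G Theorem C(10) = S1372, conditional on the frozen statements it uses
-/

set_option autoImplicit false
set_option linter.unusedSectionVars false
set_option linter.unusedVariables false

namespace Cfsg.Agent.Helper10.BG16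

open Subgroup Cfsg
open Cfsg.Agent.H9.BG12 (St1350 sigmaCore_le le_normalizer_sigmaCore)

universe u
variable {G : Type u} [Group G] [Finite G] {M K U : Subgroup G}

theorem fittingHallOf_le_fittingOf (A : Subgroup G) : Cfsg.fittingHallOf A ≤ Cfsg.fittingOf A := by
  unfold Cfsg.fittingHallOf Cfsg.fittingOf
  apply Subgroup.map_mono
  exact Cfsg.Agent.Helper7.le_fittingSubgroup (Cfsg.fittingHall_normal ↥A)
    Cfsg.Agent.Helper23.fittingHall_isNilpotent

/-- **S1372**, given `|K|` prime, the frozen statements S1350, S1355, S1360, S1365, S1429 and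
only the PROVABLE inclusion `M' ≤ F(M)` of B&G 15.7(c) (S1440's equality is not needed). -/
theorem s1372_of_weak (hG : Cfsg.IsMinSimpleOddOrder G) (h1350 : St1350 G)
    (h1355 : Cfsg.Agent.Helper27.BG15.St1355 G) (h1360 : Cfsg.Agent.Helper27.BG15.St1360 G)
    (h1365 : Cfsg.Agent.Helper27.BG15.St1365 G) (h1429 : Cfsg.Agent.Helper27.BG15.St1429 G)
    (hM : IsCoatom M) (hKU : Cfsg.IsSigmaDecomposition M K U) (hK1 : K ≠ ⊥) (hU1 : U ≠ ⊥)
    (hKp : (Nat.card K).Prime)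
    (hnonTI : ∀ g : G, g ∉ M →
      Cfsg.fittingOf M ⊓ (Cfsg.fittingOf M).map (MulAut.conj g).toMonoidHom ≠ ⊥ →
      ⁅M, M⁆ ≤ Cfsg.fittingOf M) :
    (Nat.card K).Prime ∧ Cfsg.IsTISubset (Cfsg.fittingOf M : Set G) ∧
      Cfsg.sigmaCore M ≤ Cfsg.fittingOf M := by
  have hFσ : Cfsg.fittingHallOf M = Cfsg.sigmaCore M := by
    by_contra hne
    exact hU1 (Cfsg.Agent.Helper27.BG15.U_eq_bot_of_ne hG (fun M hM => h1350 M hM) h1355 h1429 hM
      hKU hne)
  have hσF : Cfsg.sigmaCore M ≤ Cfsg.fittingOf M := by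
    rw [← hFσ]; exact fittingHallOf_le_fittingOf M
  refine ⟨hKp, ?_, hσF⟩
  intro g hg x hx hgx
  by_contra hx1
  have hgM : g ∉ M := fun h => hg (Cfsg.Agent.Lead.Bender.le_normalizer_fittingOf M h)
  have hX : Cfsg.fittingOf M ⊓ (Cfsg.fittingOf M).map (MulAut.conj g).toMonoidHom ≠ ⊥ := by
    intro h0
    have h1 : g * x * g⁻¹ ∈ Cfsg.fittingOf M ⊓ (Cfsg.fittingOf M).map (MulAut.conj g).toMonoidHom :=
      ⟨hgx, ⟨x, hx, rfl⟩⟩
    rw [h0, Subgroup.mem_bot] at h1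
    apply hx1
    have h2 : x = g⁻¹ * (g * x * g⁻¹) * g := by group
    rw [h2, h1]; group
  have hder := hnonTI g hgM hX
  have hUF : U ≤ Cfsg.fittingOf M := by
    refine le_trans ?_ hder
    rw [(h1365 M hM K U hKU hK1).1]; exact le_sup_left
  obtain ⟨U₀, hU₀U, hexp, hreg⟩ := h1360 M hM K U hKU
  have hU₀1 : U₀ ≠ ⊥ := by
    intro h0
    subst h0
    have h1 : Monoid.exponent ↥(⊥ : Subgroup G) = 1 := Monoid.exp_eq_one_iff.mpr inferInstance
    rw [h1] at hexp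
    have h2 : Subsingleton ↥U := Monoid.exp_eq_one_iff.mp hexp.symm
    exact hU1 (Subgroup.eq_bot_of_subsingleton U)
  obtain ⟨u, hu, hu1⟩ := (Subgroup.ne_bot_iff_exists_ne_one.mp hU₀1 : ∃ a : ↥U₀, a ≠ 1) |>.elim
    (fun a ha => (⟨(a : G), a.2, fun h => ha (Subtype.ext h)⟩ : ∃ u ∈ U₀, u ≠ 1))
  have hσ1 : Cfsg.sigmaCore M ≠ ⊥ := by
    obtain ⟨h1, h2, -⟩ := h1355 M hM
    intro h0
    exact h1 (le_bot_iff.mp (h0 ▸ h2))
  obtain ⟨y, hy, hy1⟩ := (Subgroup.ne_bot_iff_exists_ne_one.mp hσ1 :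
      ∃ a : ↥(Cfsg.sigmaCore M), a ≠ 1) |>.elim
    (fun a ha => (⟨(a : G), a.2, fun h => ha (Subtype.ext h)⟩ : ∃ y ∈ Cfsg.sigmaCore M, y ≠ 1))
  have huU : u ∈ U := hU₀U hu
  have hcomm : u * y = y * u := by
    have : Group.IsNilpotent ↥(Cfsg.fittingOf M) := Cfsg.Agent.Lead.BG8.fittingOf_isNilpotent M
    have hcop : (orderOf (⟨u, hUF huU⟩ : ↥(Cfsg.fittingOf M))).Coprime
        (orderOf (⟨y, hσF hy⟩ : ↥(Cfsg.fittingOf M))) := by
      rw [Subgroup.orderOf_mk, Subgroup.orderOf_mk]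
      have h1 : orderOf u ∣ Nat.card U := by
        have := orderOf_dvd_natCard (⟨u, huU⟩ : ↥U)
        rwa [Subgroup.orderOf_mk] at this
      have h2 : orderOf y ∣ Nat.card (Cfsg.sigmaCore M) := by
        have := orderOf_dvd_natCard (⟨y, hy⟩ : ↥(Cfsg.sigmaCore M))
        rwa [Subgroup.orderOf_mk] at this
      exact Nat.Coprime.coprime_dvd_left h1
        (Nat.Coprime.coprime_dvd_right h2 (sd_coprime_U_sigma h1350 hM hKU))
    have h3 := Cfsg.Agent.Helper29.commute_of_nilpotent_of_coprime_orderOf ↥(Cfsg.fittingOf M)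
      ⟨u, hUF huU⟩ ⟨y, hσF hy⟩ hcop
    exact congrArg Subtype.val h3.eq
  apply hu1
  apply hreg u hu
  exact ⟨Cfsg.Agent.Lead.BG8.fittingOf_le M (hUF huU), y, hy, hy1, hcomm⟩

/-- **S1372**, given `|K|` prime and the frozen statements S1350, S1355, S1360, S1365, S1429,
S1440 (kept for compatibility; prefer `s1372_of_weak`, since S1440's equality `M' = F(M)` is
doubtful for `K = 1`). -/
theorem s1372_of (hG : Cfsg.IsMinSimpleOddOrder G) (h1350 : St1350 G)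
    (h1355 : Cfsg.Agent.Helper27.BG15.St1355 G) (h1360 : Cfsg.Agent.Helper27.BG15.St1360 G)
    (h1365 : Cfsg.Agent.Helper27.BG15.St1365 G) (h1429 : Cfsg.Agent.Helper27.BG15.St1429 G)
    (h1440 : Cfsg.Agent.Helper27.BG15.St1440 G)
    (hM : IsCoatom M) (hKU : Cfsg.IsSigmaDecomposition M K U) (hK1 : K ≠ ⊥) (hU1 : U ≠ ⊥)
    (hKp : (Nat.card K).Prime) :
    (Nat.card K).Prime ∧ Cfsg.IsTISubset (Cfsg.fittingOf M : Set G) ∧
      Cfsg.sigmaCore M ≤ Cfsg.fittingOf M :=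
  s1372_of_weak hG h1350 h1355 h1360 h1365 h1429 hM hKU hK1 hU1 hKp
    (fun g hgM hX => (h1440 M hM K U hKU g hgM hX).2.1.1.le)

end Cfsg.Agent.Helper10.BG16
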