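import Mathlib
import Cfsg.Prelude.Def_OddOrderLocal
import Cfsg.Agent.Helper10.BG16H
import Cfsg.Agent.Helper21.PiClasses
import Cfsg.Agent.Helper7.Layer
import Cfsg.Agent.Helper9.BG12g

/-!
# B&G Theorem C(9) = S1371, conditional on S1350, S1365, S1370, S1430
-/

set_option autoImplicit false
set_option linter.unusedSectionVars false
set_option linter.unusedVariables false

namespace Cfsg.Agent.Helper10.BG16

open Subgroup Cfsg
open Cfsg.Agent.H9.BG12 (St1350 sigmaCore_le le_normalizer_sigmaCore)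
open Cfsg.Agent.Helper14 (cj)
open Cfsg.Agent.Lead (IsPiNum)
open Cfsg.Agent.Helper21.PiClasses (IsPi exists_decomp commute_of_mem_zpowers)

universe u
variable {G : Type u} [Group G] [Finite G] {M K U : Subgroup G}

/-- `U M_σ` is a Hall `κ(M)'`-subgroup of `M` -/
theorem sd_hall_U_sup_sigma (h1350 : St1350 G) (hM : IsCoatom M)
    (hKU : Cfsg.IsSigmaDecomposition M K U) :
    Cfsg.IsPiHallOf (Cfsg.kappa M)ᶜ (U ⊔ Cfsg.sigmaCore M) M := by
  have hle := sd_U_sup_sigma_le hKU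
  have hcard1 := sd_card_U_sup_sigma hKU
  have hrelK := sd_relIndex_K h1350 hM hKU
  have hrel : (U ⊔ Cfsg.sigmaCore M).relIndex M = Nat.card K := by
    have h1 := Cfsg.Agent.Lead.relIndex_mul_card' hle
    rw [sd_card h1350 hM hKU, hcard1] at h1
    have hpos : 0 < Nat.card U * Nat.card (Cfsg.sigmaCore M) :=
      Nat.mul_pos Nat.card_pos Nat.card_pos
    apply Nat.eq_of_mul_eq_mul_right hpos
    rw [h1]; ring
  refine ⟨hle, ?_, ?_⟩
  · intro p hp hd hκ
    apply hKU.hall.2.2 p hp hκ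
    rw [hrelK, ← hcard1]; exact hd
  · intro p hp hκ hd
    rw [hrel] at hd
    exact hκ (hKU.hall.2.1 p hp hd)

/-- **S1371** from S1350, S1365, S1370, S1430. -/
theorem s1371_of (hG : Cfsg.IsMinSimpleOddOrder G) (h1350 : St1350 G)
    (h1365 : Cfsg.Agent.Helper27.BG15.St1365 G) (h1370 : Cfsg.Agent.Helper27.BG15.St1370 G)
    (h1430 : Cfsg.Agent.Helper27.BG15.St1430 G)
    (hM : IsCoatom M) (hKU : Cfsg.IsSigmaDecomposition M K U) (hK1 : K ≠ ⊥) :
    {a : G | ∃ m ∈ M, ∃ z ∈ ((↑(K ⊔ (Cfsg.sigmaCore M ⊓ Subgroup.centralizer (K : Set G))) : Set G) \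
        ((K : Set G) ∪ ↑(Cfsg.sigmaCore M ⊓ Subgroup.centralizer (K : Set G)))), a = m * z * m⁻¹} =
      Cfsg.sigmaA0 M K \ Cfsg.sigmaA M U ∧
      Cfsg.IsTISubset (Cfsg.sigmaA0 M K \ Cfsg.sigmaA M U) := by
  set Ks : Subgroup G := Cfsg.sigmaCore M ⊓ Subgroup.centralizer (K : Set G) with hKsdef
  set M1 : Subgroup G := U ⊔ Cfsg.sigmaCore M with hM1def
  have hKM : K ≤ M := hKU.hall.1
  have hσM : Cfsg.sigmaCore M ≤ M := sigmaCore_le M
  have hKsσ : Ks ≤ Cfsg.sigmaCore M := inf_le_left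
  have hKsC : Ks ≤ centralizer (K : Set G) := inf_le_right
  have hKsM : Ks ≤ M := hKsσ.trans hσM
  have hKsN : Ks ≤ normalizer (K : Set G) := by
    intro y hy
    rw [mem_normalizer_iff]
    intro x
    have hc := mem_centralizer_iff.mp (hKsC hy)
    constructor
    · intro hx
      have : y * x * y⁻¹ = x := by rw [← hc x hx]; group
      rw [this]; exact hx
    · intro hx
      have h1 := hc _ hx
      have h3 : y * x = y * (y * x * y⁻¹) := by rw [← h1]; group
      have : x = y * x * y⁻¹ := mul_left_cancel h3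
      rw [this]; exact hx
  have hcomm : ∀ k ∈ K, ∀ y ∈ Ks, k * y = y * k := fun k hk y hy =>
    mem_centralizer_iff.mp (hKsC hy) k hk
  have hKinfσ : K ⊓ Cfsg.sigmaCore M = ⊥ := sd_K_inf_sigma h1350 hM hKU
  have hM1K : M1 ⊓ K = ⊥ := sd_sup_inf_K h1350 hM hKU
  have hder : ⁅M, M⁆ = M1 := (h1365 M hM K U hKU hK1).1
  have hM1n : M ≤ normalizer (M1 : Set G) := by
    rw [← hder]
    exact Cfsg.Agent.Helper27.BG15.le_normalizer_commutator_of_le le_normalizer le_normalizer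
  have hM1M : M1 ≤ M := sd_U_sup_sigma_le hKU
  have hσM1 : Cfsg.sigmaCore M ≤ M1 := le_sup_right
  have hcop : (Nat.card K).Coprime (Nat.card (Cfsg.sigmaCore M)) := sd_coprime_K_sigma h1350 hM hKU
  have hZ : ∀ x : G, x ∈ K ⊔ Ks ↔ ∃ k ∈ K, ∃ y ∈ Ks, k * y = x := fun x =>
    Cfsg.Agent.Helper7.mem_sup_of_le_normalizer hKsN
  obtain ⟨-, -, hN⟩ := h1430 M hM K hKU.hall hK1
  have hMsolv : Group.IsSolvable M := isSolvable_coatom hG hM
  have hKσ1 : ∀ x : G, x ∈ K → x ∈ Cfsg.sigmaCore M → x = 1 := by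
    intro x h1 h2
    have : x ∈ K ⊓ Cfsg.sigmaCore M := ⟨h1, h2⟩
    rwa [hKinfσ, Subgroup.mem_bot] at this
  -- decomposition of elements of `Ẑ`
  have hdec : ∀ z : G, z ∈ ((↑(K ⊔ Ks) : Set G) \ ((K : Set G) ∪ ↑Ks)) →
      ∃ k ∈ K, ∃ y ∈ Ks, k ≠ 1 ∧ y ≠ 1 ∧ k * y = z := by
    rintro z ⟨hz1, hz2⟩
    obtain ⟨k, hk, y, hy, hky⟩ := (hZ z).mp hz1
    refine ⟨k, hk, y, hy, ?_, ?_, hky⟩
    · rintro rfl
      apply hz2; right
      rw [← hky, one_mul]; exact hy
    · rintro rfl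
      apply hz2; left
      rw [← hky, mul_one]; exact hk
  have hmemZhat : ∀ k ∈ K, ∀ y ∈ Ks, k ≠ 1 → y ≠ 1 →
      k * y ∈ ((↑(K ⊔ Ks) : Set G) \ ((K : Set G) ∪ ↑Ks)) := by
    intro k hk y hy hk1 hy1
    refine ⟨(hZ _).mpr ⟨k, hk, y, hy, rfl⟩, ?_⟩
    rintro (h | h)
    · apply hy1
      have hyK : y ∈ K := by
        have := K.mul_mem (K.inv_mem hk) h
        rwa [inv_mul_cancel_left] at this
      exact hKσ1 y hyK (hKsσ hy)
    · apply hk1
      have hkKs : k ∈ Ks := by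
        have := Ks.mul_mem h (Ks.inv_mem hy)
        rwa [mul_inv_cancel_right] at this
      exact hKσ1 k hk (hKsσ hkKs)
  have hset : {a : G | ∃ m ∈ M, ∃ z ∈ ((↑(K ⊔ Ks) : Set G) \ ((K : Set G) ∪ ↑Ks)), a = m * z * m⁻¹} =
      Cfsg.sigmaA0 M K \ Cfsg.sigmaA M U := by
    ext a
    constructor
    · rintro ⟨m, hm, z, hz, rfl⟩
      obtain ⟨k, hk, y, hy, hk1, hy1, rfl⟩ := hdec z hz
      have hzM : k * y ∈ M := M.mul_mem (hKM hk) (hKsM hy)
      have haM : m * (k * y) * m⁻¹ ∈ M := M.mul_mem (M.mul_mem hm hzM) (M.inv_mem hm)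
      have hyσ : m * y * m⁻¹ ∈ Cfsg.sigmaCore M :=
        (mem_normalizer_iff.mp (le_normalizer_sigmaCore M hm) y).mp (hKsσ hy)
      have hy1' : m * y * m⁻¹ ≠ 1 := by
        intro h0
        apply hy1
        have : y = m⁻¹ * (m * y * m⁻¹) * m := by group
        rw [this, h0]; group
      have hc : m * (k * y) * m⁻¹ * (m * y * m⁻¹) = m * y * m⁻¹ * (m * (k * y) * m⁻¹) := by
        have h1 : k * y * y = y * (k * y) := by
          rw [← mul_assoc, ← hcomm k hk y hy]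
        calc m * (k * y) * m⁻¹ * (m * y * m⁻¹) = m * (k * y * y) * m⁻¹ := by group
          _ = m * (y * (k * y)) * m⁻¹ := by rw [h1]
          _ = m * y * m⁻¹ * (m * (k * y) * m⁻¹) := by group
      have hσhat : m * (k * y) * m⁻¹ ∈ Cfsg.sigmaHat M := ⟨haM, _, hyσ, hy1', hc⟩
      refine ⟨⟨hσhat, ?_⟩, ?_⟩
      · rintro ⟨k', hk', hk'1, m', hm', ha⟩
        apply hy1
        -- `(k y)^n = 1` with `n = |K|`
        have hpow : (k * y) ^ Nat.card K = 1 := by
          have h1 : k * y = (m⁻¹ * m') * k' * (m⁻¹ * m')⁻¹ := by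
            have : k * y = m⁻¹ * (m * (k * y) * m⁻¹) * m := by group
            rw [this, ha]; group
          rw [h1, conj_pow]
          have h2 : k' ^ Nat.card K = 1 := by
            have := pow_card_eq_one' (G := ↥K) (x := ⟨k', hk'⟩)
            exact congrArg Subtype.val this
          rw [h2]; group
        have hcm : Commute k y := hcomm k hk y hy
        rw [hcm.mul_pow] at hpow
        have hkn : k ^ Nat.card K = 1 := by
          have := pow_card_eq_one' (G := ↥K) (x := ⟨k, hk⟩)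
          exact congrArg Subtype.val this
        rw [hkn, one_mul] at hpow
        have ho1 : orderOf y ∣ Nat.card K := orderOf_dvd_of_pow_eq_one hpow
        have ho2 : orderOf y ∣ Nat.card (Cfsg.sigmaCore M) := by
          have := orderOf_dvd_natCard (⟨y, hKsσ hy⟩ : ↥(Cfsg.sigmaCore M))
          rwa [Subgroup.orderOf_mk] at this
        have ho : orderOf y = 1 := Nat.eq_one_of_dvd_coprimes hcop ho1 ho2
        exact orderOf_eq_one_iff.mp ho
      · rintro ⟨-, haM1⟩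
        apply hk1
        have hzM1 : k * y ∈ M1 := (mem_normalizer_iff.mp (hM1n hm) (k * y)).mpr haM1
        have hkM1 : k ∈ M1 := by
          have := M1.mul_mem hzM1 (M1.inv_mem (hσM1 (hKsσ hy)))
          rwa [mul_inv_cancel_right] at this
        have : k ∈ M1 ⊓ K := ⟨hkM1, hk⟩
        rwa [hM1K, Subgroup.mem_bot] at this
    · rintro ⟨⟨hσhat, hnc⟩, hnA⟩
      have haM : a ∈ M := hσhat.1
      have haM1 : a ∉ M1 := fun h => hnA ⟨hσhat, h⟩
      obtain ⟨s, t, hst, hs, ht, hsπ, htπ, -⟩ := exists_decomp (Cfsg.kappa M) a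
      have hzaM : zpowers a ≤ M := zpowers_le.mpr haM
      have hsM : s ∈ M := hzaM hs
      have htM : t ∈ M := hzaM ht
      -- conjugate `s` into `K`
      have hsnum : IsPiNum (Cfsg.kappa M) (Nat.card (zpowers s)) := by
        intro q hq hd
        rw [Nat.card_zpowers] at hd
        exact hsπ q hq hd
      obtain ⟨m, hm, hmK⟩ := Cfsg.Agent.H9.BG12.exists_conj_le_of_hall hMsolv hKU.hall
        (zpowers_le.mpr hsM) hsnum
      have hk : m * s * m⁻¹ ∈ K := hmK ⟨s, mem_zpowers s, rfl⟩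
      -- `t ∈ M1`
      have htnum : IsPiNum (Cfsg.kappa M)ᶜ (Nat.card (zpowers t)) := by
        intro q hq hd
        rw [Nat.card_zpowers] at hd
        exact htπ q hq hd
      obtain ⟨m', hm', hmM1⟩ := Cfsg.Agent.H9.BG12.exists_conj_le_of_hall hMsolv
        (sd_hall_U_sup_sigma h1350 hM hKU) (zpowers_le.mpr htM) htnum
      have htM1 : t ∈ M1 := by
        have h1 : m' * t * m'⁻¹ ∈ M1 := hmM1 ⟨t, mem_zpowers t, rfl⟩
        exact (mem_normalizer_iff.mp (hM1n hm') t).mpr h1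
      have ht'M1 : m * t * m⁻¹ ∈ M1 := (mem_normalizer_iff.mp (hM1n hm) t).mp htM1
      have ht'M : m * t * m⁻¹ ∈ M := hM1M ht'M1
      -- `k ≠ 1`
      have hk1 : m * s * m⁻¹ ≠ 1 := by
        intro h0
        apply haM1
        have hs1 : s = 1 := by
          have : s = m⁻¹ * (m * s * m⁻¹) * m := by group
          rw [this, h0]; group
        rw [← hst, hs1, one_mul]; exact htM1
      -- `t'` commutes with `k`
      have hst_comm : s * t = t * s := by
        have h1 : a * t = t * a := by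
          have := commute_of_mem_zpowers ht (rfl : a * a = a * a)
          exact this.symm
        exact commute_of_mem_zpowers hs h1
      have hkt : (m * s * m⁻¹) * (m * t * m⁻¹) = (m * t * m⁻¹) * (m * s * m⁻¹) := by
        calc (m * s * m⁻¹) * (m * t * m⁻¹) = m * (s * t) * m⁻¹ := by group
          _ = m * (t * s) * m⁻¹ := by rw [hst_comm]
          _ = (m * t * m⁻¹) * (m * s * m⁻¹) := by group
      -- `t' ∈ N_M(X) = K Ks`
      obtain ⟨X, hXk, hXp⟩ := exists_prime_card_le_zpowers hk1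
      have hXK : X ≤ K := hXk.trans (zpowers_le.mpr hk)
      obtain ⟨hNX, -, -⟩ := hN X hXK hXp
      have ht'N : m * t * m⁻¹ ∈ normalizer (X : Set G) := by
        rw [mem_normalizer_iff]
        intro x
        have hcx : ∀ x ∈ X, (m * t * m⁻¹) * x * (m * t * m⁻¹)⁻¹ = x := by
          intro x hx
          have h1 : x * (m * t * m⁻¹) = (m * t * m⁻¹) * x := commute_of_mem_zpowers (hXk hx) hkt
          rw [← h1]; group
        constructor
        · intro hx; rw [hcx x hx]; exact hx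
        · intro hx
          have h1 := hcx _ hx
          have h2 : (m * t * m⁻¹) * x * (m * t * m⁻¹)⁻¹ = x := by
            have h3 : (m * t * m⁻¹) * ((m * t * m⁻¹) * x * (m * t * m⁻¹)⁻¹) * (m * t * m⁻¹)⁻¹ =
                (m * t * m⁻¹) * x * (m * t * m⁻¹)⁻¹ := h1
            have h4 : (m * t * m⁻¹) * ((m * t * m⁻¹) * x * (m * t * m⁻¹)⁻¹) =
                (m * t * m⁻¹) * x := by
              have := congrArg (· * (m * t * m⁻¹)) h3
              simpa [mul_assoc] using this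
            have h5 := mul_left_cancel h4
            exact h5
          rw [← h2]; exact hx
      have ht'Z : m * t * m⁻¹ ∈ K ⊔ Ks := by
        rw [← hNX]; exact ⟨ht'M, ht'N⟩
      obtain ⟨k2, hk2, y2, hy2, hky2⟩ := (hZ _).mp ht'Z
      have hk21 : k2 = 1 := by
        have hk2M1 : k2 ∈ M1 := by
          have h1 : k2 = (m * t * m⁻¹) * y2⁻¹ := by rw [← hky2]; group
          rw [h1]
          exact M1.mul_mem ht'M1 (M1.inv_mem (hσM1 (hKsσ hy2)))
        have : k2 ∈ M1 ⊓ K := ⟨hk2M1, hk2⟩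
        rwa [hM1K, Subgroup.mem_bot] at this
      have ht'Ks : m * t * m⁻¹ ∈ Ks := by
        rw [← hky2, hk21, one_mul]; exact hy2
      have ht'1 : m * t * m⁻¹ ≠ 1 := by
        intro h0
        apply hnc
        refine ⟨m * s * m⁻¹, hk, hk1, m⁻¹, M.inv_mem hm, ?_⟩
        have ht1 : t = 1 := by
          have : t = m⁻¹ * (m * t * m⁻¹) * m := by group
          rw [this, h0]; group
        rw [← hst, ht1, mul_one]; group
      refine ⟨m⁻¹, M.inv_mem hm, (m * s * m⁻¹) * (m * t * m⁻¹),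
        hmemZhat _ hk _ ht'Ks hk1 ht'1, ?_⟩
      rw [← hst]; group
  refine ⟨hset, ?_⟩
  rw [← hset]
  obtain ⟨hTI, hNZ⟩ := h1370 M hM K U hKU hK1
  intro g hg x hx hgx
  exfalso
  apply hg
  obtain ⟨m1, hm1, z1, hz1, rfl⟩ := hx
  obtain ⟨m2, hm2, z2, hz2, hgx'⟩ := hgx
  -- `w = m2⁻¹ g m1` conjugates `z1` to `z2`
  have hw : (m2⁻¹ * g * m1) * z1 * (m2⁻¹ * g * m1)⁻¹ = z2 := by
    have : z2 = m2⁻¹ * (m2 * z2 * m2⁻¹) * m2 := by group
    rw [this, ← hgx']; group
  have hz11 : z1 ≠ 1 := by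
    rintro rfl
    exact hz1.2 (Or.inl K.one_mem)
  have hwN : m2⁻¹ * g * m1 ∈ Subgroup.normalizer ((↑(K ⊔ Ks) : Set G) \ ((K : Set G) ∪ ↑Ks)) := by
    by_contra hnot
    exact hz11 (hTI _ hnot z1 hz1 (hw ▸ hz2))
  rw [hNZ] at hwN
  have hwM : m2⁻¹ * g * m1 ∈ M := (sup_le hKM hKsM) hwN
  have hgM : g ∈ M := by
    have : g = m2 * (m2⁻¹ * g * m1) * m1⁻¹ := by group
    rw [this]
    exact M.mul_mem (M.mul_mem hm2 hwM) (M.inv_mem hm1)
  -- `M` normalizes the set
  rw [Subgroup.mem_set_normalizer_iff]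
  intro x
  constructor
  · rintro ⟨m, hm, z, hz, rfl⟩
    exact ⟨g * m, M.mul_mem hgM hm, z, hz, by group⟩
  · rintro ⟨m, hm, z, hz, hx⟩
    refine ⟨g⁻¹ * m, M.mul_mem (M.inv_mem hgM) hm, z, hz, ?_⟩
    have : x = g⁻¹ * (g * x * g⁻¹) * g := by group
    rw [this, hx]; group

end Cfsg.Agent.Helper10.BG16
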