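import Mathlib

/-!
# Babai's minimal degree bound, part A: orbitals, distinguishing sets, connectivity

`PR G a b c d` : the ordered pairs `(a,b)` and `(c,d)` are in the same `G`-orbit.
`Dset G x y` : the set of points `z` with `(z,x)` and `(z,y)` in different orbits.
-/

set_option autoImplicit false

namespace Cfsg.Agent.Helper10.Babai

open MulAction

variable (G : Type*) {Ω : Type*} [Group G] [MulAction G Ω]

/-- `(a,b)` and `(c,d)` lie in the same orbit of `G` on ordered pairs. -/
def PR (a b c d : Ω) : Prop := ∃ g : G, g • a = c ∧ g • b = d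

variable {G}

lemma PR.refl (a b : Ω) : PR G a b a b := ⟨1, one_smul _ _, one_smul _ _⟩

lemma PR.symm {a b c d : Ω} (h : PR G a b c d) : PR G c d a b := by
  obtain ⟨g, h1, h2⟩ := h
  exact ⟨g⁻¹, by rw [← h1, inv_smul_smul], by rw [← h2, inv_smul_smul]⟩

lemma PR.trans {a b c d e f : Ω} (h : PR G a b c d) (h' : PR G c d e f) : PR G a b e f := by
  obtain ⟨g, h1, h2⟩ := h
  obtain ⟨g', h3, h4⟩ := h'
  exact ⟨g' * g, by rw [mul_smul, h1, h3], by rw [mul_smul, h2, h4]⟩

lemma PR.smul (g : G) (a b : Ω) : PR G a b (g • a) (g • b) := ⟨g, rfl, rfl⟩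

lemma PR.smul_iff (g : G) (a b c d : Ω) : PR G (g • a) (g • b) c d ↔ PR G a b c d :=
  ⟨fun h => (PR.smul g a b).trans h, fun h => (PR.smul g a b).symm.trans h⟩

lemma PR.smul_iff' (g : G) (a b c d : Ω) : PR G a b (g • c) (g • d) ↔ PR G a b c d :=
  ⟨fun h => h.trans (PR.smul g c d).symm, fun h => h.trans (PR.smul g c d)⟩

lemma PR.eq_of_diag {a c d : Ω} (h : PR G a a c d) : c = d := by
  obtain ⟨g, h1, h2⟩ := h
  rw [← h1, ← h2]

lemma PR.eq_of_diag' {a b c : Ω} (h : PR G a b c c) : a = b := h.symm.eq_of_diag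

lemma PR.swap {a b c d : Ω} (h : PR G a b c d) : PR G b a d c := by
  obtain ⟨g, h1, h2⟩ := h
  exact ⟨g, h2, h1⟩

/-- symmetrised orbital graph of the pair `(a,b)` -/
def Adj (G : Type*) {Ω : Type*} [Group G] [MulAction G Ω] (a b u v : Ω) : Prop :=
  PR G a b u v ∨ PR G a b v u

lemma Adj.symm {a b u v : Ω} (h : Adj G a b u v) : Adj G a b v u := Or.symm h

lemma Adj.smul {a b u v : Ω} (h : Adj G a b u v) (g : G) : Adj G a b (g • u) (g • v) := by
  rcases h with h | h
  · exact Or.inl ((PR.smul_iff' g a b u v).2 h)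
  · exact Or.inr ((PR.smul_iff' g a b v u).2 h)

lemma Adj.of_smul {a b u v : Ω} (g : G) (h : Adj G a b (g • u) (g • v)) : Adj G a b u v := by
  have := h.smul g⁻¹
  simpa using this

lemma Adj.ne {a b u v : Ω} (hab : a ≠ b) (h : Adj G a b u v) : u ≠ v := by
  rintro rfl
  rcases h with h | h <;> exact hab h.eq_of_diag'

lemma Adj.base (a b : Ω) : Adj G a b a b := Or.inl (PR.refl a b)

/-- Connectivity of the orbital graphs of a primitive group, in "closed set" form. -/
theorem conn [IsPreprimitive G Ω] {a b : Ω} (hab : a ≠ b) (S : Set Ω) (hne : S.Nonempty)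
    (hcl : ∀ u ∈ S, ∀ v, Adj G a b u v → v ∈ S) : S = Set.univ := by
  classical
  set R : Ω → Ω → Prop := Relation.ReflTransGen (Adj G a b) with hR
  have Rsymm : ∀ u v, R u v → R v u := by
    intro u v h
    induction h with
    | refl => exact Relation.ReflTransGen.refl
    | tail _ h2 ih => exact Relation.ReflTransGen.head h2.symm ih
  have Rsmul : ∀ (g : G) u v, R u v → R (g • u) (g • v) := by
    intro g u v h
    induction h with
    | refl => exact Relation.ReflTransGen.refl
    | tail _ h2 ih => exact Relation.ReflTransGen.tail ih (h2.smul g)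
  set B : Set Ω := {v | R a v} with hB
  have hblock : IsBlock G B := by
    rw [isBlock_iff_smul_eq_of_mem]
    intro g c hc hgc
    -- R a c, R a (g • c)
    have h1 : R (g • a) (g • c) := Rsmul g _ _ hc
    have h2 : R a (g • a) := Relation.ReflTransGen.trans hgc (Rsymm _ _ h1)
    ext v
    constructor
    · rintro ⟨w, hw, rfl⟩
      exact Relation.ReflTransGen.trans h2 (Rsmul g _ _ hw)
    · intro hv
      refine ⟨g⁻¹ • v, ?_, by simp⟩
      have h3 : R (g • a) v := Relation.ReflTransGen.trans (Rsymm _ _ h2) hv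
      have := Rsmul g⁻¹ _ _ h3
      show R a (g⁻¹ • v)
      simpa using this
  have htriv := IsPreprimitive.isTrivialBlock_of_isBlock hblock
  have hBuniv : B = Set.univ := by
    rcases htriv with h | h
    · exfalso
      apply hab
      apply h
      · exact Relation.ReflTransGen.refl
      · exact Relation.ReflTransGen.single (Adj.base a b)
    · exact h
  obtain ⟨s, hs⟩ := hne
  have hclR : ∀ v, R s v → v ∈ S := by
    intro v h
    induction h with
    | refl => exact hs
    | tail _ h2 ih => exact hcl _ ih _ h2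
  apply Set.eq_univ_of_forall
  intro v
  apply hclR
  have h1 : R a s := by
    have : s ∈ B := by rw [hBuniv]; trivial
    exact this
  have h2 : R a v := by
    have : v ∈ B := by rw [hBuniv]; trivial
    exact this
  exact Relation.ReflTransGen.trans (Rsymm _ _ h1) h2

section Dsets

variable [Fintype Ω] [DecidableEq Ω]

open Classical in
/-- the set of points distinguishing `x` and `y` -/
noncomputable def Dset (G : Type*) {Ω : Type*} [Group G] [MulAction G Ω] [Fintype Ω] (x y : Ω) :
    Finset Ω :=
  Finset.univ.filter (fun z => ¬ PR G z x z y)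

lemma mem_Dset {x y z : Ω} : z ∈ Dset G x y ↔ ¬ PR G z x z y := by
  classical
  simp [Dset]

lemma Dset_symm (x y : Ω) : Dset G x y = Dset G y x := by
  ext z
  simp only [mem_Dset]
  exact not_congr ⟨PR.symm, PR.symm⟩

lemma Dset_triangle (x y z : Ω) : Dset G x z ⊆ Dset G x y ∪ Dset G y z := by
  classical
  intro w hw
  rw [Finset.mem_union, mem_Dset, mem_Dset]
  rw [mem_Dset] at hw
  by_contra hcon
  push Not at hcon
  exact hw (hcon.1.trans hcon.2)

lemma Dset_smul (g : G) (x y : Ω) :
    Dset G (g • x) (g • y) = (Dset G x y).image (fun z => g • z) := by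
  classical
  ext z
  simp only [mem_Dset, Finset.mem_image]
  constructor
  · intro h
    refine ⟨g⁻¹ • z, ?_, by simp⟩
    intro h'
    apply h
    have := (PR.smul_iff' g _ _ _ _).2 ((PR.smul_iff g _ _ _ _).2 h')
    simpa using this
  · rintro ⟨w, hw, rfl⟩ h'
    apply hw
    exact (PR.smul_iff' g _ _ _ _).1 ((PR.smul_iff g _ _ _ _).1 h')

lemma card_Dset_smul (g : G) (x y : Ω) : (Dset G (g • x) (g • y)).card = (Dset G x y).card := by
  classical
  rw [Dset_smul, Finset.card_image_of_injective _ (MulAction.injective g)]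

lemma card_Dset_of_PR {a b u v : Ω} (h : PR G a b u v) : (Dset G u v).card = (Dset G a b).card := by
  obtain ⟨g, rfl, rfl⟩ := h
  exact card_Dset_smul g a b

lemma card_Dset_of_Adj {a b u v : Ω} (h : Adj G a b u v) :
    (Dset G u v).card = (Dset G a b).card := by
  rcases h with h | h
  · exact card_Dset_of_PR h
  · rw [Dset_symm]; exact card_Dset_of_PR h

lemma left_mem_Dset {x y : Ω} (hxy : x ≠ y) : x ∈ Dset G x y := by
  rw [mem_Dset]
  intro h
  exact hxy h.eq_of_diag

lemma right_mem_Dset {x y : Ω} (hxy : x ≠ y) : y ∈ Dset G x y := by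
  rw [Dset_symm]
  exact left_mem_Dset hxy.symm

/-- points fixed by `g` do not distinguish `x` from `g • x` -/
lemma not_mem_Dset_of_fixed (g : G) (x z : Ω) (hz : g • z = z) : z ∉ Dset G x (g • x) := by
  rw [mem_Dset, not_not]
  exact ⟨g, hz, rfl⟩

end Dsets

end Cfsg.Agent.Helper10.Babai
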