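import Cfsg.Agent.Helper10.BabaiA

/-!
# Babai's minimal degree bound, part B: the "large diameter" case
-/

set_option autoImplicit false

namespace Cfsg.Agent.Helper10.Babai

open MulAction

variable {G : Type*} {Ω : Type*} [Group G] [MulAction G Ω] [Fintype Ω] [DecidableEq Ω]

open Classical in
/-- neighbours of `u` in the symmetrised orbital graph of `(a,b)` -/
noncomputable def Nb (G : Type*) {Ω : Type*} [Group G] [MulAction G Ω] [Fintype Ω]
    (a b u : Ω) : Finset Ω :=
  Finset.univ.filter (fun v => Adj G a b u v)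

omit [DecidableEq Ω] in
lemma mem_Nb {a b u v : Ω} : v ∈ Nb G a b u ↔ Adj G a b u v := by
  classical
  simp [Nb]

lemma Nb_smul (g : G) (a b u : Ω) :
    Nb G a b (g • u) = (Nb G a b u).image (fun z => g • z) := by
  ext v
  simp only [mem_Nb, Finset.mem_image]
  constructor
  · intro h
    refine ⟨g⁻¹ • v, ?_, by simp⟩
    have := h.smul g⁻¹
    simpa using this
  · rintro ⟨w, hw, rfl⟩
    exact hw.smul g

lemma card_Nb_eq [IsPretransitive G Ω] (a b u u' : Ω) :
    (Nb G a b u).card = (Nb G a b u').card := by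
  obtain ⟨g, rfl⟩ := MulAction.exists_smul_eq G u' u
  rw [Nb_smul, Finset.card_image_of_injective _ (MulAction.injective g)]

/-- a pair at distance three is distinguished by both closed neighbourhoods -/
lemma caseB_far [IsPretransitive G Ω] {a b : Ω} (hab : a ≠ b) {u w p q : Ω}
    (h1 : Adj G a b u p) (h2 : Adj G a b p q) (h3 : Adj G a b q w)
    (hne : u ≠ w) (hnadj : ¬ Adj G a b u w) (hn2 : ¬ ∃ z, Adj G a b u z ∧ Adj G a b z w) :
    2 * ((Nb G a b a).card + 1) ≤ 3 * (Dset G a b).card := by
  classical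
  set m := (Dset G a b).card with hm
  have hD : (Dset G u w).card ≤ 3 * m := by
    have e1 : (Dset G u w).card ≤ (Dset G u p).card + (Dset G p w).card :=
      (Finset.card_le_card (Dset_triangle u p w)).trans (Finset.card_union_le _ _)
    have e2 : (Dset G p w).card ≤ (Dset G p q).card + (Dset G q w).card :=
      (Finset.card_le_card (Dset_triangle p q w)).trans (Finset.card_union_le _ _)
    rw [card_Dset_of_Adj h1] at e1
    rw [card_Dset_of_Adj h2, card_Dset_of_Adj h3] at e2
    omega
  have hsub : insert u (Nb G a b u) ∪ insert w (Nb G a b w) ⊆ Dset G u w := by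
    intro z hz
    rw [mem_Dset]
    rintro ⟨g, hgz, hgu⟩
    rw [Finset.mem_union, Finset.mem_insert, Finset.mem_insert, mem_Nb, mem_Nb] at hz
    rcases hz with (rfl | hz) | (rfl | hz)
    · exact hne (hgz.symm.trans hgu)
    · -- Adj u z, so Adj w z
      have := hz.smul g
      rw [hgz, hgu] at this
      exact hn2 ⟨z, hz, this.symm⟩
    · -- z = w : g w = w, g u = w
      have : g • u = g • z := by rw [hgu, hgz]
      exact hne (MulAction.injective g this)
    · -- Adj w z, apply g⁻¹
      have := hz.smul g⁻¹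
      have hu' : g⁻¹ • w = u := by rw [← hgu, inv_smul_smul]
      have hz' : g⁻¹ • z = z := by rw [inv_smul_eq_iff, hgz]
      rw [hu', hz'] at this
      exact hn2 ⟨z, this, hz.symm⟩
  have hdisj : Disjoint (insert u (Nb G a b u)) (insert w (Nb G a b w)) := by
    rw [Finset.disjoint_left]
    intro z hz1 hz2
    rw [Finset.mem_insert, mem_Nb] at hz1 hz2
    rcases hz1 with rfl | hz1 <;> rcases hz2 with rfl | hz2
    · exact hne rfl
    · exact hnadj hz2.symm
    · exact hnadj hz1
    · exact hn2 ⟨z, hz1, hz2.symm⟩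
  have hu : u ∉ Nb G a b u := by
    rw [mem_Nb]; intro h; exact h.ne hab rfl
  have hw : w ∉ Nb G a b w := by
    rw [mem_Nb]; intro h; exact h.ne hab rfl
  have hcard := Finset.card_le_card hsub
  rw [Finset.card_union_of_disjoint hdisj, Finset.card_insert_of_notMem hu,
    Finset.card_insert_of_notMem hw, card_Nb_eq a b u a, card_Nb_eq a b w a] at hcard
  omega

/-- the distinguishing sets of the edges at `a` cover everything -/
lemma caseB_cover [IsPreprimitive G Ω] {a b : Ω} (hab : a ≠ b) :
    Fintype.card Ω ≤ (Nb G a b a).card * (Dset G a b).card := by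
  classical
  set U : Finset Ω := (Nb G a b a).biUnion (fun y => Dset G a y) with hU
  have haU : a ∈ U := by
    rw [hU, Finset.mem_biUnion]
    exact ⟨b, mem_Nb.2 (Adj.base a b), left_mem_Dset hab⟩
  have hUuniv : U = Finset.univ := by
    rw [Finset.eq_univ_iff_forall]
    intro z
    by_contra hz
    have hz' : ∀ y, Adj G a b a y → PR G z a z y := by
      intro y hy
      by_contra hcon
      apply hz
      rw [hU, Finset.mem_biUnion]
      exact ⟨y, mem_Nb.2 hy, mem_Dset.2 hcon⟩
    have hS : {y : Ω | PR G z a z y} = Set.univ := by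
      apply conn (G := G) hab
      · exact ⟨a, PR.refl z a⟩
      · rintro u ⟨g, hgz, hgu⟩ v huv
        -- Adj u v, u = g a; so Adj a (g⁻¹ v)
        have h1 : Adj G a b a (g⁻¹ • v) := by
          have := huv.smul g⁻¹
          rwa [← hgu, inv_smul_smul] at this
        obtain ⟨g', hg'z, hg'a⟩ := hz' _ h1
        refine ⟨g * g', ?_, ?_⟩
        · rw [mul_smul, hg'z, hgz]
        · rw [mul_smul, hg'a, smul_inv_smul]
    have hzz : PR G z a z z := by
      have : z ∈ {y : Ω | PR G z a z y} := by rw [hS]; trivial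
      exact this
    have hza : z = a := PR.eq_of_diag' hzz
    exact hz (by rw [hza]; exact haU)
  calc Fintype.card Ω = U.card := by rw [hUuniv, Finset.card_univ]
    _ ≤ ∑ y ∈ Nb G a b a, (Dset G a y).card := Finset.card_biUnion_le
    _ = ∑ _y ∈ Nb G a b a, (Dset G a b).card := by
        apply Finset.sum_congr rfl
        intro y hy
        exact card_Dset_of_Adj (mem_Nb.1 hy)
    _ = (Nb G a b a).card * (Dset G a b).card := by
        rw [Finset.sum_const, smul_eq_mul]

omit [Fintype Ω] [DecidableEq Ω] in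
/-- if the orbital graph does not have diameter at most two, there is a geodesic of length three -/
lemma exists_far [IsPreprimitive G Ω] {a b : Ω} (hab : a ≠ b)
    (h : ¬ ∀ u v : Ω, u = v ∨ Adj G a b u v ∨ ∃ z, Adj G a b u z ∧ Adj G a b z v) :
    ∃ u p q w : Ω, Adj G a b u p ∧ Adj G a b p q ∧ Adj G a b q w ∧ u ≠ w ∧ ¬ Adj G a b u w ∧
      ¬ ∃ z, Adj G a b u z ∧ Adj G a b z w := by
  classical
  push Not at h
  obtain ⟨u, v, huv, hadj, h2⟩ := h
  set B : Set Ω := {w | u = w ∨ Adj G a b u w ∨ ∃ z, Adj G a b u z ∧ Adj G a b z w} with hB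
  have hBne : B ≠ Set.univ := by
    intro hcon
    have : v ∈ B := by rw [hcon]; trivial
    rcases this with h | h | ⟨z, h, h'⟩
    · exact huv h
    · exact hadj h
    · exact h2 z h h'
  have hncl : ¬ ∀ w ∈ B, ∀ w', Adj G a b w w' → w' ∈ B := by
    intro hcl
    exact hBne (conn hab B ⟨u, Or.inl rfl⟩ hcl)
  push Not at hncl
  obtain ⟨w1, hw1, w2, h12, hw2⟩ := hncl
  have hw2' : ¬ (u = w2 ∨ Adj G a b u w2 ∨ ∃ z, Adj G a b u z ∧ Adj G a b z w2) := hw2
  push Not at hw2'
  rcases hw1 with rfl | h | ⟨z, hz1, hz2⟩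
  · exact absurd h12 hw2'.2.1
  · exact absurd h12 (hw2'.2.2 w1 h)
  · exact ⟨u, z, w1, w2, hz1, hz2, h12, hw2'.1, hw2'.2.1, fun ⟨z', h1, h2⟩ => hw2'.2.2 z' h1 h2⟩

/-- Case B: the bound when the orbital graph has diameter at least three. -/
theorem caseB [IsPreprimitive G Ω] {a b : Ω} (hab : a ≠ b)
    (h : ¬ ∀ u v : Ω, u = v ∨ Adj G a b u v ∨ ∃ z, Adj G a b u z ∧ Adj G a b z v) :
    Fintype.card Ω ≤ (2 * (Dset G a b).card + 1) ^ 2 := by
  obtain ⟨u, p, q, w, h1, h2, h3, hne, hnadj, hn2⟩ := exists_far hab h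
  have e1 := caseB_far hab h1 h2 h3 hne hnadj hn2
  have e2 := caseB_cover (G := G) hab
  set k := (Nb G a b a).card
  set m := (Dset G a b).card
  nlinarith [Nat.zero_le k, Nat.zero_le m]

end Cfsg.Agent.Helper10.Babai
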