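import Cfsg.Agent.Helper10.BabaiB

set_option autoImplicit false

namespace Cfsg.Agent.Helper10.Babai

open MulAction

variable {G : Type*} {Ω : Type*} [Group G] [MulAction G Ω] [Fintype Ω] [DecidableEq Ω]

open Classical in
/-- the points `y` with `(z,y)` in the orbit of `(z,a)` -/
noncomputable def Oset (G : Type*) {Ω : Type*} [Group G] [MulAction G Ω] [Fintype Ω]
    (z a : Ω) : Finset Ω :=
  Finset.univ.filter (fun y => PR G z a z y)

open Classical in
/-- the points `y` with `(z,y)` not in the orbit of `(z,a)` -/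
noncomputable def Wset (G : Type*) {Ω : Type*} [Group G] [MulAction G Ω] [Fintype Ω]
    (z a : Ω) : Finset Ω :=
  Finset.univ.filter (fun y => ¬ PR G z a z y)

omit [DecidableEq Ω] in
lemma mem_Oset {z a y : Ω} : y ∈ Oset G z a ↔ PR G z a z y := by
  classical
  simp [Oset]

omit [DecidableEq Ω] in
lemma mem_Wset {z a y : Ω} : y ∈ Wset G z a ↔ ¬ PR G z a z y := by
  classical
  simp [Wset]

omit [DecidableEq Ω] in
lemma card_Oset_add_card_Wset (z a : Ω) :
    (Oset G z a).card + (Wset G z a).card = Fintype.card Ω := by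
  classical
  unfold Oset Wset
  rw [Finset.card_filter_add_card_filter_not, Finset.card_univ]

lemma sum_card_Dset (a : Ω) :
    ∑ y ∈ Finset.univ.erase a, (Dset G a y).card = ∑ z : Ω, (Wset G z a).card := by
  classical
  have h := Finset.sum_card_bipartiteAbove_eq_sum_card_bipartiteBelow
    (s := Finset.univ.erase a) (t := (Finset.univ : Finset Ω)) (fun y z => ¬ PR G z a z y)
  have e1 : ∀ y ∈ Finset.univ.erase a,
      ((Finset.univ : Finset Ω).bipartiteAbove (fun y z => ¬ PR G z a z y) y).card
        = (Dset G a y).card := by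
    intro y _
    congr 1
  have e2 : ∀ z ∈ (Finset.univ : Finset Ω),
      ((Finset.univ.erase a).bipartiteBelow (fun y z => ¬ PR G z a z y) z).card
        = (Wset G z a).card := by
    intro z _
    congr 1
    ext y
    simp only [Finset.bipartiteBelow, Finset.mem_filter, Finset.mem_erase, Finset.mem_univ,
      and_true, mem_Wset]
    constructor
    · exact fun h => h.2
    · intro h
      refine ⟨?_, h⟩
      rintro rfl
      exact h (PR.refl _ _)
  rw [← Finset.sum_congr rfl e1, h, Finset.sum_congr rfl e2]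


lemma Wset_self (a : Ω) : Wset G a a = Finset.univ.erase a := by
  classical
  ext y
  simp only [mem_Wset, Finset.mem_erase, Finset.mem_univ, and_true]
  constructor
  · rintro h rfl
    exact h (PR.refl _ _)
  · intro h h'
    exact h h'.eq_of_diag.symm

/-- if all pairs through `a` have small distinguishing number, some point stabiliser has a
large orbit -/
lemma exists_big_orbit {a : Ω} {m : ℕ} (hn : 2 ≤ Fintype.card Ω)
    (hD : ∀ y, y ≠ a → (Dset G a y).card ≤ 2 * m) :
    ∃ z, z ≠ a ∧ Fintype.card Ω + 1 ≤ (Oset G z a).card + 2 * m := by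
  classical
  by_contra hcon
  push Not at hcon
  have hW : ∀ z ∈ Finset.univ.erase a, 2 * m ≤ (Wset G z a).card := by
    intro z hz
    have h1 := hcon z (Finset.ne_of_mem_erase hz)
    have h2 := card_Oset_add_card_Wset (G := G) z a
    omega
  have hsum := sum_card_Dset (G := G) a
  have hle : ∑ y ∈ Finset.univ.erase a, (Dset G a y).card
      ≤ ∑ _y ∈ Finset.univ.erase a, 2 * m :=
    Finset.sum_le_sum (fun y hy => hD y (Finset.ne_of_mem_erase hy))
  have hge : ∑ _z ∈ Finset.univ.erase a, 2 * m ≤ ∑ z ∈ Finset.univ.erase a, (Wset G z a).card :=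
    Finset.sum_le_sum hW
  have hsplit : ∑ z : Ω, (Wset G z a).card
      = (Wset G a a).card + ∑ z ∈ Finset.univ.erase a, (Wset G z a).card := by
    exact (Finset.add_sum_erase _ (fun z => (Wset G z a).card) (Finset.mem_univ a)).symm
  have hWa : (Wset G a a).card = Fintype.card Ω - 1 := by
    rw [Wset_self, Finset.card_erase_of_mem (Finset.mem_univ a), Finset.card_univ]
  rw [Finset.sum_const, smul_eq_mul] at hle hge
  omega

open Classical in
/-- in-valency equals out-valency for an orbital of a transitive group -/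
lemma card_in_eq_card_out [IsPretransitive G Ω] (z a : Ω) :
    (Finset.univ.filter (fun t => PR G z a t z)).card = (Oset G z a).card := by
  classical
  have h := Finset.sum_card_bipartiteAbove_eq_sum_card_bipartiteBelow
    (s := (Finset.univ : Finset Ω)) (t := (Finset.univ : Finset Ω)) (fun u v => PR G z a u v)
  have e1 : ∀ u ∈ (Finset.univ : Finset Ω),
      ((Finset.univ : Finset Ω).bipartiteAbove (fun u v => PR G z a u v) u).card
        = (Oset G z a).card := by
    intro u _
    obtain ⟨g, rfl⟩ := MulAction.exists_smul_eq G z u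
    have : (Finset.univ : Finset Ω).bipartiteAbove (fun u v => PR G z a u v) (g • z)
        = (Oset G z a).image (fun y => g • y) := by
      ext v
      simp only [Finset.bipartiteAbove, Finset.mem_filter, Finset.mem_univ, true_and,
        Finset.mem_image, mem_Oset]
      constructor
      · intro hv
        refine ⟨g⁻¹ • v, ?_, by simp⟩
        have := (PR.smul_iff' g⁻¹ z a (g • z) v).2 hv
        simpa using this
      · rintro ⟨w, hw, rfl⟩
        exact (PR.smul_iff' g z a z w).2 hw
    rw [this, Finset.card_image_of_injective _ (MulAction.injective g)]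
  have e2 : ∀ v ∈ (Finset.univ : Finset Ω),
      ((Finset.univ : Finset Ω).bipartiteBelow (fun u v => PR G z a u v) v).card
        = (Finset.univ.filter (fun t => PR G z a t z)).card := by
    intro v _
    obtain ⟨g, rfl⟩ := MulAction.exists_smul_eq G z v
    have : (Finset.univ : Finset Ω).bipartiteBelow (fun u v => PR G z a u v) (g • z)
        = (Finset.univ.filter (fun t => PR G z a t z)).image (fun y => g • y) := by
      ext u
      simp only [Finset.bipartiteBelow, Finset.mem_filter, Finset.mem_univ, true_and,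
        Finset.mem_image]
      constructor
      · intro hu
        refine ⟨g⁻¹ • u, ?_, by simp⟩
        have := (PR.smul_iff' g⁻¹ z a u (g • z)).2 hu
        simpa using this
      · rintro ⟨w, hw, rfl⟩
        exact (PR.smul_iff' g z a w z).2 hw
    rw [this, Finset.card_image_of_injective _ (MulAction.injective g)]
  rw [Finset.sum_congr rfl e1, Finset.sum_congr rfl e2, Finset.sum_const, Finset.sum_const,
    smul_eq_mul, smul_eq_mul] at h
  have hpos : 0 < (Finset.univ : Finset Ω).card := Finset.card_pos.2 ⟨z, Finset.mem_univ z⟩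
  exact (Nat.eq_of_mul_eq_mul_left hpos h).symm

omit [Fintype Ω] [DecidableEq Ω] in
/-- without 2-transitivity every point stabiliser has at least two orbits on the other points -/
lemma exists_not_PR [IsPretransitive G Ω]
    (h2t : ¬ ∀ p q r s : Ω, p ≠ q → r ≠ s → PR G p q r s) (z a : Ω) :
    ∃ t, t ≠ z ∧ ¬ PR G z a z t := by
  push Not at h2t
  obtain ⟨p, q, r, s, hpq, hrs, hn⟩ := h2t
  obtain ⟨g1, hg1⟩ := MulAction.exists_smul_eq G p z
  obtain ⟨g2, hg2⟩ := MulAction.exists_smul_eq G r z
  have hq : g1 • q ≠ z := by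
    rw [← hg1]; exact fun h => hpq (MulAction.injective g1 h).symm
  have hs : g2 • s ≠ z := by
    rw [← hg2]; exact fun h => hrs (MulAction.injective g2 h).symm
  by_contra hcon
  push Not at hcon
  have h1 := hcon _ hq
  have h2 := hcon _ hs
  have h3 : PR G z (g1 • q) z (g2 • s) := h1.symm.trans h2
  rw [← hg1] at h3
  have h4 := (PR.smul_iff g1 p q _ _).1 h3
  rw [hg1, ← hg2] at h4
  exact hn ((PR.smul_iff' g2 p q r s).1 h4)

/-- the complement of the (symmetrised) orbital of `(z,a)` -/
def Dl (G : Type*) {Ω : Type*} [Group G] [MulAction G Ω] (z a u v : Ω) : Prop :=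
  u ≠ v ∧ ¬ PR G z a u v ∧ ¬ PR G z a v u

omit [Fintype Ω] [DecidableEq Ω] in
lemma Dl.symm {z a u v : Ω} (h : Dl G z a u v) : Dl G z a v u := ⟨h.1.symm, h.2.2, h.2.1⟩

omit [Fintype Ω] [DecidableEq Ω] in
lemma Dl.smul {z a u v : Ω} (h : Dl G z a u v) (g : G) : Dl G z a (g • u) (g • v) :=
  ⟨fun h' => h.1 (MulAction.injective g h'), fun h' => h.2.1 ((PR.smul_iff' g _ _ _ _).1 h'),
    fun h' => h.2.2 ((PR.smul_iff' g _ _ _ _).1 h')⟩

omit [Fintype Ω] [DecidableEq Ω] in
lemma Dl_of_Adj {z a u0 v0 p q : Ω} (h0 : Dl G z a u0 v0) (h : Adj G u0 v0 p q) :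
    Dl G z a p q := by
  rcases h with h | h
  · obtain ⟨g, rfl, rfl⟩ := h
    exact h0.smul g
  · obtain ⟨g, rfl, rfl⟩ := h
    exact (h0.smul g).symm

open Classical in
/-- neighbours in the complement graph -/
noncomputable def DlNb (G : Type*) {Ω : Type*} [Group G] [MulAction G Ω] [Fintype Ω]
    (z a u : Ω) : Finset Ω :=
  Finset.univ.filter (fun v => Dl G z a u v)

omit [DecidableEq Ω] in
lemma mem_DlNb {z a u v : Ω} : v ∈ DlNb G z a u ↔ Dl G z a u v := by
  classical
  simp [DlNb]

lemma DlNb_smul (g : G) (z a u : Ω) :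
    DlNb G z a (g • u) = (DlNb G z a u).image (fun y => g • y) := by
  ext v
  simp only [mem_DlNb, Finset.mem_image]
  constructor
  · intro h
    refine ⟨g⁻¹ • v, ?_, by simp⟩
    have := h.smul g⁻¹
    simpa using this
  · rintro ⟨w, hw, rfl⟩
    exact hw.smul g

lemma card_DlNb_eq [IsPretransitive G Ω] (z a u u' : Ω) :
    (DlNb G z a u).card = (DlNb G z a u').card := by
  obtain ⟨g, rfl⟩ := MulAction.exists_smul_eq G u' u
  rw [DlNb_smul, Finset.card_image_of_injective _ (MulAction.injective g)]

/-- sub-case A1: the complement graph has an edge -/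
lemma caseA1 [IsPreprimitive G Ω] {z a : Ω} (hza : z ≠ a) (hE : ∃ u v, Dl G z a u v) (ρ : ℕ)
    (hρ : (DlNb G z a z).card ≤ ρ) : (Oset G z a).card ≤ ρ * ρ := by
  classical
  obtain ⟨u0, v0, h0⟩ := hE
  by_cases h2p : ∃ w, Dl G z a z w ∧ Dl G z a w a
  · obtain ⟨w, hw1, hw2⟩ := h2p
    have hsub : Oset G z a ⊆ (DlNb G z a z).biUnion (fun w => DlNb G z a w) := by
      intro y hy
      rw [mem_Oset] at hy
      obtain ⟨g, hgz, hga⟩ := hy
      rw [Finset.mem_biUnion]
      refine ⟨g • w, ?_, ?_⟩
      · rw [mem_DlNb]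
        have := hw1.smul g
        rwa [hgz] at this
      · rw [mem_DlNb]
        have := hw2.smul g
        rwa [hga] at this
    calc (Oset G z a).card ≤ ((DlNb G z a z).biUnion (fun w => DlNb G z a w)).card :=
          Finset.card_le_card hsub
      _ ≤ ∑ w ∈ DlNb G z a z, (DlNb G z a w).card := Finset.card_biUnion_le
      _ = ∑ _w ∈ DlNb G z a z, (DlNb G z a z).card :=
          Finset.sum_congr rfl (fun w _ => card_DlNb_eq z a w z)
      _ = (DlNb G z a z).card * (DlNb G z a z).card := by rw [Finset.sum_const, smul_eq_mul]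
      _ ≤ ρ * ρ := Nat.mul_le_mul hρ hρ
  · exfalso
    have hS : {v : Ω | v = z ∨ Dl G z a z v} = Set.univ := by
      apply conn (G := G) h0.1
      · exact ⟨z, Or.inl rfl⟩
      · intro u hu v huv
        have huv' : Dl G z a u v := Dl_of_Adj h0 huv
        rcases hu with rfl | hu
        · exact Or.inr huv'
        · by_contra hcon
          have hcon' : ¬ (v = z ∨ Dl G z a z v) := hcon
          push Not at hcon'
          obtain ⟨hvz, hnd⟩ := hcon'
          have hPQ : PR G z a z v ∨ PR G z a v z := by
            by_contra hh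
            push Not at hh
            exact hnd ⟨fun h => hvz h.symm, hh.1, hh.2⟩
          rcases hPQ with ⟨g, hgz, hga⟩ | ⟨g, hgz, hga⟩
          · apply h2p
            refine ⟨g⁻¹ • u, ?_, ?_⟩
            · have := hu.smul g⁻¹
              rwa [show g⁻¹ • z = z by rw [inv_smul_eq_iff, hgz]] at this
            · have := huv'.smul g⁻¹
              rwa [show g⁻¹ • v = a by rw [inv_smul_eq_iff, hga]] at this
          · apply h2p
            refine ⟨g⁻¹ • u, ?_, ?_⟩
            · have := huv'.symm.smul g⁻¹
              rwa [show g⁻¹ • v = z by rw [inv_smul_eq_iff, hgz]] at this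
            · have := hu.symm.smul g⁻¹
              rwa [show g⁻¹ • z = a by rw [inv_smul_eq_iff, hga]] at this
    have ha : a = z ∨ Dl G z a z a := by
      have : a ∈ {v : Ω | v = z ∨ Dl G z a z v} := by rw [hS]; trivial
      exact this
    rcases ha with ha | ha
    · exact hza ha.symm
    · exact ha.2.1 (PR.refl z a)

/-- sub-case A2: the complement graph is empty (tournament case) -/
lemma caseA2 [IsPretransitive G Ω] {z a : Ω} (hza : z ≠ a) (hE : ¬ ∃ u v, Dl G z a u v)
    (T : Finset Ω) (hT : ∀ t, t ∈ T ↔ (t ≠ z ∧ ¬ PR G z a z t)) (hTne : T.Nonempty) :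
    (Oset G z a).card = T.card := by
  classical
  push Not at hE
  have hE' : ∀ u v : Ω, u ≠ v → PR G z a u v ∨ PR G z a v u := by
    intro u v huv
    by_contra hh
    push Not at hh
    exact hE u v ⟨huv, hh.1, hh.2⟩
  rw [← card_in_eq_card_out]
  apply congrArg Finset.card
  ext t
  simp only [Finset.mem_filter, Finset.mem_univ, true_and, hT]
  constructor
  · intro ht
    have htz : t ≠ z := by
      rintro rfl
      exact hza ht.eq_of_diag'
    refine ⟨htz, ?_⟩
    intro ht'
    -- the orbital is self-paired, so T is empty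
    obtain ⟨t', ht'T⟩ := hTne
    rw [hT] at ht'T
    have h1 : PR G z a t' z := by
      rcases hE' z t' ht'T.1.symm with h | h
      · exact absurd h ht'T.2
      · exact h
    -- (z,a) ~ (t',z), (z,a) ~ (z,t) ~ (t,z): so (z,t') ~ (z,a)
    apply ht'T.2
    -- PR z a z t' : from (t', z) ~ (z,a) ~ (t, z); swap: (z,t') ~ (z,t) ~ (z,a)
    have h2 : PR G t' z t z := h1.symm.trans ht
    have h3 : PR G z t' z t := h2.swap
    exact ht'.trans h3.symm
  · rintro ⟨htz, ht⟩
    rcases hE' z t htz.symm with h | h
    · exact absurd h ht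
    · exact h

end Cfsg.Agent.Helper10.Babai
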