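import Cfsg.Agent.Helper10.BabaiC

/-!
# Babai's minimal degree bound, part D: the uniprimitive case assembled
-/

set_option autoImplicit false

namespace Cfsg.Agent.Helper10.Babai

open MulAction

variable {G : Type*} {Ω : Type*} [Group G] [MulAction G Ω] [Fintype Ω] [DecidableEq Ω]

/-- Case A: the orbital graph of `(a,b)` has diameter at most two. -/
theorem caseA [IsPreprimitive G Ω] {a b : Ω} (hab : a ≠ b)
    (h2t : ¬ ∀ p q r s : Ω, p ≠ q → r ≠ s → PR G p q r s)
    (h : ∀ u v : Ω, u = v ∨ Adj G a b u v ∨ ∃ z, Adj G a b u z ∧ Adj G a b z v) :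
    Fintype.card Ω ≤ (2 * (Dset G a b).card + 1) ^ 2 := by
  classical
  set m := (Dset G a b).card with hm
  have hn : 2 ≤ Fintype.card Ω := by
    have : Nontrivial Ω := ⟨a, b, hab⟩
    exact Fintype.one_lt_card
  have hD : ∀ y, y ≠ a → (Dset G a y).card ≤ 2 * m := by
    intro y hy
    rcases h a y with h1 | h1 | ⟨z, h1, h2⟩
    · exact absurd h1.symm hy
    · rw [card_Dset_of_Adj h1]; omega
    · have := (Finset.card_le_card (Dset_triangle (G := G) a z y)).trans (Finset.card_union_le _ _)
      rw [card_Dset_of_Adj h1, card_Dset_of_Adj h2] at this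
      omega
  obtain ⟨z, hza, hbig⟩ := exists_big_orbit hn hD
  set T : Finset Ω := Finset.univ.filter (fun t => t ≠ z ∧ ¬ PR G z a z t) with hTdef
  have hT : ∀ t, t ∈ T ↔ (t ≠ z ∧ ¬ PR G z a z t) := by
    intro t; simp [hTdef]
  have hzW : ¬ PR G z a z z := fun h => hza h.eq_of_diag'
  have hW : Wset G z a = insert z T := by
    ext y
    simp only [mem_Wset, Finset.mem_insert, hT]
    constructor
    · intro hy
      by_cases hyz : y = z
      · left; exact hyz
      · right; exact ⟨hyz, hy⟩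
    · rintro (rfl | ⟨_, hy⟩)
      · exact hzW
      · exact hy
  have hzT : z ∉ T := by
    rw [hT]; exact fun h => h.1 rfl
  have hcard : (Oset G z a).card + (T.card + 1) = Fintype.card Ω := by
    have := card_Oset_add_card_Wset (G := G) z a
    rwa [hW, Finset.card_insert_of_notMem hzT] at this
  have hTne : T.Nonempty := by
    obtain ⟨t, ht1, ht2⟩ := exists_not_PR h2t z a
    exact ⟨t, (hT t).2 ⟨ht1, ht2⟩⟩
  have hsubT : DlNb G z a z ⊆ T := by
    intro v hv
    rw [mem_DlNb] at hv
    rw [hT]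
    exact ⟨hv.1.symm, hv.2.1⟩
  have hρ := Finset.card_le_card hsubT
  by_cases hE : ∃ u v, Dl G z a u v
  · have hK := caseA1 hza hE T.card hρ
    nlinarith
  · have hK := caseA2 hza hE T hT hTne
    nlinarith

/-- **Babai's bound on distinguishing numbers** for a primitive, not doubly transitive group. -/
theorem card_le_sq_Dset [IsPreprimitive G Ω]
    (h2t : ¬ ∀ p q r s : Ω, p ≠ q → r ≠ s → PR G p q r s) {a b : Ω} (hab : a ≠ b) :
    Fintype.card Ω ≤ (2 * (Dset G a b).card + 1) ^ 2 := by
  by_cases h : ∀ u v : Ω, u = v ∨ Adj G a b u v ∨ ∃ z, Adj G a b u z ∧ Adj G a b z v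
  · exact caseA hab h2t h
  · exact caseB hab h

/-- minimal degree bound in the uniprimitive case -/
theorem card_le_sq_moved [IsPreprimitive G Ω]
    (h2t : ¬ ∀ p q r s : Ω, p ≠ q → r ≠ s → PR G p q r s) (g : G) (x : Ω) (hx : g • x ≠ x) :
    Fintype.card Ω ≤ (2 * (Finset.univ.filter (fun z : Ω => g • z ≠ z)).card + 1) ^ 2 := by
  have h1 := card_le_sq_Dset h2t (Ne.symm hx)
  have hsub : Dset G x (g • x) ⊆ Finset.univ.filter (fun z : Ω => g • z ≠ z) := by
    intro z hz
    rw [Finset.mem_filter]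
    refine ⟨Finset.mem_univ _, fun hfix => ?_⟩
    exact not_mem_Dset_of_fixed g x z hfix hz
  have h2 := Finset.card_le_card hsub
  calc Fintype.card Ω ≤ (2 * (Dset G x (g • x)).card + 1) ^ 2 := h1
    _ ≤ _ := by
      apply Nat.pow_le_pow_left
      omega

end Cfsg.Agent.Helper10.Babai
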