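import Cfsg.Agent.Helper10.BabaiD

/-!
# Babai's minimal degree bound, part E: the doubly transitive case
-/

set_option autoImplicit false

namespace Cfsg.Agent.Helper10.Babai

open MulAction

/-- number of group elements carrying `a` to `b` -/
lemma card_transporter {H X : Type*} [Group H] [Fintype H] [MulAction H X] [DecidableEq X]
    (a b : X) (hb : b ∈ orbit H a) :
    (Finset.univ.filter (fun h : H => h • a = b)).card * (orbit H a).ncard = Fintype.card H := by
  classical
  obtain ⟨h0, rfl⟩ := hb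
  have e : (Finset.univ.filter (fun h : H => h • a = h0 • a)).card
      = Nat.card (stabilizer H a) := by
    rw [Nat.card_eq_fintype_card, Fintype.card_subtype]
    apply Finset.card_nbij' (fun h => h0⁻¹ * h) (fun s => h0 * s)
    · intro h hh
      simp only [Finset.coe_filter, Finset.mem_univ, true_and, Set.mem_ofPred_eq] at hh ⊢
      rw [mem_stabilizer_iff, mul_smul, hh, inv_smul_smul]
    · intro s hs
      simp only [Finset.coe_filter, Finset.mem_univ, true_and, Set.mem_ofPred_eq] at hs ⊢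
      rw [mul_smul, mem_stabilizer_iff.1 hs]
    · intro h _; simp
    · intro s _; simp
  have h1 := Subgroup.card_mul_index (stabilizer H a)
  rw [index_stabilizer] at h1
  rw [e, h1, Nat.card_eq_fintype_card]

/-- Neumann's separation lemma (finite version) -/
lemma neumann_sep {H X : Type*} [Group H] [Finite H] [MulAction H X] [DecidableEq X]
    (A B : Finset X) (x0 : X) (hA : ∀ a ∈ A, a ∈ orbit H x0) (hB : ∀ b ∈ B, b ∈ orbit H x0)
    (hlt : A.card * B.card < (orbit H x0).ncard) : ∃ h : H, ∀ a ∈ A, h • a ∉ B := by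
  classical
  have := Fintype.ofFinite H
  by_contra hcon
  push Not at hcon
  set N := (orbit H x0).ncard with hN
  have hF : ∀ p ∈ A ×ˢ B, (Finset.univ.filter (fun h : H => h • p.1 = p.2)).card * N
      = Fintype.card H := by
    intro p hp
    rw [Finset.mem_product] at hp
    have h1 : orbit H p.1 = orbit H x0 := orbit_eq_iff.2 (hA _ hp.1)
    have h2 : p.2 ∈ orbit H p.1 := by rw [h1]; exact hB _ hp.2
    have := card_transporter (H := H) p.1 p.2 h2
    rwa [h1] at this
  have hcover : (Finset.univ : Finset H) ⊆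
      (A ×ˢ B).biUnion (fun p => Finset.univ.filter (fun h : H => h • p.1 = p.2)) := by
    intro h _
    obtain ⟨a, ha, hb⟩ := hcon h
    rw [Finset.mem_biUnion]
    exact ⟨(a, h • a), Finset.mem_product.2 ⟨ha, hb⟩, by simp⟩
  have h1 : Fintype.card H ≤ ∑ p ∈ A ×ˢ B,
      (Finset.univ.filter (fun h : H => h • p.1 = p.2)).card := by
    rw [← Finset.card_univ]
    exact (Finset.card_le_card hcover).trans Finset.card_biUnion_le
  have h2 : Fintype.card H * N ≤ (A.card * B.card) * Fintype.card H := by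
    calc Fintype.card H * N
        ≤ (∑ p ∈ A ×ˢ B, (Finset.univ.filter (fun h : H => h • p.1 = p.2)).card) * N :=
          Nat.mul_le_mul_right _ h1
      _ = ∑ p ∈ A ×ˢ B, (Finset.univ.filter (fun h : H => h • p.1 = p.2)).card * N :=
          Finset.sum_mul _ _ _
      _ = ∑ _p ∈ A ×ˢ B, Fintype.card H := Finset.sum_congr rfl hF
      _ = (A.card * B.card) * Fintype.card H := by
          rw [Finset.sum_const, smul_eq_mul, Finset.card_product]
  have hpos : 0 < Fintype.card H := Fintype.card_pos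
  have : N ≤ A.card * B.card := by
    rw [mul_comm] at h2
    exact Nat.le_of_mul_le_mul_right h2 hpos
  omega


/-- two permutations whose supports meet in exactly one point have a 3-cycle as commutator -/
lemma commutator_isThreeCycle {α : Type*} [Fintype α] [DecidableEq α] (σ τ : Equiv.Perm α) (a : α)
    (hσ : σ a ≠ a) (hτ : τ a ≠ a) (h : ∀ p, σ p ≠ p → τ p ≠ p → p = a) :
    (σ * τ * σ⁻¹ * τ⁻¹).IsThreeCycle := by
  have ais : ∀ (f : Equiv.Perm α) (x : α), f (f⁻¹ x) = x := fun f x => by simp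
  have ias : ∀ (f : Equiv.Perm α) (x : α), f⁻¹ (f x) = x := fun f x => by simp
  have fσ : ∀ q, τ q ≠ q → q ≠ a → σ q = q := by
    intro q h1 h2
    by_contra h3
    exact h2 (h q h3 h1)
  have fτ : ∀ q, σ q ≠ q → q ≠ a → τ q = q := by
    intro q h1 h2
    by_contra h3
    exact h2 (h q h1 h3)
  have fσi : ∀ q, τ q ≠ q → q ≠ a → σ⁻¹ q = q := by
    intro q h1 h2
    rw [Equiv.Perm.inv_eq_iff_eq, fσ q h1 h2]
  have fτi : ∀ q, σ q ≠ q → q ≠ a → τ⁻¹ q = q := by
    intro q h1 h2
    rw [Equiv.Perm.inv_eq_iff_eq, fτ q h1 h2]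
  have mσ : ∀ q, σ q ≠ q → σ (σ q) ≠ σ q := fun q hq hh => hq (σ.injective hh)
  have mτ : ∀ q, τ q ≠ q → τ (τ q) ≠ τ q := fun q hq hh => hq (τ.injective hh)
  have mσi : ∀ q, σ q ≠ q → σ (σ⁻¹ q) ≠ σ⁻¹ q := by
    intro q hq hh
    rw [ais] at hh
    apply hq
    have h' := congrArg σ hh
    rw [ais] at h'
    exact h'
  have mτi : ∀ q, τ q ≠ q → τ (τ⁻¹ q) ≠ τ⁻¹ q := by
    intro q hq hh
    rw [ais] at hh
    apply hq
    have h' := congrArg τ hh
    rw [ais] at h'
    exact h'
  have hne : τ a ≠ σ a := by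
    intro hh
    have h1 : σ (σ a) ≠ σ a := mσ a hσ
    have h2 : τ (σ a) ≠ σ a := by rw [← hh]; exact mτ a hτ
    exact hσ (h _ h1 h2)
  have hσia : σ⁻¹ a ≠ a := by
    intro hh
    rw [Equiv.Perm.inv_eq_iff_eq] at hh
    exact hσ hh.symm
  have hτia : τ⁻¹ a ≠ a := by
    intro hh
    rw [Equiv.Perm.inv_eq_iff_eq] at hh
    exact hτ hh.symm
  have key : σ * τ * σ⁻¹ * τ⁻¹ = Equiv.swap a (τ a) * Equiv.swap a (σ a) := by
    ext p
    simp only [Equiv.Perm.mul_apply]
    by_cases hpa : p = a
    · subst hpa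
      rw [Equiv.swap_apply_left, Equiv.swap_apply_of_ne_of_ne hσ hne.symm]
      rw [fσi (τ⁻¹ p) (mτi p hτ) hτia, ais]
    by_cases hps : p = σ a
    · subst hps
      rw [Equiv.swap_apply_right, Equiv.swap_apply_left]
      rw [fτi (σ a) (mσ a hσ) hσ, ias, fσ (τ a) (mτ a hτ) hτ]
    by_cases hpt : p = τ a
    · subst hpt
      rw [Equiv.swap_apply_of_ne_of_ne hτ hne, Equiv.swap_apply_right]
      rw [ias, fτ (σ⁻¹ a) (mσi a hσ) hσia, ais]
    rw [Equiv.swap_apply_of_ne_of_ne hpa hps, Equiv.swap_apply_of_ne_of_ne hpa hpt]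
    by_cases h1 : τ p = p
    · have h1' : τ⁻¹ p = p := by rw [Equiv.Perm.inv_eq_iff_eq, h1]
      rw [h1']
      by_cases h2 : σ p = p
      · have h2' : σ⁻¹ p = p := by rw [Equiv.Perm.inv_eq_iff_eq, h2]
        rw [h2', h1, h2]
      · have h3 : σ⁻¹ p ≠ a := by
          intro hh
          rw [Equiv.Perm.inv_eq_iff_eq] at hh
          exact hps hh
        rw [fτ (σ⁻¹ p) (mσi p h2) h3, ais]
    · have h2 : σ p = p := fσ p h1 hpa
      have h3 : τ⁻¹ p ≠ a := by
        intro hh
        rw [Equiv.Perm.inv_eq_iff_eq] at hh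
        exact hpt hh
      rw [fσi (τ⁻¹ p) (mτi p h1) h3, ais, h2]
  rw [key]
  exact Equiv.Perm.isThreeCycle_swap_mul_swap_same (Ne.symm hτ) (Ne.symm hσ) hne


/-- minimal degree bound in the doubly transitive case -/
theorem card_le_sq_moved_two_trans {G Ω : Type*} [Group G] [Finite G] [MulAction G Ω] [Fintype Ω]
    [DecidableEq Ω] [IsPreprimitive G Ω]
    (h2t : ∀ p q r s : Ω, p ≠ q → r ≠ s → PR G p q r s)
    (hA : ¬ alternatingGroup Ω ≤ (MulAction.toPermHom G Ω).range) (g : G) (x : Ω)
    (hx : g • x ≠ x) :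
    Fintype.card Ω ≤ (2 * (Finset.univ.filter (fun z : Ω => g • z ≠ z)).card + 1) ^ 2 := by
  classical
  by_contra hcon
  push Not at hcon
  set S := Finset.univ.filter (fun z : Ω => g • z ≠ z) with hS
  have hxS : x ∈ S := by rw [hS, Finset.mem_filter]; exact ⟨Finset.mem_univ _, hx⟩
  have hmemS : ∀ p, p ∈ S ↔ g • p ≠ p := by intro p; rw [hS, Finset.mem_filter]; simp
  set S' := S.erase x with hS'
  have hS'card : S'.card + 1 = S.card := Finset.card_erase_add_one hxS
  set H := stabilizer G x with hH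
  set x0 := g • x with hx0
  have horb : orbit H x0 = {y | y ≠ x} := by
    ext y
    constructor
    · rintro ⟨h, rfl⟩
      intro hh
      apply hx
      have h1 : (h : G) • x0 = x := hh
      have h2 : (h : G) • x = x := h.2
      have : (h : G) • x0 = (h : G) • x := by rw [h1, h2]
      exact MulAction.injective (h : G) this
    · intro hy
      obtain ⟨k, hk1, hk2⟩ := h2t x x0 x y (Ne.symm hx) (Ne.symm hy)
      exact ⟨⟨k, hk1⟩, hk2⟩
  have hN : (orbit H x0).ncard = Fintype.card Ω - 1 := by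
    rw [horb]
    have : {y : Ω | y ≠ x} = ↑(Finset.univ.erase x) := by
      ext y; simp
    rw [this, Set.ncard_coe_finset, Finset.card_erase_of_mem (Finset.mem_univ x),
      Finset.card_univ]
  have hinorb : ∀ a ∈ S', a ∈ orbit H x0 := by
    intro a ha
    rw [horb]
    exact Finset.ne_of_mem_erase ha
  have hlt : S'.card * S'.card < (orbit H x0).ncard := by
    rw [hN]
    have h1 : (2 * S.card + 1) ^ 2 < Fintype.card Ω := hcon
    rw [← hS'card] at h1
    have h2 : S'.card * S'.card + 1 < Fintype.card Ω := by nlinarith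
    omega
  obtain ⟨h, hh⟩ := neumann_sep (H := H) S' S' x0 hinorb hinorb hlt
  have hhx : (h : G) • x = x := h.2
  have hhix : (h : G)⁻¹ • x = x := by rw [inv_smul_eq_iff, hhx]
  set k : G := (h : G) * g * (h : G)⁻¹ with hk
  set σ : Equiv.Perm Ω := MulAction.toPermHom G Ω g with hσ
  set τ : Equiv.Perm Ω := MulAction.toPermHom G Ω k with hτ
  have hσa : ∀ p, σ p = g • p := fun p => rfl
  have hτa : ∀ p, τ p = (h : G) • g • (h : G)⁻¹ • p := by
    intro p
    show k • p = _
    rw [hk, mul_smul, mul_smul]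
  have h3 : (σ * τ * σ⁻¹ * τ⁻¹).IsThreeCycle := by
    apply commutator_isThreeCycle σ τ x
    · rw [hσa]; exact hx
    · rw [hτa, hhix]
      intro hcon'
      apply hx
      have h' : (h : G) • g • x = (h : G) • x := hcon'.trans hhx.symm
      exact MulAction.injective (h : G) h'
    · intro p hp1 hp2
      rw [hσa] at hp1
      rw [hτa] at hp2
      by_contra hpx
      have hpS' : p ∈ S' := Finset.mem_erase.2 ⟨hpx, (hmemS p).2 hp1⟩
      have hq : g • ((h : G)⁻¹ • p) ≠ (h : G)⁻¹ • p := by
        intro hcon'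
        apply hp2
        rw [hcon', smul_inv_smul]
      have hqx : (h : G)⁻¹ • p ≠ x := by
        intro hcon'
        apply hpx
        rw [inv_smul_eq_iff, hhx] at hcon'
        exact hcon'
      have hqS' : (h : G)⁻¹ • p ∈ S' := Finset.mem_erase.2 ⟨hqx, (hmemS _).2 hq⟩
      have := hh _ hqS'
      apply this
      have e : h • ((h : G)⁻¹ • p) = p := by
        show (h : G) • ((h : G)⁻¹ • p) = p
        rw [smul_inv_smul]
      rw [e]
      exact hpS'
  have hmem : σ * τ * σ⁻¹ * τ⁻¹ ∈ (MulAction.toPermHom G Ω).range :=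
    ⟨g * k * g⁻¹ * k⁻¹, by simp [hσ, hτ, map_mul, map_inv]⟩
  have hprim' : IsPreprimitive (MulAction.toPermHom G Ω).range Ω := by
    let φ : G → (MulAction.toPermHom G Ω).range := (MulAction.toPermHom G Ω).rangeRestrict
    let f : Ω →ₑ[φ] Ω :=
      { toFun := id
        map_smul' := fun _ _ => rfl }
    exact IsPreprimitive.of_surjective (f := f) Function.surjective_id
  exact hA (Equiv.Perm.alternatingGroup_le_of_isPreprimitive_of_isThreeCycle_mem hprim' h3 hmem)

end Cfsg.Agent.Helper10.Babai
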