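import Mathlib
import Cfsg.Agent.Helper19.Class2
import Cfsg.Agent.Helper1.PGroup

set_option autoImplicit false

/-! # `p`-central `p`-groups (`p` odd): `x ^ p = y ^ p → (x⁻¹ y) ^ p = 1` -/

namespace Cfsg.Agent.Helper10.Blk

open Subgroup
open scoped commutatorElement

universe u

/-- Every element of order dividing `p` is central. -/
def PCentral (p : ℕ) (G : Type*) [Group G] : Prop := ∀ x : G, x ^ p = 1 → x ∈ center G

theorem card_lt_of_ne_top {G : Type*} [Group G] [Finite G] {K : Subgroup G} (h : K ≠ ⊤) :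
    Nat.card K < Nat.card G := by
  refine lt_of_le_of_ne (Subgroup.card_le_card_group K) ?_
  intro h1
  exact h (Subgroup.eq_top_of_card_eq K h1)

/-- In a class-two situation with commutator of exponent `p` (`p` odd), `(a b)^p = a^p b^p`. -/
theorem mul_pow_prime_of_central_comm {G : Type*} [Group G] {p : ℕ} (hpp : p.Prime) (hp2 : p ≠ 2)
    (a b : G) (hc : ⁅b, a⁆ ∈ center G) (hcp : ⁅b, a⁆ ^ p = 1) :
    (a * b) ^ p = a ^ p * b ^ p := by
  have hx : Commute ⁅b, a⁆ a := (mem_center_iff.mp hc a).symm
  have hy : Commute ⁅b, a⁆ b := (mem_center_iff.mp hc b).symm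
  have h1 := Cfsg.Agent.Helper19.mul_pow_of_commute_comm a b hx hy p
  have h2 : p ∣ p.choose 2 := hpp.dvd_choose_self (by norm_num) (by
    have := hpp.two_le
    omega)
  obtain ⟨m, hm⟩ := h2
  rw [h1, hm, pow_mul, hcp, one_pow, mul_one]

theorem inj_of_pcentral {p : ℕ} [Fact p.Prime] (hp2 : p ≠ 2) :
    ∀ (n : ℕ) (G : Type u) [Group G] [Finite G], Nat.card G = n → IsPGroup p G → PCentral p G →
      ∀ x y : G, x ^ p = y ^ p → (x⁻¹ * y) ^ p = 1 := by
  have hpp : p.Prime := Fact.out
  intro n
  induction n using Nat.strong_induction_on with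
  | _ n ih =>
  intro G _ _ hn hG hPC x y hxy
  set x' : G := y⁻¹ * x * y with hx'
  have hx'p : x' ^ p = x ^ p := by
    have h1 : x' = y⁻¹ * x * y⁻¹⁻¹ := by rw [inv_inv]
    rw [h1, conj_pow, hxy, inv_inv]
    group
  by_cases hK' : closure ({x, x'} : Set G) = ⊤
  · -- `G` is cyclic
    have hxt : zpowers x = ⊤ := by
      apply frattini_nongenerating
      rw [eq_top_iff, ← hK', closure_le]
      rintro g (rfl | rfl)
      · exact (le_sup_left : zpowers g ≤ _) (mem_zpowers g)
      · have h2 : x' = x * ⁅x⁻¹, y⁻¹⁆ := by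
          rw [hx', commutatorElement_def]; group
        rw [SetLike.mem_coe, h2]
        refine mul_mem ((le_sup_left : zpowers x ≤ _) (mem_zpowers x)) ?_
        apply (le_sup_right : frattini G ≤ zpowers x ⊔ frattini G)
        apply Cfsg.Agent.Helper1.IsPGroup.commutator_le_frattini hG
        exact commutator_mem_commutator (mem_top _) (mem_top _)
    have hy : y ∈ zpowers x := by rw [hxt]; exact mem_top y
    obtain ⟨k, hk⟩ := hy
    simp only at hk
    have hc : Commute x⁻¹ y := by
      rw [← hk]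
      exact ((Commute.refl x).inv_left).zpow_right k
    rw [hc.mul_pow, inv_pow, hxy, inv_mul_cancel]
  · -- induction on `K'`
    set K' : Subgroup G := closure ({x, x'} : Set G) with hK'def
    have hxK : x ∈ K' := subset_closure (by simp)
    have hx'K : x' ∈ K' := subset_closure (by simp)
    have hlt : Nat.card K' < n := by rw [← hn]; exact card_lt_of_ne_top hK'
    have hPCK : PCentral p ↥K' := by
      intro k hk
      rw [mem_center_iff]
      intro g
      apply Subtype.ext
      have h1 : (k : G) ^ p = 1 := by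
        have := congrArg Subtype.val hk
        simpa using this
      have := mem_center_iff.mp (hPC _ h1) (g : G)
      simpa using this
    have h3 := ih _ hlt ↥K' rfl (hG.to_subgroup K') hPCK ⟨x, hxK⟩ ⟨x', hx'K⟩ (by
      apply Subtype.ext
      simp only [SubgroupClass.coe_pow]
      exact hx'p.symm)
    have hu : (x⁻¹ * x') ^ p = 1 := by
      have := congrArg Subtype.val h3
      simpa using this
    have huc := hPC _ hu
    have hcomm : ⁅y, x⁻¹⁆ = x⁻¹ * x' := by
      have h4 : ⁅y, x⁻¹⁆ = y * (x⁻¹ * x') * y⁻¹ := by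
        rw [hx', commutatorElement_def]; group
      rw [h4, mem_center_iff.mp huc y, mul_inv_cancel_right]
    have h5 := mul_pow_prime_of_central_comm hpp hp2 x⁻¹ y (by rw [hcomm]; exact huc)
      (by rw [hcomm]; exact hu)
    rw [h5, inv_pow, hxy, inv_mul_cancel]

/-- Consequence: if `x ^ p` is central then every commutator `x⁻¹ g⁻¹ x g` has order dividing `p`. -/
theorem comm_pow_eq_one_of_pcentral {G : Type u} [Group G] [Finite G] {p : ℕ} [Fact p.Prime]
    (hp2 : p ≠ 2) (hG : IsPGroup p G) (hPC : PCentral p G) (x g : G) (hx : x ^ p ∈ center G) :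
    (x⁻¹ * (g⁻¹ * x * g)) ^ p = 1 := by
  apply inj_of_pcentral hp2 _ G rfl hG hPC
  have h1 : g⁻¹ * x * g = g⁻¹ * x * g⁻¹⁻¹ := by rw [inv_inv]
  rw [h1, conj_pow, inv_inv, mem_center_iff.mp hx g⁻¹]
  group

end Cfsg.Agent.Helper10.Blk
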