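import Mathlib
import Cfsg.Agent.Helper19.Huppert
import Cfsg.Agent.Helper10.BlkInj

set_option autoImplicit false

/-! # Lifting metacyclicity through a central commutator subgroup of order `p` (`p` odd);
adapted from `Cfsg.Agent.Helper19.Huppert` (which assumes `3 < p`). -/

namespace Cfsg.Agent.Helper10.Blk

open Subgroup Cfsg Cfsg.Agent.Helper19.Huppert
open scoped commutatorElement

universe u

variable {G : Type*} [Group G]

/-- The class two case (including the abelian case). -/
theorem class_two_case' [Finite G] {p : ℕ} [Fact p.Prime] (hp2 : p ≠ 2) (hG : IsPGroup p G)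
    (hS : Cfsg.Agent.Helper19.Huppert.Small p G) (z : G) (hzc : z ∈ center G) (hzp : z ^ p = 1)
    (hcomm : commutator G ≤ zpowers z) : Cfsg.IsMetacyclic G := by
  have hpp : p.Prime := Fact.out
  have hzle : zpowers z ≤ center G := by rw [zpowers_le]; exact hzc
  have hmem : ∀ a b : G, ⁅a, b⁆ ∈ zpowers z := fun a b =>
    hcomm (commutator_mem_commutator (mem_top a) (mem_top b))
  have hc : ∀ a b : G, ⁅a, b⁆ ∈ center G := fun a b => hzle (hmem a b)
  have hcp : ∀ a b : G, ⁅a, b⁆ ^ p = 1 := by
    intro a b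
    obtain ⟨m, hm⟩ := hmem a b
    simp only at hm
    rw [← hm, ← zpow_natCast, ← zpow_mul, mul_comm, zpow_mul, zpow_natCast, hzp, one_zpow]
  let P := powHom hpp (by have := hpp.two_le; omega) hc hcp
  have hPapp : ∀ g, P g = g ^ p := fun g => rfl
  have hker : Nat.card P.ker ≤ p ^ 2 := by
    unfold Cfsg.Agent.Helper19.Huppert.Small at hS
    refine le_trans (le_of_eq ?_) hS
    exact Nat.card_congr (Equiv.subtypeEquivRight (fun x => by rw [MonoidHom.mem_ker, hPapp]))
  have hcard : Nat.card G ≤ p ^ 2 * Nat.card P.range := by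
    rw [Subgroup.card_eq_card_quotient_mul_card_subgroup P.ker,
      Nat.card_congr (QuotientGroup.quotientKerEquivRange P).toEquiv, mul_comm]
    exact Nat.mul_le_mul_right _ hker
  have hV : P.range ≤ frattini G := by
    rintro _ ⟨g, rfl⟩
    exact Cfsg.Agent.Helper1.IsPGroup.pow_mem_frattini hG g
  have hnorm : ∀ g : G, z ∈ zpowers g → (zpowers g).Normal := by
    intro g hz
    refine ⟨fun n hn k => ?_⟩
    have h1 : k * n * k⁻¹ = ⁅k, n⁆ * n := by rw [commutatorElement_def]; group
    rw [h1]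
    exact mul_mem ((zpowers_le.mpr hz) (hmem k n)) hn
  obtain ⟨g, hgz, hgmax⟩ : ∃ g : G, z ∈ zpowers g ∧
      ∀ h : G, z ∈ zpowers h → orderOf h ≤ orderOf g := by
    haveI : Nonempty {g : G // z ∈ zpowers g} := ⟨⟨z, mem_zpowers z⟩⟩
    obtain ⟨g, hg⟩ := Finite.exists_max (fun g : {g : G // z ∈ zpowers g} => orderOf g.1)
    exact ⟨g.1, g.2, fun h hh => hg ⟨h, hh⟩⟩
  by_cases hgV : g ∈ P.range
  · obtain ⟨g₁, hg₁⟩ := hgV
    rw [hPapp] at hg₁
    have hg₁z : z ∈ zpowers g₁ := by
      have : zpowers g ≤ zpowers g₁ := by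
        rw [zpowers_le, ← hg₁]; exact pow_mem (mem_zpowers _) _
      exact this hgz
    have h1 := hgmax g₁ hg₁z
    by_cases hg₁1 : g₁ = 1
    · have hg1 : g = 1 := by rw [← hg₁, hg₁1, one_pow]
      have hall : ∀ h : G, h = 1 := by
        intro h
        have hz1 : z = 1 := by
          rw [hg1, zpowers_one_eq_bot, mem_bot] at hgz; exact hgz
        have h2 := hgmax h (by rw [hz1]; exact one_mem _)
        rw [hg1, orderOf_one] at h2
        have hpos := orderOf_pos h
        exact orderOf_eq_one_iff.mp (by omega)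
      apply isMetacyclic_of_gens 1 1
      · rw [eq_top_iff]; intro x _; rw [hall x]; exact one_mem _
      · rw [zpowers_one_eq_bot]; infer_instance
    · exfalso
      obtain ⟨k, hk⟩ := (IsPGroup.iff_orderOf.mp hG) g₁
      have hk0 : k ≠ 0 := by
        rintro rfl
        rw [pow_zero, orderOf_eq_one_iff] at hk
        exact hg₁1 hk
      have h2 : orderOf g = orderOf g₁ / Nat.gcd (orderOf g₁) p := by
        rw [← hg₁]; exact orderOf_pow' g₁ hpp.ne_zero
      have h3 : Nat.gcd (orderOf g₁) p = p :=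
        Nat.gcd_eq_right (by rw [hk]; exact dvd_pow_self p hk0)
      rw [h3] at h2
      have : orderOf g < orderOf g₁ := by
        rw [h2]; exact Nat.div_lt_self (orderOf_pos g₁) hpp.one_lt
      omega
  · obtain ⟨y, hy⟩ := exists_closure_pair_eq_top hG P.range hV hcard hgV
    exact isMetacyclic_of_gens g y hy (hnorm g hgz)

/-- Lifting lemma. -/
theorem lift_metacyclic [Finite G] {p : ℕ} [Fact p.Prime] (hp2 : p ≠ 2) (hG : IsPGroup p G)
    (hS : Cfsg.Agent.Helper19.Huppert.Small p G) (z : G) (hzN : z ∈ commutator G) (hzc : z ∈ center G) (hzo : orderOf z = p)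
    [hNn : (zpowers z).Normal]
    (hQm : Cfsg.IsMetacyclic (G ⧸ zpowers z)) : Cfsg.IsMetacyclic G := by
  have hpp : p.Prime := Fact.out
  set N : Subgroup G := zpowers z with hN
  have hNc : N ≤ center G := by rw [hN, zpowers_le]; exact hzc
  have hNcard : Nat.card N = p := by rw [hN, Nat.card_zpowers, hzo]
  obtain ⟨L, hLn, x, y, hNL, hxL, hL, hy⟩ := exists_lift N hQm
  have hzp : z ^ p = 1 := by rw [← hzo]; exact pow_orderOf_eq_one z
  have hL' : ∀ l ∈ L, ∃ i j : ℤ, l = x ^ i * z ^ j := by
    intro l hl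
    obtain ⟨k, hk⟩ := hL l hl
    obtain ⟨j, hj⟩ := hk
    simp only at hj
    exact ⟨k, j, by rw [hj]; group⟩
  by_cases hzx : z ∈ zpowers x
  · refine ⟨L, hLn, ⟨⟨⟨x, hxL⟩, fun l => ?_⟩⟩, ⟨⟨QuotientGroup.mk y, fun q => ?_⟩⟩⟩
    · obtain ⟨i, j, hij⟩ := hL' l.1 l.2
      obtain ⟨m, hm⟩ := hzx
      simp only at hm
      refine ⟨i + m * j, ?_⟩
      apply Subtype.ext
      simp only [SubgroupClass.coe_zpow]
      rw [hij, ← hm, zpow_add, zpow_mul]
    · induction q using QuotientGroup.induction_on with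
      | H g =>
      obtain ⟨k, hk⟩ := hy g
      refine ⟨k, ?_⟩
      simp only
      rw [← QuotientGroup.mk_zpow, QuotientGroup.eq]
      exact hk
  · have hgen : closure ({x, y, z} : Set G) = ⊤ := by
      rw [eq_top_iff]
      intro g _
      obtain ⟨k, hk⟩ := hy g
      obtain ⟨i, j, hij⟩ := hL' _ hk
      have : g = y ^ k * (x ^ i * z ^ j) := by rw [← hij]; group
      rw [this]
      exact mul_mem (zpow_mem (subset_closure (by simp)) _)
        (mul_mem (zpow_mem (subset_closure (by simp)) _)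
          (zpow_mem (subset_closure (by simp)) _))
    set c := ⁅x, y⁆ with hc
    have hcL : c ∈ L := by
      rw [hc, commutatorElement_def]
      have : x * y * x⁻¹ * y⁻¹ = x * (y * x⁻¹ * y⁻¹) := by group
      rw [this]
      exact mul_mem hxL (hLn.conj_mem _ (inv_mem hxL) y)
    obtain ⟨i, j, hcij⟩ := hL' c hcL
    have hzcomm : ∀ g : G, Commute g z := fun g => mem_center_iff.mp hzc g
    have hxc : Commute x c := by
      rw [hcij]
      exact ((Commute.refl x).zpow_right i).mul_right ((hzcomm x).zpow_right j)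
    have hyx : y * x * y⁻¹ = c⁻¹ * x := by rw [hc, commutatorElement_def]; group
    have hyc : y * c * y⁻¹ ∈ zpowers c := by
      refine ⟨1 - i, ?_⟩
      simp only
      have hzj : ∀ g : G, g * z ^ j = z ^ j * g := fun g => ((hzcomm g).zpow_right j).eq
      have h1 : y * c * y⁻¹ = (y * x * y⁻¹) ^ i * z ^ j := by
        rw [conj_zpow]
        calc y * c * y⁻¹ = y * (x ^ i * z ^ j) * y⁻¹ := by rw [← hcij]
          _ = y * x ^ i * (z ^ j * y⁻¹) := by group
          _ = y * x ^ i * (y⁻¹ * z ^ j) := by rw [← hzj y⁻¹]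
          _ = y * x ^ i * y⁻¹ * z ^ j := by group
      have h2 : (1 - i) = -i + 1 := by ring
      rw [h1, hyx, (hxc.symm.inv_left).mul_zpow, inv_zpow', mul_assoc, ← hcij, h2, zpow_add_one]
    have hcomm := commutator_le_zpowers x y z hzc hgen hxc hyc
    obtain ⟨k, hk⟩ := hcomm hzN
    simp only at hk
    have hcp : c ^ p = x ^ (i * p) := by
      have h1 : (z ^ j) ^ p = 1 := by
        rw [← zpow_natCast, ← zpow_mul, mul_comm, zpow_mul, zpow_natCast, hzp, one_zpow]
      have h2 : (x ^ i) ^ p = x ^ (i * p) := by rw [← zpow_natCast, ← zpow_mul]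
      rw [hcij, ((hzcomm x).zpow_zpow i j).mul_pow, h1, h2, mul_one]
    have hcp1 : c ^ p = 1 := by
      by_contra hne
      have hdk : (p : ℤ) ∣ k := by
        obtain ⟨m, hm⟩ := (IsPGroup.iff_orderOf.mp hG) c
        have hm2 : 2 ≤ m := by
          by_contra hlt
          push Not at hlt
          apply hne
          have : orderOf c ∣ p := by
            rw [hm]
            exact (pow_dvd_pow p (by omega : m ≤ 1)).trans (by rw [pow_one])
          exact orderOf_dvd_iff_pow_eq_one.mp this
        have h1 : c ^ (k * p) = 1 := by rw [zpow_mul, hk, zpow_natCast, hzp]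
        have h2 : (orderOf c : ℤ) ∣ k * p := orderOf_dvd_iff_zpow_eq_one.mpr h1
        rw [hm] at h2
        have h3 : ((p : ℤ) ^ 2) ∣ k * p := by
          refine dvd_trans ?_ h2
          push_cast
          exact pow_dvd_pow _ hm2
        rw [pow_two] at h3
        exact Int.dvd_of_mul_dvd_mul_right (by exact_mod_cast hpp.ne_zero) h3
      obtain ⟨k', rfl⟩ := hdk
      apply hzx
      rw [← hk, zpow_mul, zpow_natCast, hcp]
      exact zpow_mem (zpow_mem (mem_zpowers x) _) _
    have hCN : zpowers c = N := by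
      symm
      apply Subgroup.eq_of_le_of_card_ge
      · rw [hN, zpowers_le]; exact ⟨k, hk⟩
      · rw [Nat.card_zpowers, hNcard]
        exact Nat.le_of_dvd hpp.pos (orderOf_dvd_of_pow_eq_one hcp1)
    have hcomm' : commutator G ≤ zpowers z := by
      rw [← hN, ← hCN]; exact hcomm
    exact class_two_case' hp2 hG hS z hzc hzp hcomm'

end Cfsg.Agent.Helper10.Blk
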