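import Mathlib
import Cfsg.Agent.Helper10.BlkLift
import Cfsg.Agent.Helper23.PGroup
import Cfsg.Agent.Helper23.PSeries

set_option autoImplicit false

/-! # Auxiliary lemmas for `p`-groups with at most `p²` solutions of `x ^ p = 1` -/

namespace Cfsg.Agent.Helper10.Blk

open Subgroup Cfsg Cfsg.Agent.Helper19.Huppert
open scoped commutatorElement

universe u

/-- Abbreviation of `Cfsg.Agent.Helper19.Huppert.Small` (avoids the clash with `_root_.Small`). -/
abbrev HSmall (p : ℕ) (G : Type*) [Group G] : Prop := Cfsg.Agent.Helper19.Huppert.Small p G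

theorem normal_card_prime_le_center {G : Type*} [Group G] [Finite G] {p : ℕ} [Fact p.Prime]
    (hG : IsPGroup p G) (H : Subgroup G) [H.Normal] (hH : Nat.card H = p) : H ≤ center G := by
  have hpp : p.Prime := Fact.out
  have hne : H ≠ ⊥ := by
    intro h
    rw [h, Subgroup.card_bot] at hH
    exact hpp.one_lt.ne hH
  obtain ⟨b, hbH, hbZ, hb1⟩ := Cfsg.Agent.Helper23.exists_mem_inf_center_ne_one hG H hne
  have hle : zpowers b ≤ H := by rw [zpowers_le]; exact hbH
  have hcard : Nat.card (zpowers b) = p := by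
    rw [Nat.card_zpowers]
    have h1 : orderOf b ∣ p := by
      have h2 : orderOf (⟨b, hbH⟩ : H) ∣ Nat.card H := orderOf_dvd_natCard _
      rw [Subgroup.orderOf_mk, hH] at h2
      exact h2
    rcases (Nat.dvd_prime hpp).mp h1 with h | h
    · exact absurd (orderOf_eq_one_iff.mp h) hb1
    · exact h
  have : zpowers b = H := Subgroup.eq_of_le_of_card_ge hle (by rw [hcard, hH])
  rw [← this, zpowers_le]; exact hbZ

/-- `N ≤ D ≤ E`, `|N| = p`, `|E| = p²`, `D ≠ E` imply `D = N`. -/
theorem eq_of_sandwich {G : Type*} [Group G] [Finite G] {p : ℕ} [Fact p.Prime]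
    (hG : IsPGroup p G) {N D E : Subgroup G} (hND : N ≤ D) (hDE : D ≤ E)
    (hN : Nat.card N = p) (hE : Nat.card E = p ^ 2) (hne : D ≠ E) : D = N := by
  by_contra h
  have hlt : N < D := lt_of_le_of_ne hND (fun h' => h h'.symm)
  have h1 := card_mul_le_of_lt hG hlt
  rw [hN] at h1
  apply hne
  apply Subgroup.eq_of_le_of_card_ge hDE
  rw [hE, pow_two]; exact h1

theorem card_map_mk_of_sq {G : Type*} [Group G] [Finite G] {p : ℕ} [Fact p.Prime]
    (E N : Subgroup G) [N.Normal] (hNE : N ≤ E)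
    (hE : Nat.card E = p ^ 2) (hN : Nat.card N = p) :
    Nat.card (E.map (QuotientGroup.mk' N)) = p := by
  have hpp : p.Prime := Fact.out
  have hcomap : (E.map (QuotientGroup.mk' N)).comap (QuotientGroup.mk' N) = E := by
    rw [Subgroup.comap_map_eq, QuotientGroup.ker_mk', sup_eq_left.mpr hNE]
  have h1 := Cfsg.Agent.Helper23.card_comap_mk' N (E.map (QuotientGroup.mk' N))
  rw [hcomap, hE, hN, pow_two] at h1
  exact (Nat.eq_of_mul_eq_mul_left hpp.pos h1).symm

theorem map_mk_le_center_of_sq {G : Type*} [Group G] [Finite G] {p : ℕ} [Fact p.Prime]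
    (hG : IsPGroup p G) (E N : Subgroup G) [E.Normal] [N.Normal] (hNE : N ≤ E)
    (hE : Nat.card E = p ^ 2) (hN : Nat.card N = p) :
    E.map (QuotientGroup.mk' N) ≤ center (G ⧸ N) := by
  haveI : (E.map (QuotientGroup.mk' N)).Normal :=
    Subgroup.Normal.map inferInstance _ (QuotientGroup.mk'_surjective N)
  exact normal_card_prime_le_center (hG.to_quotient N) _ (card_map_mk_of_sq E N hNE hE hN)

theorem comm_mem_of_normal_sq {G : Type*} [Group G] [Finite G] {p : ℕ} [Fact p.Prime]
    (hG : IsPGroup p G) (E N : Subgroup G) [E.Normal] [N.Normal] (hNE : N ≤ E)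
    (hE : Nat.card E = p ^ 2) (hN : Nat.card N = p) (e : G) (he : e ∈ E) (g : G) :
    e⁻¹ * g⁻¹ * e * g ∈ N := by
  have hc := map_mk_le_center_of_sq hG E N hNE hE hN
  have hmem : (QuotientGroup.mk' N) e ∈ E.map (QuotientGroup.mk' N) :=
    Subgroup.mem_map_of_mem _ he
  have h2 := mem_center_iff.mp (hc hmem) ((QuotientGroup.mk' N) g)
  have h3 : (QuotientGroup.mk' N) (e⁻¹ * g⁻¹ * e * g) = 1 := by
    rw [map_mul, map_mul, map_mul, map_inv, map_inv, mul_assoc, ← h2]
    group
  exact (QuotientGroup.eq_one_iff _).mp h3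

/-- The quotient of a `Small` group by a normal subgroup `N` of order `p` is `Small`, provided that
all `x` with `x ^ p ∈ N` lie in a `p`-central subgroup `C`. -/
theorem small_quotient {G : Type u} [Group G] [Finite G] {p : ℕ} [Fact p.Prime] (hp2 : p ≠ 2)
    (hG : IsPGroup p G) (hS : HSmall p G) (C : Subgroup G) (hC : PCentral p C)
    (N : Subgroup G) [N.Normal] (hN : Nat.card N = p) (hW : ∀ x : G, x ^ p ∈ N → x ∈ C) :
    HSmall p (G ⧸ N) := by
  classical
  have hpp : p.Prime := Fact.out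
  have hinj : ∀ x y : G, x ^ p ∈ N → y ^ p ∈ N → x ^ p = y ^ p → (x⁻¹ * y) ^ p = 1 := by
    intro x y hx hy hxy
    have h1 := inj_of_pcentral hp2 _ ↥C rfl (hG.to_subgroup C) hC ⟨x, hW x hx⟩ ⟨y, hW y hy⟩ (by
      apply Subtype.ext; simpa using hxy)
    have := congrArg Subtype.val h1
    simpa using this
  let W := {x : G // x ^ p ∈ N}
  let c : N → G := fun m => if h : ∃ y : G, y ^ p = (m : G) then h.choose else 1
  have hc : ∀ x : W, (c ⟨x.1 ^ p, x.2⟩) ^ p = x.1 ^ p := by
    intro x
    have h : ∃ y : G, y ^ p = x.1 ^ p := ⟨x.1, rfl⟩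
    simp only [c]
    rw [dif_pos h]
    exact h.choose_spec
  let f : W → N × {u : G // u ^ p = 1} := fun x =>
    (⟨x.1 ^ p, x.2⟩, ⟨(c ⟨x.1 ^ p, x.2⟩)⁻¹ * x.1,
      hinj _ _ (by rw [hc x]; exact x.2) x.2 (hc x)⟩)
  have hf : Function.Injective f := by
    intro x y hxy
    have h1 : x.1 ^ p = y.1 ^ p := congrArg (fun t => (t.1 : G)) hxy
    have h2 : (c ⟨x.1 ^ p, x.2⟩)⁻¹ * x.1 = (c ⟨y.1 ^ p, y.2⟩)⁻¹ * y.1 :=
      congrArg (fun t => (t.2 : G)) hxy
    have h3 : (⟨x.1 ^ p, x.2⟩ : N) = ⟨y.1 ^ p, y.2⟩ := Subtype.ext h1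
    rw [h3] at h2
    exact Subtype.ext (mul_left_cancel h2)
  have hWcard : Nat.card W ≤ p * p ^ 2 := by
    calc Nat.card W ≤ Nat.card (N × {u : G // u ^ p = 1}) := Nat.card_le_card_of_injective f hf
      _ = Nat.card N * Nat.card {u : G // u ^ p = 1} := Nat.card_prod _ _
      _ ≤ p * p ^ 2 := by rw [hN]; exact Nat.mul_le_mul_left _ hS
  have hpre := QuotientGroup.card_preimage_mk N {q : G ⧸ N | q ^ p = 1}
  have hset : (QuotientGroup.mk ⁻¹' {q : G ⧸ N | q ^ p = 1}) = {x : G | x ^ p ∈ N} := by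
    ext x
    simp only [Set.mem_preimage, Set.mem_setOf_eq]
    rw [← QuotientGroup.mk_pow, QuotientGroup.eq_one_iff]
  rw [hset, hN] at hpre
  have h5 : p * Nat.card {q : G ⧸ N // q ^ p = 1} ≤ p * p ^ 2 := by
    calc p * Nat.card {q : G ⧸ N // q ^ p = 1} = Nat.card ({x : G | x ^ p ∈ N} : Set G) :=
          hpre.symm
      _ ≤ _ := hWcard
  exact Nat.le_of_mul_le_mul_left h5 hpp.pos

/-- A `p`-group with a cyclic subgroup of index at most `p` is metacyclic. -/
theorem metacyclic_of_index_le {G : Type*} [Group G] [Finite G] {p : ℕ} [Fact p.Prime]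
    (hG : IsPGroup p G) (x : G) (h : Nat.card G ≤ p * orderOf x) : Cfsg.IsMetacyclic G := by
  have hpp : p.Prime := Fact.out
  by_cases hA : zpowers x = ⊤
  · apply isMetacyclic_of_gens x 1
    · rw [eq_top_iff, ← hA, zpowers_eq_closure]
      exact closure_mono (by simp)
    · rw [hA]; infer_instance
  · obtain ⟨y, hy⟩ : ∃ y, y ∉ zpowers x := by
      by_contra hcon
      push Not at hcon
      exact hA (eq_top_iff.mpr fun g _ => hcon g)
    have hlt : zpowers x < ⊤ := lt_top_iff_ne_top.mpr hA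
    have h1 := card_mul_le_of_lt hG hlt
    rw [Subgroup.card_top, Nat.card_zpowers] at h1
    have hcard : Nat.card G = p * orderOf x := le_antisymm h h1
    apply isMetacyclic_of_gens x y
    · have hlt2 : zpowers x < closure ({x, y} : Set G) := by
        refine lt_of_le_of_ne ?_ ?_
        · rw [zpowers_le]; exact subset_closure (by simp)
        · intro h'
          apply hy
          rw [h']
          exact subset_closure (by simp)
      have h2 := card_mul_le_of_lt hG hlt2
      rw [Nat.card_zpowers, ← hcard] at h2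
      exact Subgroup.eq_top_of_le_card _ h2
    · apply Subgroup.normal_of_index_eq_minFac_card
      have h3 := (zpowers x).index_mul_card
      rw [Nat.card_zpowers, hcard] at h3
      have hidx : (zpowers x).index = p :=
        Nat.eq_of_mul_eq_mul_right (orderOf_pos x) h3
      obtain ⟨k, hk⟩ := (IsPGroup.iff_orderOf.mp hG) x
      rw [hidx, hcard, hk, ← pow_succ']
      exact (hpp.pow_minFac (Nat.succ_ne_zero k)).symm

/-- A `Small` group of order at most `p³` is metacyclic. -/
theorem small_cube {G : Type*} [Group G] [Finite G] {p : ℕ} [Fact p.Prime]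
    (hG : IsPGroup p G) (hS : HSmall p G) (hc : Nat.card G ≤ p ^ 3) : Cfsg.IsMetacyclic G := by
  have hpp : p.Prime := Fact.out
  by_cases hexp : ∀ x : G, x ^ p = 1
  · have h2 : Nat.card G ≤ p ^ 2 := by
      have hS' : Nat.card {x : G // x ^ p = 1} ≤ p ^ 2 := hS
      rw [Nat.card_congr (Equiv.subtypeUnivEquiv hexp)] at hS'
      exact hS'
    by_cases hx : ∃ x : G, x ≠ 1
    · obtain ⟨x, hx1⟩ := hx
      apply metacyclic_of_index_le hG x
      have h1 : orderOf x = p := by
        rcases (Nat.dvd_prime hpp).mp (orderOf_dvd_of_pow_eq_one (hexp x)) with h | h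
        · exact absurd (orderOf_eq_one_iff.mp h) hx1
        · exact h
      rw [h1, ← pow_two]; exact h2
    · push Not at hx
      apply metacyclic_of_index_le hG 1
      have : Nat.card G = 1 := by
        haveI : Subsingleton G := ⟨fun a b => by rw [hx a, hx b]⟩
        exact Nat.card_eq_one_iff_unique.mpr ⟨inferInstance, ⟨1⟩⟩
      rw [this, orderOf_one, mul_one]
      exact hpp.one_lt.le
  · push Not at hexp
    obtain ⟨x, hx⟩ := hexp
    apply metacyclic_of_index_le hG x
    obtain ⟨k, hk⟩ := (IsPGroup.iff_orderOf.mp hG) x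
    have hk2 : 2 ≤ k := by
      by_contra hlt
      push Not at hlt
      apply hx
      have : orderOf x ∣ p := by
        rw [hk]
        exact (pow_dvd_pow p (by omega : k ≤ 1)).trans (by rw [pow_one])
      exact orderOf_dvd_iff_pow_eq_one.mp this
    rw [hk]
    calc Nat.card G ≤ p ^ 3 := hc
      _ = p * p ^ 2 := by ring
      _ ≤ p * p ^ k := Nat.mul_le_mul_left _ (Nat.pow_le_pow_right hpp.pos hk2)

end Cfsg.Agent.Helper10.Blk
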