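import Mathlib
import Cfsg.Agent.Helper10.BlkSmallA
import Cfsg.Agent.S0016
import Cfsg.Prelude.Def_CaseTheorems

set_option autoImplicit false

/-! # Basic lemmas for the rank-two classification (case with an element of order `p` outside
the normal `E_{p²}`) -/

namespace Cfsg.Agent.Helper10.Blk

open Subgroup Cfsg Cfsg.Agent.Helper19.Huppert
open scoped commutatorElement

universe u

/-- An element of order dividing `p` centralizing a maximal elementary abelian `E` lies in `E`. -/
theorem rank_mem {G : Type*} [Group G] [Finite G] {p : ℕ} [Fact p.Prime] (hG : IsPGroup p G)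
    (hrk : Cfsg.PRankLE p 2 G) (E : Subgroup G) (hEel : Cfsg.IsElementaryAbelian p E)
    (hEcard : Nat.card E = p ^ 2) (u : G) (hu : u ^ p = 1) (hcomm : ∀ e ∈ E, e * u = u * e) :
    u ∈ E := by
  have hpp : p.Prime := Fact.out
  by_contra huE
  have hk : ∀ a ∈ ((E : Set G) ∪ {u}), ∀ b ∈ ((E : Set G) ∪ {u}), a * b = b * a := by
    rintro a (ha | rfl) b (hb | rfl)
    · exact congrArg Subtype.val (hEel.1.is_comm.comm ⟨a, ha⟩ ⟨b, hb⟩)
    · exact hcomm a ha
    · exact (hcomm b hb).symm
    · rfl
  have hAc : IsMulCommutative (closure ((E : Set G) ∪ {u})) := Subgroup.isMulCommutative_closure hk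
  have hAp : ∀ a ∈ closure ((E : Set G) ∪ {u}), a ^ p = 1 := by
    intro a ha
    induction ha using closure_induction with
    | mem w hw =>
      rcases hw with hw | rfl
      · exact hEel.2 w hw
      · exact hu
    | one => exact one_pow _
    | mul a b ha hb iha ihb =>
      have hc : Commute a b := congrArg Subtype.val (hAc.is_comm.comm ⟨a, ha⟩ ⟨b, hb⟩)
      rw [hc.mul_pow, iha, ihb, one_mul]
    | inv a _ iha => rw [inv_pow, iha, inv_one]
  have h1 := hrk _ hAc hAp
  have hlt : E < closure ((E : Set G) ∪ {u}) := by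
    refine lt_of_le_of_ne ?_ ?_
    · intro e he
      exact subset_closure (Or.inl he)
    · intro h
      apply huE
      rw [h]
      exact subset_closure (Or.inr rfl)
  have h2 := card_mul_le_of_lt hG hlt
  rw [hEcard] at h2
  have h3 : p * p ^ 2 ≤ 1 * p ^ 2 := by rw [one_mul]; exact h2.trans h1
  have h4 := Nat.le_of_mul_le_mul_right h3 (pow_pos hpp.pos 2)
  have := hpp.one_lt
  omega

/-- A subgroup of an odd `p`-group whose elements of order dividing `p` all lie in a subgroup of
order `p` is cyclic. -/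
theorem exists_zpowers_eq_of_omega_le {G : Type*} [Group G] [Finite G] {p : ℕ} [Fact p.Prime]
    (hp2 : p ≠ 2) (hG : IsPGroup p G) (S N : Subgroup G) (hNS : N ≤ S) (hN : Nat.card N = p)
    (hΩ : ∀ u ∈ S, u ^ p = 1 → u ∈ N) : ∃ z : G, S = zpowers z := by
  have key : ∀ H : Subgroup ↥S, Nat.card H = p → H = N.subgroupOf S := by
    intro H hH
    apply Subgroup.eq_of_le_of_card_ge
    · intro h hh
      rw [mem_subgroupOf]
      have h1 : (⟨h, hh⟩ : H) ^ Nat.card H = 1 := pow_card_eq_one'
      rw [hH] at h1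
      have h2 : (h : G) ^ p = 1 := by
        have := congrArg (fun t : H => ((t : ↥S) : G)) h1
        simpa using this
      exact hΩ _ h.2 h2
    · rw [hH, Nat.card_congr (Subgroup.subgroupOfEquivOfLe hNS).toEquiv, hN]
  have huniq : ∀ H K : Subgroup ↥S, Nat.card H = p → Nat.card K = p → H = K := by
    intro H K hH hK
    rw [key H hH, key K hK]
  rcases Cfsg.Agent.S0016.result p (hG.to_subgroup S) huniq with hcyc | ⟨h2, _⟩
  · obtain ⟨t, ht⟩ := hcyc.exists_generator
    refine ⟨(t : G), le_antisymm ?_ ?_⟩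
    · intro u hu
      obtain ⟨j, hj⟩ := ht ⟨u, hu⟩
      simp only at hj
      have := congrArg Subtype.val hj
      simp only [SubgroupClass.coe_zpow] at this
      exact ⟨j, this⟩
    · rw [zpowers_le]; exact t.2
  · exact absurd h2 hp2

/-- Generation by cardinality. -/
theorem closure_triple_eq_top {G : Type*} [Group G] [Finite G] {p : ℕ} [Fact p.Prime]
    (hG : IsPGroup p G) (C : Subgroup G) (x y z : G) (hz : z ∈ C) (hy : y ∈ C)
    (hyz : y ∉ zpowers z) (hx : x ∉ C) (hcard : Nat.card G ≤ p * (p * orderOf z)) :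
    closure ({x, y, z} : Set G) = ⊤ := by
  have h1 : zpowers z < closure ({y, z} : Set G) := by
    refine lt_of_le_of_ne ?_ ?_
    · rw [zpowers_le]; exact subset_closure (by simp)
    · intro h
      apply hyz
      rw [h]
      exact subset_closure (by simp)
  have hJC : closure ({y, z} : Set G) ≤ C := by
    rw [closure_le]
    rintro g (rfl | rfl)
    · exact hy
    · exact hz
  have h2 : closure ({y, z} : Set G) < closure ({x, y, z} : Set G) := by
    refine lt_of_le_of_ne ?_ ?_
    · apply Subgroup.closure_mono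
      intro g hg
      exact Or.inr hg
    · intro h
      apply hx
      apply hJC
      rw [h]
      exact subset_closure (by simp)
  have c1 := card_mul_le_of_lt hG h1
  have c2 := card_mul_le_of_lt hG h2
  rw [Nat.card_zpowers] at c1
  apply Subgroup.eq_top_of_le_card
  calc Nat.card G ≤ p * (p * orderOf z) := hcard
    _ ≤ p * Nat.card (closure ({y, z} : Set G)) := Nat.mul_le_mul_left _ c1
    _ ≤ _ := c2

/-- Conjugation by `x` (on the right) as a homomorphism. -/
def cj {G : Type*} [Group G] (x : G) : G →* G where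
  toFun g := x⁻¹ * g * x
  map_one' := by group
  map_mul' a b := by group

theorem cj_apply {G : Type*} [Group G] (x g : G) : cj x g = x⁻¹ * g * x := rfl

theorem cj_pow_succ {G : Type*} [Group G] (x g : G) (a : ℕ) :
    cj (x ^ (a + 1)) g = cj x (cj (x ^ a) g) := by
  simp only [cj_apply, pow_succ]
  group

theorem cj_of_commute {G : Type*} [Group G] {x g : G} (h : Commute x g) : cj x g = g := by
  rw [cj_apply, mul_assoc, ← h.eq, inv_mul_cancel_left]

/-- Iterated conjugation, first formula. -/
theorem cj_pow_y {G : Type*} [Group G] (x y ζ : G) (hxy : cj x y = y * ζ) (hxζ : Commute x ζ)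
    (a : ℕ) : cj (x ^ a) y = y * ζ ^ a := by
  induction a with
  | zero => simp [cj_apply]
  | succ a ih =>
    rw [cj_pow_succ, ih, map_mul, map_pow, hxy, cj_of_commute hxζ, pow_succ', mul_assoc]

/-- Iterated conjugation, second formula. -/
theorem cj_pow_z {G : Type*} [Group G] (x y z ζ : G) (hxz : cj x z = y * z)
    (hxy : cj x y = y * ζ) (hxζ : Commute x ζ) (hyζ : Commute y ζ)
    (a : ℕ) : cj (x ^ a) z = y ^ a * ζ ^ (a.choose 2) * z := by
  induction a with
  | zero => simp [cj_apply]
  | succ a ih =>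
    rw [cj_pow_succ, ih, map_mul, map_mul, map_pow, map_pow, hxy, hxz, cj_of_commute hxζ,
      hyζ.mul_pow]
    have e1 : (a + 1).choose 2 = a + a.choose 2 := by
      rw [Nat.choose_succ_succ' a 1, Nat.choose_one_right]
    rw [e1, pow_add ζ, pow_succ y a]
    have hc : Commute (ζ ^ a) y := (hyζ.symm.pow_left a)
    have hc2 : Commute (ζ ^ a.choose 2) y := (hyζ.symm.pow_left _)
    calc y ^ a * ζ ^ a * ζ ^ a.choose 2 * (y * z)
        = y ^ a * (ζ ^ a * ζ ^ a.choose 2 * y) * z := by group
      _ = y ^ a * (y * (ζ ^ a * ζ ^ a.choose 2)) * z := by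
          rw [(hc.mul_left hc2).eq]
      _ = y ^ a * y * (ζ ^ a * ζ ^ a.choose 2) * z := by group

/-- The `k`-th power of `x * c` when `x` acts on `c` by `c ↦ c e`, `e ↦ e ζ`, `ζ ↦ ζ`. -/
theorem mul_pow_formula {G : Type*} [Group G] (x c e ζ : G) (hxc : cj x c = c * e)
    (hxe : cj x e = e * ζ) (hxζ : Commute x ζ) (hce : Commute c e) (hcζ : Commute c ζ)
    (heζ : Commute e ζ) (k : ℕ) :
    (x * c) ^ k = x ^ k * (c ^ k * e ^ (k.choose 2) * ζ ^ (k.choose 3)) := by
  induction k with
  | zero => simp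
  | succ k ih =>
    rw [pow_succ, ih]
    set W := c ^ k * e ^ (k.choose 2) * ζ ^ (k.choose 3) with hW
    have h1 : W * x = x * cj x W := by rw [cj_apply]; group
    have h2 : cj x W = (c * e) ^ k * (e * ζ) ^ (k.choose 2) * ζ ^ (k.choose 3) := by
      rw [hW, map_mul, map_mul, map_pow, map_pow, map_pow, hxc, hxe, cj_of_commute hxζ]
    have e2 : (k + 1).choose 2 = k + k.choose 2 := by
      rw [Nat.choose_succ_succ' k 1, Nat.choose_one_right]
    have e3 : (k + 1).choose 3 = k.choose 2 + k.choose 3 := Nat.choose_succ_succ' k 2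
    have h3 : (c * e) ^ k * (e * ζ) ^ (k.choose 2) * ζ ^ (k.choose 3) * c =
        c ^ (k + 1) * e ^ ((k + 1).choose 2) * ζ ^ ((k + 1).choose 3) := by
      rw [hce.mul_pow, heζ.mul_pow, e2, e3, pow_add e, pow_add ζ, pow_succ c k]
      have c1 : Commute (e ^ k) c := (hce.symm.pow_left k)
      have c2 : Commute (e ^ k.choose 2) c := (hce.symm.pow_left _)
      have c3 : Commute (ζ ^ k.choose 2) c := (hcζ.symm.pow_left _)
      have c4 : Commute (ζ ^ k.choose 3) c := (hcζ.symm.pow_left _)
      have c5 : Commute (e ^ k * (e ^ k.choose 2 * ζ ^ k.choose 2) * ζ ^ k.choose 3) c :=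
        ((c1.mul_left (c2.mul_left c3)).mul_left c4)
      calc c ^ k * e ^ k * (e ^ k.choose 2 * ζ ^ k.choose 2) * ζ ^ k.choose 3 * c
          = c ^ k * (e ^ k * (e ^ k.choose 2 * ζ ^ k.choose 2) * ζ ^ k.choose 3 * c) := by group
        _ = c ^ k * (c * (e ^ k * (e ^ k.choose 2 * ζ ^ k.choose 2) * ζ ^ k.choose 3)) := by
            rw [c5.eq]
        _ = c ^ k * c * (e ^ k * e ^ k.choose 2) * (ζ ^ k.choose 2 * ζ ^ k.choose 3) := by group
    calc x ^ k * W * (x * c) = x ^ k * (W * x) * c := by group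
      _ = x ^ k * (x * cj x W) * c := by rw [h1]
      _ = x ^ k * x * (cj x W * c) := by group
      _ = x ^ (k + 1) * (c ^ (k + 1) * e ^ ((k + 1).choose 2) * ζ ^ ((k + 1).choose 3)) := by
          rw [h2, h3, pow_succ x k]

end Cfsg.Agent.Helper10.Blk
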