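import Mathlib
import Cfsg.Agent.Helper10.BlkCaseA

set_option autoImplicit false

/-! # Setup for the case with an element `x` of order `p` outside the normal `E ≅ E_{p²}` -/

namespace Cfsg.Agent.Helper10.Blk

open Subgroup Cfsg Cfsg.Agent.Helper19.Huppert
open scoped commutatorElement

universe u

/-- The context of Case I. -/
structure Ctx {G : Type*} [Group G] (p : ℕ) (E N : Subgroup G) (x : G) : Prop where
  hNcard : Nat.card N = p
  hEcard : Nat.card E = p ^ 2
  hNE : N ≤ E
  hNc : N ≤ center G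
  hEab : ∀ a ∈ E, ∀ b ∈ E, a * b = b * a
  hEp : ∀ a ∈ E, a ^ p = 1
  hxp : x ^ p = 1
  hcommE : ∀ e ∈ E, ∀ g : G, e⁻¹ * g⁻¹ * e * g ∈ N
  R1 : ∀ u ∈ centralizer (E : Set G), u ^ p = 1 → u ∈ E
  hxC : x ∉ centralizer (E : Set G)
  hEx : ∀ e ∈ E, e * x = x * e → e ∈ N
  hLy : ∀ m ∈ N, ∃ e ∈ E, cj x e = e * m
  hcomC : ∀ a b : G, a⁻¹ * b⁻¹ * a * b ∈ centralizer (E : Set G)
  hidx : Nat.card G = p * Nat.card (centralizer (E : Set G))

theorem cj_mul {G : Type*} [Group G] (a b g : G) : cj (a * b) g = cj b (cj a g) := by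
  simp only [cj_apply]; group

theorem exists_ctx {G : Type*} [Group G] [Finite G] {p : ℕ} [Fact p.Prime]
    (hG : IsPGroup p G) (hrk : Cfsg.PRankLE p 2 G) (E : Subgroup G) [E.Normal]
    (hEel : Cfsg.IsElementaryAbelian p E) (hEcard : Nat.card E = p ^ 2) (x : G)
    (hxp : x ^ p = 1) (hxE : x ∉ E) :
    ∃ (N : Subgroup G) (_ : N.Normal), Ctx p E N x := by
  have hpp : p.Prime := Fact.out
  have hEab : ∀ a ∈ E, ∀ b ∈ E, a * b = b * a := fun a ha b hb =>
    congrArg Subtype.val (hEel.1.is_comm.comm ⟨a, ha⟩ ⟨b, hb⟩)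
  have R1 : ∀ u ∈ centralizer (E : Set G), u ^ p = 1 → u ∈ E := fun u hu hup =>
    rank_mem hG hrk E hEel hEcard u hup (fun e he => mem_centralizer_iff.mp hu e he)
  have hxC : x ∉ centralizer (E : Set G) := fun h => hxE (R1 x h hxp)
  have hEne : E ≠ ⊥ := by
    intro h
    rw [h, Subgroup.card_bot] at hEcard
    have := hpp.one_lt
    have h2 : 1 < p ^ 2 := Nat.one_lt_pow (by norm_num) this
    omega
  obtain ⟨b, hbE, hbZ, hb1⟩ := Cfsg.Agent.Helper23.exists_mem_inf_center_ne_one hG E hEne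
  have hbo : orderOf b = p := orderOf_eq_prime (hEel.2 b hbE) hb1
  set N : Subgroup G := zpowers b with hN
  have hNc : N ≤ center G := by rw [hN, zpowers_le]; exact hbZ
  have hNn : N.Normal := ⟨fun n hn g => by
    have := mem_center_iff.mp (hNc hn) g
    rw [this, mul_inv_cancel_right]; exact hn⟩
  have hNcard : Nat.card N = p := by rw [hN, Nat.card_zpowers, hbo]
  have hNE : N ≤ E := by rw [hN, zpowers_le]; exact hbE
  have hcommE : ∀ e ∈ E, ∀ g : G, e⁻¹ * g⁻¹ * e * g ∈ N := fun e he g =>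
    comm_mem_of_normal_sq hG E N hNE hEcard hNcard e he g
  have hEx : ∀ e ∈ E, e * x = x * e → e ∈ N := by
    have hD : E ⊓ centralizer {x} = N := by
      refine eq_of_sandwich hG (le_inf hNE ?_) inf_le_left hNcard hEcard (fun h => hxC ?_)
      · intro m hm
        rw [mem_centralizer_singleton_iff]
        exact (mem_center_iff.mp (hNc hm) x).symm
      · rw [mem_centralizer_iff]
        intro e he
        have : e ∈ centralizer {x} := (inf_eq_left.mp h) he
        exact mem_centralizer_singleton_iff.mp this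
    intro e he hex
    rw [← hD]
    exact ⟨he, mem_centralizer_singleton_iff.mpr hex⟩
  -- a non-commuting `y₀`
  obtain ⟨y₀, hy₀E, hy₀x⟩ : ∃ y₀ ∈ E, y₀ * x ≠ x * y₀ := by
    by_contra hcon
    push Not at hcon
    exact hxC (mem_centralizer_iff.mpr hcon)
  set ζ₀ : G := y₀⁻¹ * x⁻¹ * y₀ * x with hζ₀
  have hζ₀N : ζ₀ ∈ N := hcommE y₀ hy₀E x
  have hζ₀1 : ζ₀ ≠ 1 := by
    intro h
    apply hy₀x
    have : y₀⁻¹ * x⁻¹ * y₀ * x = 1 := h
    calc y₀ * x = x * y₀ * (y₀⁻¹ * x⁻¹ * y₀ * x) := by group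
      _ = x * y₀ := by rw [this, mul_one]
  have hNp : ∀ m ∈ N, m ^ p = 1 := fun m hm => hEel.2 m (hNE hm)
  have hζ₀o : orderOf ζ₀ = p := orderOf_eq_prime (hNp _ hζ₀N) hζ₀1
  have hNζ : N = zpowers ζ₀ := by
    symm
    apply Subgroup.eq_of_le_of_card_ge
    · rw [zpowers_le]; exact hζ₀N
    · rw [hNcard, Nat.card_zpowers, hζ₀o]
  have hζ₀c : ζ₀ ∈ center G := hNc hζ₀N
  have hxy₀ : cj x y₀ = y₀ * ζ₀ := by rw [cj_apply, hζ₀]; group
  have hLy : ∀ m ∈ N, ∃ e ∈ E, cj x e = e * m := by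
    intro m hm
    rw [hNζ] at hm
    obtain ⟨k, rfl⟩ := hm
    refine ⟨y₀ ^ k, zpow_mem hy₀E k, ?_⟩
    have hc : Commute y₀ ζ₀ := (mem_center_iff.mp hζ₀c y₀)
    simp only
    rw [map_zpow, hxy₀, hc.mul_zpow]
  -- commutators lie in `C`
  have hcomC : ∀ a b : G, a⁻¹ * b⁻¹ * a * b ∈ centralizer (E : Set G) := by
    have h1 : ⁅E, (⊤ : Subgroup G)⁆ ≤ N := by
      rw [commutator_le]
      intro e he g _
      have := hcommE e⁻¹ (inv_mem he) g⁻¹
      rw [inv_inv, inv_inv] at this
      rw [commutatorElement_def]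
      exact this
    have h2 : ⁅⁅E, (⊤ : Subgroup G)⁆, (⊤ : Subgroup G)⁆ = ⊥ := by
      rw [eq_bot_iff]
      calc ⁅⁅E, (⊤ : Subgroup G)⁆, (⊤ : Subgroup G)⁆ ≤ ⁅N, (⊤ : Subgroup G)⁆ :=
            commutator_mono h1 le_rfl
        _ = ⊥ := by
            rw [commutator_eq_bot_iff_le_centralizer, coe_top, centralizer_univ]
            exact hNc
    have h3 : ⁅⁅(⊤ : Subgroup G), E⁆, (⊤ : Subgroup G)⁆ = ⊥ := by
      rw [commutator_comm ⊤ E]; exact h2
    have h4 : ⁅⁅(⊤ : Subgroup G), (⊤ : Subgroup G)⁆, E⁆ = ⊥ :=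
      commutator_commutator_eq_bot_of_rotate h3 h2
    rw [commutator_eq_bot_iff_le_centralizer] at h4
    intro a b
    apply h4
    have : a⁻¹ * b⁻¹ * a * b = ⁅a⁻¹, b⁻¹⁆ := by rw [commutatorElement_def]; group
    rw [this]
    exact commutator_mem_commutator (mem_top _) (mem_top _)
  -- index of `C`
  have hEsup : N ⊔ zpowers y₀ = E := by
    apply Subgroup.eq_of_le_of_card_ge
    · exact sup_le hNE (by rw [zpowers_le]; exact hy₀E)
    · have hlt : N < N ⊔ zpowers y₀ := by
        refine lt_of_le_of_ne le_sup_left ?_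
        intro h
        have hy₀N : y₀ ∈ N := by
          rw [h]
          exact (le_sup_right : zpowers y₀ ≤ N ⊔ zpowers y₀) (mem_zpowers y₀)
        exact hy₀x (mem_center_iff.mp (hNc hy₀N) x).symm
      have := card_mul_le_of_lt hG hlt
      rw [hNcard] at this
      rw [hEcard, pow_two]
      exact this
  have hcent : ∀ c : G, y₀ * c = c * y₀ → c ∈ centralizer (E : Set G) := by
    intro c hc
    have hle : E ≤ centralizer {c} := by
      rw [← hEsup]
      refine sup_le ?_ ?_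
      · intro m hm
        rw [mem_centralizer_singleton_iff]
        exact (mem_center_iff.mp (hNc hm) c).symm
      · rw [zpowers_le, mem_centralizer_singleton_iff]
        exact hc
    rw [mem_centralizer_iff]
    intro e he
    exact mem_centralizer_singleton_iff.mp (hle he)
  have hidx : Nat.card G = p * Nat.card (centralizer (E : Set G)) := by
    have hgen : ∀ q : G ⧸ centralizer (E : Set G),
        q ∈ zpowers ((QuotientGroup.mk' (centralizer (E : Set G))) x) := by
      intro q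
      obtain ⟨g, rfl⟩ := QuotientGroup.mk'_surjective _ q
      have hgN : y₀⁻¹ * g⁻¹ * y₀ * g ∈ N := hcommE y₀ hy₀E g
      rw [hNζ] at hgN
      obtain ⟨k, hk⟩ := mem_powers_iff_mem_zpowers.mpr hgN
      simp only at hk
      have hgy : cj g y₀ = y₀ * ζ₀ ^ k := by rw [cj_apply, hk]; group
      have hcC : g * x ^ ((p - 1) * k) ∈ centralizer (E : Set G) := by
        apply hcent
        have h5 : cj (g * x ^ ((p - 1) * k)) y₀ = y₀ := by
          have hxζ : Commute x ζ₀ := (mem_center_iff.mp hζ₀c x)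
          have hc1 : cj (x ^ ((p - 1) * k)) (ζ₀ ^ k) = ζ₀ ^ k :=
            cj_of_commute ((hxζ.pow_left _).pow_right _)
          rw [cj_mul, hgy, map_mul, cj_pow_y x y₀ ζ₀ hxy₀ hxζ, hc1, mul_assoc, ← pow_add]
          have : (p - 1) * k + k = p * k := by
            have := hpp.one_lt
            calc (p - 1) * k + k = ((p - 1) + 1) * k := by ring
              _ = p * k := by congr 1; omega
          rw [this, pow_mul, ← hζ₀o, pow_orderOf_eq_one, one_pow, mul_one]
        rw [cj_apply] at h5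
        calc y₀ * (g * x ^ ((p - 1) * k))
            = (g * x ^ ((p - 1) * k)) * ((g * x ^ ((p - 1) * k))⁻¹ * y₀ * (g * x ^ ((p - 1) * k))) := by
              group
          _ = _ := by rw [h5]
      refine ⟨-(((p - 1) * k : ℕ) : ℤ), ?_⟩
      simp only
      rw [zpow_neg, zpow_natCast, ← map_pow, ← map_inv, QuotientGroup.mk'_apply,
        QuotientGroup.mk'_apply, QuotientGroup.eq]
      have : (x ^ ((p - 1) * k))⁻¹⁻¹ * g = x ^ ((p - 1) * k) * (g * x ^ ((p - 1) * k)) *
          (x ^ ((p - 1) * k))⁻¹ := by group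
      rw [this]
      exact (inferInstance : (centralizer (E : Set G)).Normal).conj_mem _ hcC _
    have hord : orderOf ((QuotientGroup.mk' (centralizer (E : Set G))) x) = p := by
      apply orderOf_eq_prime
      · rw [← map_pow, hxp, map_one]
      · intro h
        exact hxC ((QuotientGroup.eq_one_iff x).mp h)
    have hcardQ : Nat.card (G ⧸ centralizer (E : Set G)) = p := by
      rw [← hord]
      exact (orderOf_eq_card_of_forall_mem_zpowers hgen).symm
    rw [Subgroup.card_eq_card_quotient_mul_card_subgroup (centralizer (E : Set G)), hcardQ]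
  exact ⟨N, hNn, ⟨hNcard, hEcard, hNE, hNc, hEab, hEel.2, hxp, hcommE, R1, hxC, hEx, hLy, hcomC,
    hidx⟩⟩

end Cfsg.Agent.Helper10.Blk
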