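import Mathlib
import Cfsg.Agent.Helper10.BlkCaseB
import Cfsg.Agent.S4143

set_option autoImplicit false

/-! # Case I, maximal class branch: `F = E⟨x⟩` is not normal -/

namespace Cfsg.Agent.Helper10.Blk

open Subgroup Cfsg Cfsg.Agent.Helper19.Huppert
open scoped commutatorElement

universe u

theorem comm_eq_one_iff {Q : Type*} [Group Q] (a b : Q) :
    a⁻¹ * b⁻¹ * a * b = 1 ↔ b * a = a * b := by
  constructor
  · intro h
    calc b * a = a * b * (a⁻¹ * b⁻¹ * a * b)⁻¹ := by group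
      _ = a * b := by rw [h, inv_one, mul_one]
  · intro h
    calc a⁻¹ * b⁻¹ * a * b = a⁻¹ * b⁻¹ * (a * b) := by group
      _ = a⁻¹ * b⁻¹ * (b * a) := by rw [h]
      _ = 1 := by group

theorem theta_mul_inv {Q : Type*} [Group Q] (x e h : Q) (hx : x⁻¹ * h = h * x⁻¹) :
    x⁻¹ * (e * h⁻¹)⁻¹ * x * (e * h⁻¹) = h * (x⁻¹ * e⁻¹ * x * e) * h⁻¹ := by
  calc x⁻¹ * (e * h⁻¹)⁻¹ * x * (e * h⁻¹) = (x⁻¹ * h) * (e⁻¹ * x * e * h⁻¹) := by group
    _ = (h * x⁻¹) * (e⁻¹ * x * e * h⁻¹) := by rw [hx]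
    _ = _ := by group

/-- Roots of elements of `N` in a subgroup whose `Ω₁` lies in `N`. -/
theorem exists_root {G : Type*} [Group G] [Finite G] {p : ℕ} [Fact p.Prime] (hG : IsPGroup p G)
    (S N : Subgroup G) (hN : Nat.card N = p) (hΩ : ∀ u ∈ S, u ^ p = 1 → u ∈ N)
    (h₀ : G) (hh₀ : h₀ ∈ S) (hh₀N : h₀ ∉ N) : ∀ m ∈ N, ∃ h ∈ S, h ^ p = m := by
  have hpp : p.Prime := Fact.out
  obtain ⟨k, hk⟩ := (IsPGroup.iff_orderOf.mp hG) h₀
  have hk2 : 2 ≤ k := by
    by_contra hlt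
    push Not at hlt
    apply hh₀N
    apply hΩ _ hh₀
    apply orderOf_dvd_iff_pow_eq_one.mp
    rw [hk]
    exact (pow_dvd_pow p (by omega : k ≤ 1)).trans (by rw [pow_one])
  set h' : G := h₀ ^ (p ^ (k - 2)) with hh'
  have hh'S : h' ∈ S := pow_mem hh₀ _
  have hh'o : orderOf h' = p ^ 2 := by
    rw [hh', orderOf_pow' h₀ (pow_ne_zero _ hpp.ne_zero), hk,
      Nat.gcd_eq_right (pow_dvd_pow p (Nat.sub_le k 2))]
    have : p ^ k = p ^ (k - 2) * p ^ 2 := by rw [← pow_add]; congr 1; omega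
    rw [this, Nat.mul_div_cancel_left _ (pow_pos hpp.pos _)]
  have h1 : (h' ^ p) ^ p = 1 := by
    rw [← pow_mul, ← pow_two, ← hh'o]; exact pow_orderOf_eq_one _
  have h2 : h' ^ p ∈ N := hΩ _ (pow_mem hh'S _) h1
  have h3 : h' ^ p ≠ 1 := by
    intro h
    have := orderOf_dvd_of_pow_eq_one h
    rw [hh'o] at this
    have h4 := Nat.le_of_dvd hpp.pos this
    have := hpp.one_lt
    nlinarith
  have h5 : zpowers (h' ^ p) = N := by
    apply Subgroup.eq_of_le_of_card_ge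
    · rw [zpowers_le]; exact h2
    · rw [hN, Nat.card_zpowers, orderOf_eq_prime h1 h3]
  intro m hm
  rw [← h5] at hm
  obtain ⟨j, hj⟩ := hm
  simp only at hj
  refine ⟨h' ^ j, zpow_mem hh'S j, ?_⟩
  rw [← hj, ← zpow_natCast, ← zpow_natCast, ← zpow_mul, ← zpow_mul, mul_comm]

theorem caseI_maxclass {G : Type u} [Group G] [Finite G] {p : ℕ} [Fact p.Prime] (hp2 : p ≠ 2)
    (hG : IsPGroup p G) (n : ℕ) (hn : Nat.card G = p ^ n) (E N : Subgroup G) [E.Normal]
    [N.Normal] (x : G) (h : Ctx p E N x) (hnB : ∃ g : G, x⁻¹ * g⁻¹ * x * g ∉ E) :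
    p = 3 ∧ 2 ≤ n ∧ (⊤ : Subgroup G).lowerCentralSeries (n - 2) ≠ ⊥ := by
  have hpp : p.Prime := Fact.out
  haveI hnil : Group.IsNilpotent G := hG.isNilpotent
  set C : Subgroup G := centralizer (E : Set G) with hC
  have hEC : E ≤ C := by
    intro e he
    rw [hC, mem_centralizer_iff]
    intro e' he'
    exact h.hEab e' he' e he
  have hxE : x ∉ E := fun hx => h.hxC (hEC hx)
  set B : Subgroup G := (centralizer {(QuotientGroup.mk' E) x}).comap (QuotientGroup.mk' E)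
    with hB
  have hBmem : ∀ g : G, g ∈ B ↔ x⁻¹ * g⁻¹ * x * g ∈ E := by
    intro g
    rw [hB, mem_comap, mem_centralizer_singleton_iff, ← comm_eq_one_iff,
      ← QuotientGroup.eq_one_iff (N := E), ← QuotientGroup.mk'_apply]
    simp only [map_mul, map_inv]
  have hBne : B ≠ ⊤ := by
    obtain ⟨g, hg⟩ := hnB
    intro hBt
    apply hg
    rw [← hBmem, hBt]
    exact mem_top g
  have hnc := Group.normalizerCondition_of_isNilpotent (G := G) B (lt_top_iff_ne_top.mpr hBne)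
  obtain ⟨g, hgN, hgB⟩ := SetLike.exists_of_lt hnc
  have hxB : x ∈ B := by
    rw [hBmem]
    have : x⁻¹ * x⁻¹ * x * x = 1 := by group
    rw [this]; exact one_mem _
  have huB : g⁻¹ * x * g ∈ B := by
    have := (mem_normalizer_iff.mp (inv_mem hgN) x).mp hxB
    rwa [inv_inv] at this
  set c : G := x⁻¹ * g⁻¹ * x * g with hc
  have hcE : c ∉ E := fun hcE => hgB ((hBmem g).mpr hcE)
  have hcC : c ∈ C := h.hcomC x g
  have hu : g⁻¹ * x * g = x * c := by rw [hc]; group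
  have hθ : x⁻¹ * c⁻¹ * x * c ∈ E := by
    have := (hBmem _).mp huB
    rw [hu] at this
    have e : x⁻¹ * (x * c)⁻¹ * x * (x * c) = x⁻¹ * c⁻¹ * x * c := by group
    rwa [e] at this
  set e₁ : G := c⁻¹ * x⁻¹ * c * x with he₁
  have he₁E : e₁ ∈ E := by
    have : e₁ = (x⁻¹ * c⁻¹ * x * c)⁻¹ := by rw [he₁]; group
    rw [this]; exact inv_mem hθ
  have hxc : cj x c = c * e₁ := by rw [cj_apply, he₁]; group
  set ζ₁ : G := e₁⁻¹ * x⁻¹ * e₁ * x with hζ₁
  have hζ₁N : ζ₁ ∈ N := h.hcommE e₁ he₁E x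
  have hζ₁c : ζ₁ ∈ center G := h.hNc hζ₁N
  have hxe : cj x e₁ = e₁ * ζ₁ := by rw [cj_apply, hζ₁]; group
  have hce : Commute c e₁ := (mem_centralizer_iff.mp hcC e₁ he₁E).symm
  have hform := mul_pow_formula x c e₁ ζ₁ hxc hxe (mem_center_iff.mp hζ₁c x)
    hce (mem_center_iff.mp hζ₁c c) (mem_center_iff.mp hζ₁c e₁) p
  have hup : (x * c) ^ p = 1 := by
    rw [← hu]
    have : g⁻¹ * x * g = g⁻¹ * x * g⁻¹⁻¹ := by rw [inv_inv]
    rw [this, conj_pow, h.hxp]
    group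
  have hp3' : 3 ≤ p := by
    have := hpp.two_le
    omega
  have he₁p : e₁ ^ (p.choose 2) = 1 := by
    obtain ⟨m, hm⟩ := hpp.dvd_choose_self (by norm_num : 2 ≠ 0) (by omega : 2 < p)
    rw [hm, pow_mul, h.hEp _ he₁E, one_pow]
  rw [hup, h.hxp, one_mul, he₁p, mul_one] at hform
  have hζ₁p : ζ₁ ^ p = 1 := h.hEp _ (h.hNE hζ₁N)
  have hp3 : p = 3 := by
    by_contra hne
    have h3p : 3 < p := by omega
    obtain ⟨m, hm⟩ := hpp.dvd_choose_self (by norm_num : 3 ≠ 0) h3p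
    rw [hm, pow_mul, hζ₁p, one_pow, mul_one] at hform
    exact hcE (h.R1 c hcC hform.symm)
  have hch3 : p.choose 3 = 1 := by rw [hp3]; rfl
  rw [hch3, pow_one] at hform
  have hζ₁1 : ζ₁ ≠ 1 := by
    intro h1
    rw [h1, mul_one] at hform
    exact hcE (h.R1 c hcC hform.symm)
  have hcp : c ^ p = ζ₁⁻¹ := eq_inv_of_mul_eq_one_left hform.symm
  -- `C_C(x) ≤ N`
  have hHN : ∀ k ∈ C, k * x = x * k → k ∈ N := by
    intro k hkC hkx
    by_contra hkN
    have hΩ : ∀ u ∈ C ⊓ centralizer {x}, u ^ p = 1 → u ∈ N := by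
      intro u hu hup
      exact h.hEx u (h.R1 u hu.1 hup) (mem_centralizer_singleton_iff.mp hu.2)
    obtain ⟨h', hh'S, hh'p⟩ := exists_root hG (C ⊓ centralizer {x}) N h.hNcard hΩ k
      ⟨hkC, mem_centralizer_singleton_iff.mpr hkx⟩ hkN ζ₁ hζ₁N
    have hh'C : h' ∈ C := hh'S.1
    have hh'x : h' * x = x * h' := mem_centralizer_singleton_iff.mp hh'S.2
    have hCpc : PCentral p ↥C := by
      intro k hk
      rw [mem_center_iff]
      intro g
      apply Subtype.ext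
      have h1 : (k : G) ^ p = 1 := by
        have := congrArg Subtype.val hk
        simpa using this
      have h2 : (k : G) ∈ E := h.R1 _ k.2 h1
      have h3 := mem_centralizer_iff.mp g.2 (k : G) h2
      simpa using h3.symm
    have ht₀ : (h'⁻¹ * (c⁻¹ * h' * c)) ^ p = 1 := by
      have h1 := comm_pow_eq_one_of_pcentral hp2 (hG.to_subgroup C) hCpc ⟨h', hh'C⟩ ⟨c, hcC⟩ (by
        rw [mem_center_iff]
        intro g
        apply Subtype.ext
        simp only [Subgroup.coe_mul, SubgroupClass.coe_pow]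
        rw [hh'p]
        exact mem_center_iff.mp hζ₁c _)
      have := congrArg Subtype.val h1
      simpa using this
    have ht₀E : h'⁻¹ * (c⁻¹ * h' * c) ∈ E :=
      h.R1 _ (mul_mem (inv_mem hh'C) (mul_mem (mul_mem (inv_mem hcC) hh'C) hcC)) ht₀
    have hcomm : ⁅h', c⁆ = h'⁻¹ * (c⁻¹ * h' * c) := by
      have h1 : ⁅h', c⁆ = (h' * c) * (h'⁻¹ * (c⁻¹ * h' * c)) * (h' * c)⁻¹ := by
        rw [commutatorElement_def]; group
      have h2 := mem_centralizer_iff.mp (mul_mem hh'C hcC) _ ht₀E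
      rw [h1, ← h2, mul_inv_cancel_right]
    have hc1 : Commute ⁅h', c⁆ c := by
      rw [hcomm]; exact mem_centralizer_iff.mp hcC _ ht₀E
    have hc2 : Commute ⁅h', c⁆ h' := by
      rw [hcomm]; exact mem_centralizer_iff.mp hh'C _ ht₀E
    have h5 := Cfsg.Agent.Helper19.mul_pow_of_commute_comm c h' hc1 hc2 p
    have h6 : ⁅h', c⁆ ^ (p.choose 2) = 1 := by
      obtain ⟨m, hm⟩ := hpp.dvd_choose_self (by norm_num : 2 ≠ 0) (by omega : 2 < p)
      rw [hm, pow_mul, hcomm, ht₀, one_pow]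
    rw [h6, mul_one, hcp, hh'p, inv_mul_cancel] at h5
    have heE : c * h' ∈ E := h.R1 _ (mul_mem hcC hh'C) h5
    -- then `θ(c) ∈ N`
    have hν : x⁻¹ * (c * h')⁻¹ * x * (c * h') ∈ N := by
      have := h.hcommE (c * h') heE x
      have e : x⁻¹ * (c * h')⁻¹ * x * (c * h') = ((c * h')⁻¹ * x⁻¹ * (c * h') * x)⁻¹ := by group
      rw [e]; exact inv_mem this
    have hx'' : x⁻¹ * h' = h' * x⁻¹ := by
      calc x⁻¹ * h' = x⁻¹ * (h' * x) * x⁻¹ := by group
        _ = x⁻¹ * (x * h') * x⁻¹ := by rw [hh'x]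
        _ = h' * x⁻¹ := by group
    have hθN : x⁻¹ * c⁻¹ * x * c ∈ N := by
      have key := theta_mul_inv x (c * h') h' hx''
      rw [mul_inv_cancel_right] at key
      rw [key, mem_center_iff.mp (h.hNc hν) h', mul_inv_cancel_right]
      exact hν
    have he₁N : e₁ ∈ N := by
      have : e₁ = (x⁻¹ * c⁻¹ * x * c)⁻¹ := by rw [he₁]; group
      rw [this]; exact inv_mem hθN
    apply hζ₁1
    have h7 := mem_center_iff.mp (h.hNc he₁N) x⁻¹
    calc ζ₁ = e₁⁻¹ * (x⁻¹ * e₁) * x := by rw [hζ₁]; group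
      _ = e₁⁻¹ * (e₁ * x⁻¹) * x := by rw [h7]
      _ = 1 := by group
  -- the subgroup `F = E⟨x⟩`
  set F : Subgroup G := (zpowers ((QuotientGroup.mk' E) x)).comap (QuotientGroup.mk' E) with hF
  have hEF : E ≤ F := Cfsg.Agent.Helper23.le_comap_mk' E _
  have hxF : x ∈ F := by
    rw [hF, mem_comap]; exact mem_zpowers _
  have hFcard : Nat.card F = p ^ 3 := by
    rw [hF, Cfsg.Agent.Helper23.card_comap_mk', h.hEcard, Nat.card_zpowers]
    have : orderOf ((QuotientGroup.mk' E) x) = p := by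
      apply orderOf_eq_prime
      · rw [← map_pow, h.hxp, map_one]
      · intro h1
        exact hxE ((QuotientGroup.eq_one_iff x).mp h1)
    rw [this]; ring
  have hFna : ¬ IsMulCommutative F := by
    intro hF'
    apply h.hxC
    rw [mem_centralizer_iff]
    intro e he
    exact congrArg Subtype.val (hF'.is_comm.comm ⟨e, hEF he⟩ ⟨x, hxF⟩)
  have hcent : centralizer (F : Set G) ≤ F := by
    intro g hg
    rw [mem_centralizer_iff] at hg
    apply hEF
    apply h.hNE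
    apply hHN
    · rw [hC, mem_centralizer_iff]
      intro e he
      exact hg e (hEF he)
    · exact (hg x hxF).symm
  have hclass := Cfsg.Agent.S4143.result n hn F hFcard hFna hcent
  have hn3 : 3 ≤ n := by
    have := Subgroup.card_le_card_group F
    rw [hFcard, hn] at this
    exact (Nat.pow_le_pow_iff_right hpp.one_lt).mp this
  refine ⟨hp3, by omega, ?_⟩
  rw [Ne, Subgroup.lowerCentralSeries_eq_bot_iff_nilpotencyClass_le, hclass]
  omega

end Cfsg.Agent.Helper10.Blk
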