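import Mathlib
import Cfsg.Agent.Helper10.BlkCaseC

set_option autoImplicit false

/-! # Case I, `F = E⟨x⟩` normal: the homomorphism `θ : C_G(E) → E`, `c ↦ x⁻¹ c⁻¹ x c` -/

namespace Cfsg.Agent.Helper10.Blk

open Subgroup Cfsg Cfsg.Agent.Helper19.Huppert
open scoped commutatorElement

universe u

/-- The homomorphism `θ : C_G(E) → E`, `c ↦ x⁻¹ c⁻¹ x c`. -/
def thetaHom {G : Type*} [Group G] (E : Subgroup G) (x : G)
    (hEab : ∀ a ∈ E, ∀ b ∈ E, a * b = b * a) (hB : ∀ g : G, x⁻¹ * g⁻¹ * x * g ∈ E) :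
    ↥(centralizer (E : Set G)) →* ↥E where
  toFun c := ⟨x⁻¹ * (c : G)⁻¹ * x * c, hB c⟩
  map_one' := by
    apply Subtype.ext
    simp
  map_mul' c d := by
    apply Subtype.ext
    simp only [Subgroup.coe_mul]
    have ht : x⁻¹ * (c : G)⁻¹ * x * c ∈ E := hB c
    have h1 := mem_centralizer_iff.mp d.2 _ ht
    have h2 := hEab _ (hB d) _ ht
    calc x⁻¹ * ((c : G) * d)⁻¹ * x * (c * d)
        = (x⁻¹ * (d : G)⁻¹ * x) * ((x⁻¹ * (c : G)⁻¹ * x * c) * d) := by group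
      _ = (x⁻¹ * (d : G)⁻¹ * x) * (d * (x⁻¹ * (c : G)⁻¹ * x * c)) := by rw [h1]
      _ = (x⁻¹ * (d : G)⁻¹ * x * d) * (x⁻¹ * (c : G)⁻¹ * x * c) := by group
      _ = _ := h2

theorem thetaHom_coe {G : Type*} [Group G] (E : Subgroup G) (x : G)
    (hEab : ∀ a ∈ E, ∀ b ∈ E, a * b = b * a) (hB : ∀ g : G, x⁻¹ * g⁻¹ * x * g ∈ E)
    (c : ↥(centralizer (E : Set G))) :
    ((thetaHom E x hEab hB c : ↥E) : G) = x⁻¹ * (c : G)⁻¹ * x * c := rfl

/-- Cyclicity of preimages under `θ` of subgroups meeting `N` trivially. -/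
theorem exists_gen_K {G : Type*} [Group G] [Finite G] {p : ℕ} [Fact p.Prime] (hp2 : p ≠ 2)
    (hG : IsPGroup p G) (E N : Subgroup G) [E.Normal] [N.Normal] (x : G) (h : Ctx p E N x)
    (θ : ↥(centralizer (E : Set G)) →* ↥E)
    (hθ : ∀ c, ((θ c : ↥E) : G) = x⁻¹ * (c : G)⁻¹ * x * c)
    (S : Subgroup ↥E) (hSN : ∀ s ∈ S, (s : G) ∈ N → s = 1) (hidx : (S.comap θ).index = p) :
    ∃ z : G, z ∈ centralizer (E : Set G) ∧
      (∀ c : ↥(centralizer (E : Set G)), θ c ∈ S ↔ (c : G) ∈ zpowers z) ∧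
      Nat.card G = p * (p * orderOf z) := by
  have hEC : E ≤ centralizer (E : Set G) := by
    intro e he
    rw [mem_centralizer_iff]
    intro e' he'
    exact h.hEab e' he' e he
  set K : Subgroup G := (S.comap θ).map (centralizer (E : Set G)).subtype with hK
  have hKmem : ∀ u : G, u ∈ K ↔ ∃ hu : u ∈ centralizer (E : Set G), θ ⟨u, hu⟩ ∈ S := by
    intro u
    rw [hK, mem_map]
    constructor
    · rintro ⟨k, hk, rfl⟩
      exact ⟨k.2, hk⟩
    · rintro ⟨hu, hk⟩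
      exact ⟨⟨u, hu⟩, hk, rfl⟩
  have hθE : ∀ (u : G) (hu : u ∈ centralizer (E : Set G)), u ∈ E → ((θ ⟨u, hu⟩ : ↥E) : G) ∈ N := by
    intro u hu huE
    rw [hθ]
    have := h.hcommE u huE x
    have e : x⁻¹ * u⁻¹ * x * u = (u⁻¹ * x⁻¹ * u * x)⁻¹ := by group
    simp only
    rw [e]; exact inv_mem this
  have hΩ : ∀ u ∈ K, u ^ p = 1 → u ∈ N := by
    intro u hu hup
    obtain ⟨huC, hθu⟩ := (hKmem u).mp hu
    have huE : u ∈ E := h.R1 u huC hup
    have h1 := hSN _ hθu (hθE u huC huE)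
    have h2 : x⁻¹ * u⁻¹ * x * u = 1 := by
      have := congrArg Subtype.val h1
      rw [hθ] at this
      simpa using this
    exact h.hEx u huE ((comm_eq_one_iff x u).mp h2)
  have hNK : N ≤ K := by
    intro m hm
    rw [hKmem]
    refine ⟨hEC (h.hNE hm), ?_⟩
    have : θ ⟨m, hEC (h.hNE hm)⟩ = 1 := by
      apply Subtype.ext
      rw [hθ]
      simp only [OneMemClass.coe_one]
      rw [comm_eq_one_iff]
      exact (mem_center_iff.mp (h.hNc hm) x).symm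
    rw [this]; exact one_mem _
  obtain ⟨z, hz⟩ := exists_zpowers_eq_of_omega_le hp2 hG K N hNK h.hNcard hΩ
  have hzK : z ∈ K := by rw [hz]; exact mem_zpowers z
  obtain ⟨hzC, -⟩ := (hKmem z).mp hzK
  refine ⟨z, hzC, ?_, ?_⟩
  · intro c
    rw [← hz, hKmem]
    constructor
    · intro hc; exact ⟨c.2, hc⟩
    · rintro ⟨_, hc⟩; exact hc
  · have h1 : Nat.card K = Nat.card (S.comap θ) :=
      Subgroup.card_map_of_injective (centralizer (E : Set G)).subtype_injective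
    have h2 := (S.comap θ).index_mul_card
    rw [hidx, ← h1, hz, Nat.card_zpowers] at h2
    rw [h.hidx, ← h2]

end Cfsg.Agent.Helper10.Blk
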