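import Mathlib
import Cfsg.Agent.Helper10.BlkCaseD

set_option autoImplicit false

/-! # Case I, `F = E⟨x⟩` normal: the two types of groups -/

namespace Cfsg.Agent.Helper10.Blk

open Subgroup Cfsg Cfsg.Agent.Helper19.Huppert
open scoped commutatorElement

universe u

theorem exists_square_adjust {p : ℕ} [Fact p.Prime] (s₀ : ℕ) (hs₀ : ¬ p ∣ s₀) :
    ∃ a s : ℕ, ¬ p ∣ s ∧ (s = 1 ∨ ¬ IsSquare (s : ZMod p)) ∧ s₀ * (a * a) ≡ s [MOD p] := by
  have hpp : p.Prime := Fact.out
  by_cases hsq : IsSquare (s₀ : ZMod p)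
  · obtain ⟨b, hb⟩ := hsq
    have hb0 : b ≠ 0 := by
      rintro rfl
      rw [mul_zero] at hb
      exact hs₀ ((ZMod.natCast_eq_zero_iff s₀ p).mp hb)
    refine ⟨(b⁻¹).val, 1, ?_, Or.inl rfl, ?_⟩
    · intro h
      have := Nat.le_of_dvd one_pos h
      have := hpp.one_lt
      omega
    · rw [← ZMod.natCast_eq_natCast_iff]
      push_cast
      rw [ZMod.natCast_zmod_val, hb]
      field_simp
  · exact ⟨1, s₀, hs₀, Or.inr hsq, by rw [mul_one, mul_one]⟩

theorem exists_ne_one_of_card_prime {G : Type*} [Group G] {p : ℕ} [Fact p.Prime]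
    (N : Subgroup G) (hN : Nat.card N = p) : ∃ m ∈ N, m ≠ 1 := by
  have hpp : p.Prime := Fact.out
  by_contra hcon
  push Not at hcon
  have : N = ⊥ := (Subgroup.eq_bot_iff_forall N).mpr hcon
  rw [this, Subgroup.card_bot] at hN
  exact hpp.one_lt.ne hN

theorem caseI_typeB {G : Type u} [Group G] [Finite G] {p : ℕ} [Fact p.Prime] (hp2 : p ≠ 2)
    (hG : IsPGroup p G) (n : ℕ) (hn : Nat.card G = p ^ n) (E N : Subgroup G) [E.Normal]
    [N.Normal] (x : G) (h : Ctx p E N x) (hB : ∀ g : G, x⁻¹ * g⁻¹ * x * g ∈ E)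
    (hb : ∀ c, ((thetaHom E x h.hEab hB c : ↥E) : G) ∈ N) :
    3 ≤ n ∧ ∃ x y z : G, Subgroup.closure ({x, y, z} : Set G) = ⊤ ∧ x ^ p = 1 ∧ y ^ p = 1 ∧
        z ^ p ^ (n - 2) = 1 ∧ x * z = z * x ∧ y * z = z * y ∧
        x⁻¹ * y * x = y * z ^ p ^ (n - 3) := by
  have hpp : p.Prime := Fact.out
  have hθ := thetaHom_coe E x h.hEab hB
  have hEC : E ≤ centralizer (E : Set G) := by
    intro e he
    rw [mem_centralizer_iff]
    intro e' he'
    exact h.hEab e' he' e he
  have hidx : ((⊥ : Subgroup ↥E).comap (thetaHom E x h.hEab hB)).index = p := by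
    rw [MonoidHom.comap_bot, Subgroup.index_ker]
    have hle : (thetaHom E x h.hEab hB).range ≤ N.subgroupOf E := by
      rintro _ ⟨c, rfl⟩
      rw [mem_subgroupOf]
      exact hb c
    have hcardN' : Nat.card (N.subgroupOf E) = p := by
      rw [Nat.card_congr (subgroupOfEquivOfLe h.hNE).toEquiv, h.hNcard]
    have hdvd := Subgroup.card_dvd_of_le hle
    rw [hcardN'] at hdvd
    rcases (Nat.dvd_prime hpp).mp hdvd with h1 | h1
    · exfalso
      have hbot : (thetaHom E x h.hEab hB).range = ⊥ := Subgroup.card_eq_one.mp h1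
      apply h.hxC
      rw [mem_centralizer_iff]
      intro e he
      have h2 : thetaHom E x h.hEab hB ⟨e, hEC he⟩ ∈ (thetaHom E x h.hEab hB).range := ⟨_, rfl⟩
      rw [hbot, mem_bot] at h2
      have h3 := congrArg Subtype.val h2
      rw [hθ] at h3
      exact (comm_eq_one_iff x e).mp (by simpa using h3)
    · exact h1
  obtain ⟨z, hzC, hzmem, hcard⟩ := exists_gen_K hp2 hG E N x h (thetaHom E x h.hEab hB) hθ ⊥
    (fun s hs _ => mem_bot.mp hs) hidx
  have hzx : z * x = x * z := by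
    have h1 := (hzmem ⟨z, hzC⟩).mpr (mem_zpowers z)
    rw [mem_bot] at h1
    have h2 := congrArg Subtype.val h1
    rw [hθ] at h2
    exact (comm_eq_one_iff x z).mp (by simpa using h2)
  obtain ⟨k, hk⟩ := (IsPGroup.iff_orderOf.mp hG) z
  have hnk : n = k + 2 := by
    rw [hn, hk] at hcard
    have : p ^ n = p ^ (k + 2) := by rw [hcard]; ring
    exact Nat.pow_right_injective hpp.two_le this
  have hk1 : 1 ≤ k := by
    by_contra hlt
    have hk0 : k = 0 := by omega
    rw [hk0, pow_zero, orderOf_eq_one_iff] at hk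
    obtain ⟨m, hmN, hm1⟩ := exists_ne_one_of_card_prime N h.hNcard
    have hm := (hzmem ⟨m, hEC (h.hNE hmN)⟩).mp (by
      rw [mem_bot]
      apply Subtype.ext
      rw [hθ]
      simp only [OneMemClass.coe_one]
      exact (comm_eq_one_iff x m).mpr ((mem_center_iff.mp (h.hNc hmN) x).symm))
    rw [hk, zpowers_one_eq_bot, mem_bot] at hm
    exact hm1 hm
  have hζ'p : (z ^ (p ^ (k - 1))) ^ p = 1 := by
    rw [← pow_mul, ← pow_succ]
    have : k - 1 + 1 = k := by omega
    rw [this, ← hk]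
    exact pow_orderOf_eq_one z
  have hζ'1 : z ^ (p ^ (k - 1)) ≠ 1 := by
    intro h1
    have h2 := orderOf_dvd_of_pow_eq_one h1
    rw [hk] at h2
    have := (Nat.pow_dvd_pow_iff_le_right hpp.one_lt).mp h2
    omega
  have hζ'C : z ^ (p ^ (k - 1)) ∈ centralizer (E : Set G) := pow_mem hzC _
  have hζ'E : z ^ (p ^ (k - 1)) ∈ E := h.R1 _ hζ'C hζ'p
  have hzx' : Commute z x := hzx
  have hζ'N : z ^ (p ^ (k - 1)) ∈ N := h.hEx _ hζ'E (hzx'.pow_left _).eq
  obtain ⟨y, hyE, hxy⟩ := h.hLy _ hζ'N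
  have hyz : y ∉ zpowers z := by
    rintro ⟨j, rfl⟩
    apply hζ'1
    have hc : Commute x (z ^ j) := (hzx'.symm.zpow_right j)
    simp only at hxy
    rw [cj_of_commute hc] at hxy
    exact (mul_eq_left.mp hxy.symm)
  refine ⟨by omega, x, y, z, closure_triple_eq_top hG _ x y z hzC (hEC hyE) hyz h.hxC hcard.le,
    h.hxp, h.hEp y hyE, ?_, hzx.symm, mem_centralizer_iff.mp hzC y hyE, ?_⟩
  · have : n - 2 = k := by omega
    rw [this, ← hk]
    exact pow_orderOf_eq_one z
  · have : n - 3 = k - 1 := by omega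
    rw [this, ← cj_apply]
    exact hxy

end Cfsg.Agent.Helper10.Blk
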