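import Mathlib
import Cfsg.Agent.Helper10.BlkCaseE

set_option autoImplicit false

/-! # Case I, `F = E⟨x⟩` normal: the third type -/

namespace Cfsg.Agent.Helper10.Blk

open Subgroup Cfsg Cfsg.Agent.Helper19.Huppert
open scoped commutatorElement

universe u

theorem caseI_typeC {G : Type u} [Group G] [Finite G] {p : ℕ} [Fact p.Prime] (hp2 : p ≠ 2)
    (hG : IsPGroup p G) (n : ℕ) (hn : Nat.card G = p ^ n) (E N : Subgroup G) [E.Normal]
    [N.Normal] (x : G) (h : Ctx p E N x) (hB : ∀ g : G, x⁻¹ * g⁻¹ * x * g ∈ E)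
    (c₀ : ↥(centralizer (E : Set G)))
    (hc₀ : ((thetaHom E x h.hEab hB c₀ : ↥E) : G) ∉ N) :
    4 ≤ n ∧ ∃ (s : ℕ) (x y z : G), (s = 1 ∨ ¬ IsSquare (s : ZMod p)) ∧
        Subgroup.closure ({x, y, z} : Set G) = ⊤ ∧
        x ^ p = 1 ∧ y ^ p = 1 ∧ z ^ p ^ (n - 2) = 1 ∧ y * z = z * y ∧
        x⁻¹ * y * x = y * z ^ (s * p ^ (n - 3)) ∧ x⁻¹ * z * x = y * z := by
  have hpp : p.Prime := Fact.out
  have hθ := thetaHom_coe E x h.hEab hB
  have hEC : E ≤ centralizer (E : Set G) := by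
    intro e he
    rw [mem_centralizer_iff]
    intro e' he'
    exact h.hEab e' he' e he
  have hθE : ∀ (u : G) (hu : u ∈ centralizer (E : Set G)), u ∈ E →
      ((thetaHom E x h.hEab hB ⟨u, hu⟩ : ↥E) : G) ∈ N := by
    intro u hu huE
    rw [hθ]
    have := h.hcommE u huE x
    have e : x⁻¹ * u⁻¹ * x * u = (u⁻¹ * x⁻¹ * u * x)⁻¹ := by group
    simp only
    rw [e]; exact inv_mem this
  have hEcard' : Nat.card (↥E) = p ^ 2 := h.hEcard
  -- the subgroup `S`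
  have ht₀1 : thetaHom E x h.hEab hB c₀ ≠ 1 := by
    intro h1
    apply hc₀
    rw [h1]
    exact one_mem N
  have ht₀p : (thetaHom E x h.hEab hB c₀) ^ p = 1 := by
    apply Subtype.ext
    simp only [SubgroupClass.coe_pow, OneMemClass.coe_one]
    exact h.hEp _ (thetaHom E x h.hEab hB c₀).2
  have ht₀o : orderOf (thetaHom E x h.hEab hB c₀) = p := orderOf_eq_prime ht₀p ht₀1
  have hScard : Nat.card (zpowers (thetaHom E x h.hEab hB c₀)) = p := by
    rw [Nat.card_zpowers, ht₀o]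
  have hSN : ∀ s ∈ zpowers (thetaHom E x h.hEab hB c₀), (s : G) ∈ N → s = 1 := by
    intro s hs hsN
    by_contra hs1
    have hsp : s ^ p = 1 := by
      apply Subtype.ext
      simp only [SubgroupClass.coe_pow, OneMemClass.coe_one]
      exact h.hEp _ s.2
    have heq : zpowers s = zpowers (thetaHom E x h.hEab hB c₀) := by
      apply Subgroup.eq_of_le_of_card_ge (zpowers_le.mpr hs)
      rw [hScard, Nat.card_zpowers, orderOf_eq_prime hsp hs1]
    have ht : thetaHom E x h.hEab hB c₀ ∈ zpowers s := by rw [heq]; exact mem_zpowers _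
    obtain ⟨j, hj⟩ := ht
    apply hc₀
    rw [← hj]
    simp only [SubgroupClass.coe_zpow]
    exact zpow_mem hsN j
  have hrange : (thetaHom E x h.hEab hB).range = ⊤ := by
    by_contra hne
    have hN'le : N.subgroupOf E ≤ (thetaHom E x h.hEab hB).range := by
      intro m hm
      rw [mem_subgroupOf] at hm
      obtain ⟨e, heE, hxe⟩ := h.hLy (m : G)⁻¹ (inv_mem hm)
      refine ⟨⟨e, hEC heE⟩, ?_⟩
      apply Subtype.ext
      rw [hθ]
      simp only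
      rw [cj_apply] at hxe
      calc x⁻¹ * e⁻¹ * x * e = (x⁻¹ * e * x)⁻¹ * e := by group
        _ = (e * (m : G)⁻¹)⁻¹ * e := by rw [hxe]
        _ = (m : G) := by group
    have hcardN' : Nat.card (N.subgroupOf E) = p := by
      rw [Nat.card_congr (subgroupOfEquivOfLe h.hNE).toEquiv, h.hNcard]
    have h1 := eq_of_sandwich (hG.to_subgroup E) hN'le le_top hcardN'
      (by rw [Subgroup.card_top]; exact hEcard') hne
    have h2 : thetaHom E x h.hEab hB c₀ ∈ (thetaHom E x h.hEab hB).range := ⟨c₀, rfl⟩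
    rw [h1, mem_subgroupOf] at h2
    exact hc₀ h2
  have hidx : ((zpowers (thetaHom E x h.hEab hB c₀)).comap (thetaHom E x h.hEab hB)).index = p := by
    rw [Subgroup.index_comap, hrange, Subgroup.relIndex_top_right]
    have h1 := (zpowers (thetaHom E x h.hEab hB c₀)).index_mul_card
    rw [hScard, hEcard', pow_two] at h1
    exact Nat.eq_of_mul_eq_mul_right hpp.pos h1
  obtain ⟨z, hzC, hzmem, hcard⟩ := exists_gen_K hp2 hG E N x h (thetaHom E x h.hEab hB) hθ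
    (zpowers (thetaHom E x h.hEab hB c₀)) hSN hidx
  have htzS : thetaHom E x h.hEab hB ⟨z, hzC⟩ ∈ zpowers (thetaHom E x h.hEab hB c₀) :=
    (hzmem ⟨z, hzC⟩).mpr (mem_zpowers z)
  have htzN : x⁻¹ * z⁻¹ * x * z ∉ N := by
    intro hN'
    have h1 : thetaHom E x h.hEab hB ⟨z, hzC⟩ = 1 := hSN _ htzS (by rw [hθ]; exact hN')
    obtain ⟨j, hj⟩ := (hzmem c₀).mp (mem_zpowers _)
    simp only at hj
    have h2 : c₀ = (⟨z, hzC⟩ : ↥(centralizer (E : Set G))) ^ j := by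
      apply Subtype.ext
      simp only [SubgroupClass.coe_zpow]
      exact hj.symm
    apply hc₀
    rw [h2, map_zpow, h1, one_zpow]
    exact one_mem N
  have htzE : x⁻¹ * z⁻¹ * x * z ∈ E := hB z
  -- `y₁`
  set y₁ : G := z⁻¹ * x⁻¹ * z * x with hy₁
  have hy₁inv : y₁ = (x⁻¹ * z⁻¹ * x * z)⁻¹ := by rw [hy₁]; group
  have hy₁E : y₁ ∈ E := by rw [hy₁inv]; exact inv_mem htzE
  have hy₁N : y₁ ∉ N := by
    intro h1
    apply htzN
    have : x⁻¹ * z⁻¹ * x * z = y₁⁻¹ := by rw [hy₁inv, inv_inv]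
    rw [this]; exact inv_mem h1
  have hy₁z : y₁ * z = z * y₁ := mem_centralizer_iff.mp hzC y₁ hy₁E
  have hxz : cj x z = y₁ * z := by
    rw [hy₁z, cj_apply, hy₁]; group
  set ζ₁ : G := y₁⁻¹ * x⁻¹ * y₁ * x with hζ₁
  have hζ₁N : ζ₁ ∈ N := h.hcommE y₁ hy₁E x
  have hζ₁c : ζ₁ ∈ center G := h.hNc hζ₁N
  have hxy : cj x y₁ = y₁ * ζ₁ := by rw [cj_apply, hζ₁]; group
  have hζ₁1 : ζ₁ ≠ 1 := by
    intro h1
    apply hy₁N
    apply h.hEx y₁ hy₁E
    exact ((comm_eq_one_iff y₁ x).mp h1).symm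
  have hxζ : Commute x ζ₁ := mem_center_iff.mp hζ₁c x
  have hyζ : Commute y₁ ζ₁ := mem_center_iff.mp hζ₁c y₁
  -- orders
  obtain ⟨k, hk⟩ := (IsPGroup.iff_orderOf.mp hG) z
  have hnk : n = k + 2 := by
    rw [hn, hk] at hcard
    have : p ^ n = p ^ (k + 2) := by rw [hcard]; ring
    exact Nat.pow_right_injective hpp.two_le this
  have hk2 : 2 ≤ k := by
    by_contra hlt
    push Not at hlt
    apply htzN
    have hzp : z ^ p = 1 := by
      apply orderOf_dvd_iff_pow_eq_one.mp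
      rw [hk]
      exact (pow_dvd_pow p (by omega : k ≤ 1)).trans (by rw [pow_one])
    have hzE : z ∈ E := h.R1 z hzC hzp
    have := hθE z hzC hzE
    rw [hθ] at this
    exact this
  have hζ'p : (z ^ (p ^ (k - 1))) ^ p = 1 := by
    rw [← pow_mul, ← pow_succ]
    have : k - 1 + 1 = k := by omega
    rw [this, ← hk]
    exact pow_orderOf_eq_one z
  have hζ'1 : z ^ (p ^ (k - 1)) ≠ 1 := by
    intro h1
    have h2 := orderOf_dvd_of_pow_eq_one h1
    rw [hk] at h2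
    have := (Nat.pow_dvd_pow_iff_le_right hpp.one_lt).mp h2
    omega
  have hζ'C : z ^ (p ^ (k - 1)) ∈ centralizer (E : Set G) := pow_mem hzC _
  have hζ'E : z ^ (p ^ (k - 1)) ∈ E := h.R1 _ hζ'C hζ'p
  have hζ'N : z ^ (p ^ (k - 1)) ∈ N := by
    apply h.hEx _ hζ'E
    have h1 : thetaHom E x h.hEab hB ⟨z ^ (p ^ (k - 1)), hζ'C⟩ ∈
        zpowers (thetaHom E x h.hEab hB c₀) :=
      (hzmem ⟨_, hζ'C⟩).mpr (pow_mem (mem_zpowers z) _)
    have h2 := hSN _ h1 (hθE _ hζ'C hζ'E)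
    have h3 := congrArg Subtype.val h2
    rw [hθ] at h3
    exact (comm_eq_one_iff x _).mp (by simpa using h3)
  have hζ'o : orderOf (z ^ (p ^ (k - 1))) = p := orderOf_eq_prime hζ'p hζ'1
  have hNζ' : zpowers (z ^ (p ^ (k - 1))) = N := by
    apply Subgroup.eq_of_le_of_card_ge (zpowers_le.mpr hζ'N)
    rw [h.hNcard, Nat.card_zpowers, hζ'o]
  have hζ₁mem : ζ₁ ∈ zpowers (z ^ (p ^ (k - 1))) := by rw [hNζ']; exact hζ₁N
  obtain ⟨s₀, hs₀⟩ := mem_powers_iff_mem_zpowers.mpr hζ₁mem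
  simp only at hs₀
  have hps₀ : ¬ p ∣ s₀ := by
    rintro ⟨m, rfl⟩
    apply hζ₁1
    rw [← hs₀, pow_mul, hζ'p, one_pow]
  obtain ⟨a, s, hps, hs, hmod⟩ := exists_square_adjust s₀ hps₀
  have hpow : ζ₁ ^ (a * a) = (z ^ (p ^ (k - 1))) ^ s := by
    rw [← hs₀, ← pow_mul, pow_eq_pow_iff_modEq, hζ'o]
    exact hmod
  have hζs1 : (z ^ (p ^ (k - 1))) ^ s ≠ 1 := by
    intro h1
    apply hps
    have := orderOf_dvd_of_pow_eq_one h1
    rwa [hζ'o] at this
  -- the new generators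
  have hy₂E : y₁ ^ a * ζ₁ ^ (a.choose 2) ∈ E :=
    mul_mem (pow_mem hy₁E _) (pow_mem (h.hNE hζ₁N) _)
  have hz2 : cj (x ^ a) z = y₁ ^ a * ζ₁ ^ (a.choose 2) * z :=
    cj_pow_z x y₁ z ζ₁ hxz hxy hxζ hyζ a
  have hy2 : cj (x ^ a) (y₁ ^ a * ζ₁ ^ (a.choose 2)) =
      y₁ ^ a * ζ₁ ^ (a.choose 2) * (z ^ (p ^ (k - 1))) ^ s := by
    rw [map_mul, map_pow, map_pow, cj_pow_y x y₁ ζ₁ hxy hxζ a,
      cj_of_commute (hxζ.pow_left a), (hyζ.pow_right a).mul_pow, ← pow_mul, ← hpow,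
      mul_assoc, mul_assoc, ((Commute.refl ζ₁).pow_pow _ _).eq]
  have hne_comm : ¬ Commute (x ^ a) (y₁ ^ a * ζ₁ ^ (a.choose 2)) := by
    intro hc
    apply hζs1
    rw [cj_of_commute hc] at hy2
    exact (mul_eq_left.mp hy2.symm)
  have hxaC : x ^ a ∉ centralizer (E : Set G) := by
    intro hc
    apply hne_comm
    exact (mem_centralizer_iff.mp hc _ hy₂E).symm
  have hy₂z : y₁ ^ a * ζ₁ ^ (a.choose 2) ∉ zpowers z := by
    intro hmem
    apply hne_comm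
    have h1 : thetaHom E x h.hEab hB ⟨_, hEC hy₂E⟩ ∈ zpowers (thetaHom E x h.hEab hB c₀) :=
      (hzmem ⟨_, hEC hy₂E⟩).mpr hmem
    have h2 := hSN _ h1 (hθE _ (hEC hy₂E) hy₂E)
    have h3 := congrArg Subtype.val h2
    rw [hθ] at h3
    have h4 : (y₁ ^ a * ζ₁ ^ (a.choose 2)) * x = x * (y₁ ^ a * ζ₁ ^ (a.choose 2)) :=
      (comm_eq_one_iff x _).mp (by simpa using h3)
    have h5 : Commute x (y₁ ^ a * ζ₁ ^ (a.choose 2)) := h4.symm
    exact h5.pow_left a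
  refine ⟨by omega, s, x ^ a, y₁ ^ a * ζ₁ ^ (a.choose 2), z, hs,
    closure_triple_eq_top hG _ (x ^ a) _ z hzC (hEC hy₂E) hy₂z hxaC hcard.le, ?_,
    h.hEp _ hy₂E, ?_, mem_centralizer_iff.mp hzC _ hy₂E, ?_, ?_⟩
  · rw [← pow_mul, mul_comm, pow_mul, h.hxp, one_pow]
  · have : n - 2 = k := by omega
    rw [this, ← hk]
    exact pow_orderOf_eq_one z
  · have : n - 3 = k - 1 := by omega
    rw [this, ← cj_apply, hy2, mul_comm s, pow_mul]
  · rw [← cj_apply, hz2]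

end Cfsg.Agent.Helper10.Blk
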