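import Mathlib
import Cfsg.Agent.Helper10.BlkSmallA
import Cfsg.Agent.S0016
import Cfsg.Agent.S0126
import Cfsg.Agent.S0112
import Cfsg.Agent.Helper9.MaxClassTwo
import Cfsg.Agent.Helper25.MaxClassZ2

set_option autoImplicit false

/-! # A `p`-group (`p` odd) with at most `p²` solutions of `x ^ p = 1` is metacyclic or of
maximal class -/

namespace Cfsg.Agent.Helper10.Blk

open Subgroup Cfsg Cfsg.Agent.Helper19.Huppert
open scoped commutatorElement

universe u

/-- Outside `C_G(E)` the cyclic subgroups are self-centralizing. -/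
theorem centralizer_zpowers_eq {G : Type*} [Group G] [Finite G] {p : ℕ} [Fact p.Prime]
    (hp2 : p ≠ 2) (hG : IsPGroup p G) (E N : Subgroup G) (hNE : N ≤ E) (hNc : N ≤ center G)
    (hN : Nat.card N = p) (hE : Nat.card E = p ^ 2) (hΩ : ∀ x : G, x ^ p = 1 → x ∈ E)
    (hpow : ∀ g : G, g ^ p ∈ centralizer (E : Set G))
    (s : G) (hs : s ∉ centralizer (E : Set G)) :
    centralizer (zpowers s : Set G) = zpowers s := by
  have hpp : p.Prime := Fact.out
  set CG : Subgroup G := centralizer (zpowers s : Set G) with hCG
  have hsCG : s ∈ CG := by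
    rw [hCG, mem_centralizer_iff]
    rintro h ⟨k, rfl⟩
    exact ((Commute.refl s).zpow_left k).eq
  have hNCG : N ≤ CG := by
    intro m hm
    rw [hCG, mem_centralizer_iff]
    intro h _
    exact mem_center_iff.mp (hNc hm) h
  have hD : E ⊓ CG = N := by
    refine eq_of_sandwich hG (le_inf hNE hNCG) inf_le_left hN hE (fun h => hs ?_)
    rw [mem_centralizer_iff]
    intro e he
    have heCG : e ∈ CG := (inf_eq_left.mp h) he
    rw [hCG, mem_centralizer_iff] at heCG
    exact (heCG s (mem_zpowers s)).symm
  have key : ∀ H : Subgroup ↥CG, Nat.card H = p → H = N.subgroupOf CG := by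
    intro H hH
    apply Subgroup.eq_of_le_of_card_ge
    · intro h hh
      rw [mem_subgroupOf]
      have h1 : (⟨h, hh⟩ : H) ^ Nat.card H = 1 := pow_card_eq_one'
      rw [hH] at h1
      have h2 : (h : G) ^ p = 1 := by
        have := congrArg (fun t : H => ((t : ↥CG) : G)) h1
        simpa using this
      have h3 : (h : G) ∈ E ⊓ CG := ⟨hΩ _ h2, h.2⟩
      rw [hD] at h3
      exact h3
    · rw [hH, Nat.card_congr (Subgroup.subgroupOfEquivOfLe hNCG).toEquiv, hN]
  have huniq : ∀ H K : Subgroup ↥CG, Nat.card H = p → Nat.card K = p → H = K := by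
    intro H K hH hK
    rw [key H hH, key K hK]
  rcases Cfsg.Agent.S0016.result p (hG.to_subgroup CG) huniq with hcyc | ⟨h2, _⟩
  · obtain ⟨t, ht⟩ := hcyc.exists_generator
    obtain ⟨k, hk⟩ := ht ⟨s, hsCG⟩
    simp only at hk
    have hpk : ¬ (p : ℤ) ∣ k := by
      rintro ⟨k', rfl⟩
      apply hs
      have h1 : s = ((t : G) ^ k') ^ p := by
        have := congrArg Subtype.val hk
        simp only [SubgroupClass.coe_zpow] at this
        rw [← this, mul_comm, zpow_mul, zpow_natCast]
      rw [h1]
      exact hpow _
    obtain ⟨m, hm⟩ := (IsPGroup.iff_orderOf.mp (hG.to_subgroup CG)) t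
    have hcop : IsCoprime k ((p : ℤ) ^ m) :=
      IsCoprime.pow_right ((Nat.prime_iff_prime_int.mp hpp).coprime_iff_not_dvd.mpr hpk).symm
    obtain ⟨a, b, hab⟩ := hcop
    have htp : t ^ ((p : ℤ) ^ m) = 1 := by
      have : ((p : ℤ) ^ m) = ((p ^ m : ℕ) : ℤ) := by push_cast; rfl
      rw [this, zpow_natCast, ← hm]
      exact pow_orderOf_eq_one t
    have ht' : t = (⟨s, hsCG⟩ : ↥CG) ^ a := by
      calc t = t ^ (1 : ℤ) := (zpow_one t).symm
        _ = t ^ (a * k + b * (p : ℤ) ^ m) := by rw [hab]
        _ = (t ^ k) ^ a * (t ^ ((p : ℤ) ^ m)) ^ b := by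
          rw [zpow_add, mul_comm a k, zpow_mul, mul_comm b, zpow_mul]
        _ = _ := by rw [hk, htp, one_zpow, mul_one]
    apply le_antisymm
    · intro u hu
      obtain ⟨j, hj⟩ := ht ⟨u, hu⟩
      simp only at hj
      have h1 : u = (s ^ a) ^ j := by
        have := congrArg Subtype.val hj
        rw [ht'] at this
        simp only [SubgroupClass.coe_zpow] at this
        exact this.symm
      rw [h1]
      exact zpow_mem (zpow_mem (mem_zpowers s) _) _
    · rw [zpowers_le]; exact hsCG
  · exact absurd h2 hp2

theorem small_main {p : ℕ} [Fact p.Prime] (hp2 : p ≠ 2) :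
    ∀ (n : ℕ) (G : Type u) [Group G] [Finite G], Nat.card G = p ^ n → HSmall p G →
      Cfsg.IsMetacyclic G ∨ (3 ≤ n ∧ (⊤ : Subgroup G).lowerCentralSeries (n - 2) ≠ ⊥) := by
  have hpp : p.Prime := Fact.out
  intro n
  induction n using Nat.strong_induction_on with
  | _ n ih =>
  intro G _ _ hn hS
  have hG : IsPGroup p G := IsPGroup.of_card hn
  haveI hnil : Group.IsNilpotent G := hG.isNilpotent
  by_cases hab : commutator G = ⊥
  · left
    exact class_two_case' hp2 hG hS 1 (one_mem _) (one_pow _) (by rw [hab]; exact bot_le)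
  have hnc : ¬ IsCyclic G := by
    intro hcyc
    apply hab
    rw [commutator_eq_bot_iff_center_eq_top, eq_top_iff]
    intro g _
    rw [mem_center_iff]
    intro h
    exact commutative_of_cyclic_center_quotient (MonoidHom.id G) (by simp) h g
  obtain ⟨E, hEn, hEel, hEcard⟩ := Cfsg.Agent.S0126.result hp2 hG hnc
  haveI := hEn
  have hΩ : ∀ x : G, x ^ p = 1 → x ∈ E := by
    intro x hx
    let f : E → {x : G // x ^ p = 1} := fun e => ⟨e.1, hEel.2 e.1 e.2⟩
    have hf : Function.Injective f := fun a b hab' =>
      Subtype.ext (congrArg (fun t => (t.1 : G)) hab')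
    have hbij := hf.bijective_of_nat_card_le (by rw [hEcard]; exact hS)
    obtain ⟨e, he⟩ := hbij.2 ⟨x, hx⟩
    have : (e : G) = x := congrArg Subtype.val he
    rw [← this]; exact e.2
  obtain ⟨z, hzN, hzc, hzo⟩ : ∃ z ∈ commutator G, z ∈ center G ∧ orderOf z = p := by
    obtain ⟨b, hb1, hb2, hb3⟩ :=
      Cfsg.Agent.Helper23.exists_mem_inf_center_ne_one hG (commutator G) hab
    obtain ⟨k, hk⟩ := (IsPGroup.iff_orderOf.mp hG) b
    have hk0 : k ≠ 0 := by
      rintro rfl
      rw [pow_zero, orderOf_eq_one_iff] at hk
      exact hb3 hk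
    refine ⟨b ^ (p ^ (k - 1)), pow_mem hb1 _, pow_mem hb2 _, ?_⟩
    rw [orderOf_pow' b (pow_ne_zero _ hpp.ne_zero), hk,
      Nat.gcd_eq_right (pow_dvd_pow p (Nat.sub_le k 1))]
    have : p ^ k = p ^ (k - 1) * p := by
      rw [← pow_succ]; congr 1; omega
    rw [this, Nat.mul_div_cancel_left _ (pow_pos hpp.pos _)]
  have hzp : z ^ p = 1 := by rw [← hzo]; exact pow_orderOf_eq_one z
  set N : Subgroup G := zpowers z with hN
  have hNc : N ≤ center G := by rw [hN, zpowers_le]; exact hzc
  haveI hNn : N.Normal := ⟨fun n hn g => by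
    have := mem_center_iff.mp (hNc hn) g
    rw [this, mul_inv_cancel_right]; exact hn⟩
  have hNcard : Nat.card N = p := by rw [hN, Nat.card_zpowers, hzo]
  have hNE : N ≤ E := by rw [hN, zpowers_le]; exact hΩ z hzp
  have hNp : ∀ m ∈ N, m ^ p = 1 := by
    intro m hm
    obtain ⟨k, hk⟩ := hm
    simp only at hk
    rw [← hk, ← zpow_natCast, ← zpow_mul, mul_comm, zpow_mul, zpow_natCast, hzp, one_zpow]
  have hcommE : ∀ e ∈ E, ∀ g : G, e⁻¹ * g⁻¹ * e * g ∈ N := fun e he g =>
    comm_mem_of_normal_sq hG E N hNE hEcard hNcard e he g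
  set C : Subgroup G := centralizer (E : Set G) with hC
  have hEC : E ≤ C := by
    intro e he
    rw [hC, mem_centralizer_iff]
    intro e' he'
    have := hEel.1.is_comm.comm ⟨e', he'⟩ ⟨e, he⟩
    exact congrArg Subtype.val this
  have hCpc : PCentral p ↥C := by
    intro k hk
    rw [mem_center_iff]
    intro g
    apply Subtype.ext
    have h1 : (k : G) ^ p = 1 := by
      have := congrArg Subtype.val hk
      simpa using this
    have h2 : (k : G) ∈ E := hΩ _ h1
    have h3 := mem_centralizer_iff.mp g.2 (k : G) h2
    simpa using h3.symm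
  have hpowC : ∀ g : G, g ^ p ∈ C := by
    intro g
    rw [hC, mem_centralizer_iff]
    intro e he
    have hζ : e⁻¹ * g⁻¹ * e * g ∈ N := hcommE e he g
    have hζc : e⁻¹ * g⁻¹ * e * g ∈ center G := hNc hζ
    have hζp : (e⁻¹ * g⁻¹ * e * g) ^ p = 1 := hNp _ hζ
    have h1 : SemiconjBy e g (g * (e⁻¹ * g⁻¹ * e * g)) := by
      unfold SemiconjBy
      rw [mul_assoc, ← mem_center_iff.mp hζc e]
      group
    have h2 := h1.pow_right p
    have hcm : Commute g (e⁻¹ * g⁻¹ * e * g) := mem_center_iff.mp hζc g
    rw [hcm.mul_pow, hζp, mul_one] at h2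
    exact h2
  have h2n : 2 ≤ n := by
    have := Subgroup.card_le_card_group E
    rw [hEcard, hn] at this
    exact (Nat.pow_le_pow_iff_right hpp.one_lt).mp this
  have hn2 : n ≠ 2 := by
    rintro rfl
    apply hab
    have hEt : E = ⊤ := Subgroup.eq_top_of_card_eq E (by rw [hEcard, hn])
    rw [commutator_eq_bot_iff_center_eq_top, eq_top_iff]
    intro g _
    rw [mem_center_iff]
    intro h
    have hg : g ∈ E := by rw [hEt]; exact mem_top g
    have hh : h ∈ E := by rw [hEt]; exact mem_top h
    exact congrArg Subtype.val (hEel.1.is_comm.comm ⟨h, hh⟩ ⟨g, hg⟩)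
  have hn3 : 3 ≤ n := by omega
  by_cases hmc : ∃ s : G, s ∉ C ∧ s ^ (p ^ 2) = 1
  · right
    obtain ⟨s, hsC, hs2⟩ := hmc
    have hord : orderOf s = p ^ 2 := by
      obtain ⟨k, hk2, hk⟩ := (Nat.dvd_prime_pow hpp).mp (orderOf_dvd_of_pow_eq_one hs2)
      by_cases hk1 : k ≤ 1
      · exfalso
        apply hsC
        apply hEC
        apply hΩ
        apply orderOf_dvd_iff_pow_eq_one.mp
        rw [hk]
        exact (pow_dvd_pow p hk1).trans (by rw [pow_one])
      · have : k = 2 := by omega
        rw [hk, this]
    have hcent := centralizer_zpowers_eq hp2 hG E N hNE hNc hNcard hEcard hΩ hpowC s hsC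
    have hclass := Cfsg.Agent.S0112.result n hn (zpowers s)
      (by rw [Nat.card_zpowers, hord]) hcent
    refine ⟨hn3, ?_⟩
    rw [Ne, Subgroup.lowerCentralSeries_eq_bot_iff_nilpotencyClass_le, hclass]
    omega
  · push Not at hmc
    have hW : ∀ x : G, x ^ p ∈ N → x ∈ C := by
      intro x hx
      by_contra hxC
      apply hmc x hxC
      rw [pow_two, pow_mul]; exact hNp _ hx
    have hQS := small_quotient hp2 hG hS C hCpc N hNcard hW
    obtain ⟨m, rfl⟩ : ∃ m, n = m + 1 := ⟨n - 1, by omega⟩
    have hQcard : Nat.card (G ⧸ N) = p ^ m := by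
      have h1 := Subgroup.card_eq_card_quotient_mul_card_subgroup N
      rw [hn, hNcard, pow_succ] at h1
      exact (Nat.eq_of_mul_eq_mul_right hpp.pos h1).symm
    rcases ih m (by omega) (G ⧸ N) hQcard hQS with hQm | ⟨hm3, hlcs⟩
    · left; exact lift_metacyclic hp2 hG hS z hzN hzc hzo hQm
    · have hQG : IsPGroup p (G ⧸ N) := hG.to_quotient N
      have hclassQ := Cfsg.Agent.Helper25.MaxClassZ2.nilpotencyClass_eq p m (by omega) hQcard hlcs
      have hZQ := Cfsg.Agent.Helper9.card_center_of_maxClass m hm3 hQcard hclassQ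
      set E' : Subgroup (G ⧸ N) := E.map (QuotientGroup.mk' N) with hE'
      have hE'c : E' ≤ center (G ⧸ N) := map_mk_le_center_of_sq hG E N hNE hEcard hNcard
      have hE'card : Nat.card E' = p := card_map_mk_of_sq E N hNE hEcard hNcard
      have hZE' : center (G ⧸ N) = E' :=
        (Subgroup.eq_of_le_of_card_ge hE'c (by rw [hZQ, hE'card])).symm
      have hcomapE' : E'.comap (QuotientGroup.mk' N) = E := by
        rw [hE', Subgroup.comap_map_eq, QuotientGroup.ker_mk', sup_eq_left.mpr hNE]
      by_cases hCtop : C = ⊤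
      · -- `E` is central
        have hEcen : E ≤ center G := by
          intro e he
          rw [mem_center_iff]
          intro g
          have hg : g ∈ C := by rw [hCtop]; exact mem_top g
          exact (mem_centralizer_iff.mp hg e he).symm
        by_cases hm4 : m = 3
        · left
          have hQm : Cfsg.IsMetacyclic (G ⧸ N) := small_cube hQG hQS (by rw [hQcard, hm4])
          exact lift_metacyclic hp2 hG hS z hzN hzc hzo hQm
        · exfalso
          haveI : Group.IsNilpotent (G ⧸ N) := hQG.isNilpotent
          have hQ₂card : Nat.card ((G ⧸ N) ⧸ center (G ⧸ N)) = p ^ (m - 1) := by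
            have h1 := Subgroup.card_eq_card_quotient_mul_card_subgroup (center (G ⧸ N))
            rw [hQcard, hZQ] at h1
            have : p ^ m = p ^ (m - 1) * p := by rw [← pow_succ]; congr 1; omega
            rw [this] at h1
            exact (Nat.eq_of_mul_eq_mul_right hpp.pos h1).symm
          have hclassQ₂ : Group.nilpotencyClass ((G ⧸ N) ⧸ center (G ⧸ N)) = (m - 1) - 1 := by
            rw [Group.nilpotencyClass_quotient_center, hclassQ]
          have hZQ₂ := Cfsg.Agent.Helper9.card_center_of_maxClass (m - 1) (by omega) hQ₂card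
            hclassQ₂
          have hGpc : PCentral p G := fun x hx => hEcen (hΩ x hx)
          have hcen : ∀ q : (G ⧸ N) ⧸ center (G ⧸ N), q ^ p = 1 →
              q ∈ center ((G ⧸ N) ⧸ center (G ⧸ N)) := by
            intro q hq
            obtain ⟨q', rfl⟩ := QuotientGroup.mk'_surjective (center (G ⧸ N)) q
            obtain ⟨x, rfl⟩ := QuotientGroup.mk'_surjective N q'
            have h1 : ((QuotientGroup.mk' N) x) ^ p ∈ center (G ⧸ N) := by
              rw [← map_pow] at hq
              exact (QuotientGroup.eq_one_iff _).mp hq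
            have h2 : x ^ p ∈ E := by
              rw [← hcomapE', mem_comap, map_pow, ← hZE']; exact h1
            rw [mem_center_iff]
            intro r
            obtain ⟨r', rfl⟩ := QuotientGroup.mk'_surjective (center (G ⧸ N)) r
            obtain ⟨g, rfl⟩ := QuotientGroup.mk'_surjective N r'
            have h3 := comm_pow_eq_one_of_pcentral hp2 hG hGpc x g (hEcen h2)
            have h4 : x⁻¹ * (g⁻¹ * x * g) ∈ E := hΩ _ h3
            have h5 : (QuotientGroup.mk' N) (x⁻¹ * (g⁻¹ * x * g)) ∈ center (G ⧸ N) := by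
              rw [hZE']; exact Subgroup.mem_map_of_mem _ h4
            have h6 : (QuotientGroup.mk' (center (G ⧸ N)))
                ((QuotientGroup.mk' N) (x⁻¹ * (g⁻¹ * x * g))) = 1 :=
              (QuotientGroup.eq_one_iff _).mpr h5
            rw [map_mul, map_mul, map_mul, map_inv, map_inv, map_mul, map_mul, map_mul, map_inv,
              map_inv, inv_mul_eq_one] at h6
            generalize (QuotientGroup.mk' (center (G ⧸ N))) ((QuotientGroup.mk' N) x) = X at h6 ⊢
            generalize (QuotientGroup.mk' (center (G ⧸ N))) ((QuotientGroup.mk' N) g) = R at h6 ⊢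
            calc R * X = R * (R⁻¹ * X * R) := by rw [← h6]
              _ = X * R := by group
          have huniq : ∀ H K : Subgroup ((G ⧸ N) ⧸ center (G ⧸ N)),
              Nat.card H = p → Nat.card K = p → H = K := by
            have key : ∀ H : Subgroup ((G ⧸ N) ⧸ center (G ⧸ N)), Nat.card H = p →
                H = center ((G ⧸ N) ⧸ center (G ⧸ N)) := by
              intro H hH
              apply Subgroup.eq_of_le_of_card_ge
              · intro h hh
                apply hcen
                have h1 : (⟨h, hh⟩ : H) ^ Nat.card H = 1 := pow_card_eq_one'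
                rw [hH] at h1
                have := congrArg Subtype.val h1
                simpa using this
              · rw [hZQ₂, hH]
            intro H K hH hK
            rw [key H hH, key K hK]
          rcases Cfsg.Agent.S0016.result p (hQG.to_quotient (center (G ⧸ N))) huniq with
            hcyc | ⟨h2, _⟩
          · haveI := hcyc
            apply hlcs
            have hcomm : ∀ a b : G ⧸ N, a * b = b * a :=
              commutative_of_cyclic_center_quotient (QuotientGroup.mk' (center (G ⧸ N)))
                (by rw [QuotientGroup.ker_mk'])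
            have h1 : commutator (G ⧸ N) = ⊥ := by
              rw [commutator_eq_bot_iff_center_eq_top, eq_top_iff]
              intro a _
              rw [mem_center_iff]
              intro b
              exact hcomm b a
            rw [eq_bot_iff, ← h1, ← top_lowerCentralSeries_one]
            exact Subgroup.lowerCentralSeries_antitone _ (by omega : 1 ≤ m - 2)
          · exact hp2 h2
      · -- `E` is not central
        have hEZ : E ⊓ center G = N := by
          refine eq_of_sandwich hG (le_inf hNE hNc) inf_le_left hNcard hEcard (fun h => hCtop ?_)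
          rw [eq_top_iff]
          intro g _
          rw [hC, mem_centralizer_iff]
          intro e he
          have hec : e ∈ center G := (inf_eq_left.mp h he)
          exact (mem_center_iff.mp hec g).symm
        have hZN : center G ≤ N := by
          intro w hwZ
          have hwE : w ∈ E := by
            rw [← hcomapE', mem_comap, ← hZE', mem_center_iff]
            intro q
            obtain ⟨g, rfl⟩ := QuotientGroup.mk'_surjective N q
            rw [← map_mul, ← map_mul, mem_center_iff.mp hwZ g]
          have : w ∈ E ⊓ center G := ⟨hwE, hwZ⟩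
          rwa [hEZ] at this
        right
        refine ⟨by omega, ?_⟩
        intro hbot
        apply hlcs
        have e1 : m + 1 - 2 = (m - 2) + 1 := by omega
        rw [e1, Subgroup.lowerCentralSeries_succ, commutator_eq_bot_iff_le_centralizer, coe_top,
          centralizer_univ] at hbot
        have h1 := Subgroup.map_lowerCentralSeries (⊤ : Subgroup G) (QuotientGroup.mk' N) (m - 2)
        rw [← MonoidHom.range_eq_map,
          MonoidHom.range_eq_top.mpr (QuotientGroup.mk'_surjective N)] at h1
        rw [← h1, eq_bot_iff]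
        calc ((⊤ : Subgroup G).lowerCentralSeries (m - 2)).map (QuotientGroup.mk' N)
            ≤ (center G).map (QuotientGroup.mk' N) := Subgroup.map_mono hbot
          _ ≤ N.map (QuotientGroup.mk' N) := Subgroup.map_mono hZN
          _ = ⊥ := (Subgroup.map_eq_bot_iff _).mpr (by rw [QuotientGroup.ker_mk'])

end Cfsg.Agent.Helper10.Blk
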