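import Mathlib
import Cfsg.Agent.Helper1.ClsGraph7

/-!
Class-size prime graph, connected case (Alfandary): diameter at most 3.  Part 1: the two far
vertices `p`, `q`, comparison of class sizes, and the normal subgroups `Wp`, `Np`.
-/

set_option autoImplicit false

namespace Cfsg.Agent.Helper10.CSG

open Subgroup Cfsg.Agent.Helper1 Cfsg.Agent.Helper1.ClsGraph

variable {G : Type*} [Group G]

/-- `a` and `b` divide a common class size -/
def Adj (G : Type*) [Group G] (a b : ℕ) : Prop := ∃ g : G, a ∣ idx g ∧ b ∣ idx g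

theorem Adj.symm {a b : ℕ} (h : Adj G a b) : Adj G b a := by
  obtain ⟨g, h1, h2⟩ := h
  exact ⟨g, h2, h1⟩

/-- there is no walk of length three from `p` to `q` -/
def Far (G : Type*) [Group G] (p q : ℕ) : Prop :=
  ∀ a b : ℕ, a.Prime → b.Prime → Adj G p a → Adj G a b → Adj G b q → False

theorem Far.symm {p q : ℕ} (h : Far G p q) : Far G q p := by
  intro a b ha hb h1 h2 h3
  exact h b a hb ha h3.symm h2.symm h1.symm

theorem le_of_dvd_mul_of_no_mixed {m n d : ℕ} (hm : 0 < m) (hn : 0 < n) (hmn : m ≤ n)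
    (hd : d ∣ m * n)
    (h : ∀ a b : ℕ, a.Prime → b.Prime → a ∣ m → a ∣ d → b ∣ d → b ∣ n → False) : d ≤ n := by
  by_cases h1 : Nat.Coprime d m
  · exact Nat.le_of_dvd hn (h1.dvd_of_dvd_mul_left hd)
  · obtain ⟨a, ha, had, ham⟩ := Nat.Prime.not_coprime_iff_dvd.mp h1
    have h2 : Nat.Coprime d n := by
      by_contra h2
      obtain ⟨b, hb, hbd, hbn⟩ := Nat.Prime.not_coprime_iff_dvd.mp h2
      exact h a b ha hb ham had hbd hbn
    have h3 : d ∣ m := h2.dvd_of_dvd_mul_right hd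
    exact (Nat.le_of_dvd hm h3).trans hmn

theorem coprime_of_far {p q : ℕ} (hfar : Far G p q) {x c : G} (hx : p ∣ idx x)
    (hc : q ∣ idx c) : Nat.Coprime (idx x) (idx c) := by
  by_contra h
  obtain ⟨r, hr, h1, h2⟩ := Nat.Prime.not_coprime_iff_dvd.mp h
  exact hfar r r hr hr ⟨x, hx, h1⟩ ⟨x, h1, h1⟩ ⟨c, h2, hc⟩

/-- commutators of the element of smaller class size stabilize the bigger class -/
theorem comm_mem_rstab_of_far [Finite G] {p q : ℕ} (hfar : Far G p q) {x c : G}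
    (hx : p ∣ idx x) (hc : q ∣ idx c) (hle : idx x ≤ idx c) (g : G) :
    g * x * g⁻¹ * x⁻¹ ∈ rstab (conjugatesOf c) := by
  have hcop : Nat.Coprime (idx c) (idx x) := (coprime_of_far hfar hx hc).symm
  apply comm_mem_rstab' _ hcop
  have hd : idx (c * x) ∣ idx x * idx c := by
    rw [mul_comm]; exact idx_mul_dvd hcop
  apply le_of_dvd_mul_of_no_mixed (Nat.pos_of_ne_zero (idx_ne_zero x))
    (Nat.pos_of_ne_zero (idx_ne_zero c)) hle hd
  intro a b ha hb h1 h2 h3 h4
  exact hfar a b ha hb ⟨x, hx, h1⟩ ⟨c * x, h2, h3⟩ ⟨c, h4, hc⟩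

/-- if the minimal class size among the `p`- and `q`-classes is attained at a `p`-class, then every
`p`-class is smaller than every `q`-class -/
theorem idx_le_of_min [Finite G] {p q : ℕ} (hp : p.Prime) (hfar : Far G p q) {b : G}
    (hb : p ∣ idx b) (hmin : ∀ g : G, (p ∣ idx g ∨ q ∣ idx g) → idx b ≤ idx g) {x c : G}
    (hx : p ∣ idx x) (hc : q ∣ idx c) : idx x ≤ idx c := by
  by_contra hlt
  have hlt' : idx c ≤ idx x := (not_le.mp hlt).le
  have hcop : Nat.Coprime (idx x) (idx c) := coprime_of_far hfar hx hc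
  have hbot : rstab (conjugatesOf c) ⊓ rstab (conjugatesOf x) = ⊥ := by
    rw [← Subgroup.card_eq_one]
    have h1 : Nat.card ↥(rstab (conjugatesOf c) ⊓ rstab (conjugatesOf x)) ∣ idx c :=
      (Subgroup.card_dvd_of_le inf_le_left).trans (card_rstab_dvd_idx c)
    have h2 : Nat.card ↥(rstab (conjugatesOf c) ⊓ rstab (conjugatesOf x)) ∣ idx x :=
      (Subgroup.card_dvd_of_le inf_le_right).trans (card_rstab_dvd_idx x)
    exact Nat.eq_one_of_dvd_coprimes hcop h2 h1
  have hcen : b ∈ center G := by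
    rw [mem_center_iff]
    intro g
    have hk : g * b * g⁻¹ * b⁻¹ ∈ rstab (conjugatesOf c) :=
      comm_mem_rstab_of_far hfar hb hc (hmin c (Or.inr hc)) g
    have hcc : c ∈ conjugatesOf c := mem_conjugatesOf_self
    obtain ⟨h, hh⟩ := mem_conjugatesOf_iff'.mp ((mem_rstab.mp hk c hcc).1)
    have hk2 : h * c * h⁻¹ * c⁻¹ ∈ rstab (conjugatesOf x) :=
      comm_mem_rstab_of_far hfar.symm hc hx hlt' h
    have hk3 : g * b * g⁻¹ * b⁻¹ ∈ rstab (conjugatesOf x) := by
      have e : g * b * g⁻¹ * b⁻¹ = c⁻¹ * (h * c * h⁻¹ * c⁻¹) * c⁻¹⁻¹ := by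
        have : g * b * g⁻¹ * b⁻¹ = c⁻¹ * (h * c * h⁻¹) := by rw [hh]; group
        rw [this]; group
      rw [e]
      exact (rstab_normal x).conj_mem _ hk2 c⁻¹
    have hk4 : g * b * g⁻¹ * b⁻¹ ∈ (⊥ : Subgroup G) := by
      rw [← hbot]; exact Subgroup.mem_inf.mpr ⟨hk, hk3⟩
    rw [Subgroup.mem_bot] at hk4
    calc g * b = (g * b * g⁻¹ * b⁻¹) * b * g := by group
      _ = b * g := by rw [hk4, one_mul]
  rw [← idx_eq_one_iff] at hcen
  rw [hcen] at hb
  exact hp.one_lt.ne' (Nat.dvd_one.mp hb)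

/-- the set of elements whose class size is divisible by `p` -/
def Pset (G : Type*) [Group G] (p : ℕ) : Set G := {x | p ∣ idx x}

/-- the normal subgroup generated by `Pset` -/
def Wp (G : Type*) [Group G] (p : ℕ) : Subgroup G := normalClosure (Pset G p)

/-- the normal subgroup generated by the commutators of the elements of `Pset` -/
def Np (G : Type*) [Group G] (p : ℕ) : Subgroup G :=
  normalClosure {z | ∃ x g : G, p ∣ idx x ∧ z = g * x * g⁻¹ * x⁻¹}

instance Wp_normal (p : ℕ) : (Wp G p).Normal := normalClosure_normal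

instance Np_normal (p : ℕ) : (Np G p).Normal := normalClosure_normal

theorem mem_Wp {p : ℕ} {x : G} (hx : p ∣ idx x) : x ∈ Wp G p :=
  subset_normalClosure hx

theorem Np_le_Wp (p : ℕ) : Np G p ≤ Wp G p := by
  apply normalClosure_le_normal
  rintro z ⟨x, g, hx, rfl⟩
  exact (Wp G p).mul_mem ((Wp_normal p).conj_mem x (mem_Wp hx) g) ((Wp G p).inv_mem (mem_Wp hx))

theorem comm_mem_Np_of_mem_Wp {p : ℕ} {w : G} (hw : w ∈ Wp G p) (g : G) :
    g * w * g⁻¹ * w⁻¹ ∈ Np G p := by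
  set T : Subgroup G := (center (G ⧸ Np G p)).comap (QuotientGroup.mk' (Np G p)) with hT
  have hTn : T.Normal := Subgroup.Normal.comap inferInstance _
  have hle : Wp G p ≤ T := by
    apply normalClosure_le_normal
    intro x hx
    change p ∣ idx x at hx
    rw [hT, SetLike.mem_coe, Subgroup.mem_comap, mem_center_iff]
    intro y
    induction y using QuotientGroup.induction_on with
    | H k =>
      change ((k * x : G) : G ⧸ Np G p) = ((x * k : G) : G ⧸ Np G p)
      rw [QuotientGroup.eq]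
      have h1 : k⁻¹ * x * k⁻¹⁻¹ * x⁻¹ ∈ Np G p :=
        subset_normalClosure ⟨x, k⁻¹, hx, rfl⟩
      have e : (k * x)⁻¹ * (x * k) = x⁻¹ * (k⁻¹ * x * k⁻¹⁻¹ * x⁻¹) * x⁻¹⁻¹ := by group
      rw [e]
      exact (Np_normal p).conj_mem _ h1 x⁻¹
  have h1 := hle hw
  rw [hT, Subgroup.mem_comap, mem_center_iff] at h1
  have h2 := h1 ((g⁻¹ : G) : G ⧸ Np G p)
  change ((g⁻¹ * w : G) : G ⧸ Np G p) = ((w * g⁻¹ : G) : G ⧸ Np G p) at h2
  rw [QuotientGroup.eq] at h2
  have e : g * w * g⁻¹ * w⁻¹ = w * ((g⁻¹ * w)⁻¹ * (w * g⁻¹)) * w⁻¹ := by group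
  rw [e]
  exact (Np_normal p).conj_mem _ h2 w

/-- the standing hypotheses after the comparison of class sizes -/
structure Ctx (G : Type*) [Group G] (p q : ℕ) : Prop where
  hp : p.Prime
  hq : q.Prime
  far : Far G p q
  exb : ∃ b : G, p ∣ idx b
  exc : ∃ c : G, q ∣ idx c
  le : ∀ x c : G, p ∣ idx x → q ∣ idx c → idx x ≤ idx c

variable {p q : ℕ}

theorem Ctx.Np_le_rstab [Finite G] (S : Ctx G p q) {c : G} (hc : q ∣ idx c) :
    Np G p ≤ rstab (conjugatesOf c) := by
  apply normalClosure_le_normal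
  rintro z ⟨x, g, hx, rfl⟩
  exact comm_mem_rstab_of_far S.far hx hc (S.le x c hx hc) g

theorem Ctx.card_Np_dvd [Finite G] (S : Ctx G p q) {c : G} (hc : q ∣ idx c) :
    Nat.card (Np G p) ∣ idx c :=
  (Subgroup.card_dvd_of_le (S.Np_le_rstab hc)).trans (card_rstab_dvd_idx c)

theorem Ctx.coprime_card_Np [Finite G] (S : Ctx G p q) {x : G} (hx : p ∣ idx x) :
    Nat.Coprime (Nat.card (Np G p)) (idx x) := by
  obtain ⟨c, hc⟩ := S.exc
  exact Nat.Coprime.coprime_dvd_left (S.card_Np_dvd hc) (coprime_of_far S.far hx hc).symm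

theorem Ctx.not_dvd_card_Np [Finite G] (S : Ctx G p q) : ¬ p ∣ Nat.card (Np G p) := by
  intro h
  obtain ⟨b, hb⟩ := S.exb
  have h1 := Nat.dvd_gcd h hb
  rw [S.coprime_card_Np hb] at h1
  exact S.hp.one_lt.ne' (Nat.dvd_one.mp h1)

theorem Ctx.Np_le_cent [Finite G] (S : Ctx G p q) {x : G} (hx : p ∣ idx x) :
    Np G p ≤ centralizer ({x} : Set G) :=
  le_cent_of_coprime _ x (S.coprime_card_Np hx)

theorem Ctx.Wp_le_centralizer [Finite G] (S : Ctx G p q) :
    Wp G p ≤ centralizer (Np G p : Set G) := by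
  apply normalClosure_le_normal
  intro x hx
  change p ∣ idx x at hx
  rw [SetLike.mem_coe, Subgroup.mem_centralizer_iff]
  intro n hn
  exact Ito.mem_cent.mp (S.Np_le_cent hx hn)

theorem Ctx.Np_comm [Finite G] (S : Ctx G p q) {m n : G} (hm : m ∈ Np G p) (hn : n ∈ Np G p) :
    m * n = n * m := by
  have h1 := S.Wp_le_centralizer (Np_le_Wp p hn)
  rw [Subgroup.mem_centralizer_iff] at h1
  exact h1 m hm

end Cfsg.Agent.Helper10.CSG
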