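import Mathlib
import Cfsg.Agent.Helper10.CSG1

/-!
Class-size prime graph, connected case, part 2: the Sylow `p`-subgroup is central modulo `Np`,
`G = Wp * C(P)`, and the normal subgroup `U = C(Np) ⊓ C(P)`.
-/

set_option autoImplicit false

namespace Cfsg.Agent.Helper10.CSG

open Subgroup Cfsg.Agent.Helper1 Cfsg.Agent.Helper1.ClsGraph

variable {G : Type*} [Group G] {p q : ℕ}

/-- a Sylow `p`-subgroup can be conjugated into any subgroup of index prime to `p` -/
theorem exists_conj_le_of_not_dvd_index [Finite G] [Fact p.Prime] (P : Sylow p G)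
    (K : Subgroup G) (h : ¬ p ∣ K.index) : ∃ g : G, ∀ u ∈ P, g⁻¹ * u * g ∈ K := by
  have hq : ¬ p ∣ Nat.card (G ⧸ K) := by rwa [← index_eq_card]
  obtain ⟨a, ha⟩ := P.isPGroup'.nonempty_fixed_point_of_prime_not_dvd_card (G ⧸ K) hq
  induction a using QuotientGroup.induction_on with
  | H g =>
  refine ⟨g, ?_⟩
  intro u hu
  have h1 := ha ⟨u, hu⟩
  change (u • (g : G ⧸ K)) = _ at h1
  rw [MulAction.Quotient.smul_mk, QuotientGroup.eq, smul_eq_mul] at h1
  have := inv_mem h1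
  have e : ((u * g)⁻¹ * g)⁻¹ = g⁻¹ * u * g := by group
  rwa [e] at this

theorem eq_one_of_pow_eq_one_of_coprime {k : G} {m n : ℕ} (hmn : Nat.Coprime m n)
    (h1 : k ^ m = 1) (h2 : k ^ n = 1) : k = 1 := by
  have := Nat.dvd_gcd (orderOf_dvd_of_pow_eq_one h1) (orderOf_dvd_of_pow_eq_one h2)
  rw [hmn] at this
  exact orderOf_eq_one_iff.mp (Nat.dvd_one.mp this)

theorem pow_card_Np_eq_one [Finite G] {k : G} (hk : k ∈ Np G p) : k ^ Nat.card (Np G p) = 1 := by
  have h2 := congrArg (fun t : Np G p => (t : G)) (pow_card_eq_one' (G := Np G p) (x := ⟨k, hk⟩))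
  simp only [Subgroup.coe_pow, Subgroup.coe_one] at h2
  exact h2

/-- a `p`-element centralizing `Np` centralizes `Wp` -/
theorem Ctx.commute_of_mem_centralizer [Finite G] (S : Ctx G p q) {u w : G} {m : ℕ}
    (hu : u ^ (p ^ m) = 1) (huN : u ∈ centralizer (Np G p : Set G)) (hw : w ∈ Wp G p) :
    u * w = w * u := by
  set k := u * w * u⁻¹ * w⁻¹ with hk
  have hkN : k ∈ Np G p := comm_mem_Np_of_mem_Wp hw u
  have hku : k * u = u * k := (Subgroup.mem_centralizer_iff.mp huN) k hkN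
  have huw : u * w = k * w * u := by rw [hk]; group
  have key : ∀ j : ℕ, u ^ j * w = k ^ j * w * u ^ j := by
    intro j
    induction j with
    | zero => simp
    | succ j ih =>
      have hkj : u * k ^ j = k ^ j * u := ((Commute.pow_right (show Commute u k from hku.symm) j)).eq
      calc u ^ (j + 1) * w = u * (u ^ j * w) := by rw [pow_succ']; group
        _ = u * (k ^ j * w * u ^ j) := by rw [ih]
        _ = (u * k ^ j) * w * u ^ j := by group
        _ = k ^ j * (u * w) * u ^ j := by rw [hkj]; group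
        _ = k ^ j * (k * w * u) * u ^ j := by rw [huw]
        _ = k ^ (j + 1) * w * u ^ (j + 1) := by rw [pow_succ, pow_succ']; group
  have h1 := key (p ^ m)
  rw [hu, one_mul, mul_one] at h1
  have h2 : k ^ (p ^ m) = 1 := by
    have : k ^ (p ^ m) * w = 1 * w := by rw [one_mul]; exact h1.symm
    exact mul_right_cancel this
  have hcop : Nat.Coprime (p ^ m) (Nat.card (Np G p)) :=
    Nat.Coprime.pow_left m ((Nat.Prime.coprime_iff_not_dvd S.hp).mpr S.not_dvd_card_Np)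
  have h3 : k = 1 := eq_one_of_pow_eq_one_of_coprime hcop h2 (pow_card_Np_eq_one hkN)
  rw [huw, h3, one_mul]

theorem Ctx.sylow_not_le [Finite G] [Fact p.Prime] (S : Ctx G p q) (P : Sylow p G) :
    ¬ (P : Subgroup G) ≤ centralizer (Np G p : Set G) := by
  intro hle
  obtain ⟨b, hb⟩ := S.exb
  have h1 : (P : Subgroup G) ≤ centralizer ({b} : Set G) := by
    intro u hu
    rw [Ito.mem_cent]
    obtain ⟨m, hm⟩ := (IsPGroup.iff_orderOf.mp P.isPGroup') ⟨u, hu⟩
    have hm' : u ^ (p ^ m) = 1 := by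
      have h2 : (⟨u, hu⟩ : (P : Subgroup G)) ^ (p ^ m) = 1 := by
        rw [← hm]; exact pow_orderOf_eq_one _
      have h3 := congrArg (fun t : (P : Subgroup G) => (t : G)) h2
      simpa using h3
    exact S.commute_of_mem_centralizer hm' (hle hu) (mem_Wp hb)
  have h2 : idx b ∣ (P : Subgroup G).index := index_dvd_of_le h1
  exact P.not_dvd_index (hb.trans h2)

theorem Ctx.sup_eq_top [Finite G] [Fact p.Prime] (_S : Ctx G p q) (P : Sylow p G) :
    Wp G p ⊔ centralizer ((P : Subgroup G) : Set G) = ⊤ := by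
  apply eq_top_of_forall_conj_mem
  intro x
  by_cases hx : p ∣ idx x
  · exact ⟨1, by simpa using (le_sup_left : Wp G p ≤ _) (mem_Wp hx)⟩
  · obtain ⟨g, hg⟩ := exists_conj_le_of_not_dvd_index P (centralizer ({x} : Set G)) hx
    refine ⟨g⁻¹, ?_⟩
    apply (le_sup_right : centralizer ((P : Subgroup G) : Set G) ≤ _)
    rw [Subgroup.mem_centralizer_iff]
    intro u hu
    have h1 := Ito.mem_cent.mp (hg u hu)
    rw [inv_inv]
    calc u * (g * x * g⁻¹) = g * ((g⁻¹ * u * g) * x) * g⁻¹ := by group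
      _ = g * (x * (g⁻¹ * u * g)) * g⁻¹ := by rw [h1]
      _ = g * x * g⁻¹ * u := by group

/-- every element is a product of an element of `Wp` and an element centralizing `P` -/
theorem Ctx.exists_mul [Finite G] [Fact p.Prime] (S : Ctx G p q) (P : Sylow p G) (g : G) :
    ∃ w ∈ Wp G p, ∃ h ∈ centralizer ((P : Subgroup G) : Set G), g = w * h := by
  have h1 : g ∈ ((Wp G p ⊔ centralizer ((P : Subgroup G) : Set G) : Subgroup G) : Set G) := by
    rw [S.sup_eq_top P]; exact Subgroup.mem_top g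
  rw [Subgroup.normal_mul, Set.mem_mul] at h1
  obtain ⟨w, hw, h, hh, e⟩ := h1
  exact ⟨w, hw, h, hh, e.symm⟩

/-- conjugation by `g` on `Np` agrees with conjugation by an element centralizing `P` -/
theorem Ctx.exists_conj_eq [Finite G] [Fact p.Prime] (S : Ctx G p q) (P : Sylow p G) (g : G) :
    ∃ h ∈ centralizer ((P : Subgroup G) : Set G), ∀ n ∈ Np G p, g * n * g⁻¹ = h * n * h⁻¹ := by
  obtain ⟨w, hw, h, hh, rfl⟩ := S.exists_mul P g
  refine ⟨h, hh, ?_⟩
  intro n hn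
  have h1 : h * n * h⁻¹ ∈ Np G p := (Np_normal p).conj_mem n hn h
  have h2 := (Subgroup.mem_centralizer_iff.mp (S.Wp_le_centralizer hw)) _ h1
  calc w * h * n * (w * h)⁻¹ = w * (h * n * h⁻¹) * w⁻¹ := by group
    _ = (h * n * h⁻¹) * w * w⁻¹ := by rw [h2]
    _ = h * n * h⁻¹ := by group

theorem Ctx.comm_sylow_mem [Finite G] [Fact p.Prime] (S : Ctx G p q) (P : Sylow p G) (g : G)
    {u : G} (hu : u ∈ P) : g * u * g⁻¹ * u⁻¹ ∈ Np G p := by
  obtain ⟨w, hw, h, hh, rfl⟩ := S.exists_mul P g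
  have h1 : u * h = h * u := (Subgroup.mem_centralizer_iff.mp hh) u hu
  have h2 : u * w * u⁻¹ * w⁻¹ ∈ Np G p := comm_mem_Np_of_mem_Wp hw u
  have e : w * h * u * (w * h)⁻¹ * u⁻¹ = (u * w * u⁻¹ * w⁻¹)⁻¹ := by
    calc w * h * u * (w * h)⁻¹ * u⁻¹ = w * (h * u) * h⁻¹ * w⁻¹ * u⁻¹ := by group
      _ = w * (u * h) * h⁻¹ * w⁻¹ * u⁻¹ := by rw [h1]
      _ = (u * w * u⁻¹ * w⁻¹)⁻¹ := by group
  rw [e]
  exact (Np G p).inv_mem h2

/-- the subgroup `U = C(Np) ⊓ C(P)` -/
def Up (G : Type*) [Group G] (p : ℕ) (P : Sylow p G) : Subgroup G :=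
  centralizer (Np G p : Set G) ⊓ centralizer ((P : Subgroup G) : Set G)

theorem Ctx.conj_mem_Up [Finite G] [Fact p.Prime] (S : Ctx G p q) (P : Sylow p G) {y : G}
    (hy : y ∈ Up G p P) (g : G) : g * y * g⁻¹ ∈ Up G p P := by
  obtain ⟨hy1, hy2⟩ := Subgroup.mem_inf.mp hy
  refine Subgroup.mem_inf.mpr ⟨(normal_centralizer (H := Np G p)).conj_mem y hy1 g, ?_⟩
  rw [Subgroup.mem_centralizer_iff]
  intro u hu
  have hn : g⁻¹ * u * g⁻¹⁻¹ * u⁻¹ ∈ Np G p := S.comm_sylow_mem P g⁻¹ hu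
  have c1 : (g⁻¹ * u * g⁻¹⁻¹ * u⁻¹) * y = y * (g⁻¹ * u * g⁻¹⁻¹ * u⁻¹) :=
    (Subgroup.mem_centralizer_iff.mp hy1) _ hn
  have c2 : u * y = y * u := (Subgroup.mem_centralizer_iff.mp hy2) u hu
  have c3 : (g⁻¹ * u * g) * y = y * (g⁻¹ * u * g) := by
    have e : g⁻¹ * u * g = (g⁻¹ * u * g⁻¹⁻¹ * u⁻¹) * u := by group
    rw [e, mul_assoc, c2, ← mul_assoc, c1, mul_assoc]
  calc u * (g * y * g⁻¹) = g * ((g⁻¹ * u * g) * y) * g⁻¹ := by group
    _ = g * (y * (g⁻¹ * u * g)) * g⁻¹ := by rw [c3]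
    _ = g * y * g⁻¹ * u := by group

end Cfsg.Agent.Helper10.CSG
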