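import Mathlib
import Cfsg.Agent.Helper10.CSG2

/-!
Class-size prime graph, connected case, part 3: the norm-map argument and the final theorem.
-/

set_option autoImplicit false

namespace Cfsg.Agent.Helper10.CSG

open Subgroup Cfsg.Agent.Helper1 Cfsg.Agent.Helper1.ClsGraph

variable {G : Type*} [Group G] {p q : ℕ}

theorem conj_mem_centralizer_of {P : Subgroup G} {g x : G}
    (hg : ∀ u ∈ P, g⁻¹ * u * g ∈ centralizer ({x} : Set G)) :
    g * x * g⁻¹ ∈ centralizer (P : Set G) := by
  rw [Subgroup.mem_centralizer_iff]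
  intro u hu
  have h1 := Ito.mem_cent.mp (hg u hu)
  calc u * (g * x * g⁻¹) = g * ((g⁻¹ * u * g) * x) * g⁻¹ := by group
    _ = g * (x * (g⁻¹ * u * g)) * g⁻¹ := by rw [h1]
    _ = g * x * g⁻¹ * u := by group

open scoped IsMulCommutative in
theorem Ctx.adj_of_dvd [Finite G] [Fact p.Prime] (S : Ctx G p q) {y : G} (hpy : ¬ p ∣ idx y)
    (hcop : Nat.Coprime (Nat.card (Np G p)) (idx y)) {t : ℕ} (ht : t ∣ idx y) : Adj G p t := by
  obtain ⟨P⟩ : Nonempty (Sylow p G) := inferInstance
  have hcomm : IsMulCommutative (Np G p) :=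
    ⟨⟨fun a b => Subtype.ext (S.Np_comm a.2 b.2)⟩⟩
  -- an element `u` of `P` not centralizing `Np`
  have hnot := S.sylow_not_le P
  rw [SetLike.not_le_iff_exists] at hnot
  obtain ⟨u, hu, huN⟩ := hnot
  rw [Subgroup.mem_centralizer_iff] at huN
  push Not at huN
  obtain ⟨n, hn, hnu⟩ := huN
  obtain ⟨m, hm⟩ : ∃ m : ℕ, u ^ (p ^ m) = 1 := by
    obtain ⟨m, hm⟩ := (IsPGroup.iff_orderOf.mp P.isPGroup') ⟨u, hu⟩
    refine ⟨m, ?_⟩
    have h2 : (⟨u, hu⟩ : (P : Subgroup G)) ^ (p ^ m) = 1 := by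
      rw [← hm]; exact pow_orderOf_eq_one _
    have h3 := congrArg (fun t : (P : Subgroup G) => (t : G)) h2
    simp only [Subgroup.coe_pow, Subgroup.coe_one] at h3
    exact h3
  set e := p ^ m with he
  have hecop : Nat.Coprime e (Nat.card (Np G p)) :=
    Nat.Coprime.pow_left m ((Nat.Prime.coprime_iff_not_dvd S.hp).mpr S.not_dvd_card_Np)
  set α : MulAut (Np G p) := MulAut.conjNormal u with hα
  have hαe : α ^ e = 1 := by rw [hα, ← map_pow, hm, map_one]
  set ν : Np G p := ⟨n, hn⟩ with hν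
  set X : Np G p := ν⁻¹ * α ν with hX
  have hX1 : X ≠ 1 := by
    intro h
    have h1 : α ν = ν := by
      have : ν * X = ν := by rw [h, mul_one]
      rw [hX, mul_inv_cancel_left] at this
      exact this
    have h2 := congrArg (fun t : Np G p => (t : G)) h1
    simp only [hα, MulAut.conjNormal_apply, hν] at h2
    apply hnu
    calc n * u = (u * n * u⁻¹) * u := by rw [h2]
      _ = u * n := by group
  have hXnrm : nrm α e X = 1 := by
    have hc : α ν * ν = ν * α ν := Subtype.ext (S.Np_comm (α ν).2 ν.2)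
    have h1 : X * ν = α ν := by
      rw [hX, mul_assoc, hc, inv_mul_cancel_left]
    have h2 : nrm α e (α ν) = nrm α e ν :=
      (nrm_comm α α (Commute.refl α) e ν).symm.trans (nrm_fixed α e hαe ν)
    have h3 := nrm_mul α e X ν
    rw [h1, h2] at h3
    exact mul_eq_right.mp h3.symm
  have KL : ∀ z : Np G p, (z : G) * u = u * (z : G) → nrm α e z = 1 → z = 1 := by
    intro z hzu hz
    have hfix : α z = z := by
      apply Subtype.ext
      rw [hα, MulAut.conjNormal_apply, ← hzu]
      group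
    rw [nrm_of_fixed α e z hfix] at hz
    have h2 := congrArg (fun t : Np G p => (t : G)) hz
    simp only [Subgroup.coe_pow, Subgroup.coe_one] at h2
    apply Subtype.ext
    exact eq_one_of_pow_eq_one_of_coprime hecop h2 (pow_card_Np_eq_one z.2)
  -- conjugate `y` into `C(P)`
  obtain ⟨g, hg⟩ := exists_conj_le_of_not_dvd_index P (centralizer ({y} : Set G)) hpy
  set y' := g * y * g⁻¹ with hy'
  have hy'P : y' ∈ centralizer ((P : Subgroup G) : Set G) := conj_mem_centralizer_of hg
  have hidx : idx y' = idx y := idx_conj g y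
  have hy'N : y' ∈ centralizer (Np G p : Set G) := by
    rw [Subgroup.mem_centralizer_iff]
    intro k hk
    have hcop' : Nat.Coprime (Nat.card (Np G p)) (idx y') := by rw [hidx]; exact hcop
    exact Ito.mem_cent.mp (le_cent_of_coprime _ y' hcop' hk)
  have hy'U : y' ∈ Up G p P := Subgroup.mem_inf.mpr ⟨hy'N, hy'P⟩
  set x : G := (X : G) with hx
  have hxN : x ∈ Np G p := X.2
  -- Claim A
  have hA : centralizer ({x * y'} : Set G) ≤ centralizer ({y'} : Set G) := by
    intro g' hg'
    rw [Ito.mem_cent] at hg' ⊢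
    obtain ⟨h, hh, hconj⟩ := S.exists_conj_eq P g'
    have hhu : u * h = h * u := (Subgroup.mem_centralizer_iff.mp hh) u hu
    have hy'' : g' * y' * g'⁻¹ ∈ Up G p P := S.conj_mem_Up P hy'U g'
    have e1 : (g' * x * g'⁻¹) * (g' * y' * g'⁻¹) = x * y' := by
      calc (g' * x * g'⁻¹) * (g' * y' * g'⁻¹) = (g' * (x * y')) * g'⁻¹ := by group
        _ = (x * y' * g') * g'⁻¹ := by rw [hg']
        _ = x * y' := by group
    set γ : MulAut (Np G p) := MulAut.conjNormal h with hγ
    have hγα : Commute γ α := by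
      change γ * α = α * γ
      rw [hγ, hα, ← map_mul, ← map_mul, hhu]
    set Z : Np G p := X⁻¹ * γ X with hZ
    have hZcoe : (Z : G) = x⁻¹ * (g' * x * g'⁻¹) := by
      rw [hZ, Subgroup.coe_mul, Subgroup.coe_inv, hγ, MulAut.conjNormal_apply, hconj x hxN]
    have hZU : (Z : G) ∈ Up G p P := by
      have e2 : (Z : G) = y' * (g' * y' * g'⁻¹)⁻¹ := by
        rw [hZcoe]
        have : g' * x * g'⁻¹ = x * y' * (g' * y' * g'⁻¹)⁻¹ := by
          rw [← e1]; group
        rw [this]; group
      rw [e2]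
      exact (Up G p P).mul_mem hy'U ((Up G p P).inv_mem hy'')
    have hZu : (Z : G) * u = u * (Z : G) :=
      (Subgroup.mem_centralizer_iff.mp (Subgroup.mem_inf.mp hZU).2) u hu |>.symm
    have hZnrm : nrm α e Z = 1 := by
      have hc : γ X * X = X * γ X := Subtype.ext (S.Np_comm (γ X).2 X.2)
      have h1 : Z * X = γ X := by
        rw [hZ, mul_assoc, hc, inv_mul_cancel_left]
      have h3 := nrm_mul α e Z X
      rw [h1, ← nrm_comm α γ hγα, hXnrm, map_one, mul_one] at h3
      exact h3.symm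
    have hZ1 : Z = 1 := KL Z hZu hZnrm
    have h4 : g' * x * g'⁻¹ = x := by
      have := congrArg (fun t : Np G p => (t : G)) hZ1
      simp only [Subgroup.coe_one] at this
      rw [hZcoe] at this
      exact (inv_mul_eq_one.mp this).symm
    rw [h4] at e1
    have h5 : g' * y' * g'⁻¹ = y' := mul_left_cancel e1
    calc g' * y' = (g' * y' * g'⁻¹) * g' := by group
      _ = y' * g' := by rw [h5]
  -- Claim B
  have hB : p ∣ idx (x * y') := by
    by_contra hB
    obtain ⟨g', hg'⟩ := exists_conj_le_of_not_dvd_index P (centralizer ({x * y'} : Set G)) hB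
    have hv : g' * (x * y') * g'⁻¹ ∈ centralizer ((P : Subgroup G) : Set G) :=
      conj_mem_centralizer_of hg'
    obtain ⟨h, hh, hconj⟩ := S.exists_conj_eq P g'
    have hy'' : g' * y' * g'⁻¹ ∈ centralizer ((P : Subgroup G) : Set G) :=
      (Subgroup.mem_inf.mp (S.conj_mem_Up P hy'U g')).2
    have h1 : h * x * h⁻¹ ∈ centralizer ((P : Subgroup G) : Set G) := by
      rw [← hconj x hxN]
      have e : g' * x * g'⁻¹ = (g' * (x * y') * g'⁻¹) * (g' * y' * g'⁻¹)⁻¹ := by group
      rw [e]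
      exact Subgroup.mul_mem _ hv (Subgroup.inv_mem _ hy'')
    have h2 : x ∈ centralizer ((P : Subgroup G) : Set G) := by
      have e : x = h⁻¹ * (h * x * h⁻¹) * h := by group
      rw [e]
      exact Subgroup.mul_mem _ (Subgroup.mul_mem _ (Subgroup.inv_mem _ hh) h1) hh
    have h3 : x * u = u * x := ((Subgroup.mem_centralizer_iff.mp h2) u hu).symm
    exact hX1 (KL X h3 hXnrm)
  refine ⟨x * y', hB, ?_⟩
  have h1 : idx y' ∣ idx (x * y') := index_dvd_of_le hA
  rw [hidx] at h1
  exact ht.trans h1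

/-- the closed neighbourhood of `p` is closed under adjacency -/
theorem Ctx.closed [Finite G] (S : Ctx G p q) {a t : ℕ} (ha : a.Prime)
    (hpa : Adj G p a) {y : G} (hay : a ∣ idx y) (hty : t ∣ idx y) : Adj G p t := by
  have : Fact p.Prime := ⟨S.hp⟩
  by_cases hpy : p ∣ idx y
  · exact ⟨y, hpy, hty⟩
  · apply S.adj_of_dvd hpy _ hty
    by_contra hcop
    obtain ⟨l, hl, h1, h2⟩ := Nat.Prime.not_coprime_iff_dvd.mp hcop
    obtain ⟨c, hc⟩ := S.exc
    exact S.far a l ha hl hpa ⟨y, hay, h2⟩ ⟨c, h1.trans (S.card_Np_dvd hc), hc⟩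

end Cfsg.Agent.Helper10.CSG
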