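import Mathlib
import Cfsg.Agent.Helper10.CSG3

/-!
Class-size prime graph, connected case, part 4: assembling the diameter bound.
-/

set_option autoImplicit false

namespace Cfsg.Agent.Helper10.CSG

open Subgroup Cfsg.Agent.Helper1 Cfsg.Agent.Helper1.ClsGraph

variable {G : Type*} [Group G]

theorem mul_dvd_of_primes {a b n : ℕ} (ha : a.Prime) (hb : b.Prime) (hab : a ≠ b) (h1 : a ∣ n)
    (h2 : b ∣ n) : a * b ∣ n :=
  Nat.Coprime.mul_dvd_of_dvd_of_dvd ((Nat.coprime_primes ha hb).mpr hab) h1 h2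

/-- if the closed neighbourhood of a vertex `p` is closed under adjacency and misses the vertex `q`,
the connectedness hypothesis fails -/
theorem false_of_closed [Finite G]
    (hconn : ∀ S : Set ℕ, (∃ p ∈ S, (p.Prime ∧ ∃ g : G, p ∣ idx g)) →
      (∃ q ∉ S, (q.Prime ∧ ∃ g : G, q ∣ idx g)) →
      ∃ p q : ℕ, (p.Prime ∧ ∃ g : G, p ∣ idx g) ∧ (q.Prime ∧ ∃ g : G, q ∣ idx g) ∧ p ∈ S ∧ q ∉ S ∧
        (∃ g : G, p * q ∣ idx g))
    {p q : ℕ} (S : Ctx G p q) (hpq : ¬ Adj G p q) : False := by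
  obtain ⟨b, hb⟩ := S.exb
  obtain ⟨c, hc⟩ := S.exc
  obtain ⟨p', q', hp', _, hp'S, hq'S, g, hg⟩ := hconn {a | Adj G p a}
    ⟨p, ⟨b, hb, hb⟩, S.hp, b, hb⟩ ⟨q, hpq, S.hq, c, hc⟩
  apply hq'S
  exact S.closed hp'.1 hp'S ((dvd_mul_right p' q').trans hg) ((dvd_mul_left q' p').trans hg)

theorem diameter_le_three [Finite G]
    (hconn : ∀ S : Set ℕ, (∃ p ∈ S, (p.Prime ∧ ∃ g : G, p ∣ idx g)) →
      (∃ q ∉ S, (q.Prime ∧ ∃ g : G, q ∣ idx g)) →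
      ∃ p q : ℕ, (p.Prime ∧ ∃ g : G, p ∣ idx g) ∧ (q.Prime ∧ ∃ g : G, q ∣ idx g) ∧ p ∈ S ∧ q ∉ S ∧
        (∃ g : G, p * q ∣ idx g))
    (p q : ℕ) (hp : (p.Prime ∧ ∃ g : G, p ∣ idx g)) (hq : (q.Prime ∧ ∃ g : G, q ∣ idx g))
    (hpq : p ≠ q) :
    (∃ g : G, p * q ∣ idx g) ∨
    (∃ r : ℕ, (r.Prime ∧ ∃ g : G, r ∣ idx g) ∧ r ≠ p ∧ r ≠ q ∧ (∃ g : G, p * r ∣ idx g) ∧
      (∃ g : G, r * q ∣ idx g)) ∨
    (∃ r s : ℕ, (r.Prime ∧ ∃ g : G, r ∣ idx g) ∧ (s.Prime ∧ ∃ g : G, s ∣ idx g) ∧ r ≠ p ∧ s ≠ q ∧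
      r ≠ s ∧ r ≠ q ∧ s ≠ p ∧ (∃ g : G, p * r ∣ idx g) ∧ (∃ g : G, r * s ∣ idx g) ∧
      (∃ g : G, s * q ∣ idx g)) := by
  by_contra hneg
  obtain ⟨hpp, b0, hb0⟩ := hp
  obtain ⟨hqp, c0, hc0⟩ := hq
  have hfar : Far G p q := by
    intro a b ha hb h1 h2 h3
    obtain ⟨g1, h1p, h1a⟩ := h1
    obtain ⟨g2, h2a, h2b⟩ := h2
    obtain ⟨g3, h3b, h3q⟩ := h3
    apply hneg
    by_cases haq : a = q
    · left; subst haq
      exact ⟨g1, mul_dvd_of_primes hpp ha hpq h1p h1a⟩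
    by_cases hbp : b = p
    · left; subst hbp
      exact ⟨g3, mul_dvd_of_primes hb hqp hpq h3b h3q⟩
    by_cases hap : a = p
    · subst hap
      by_cases hbq : b = q
      · left; subst hbq
        exact ⟨g2, mul_dvd_of_primes ha hb hpq h2a h2b⟩
      · right; left
        exact ⟨b, ⟨hb, g2, h2b⟩, hbp, hbq, ⟨g2, mul_dvd_of_primes ha hb (Ne.symm hbp) h2a h2b⟩,
          ⟨g3, mul_dvd_of_primes hb hqp hbq h3b h3q⟩⟩
    by_cases hbq : b = q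
    · subst hbq
      right; left
      exact ⟨a, ⟨ha, g1, h1a⟩, hap, haq, ⟨g1, mul_dvd_of_primes hpp ha (Ne.symm hap) h1p h1a⟩,
        ⟨g2, mul_dvd_of_primes ha hb haq h2a h2b⟩⟩
    by_cases hab : a = b
    · subst hab
      right; left
      exact ⟨a, ⟨ha, g1, h1a⟩, hap, haq, ⟨g1, mul_dvd_of_primes hpp ha (Ne.symm hap) h1p h1a⟩,
        ⟨g3, mul_dvd_of_primes ha hqp haq h3b h3q⟩⟩
    right; right
    exact ⟨a, b, ⟨ha, g1, h1a⟩, ⟨hb, g2, h2b⟩, hap, hbq, hab, haq, hbp,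
      ⟨g1, mul_dvd_of_primes hpp ha (Ne.symm hap) h1p h1a⟩,
      ⟨g2, mul_dvd_of_primes ha hb hab h2a h2b⟩,
      ⟨g3, mul_dvd_of_primes hb hqp hbq h3b h3q⟩⟩
  have hnadj : ¬ Adj G p q := by
    rintro ⟨g, h1, h2⟩
    exact hneg (Or.inl ⟨g, mul_dvd_of_primes hpp hqp hpq h1 h2⟩)
  -- the element of minimal class size among the `p`- and `q`-classes
  obtain ⟨b, hbS, hbmin⟩ := Set.exists_min_image {g : G | p ∣ idx g ∨ q ∣ idx g} idx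
    (Set.toFinite _) ⟨b0, Or.inl hb0⟩
  rcases hbS with hb | hb
  · have S : Ctx G p q :=
      ⟨hpp, hqp, hfar, ⟨b0, hb0⟩, ⟨c0, hc0⟩, fun x c hx hc =>
        idx_le_of_min hpp hfar hb (fun g hg => hbmin g hg) hx hc⟩
    exact false_of_closed hconn S hnadj
  · have S : Ctx G q p :=
      ⟨hqp, hpp, hfar.symm, ⟨c0, hc0⟩, ⟨b0, hb0⟩, fun x c hx hc =>
        idx_le_of_min hqp hfar.symm hb (fun g hg => hbmin g hg.symm) hx hc⟩
    exact false_of_closed hconn S (fun h => hnadj h.symm)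

end Cfsg.Agent.Helper10.CSG
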