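import Mathlib
import Cfsg.Agent.Helper10.CSG4
import Cfsg.Agent.Helper20.Sylow

/-!
The prime graph on the class sizes of `p`-singular elements, part 1: two elements of order `p`
whose class sizes are not mixed by any `p`-singular class.
-/

set_option autoImplicit false

namespace Cfsg.Agent.Helper10.CSG

open Subgroup Cfsg.Agent.Helper1 Cfsg.Agent.Helper1.ClsGraph

variable {G : Type*} [Group G] {p : ℕ}

/-- no `p`-singular class size has a prime in common with both `idx u` and `idx v` -/
def NoMix (G : Type*) [Group G] (p : ℕ) (u v : G) : Prop :=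
  ∀ y : G, p ∣ orderOf y → ∀ a b : ℕ, a.Prime → b.Prime → a ∣ idx u → a ∣ idx y → b ∣ idx y →
    b ∣ idx v → False

theorem NoMix.coprime {u v : G} (h : NoMix G p u v) (hu : p ∣ orderOf u) :
    Nat.Coprime (idx u) (idx v) := by
  by_contra hc
  obtain ⟨a, ha, h1, h2⟩ := Nat.Prime.not_coprime_iff_dvd.mp hc
  exact h u hu a a ha ha h1 h1 h1 h2

theorem not_mem_center_of_orderOf [Finite G] [Fact p.Prime]
    (hZ : ¬ p ∣ Nat.card (center G)) {u : G} (hu : orderOf u = p) : u ∉ center G := by
  intro h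
  apply hZ
  have h1 := orderOf_dvd_natCard (⟨u, h⟩ : center G)
  rwa [Subgroup.orderOf_mk, hu] at h1

theorem idx_ne_one_of_orderOf [Finite G] [Fact p.Prime]
    (hZ : ¬ p ∣ Nat.card (center G)) {u : G} (hu : orderOf u = p) : idx u ≠ 1 := by
  intro h
  exact not_mem_center_of_orderOf hZ hu (idx_eq_one_iff.mp h)

theorem idx_inv (u : G) : idx u⁻¹ = idx u := by
  have : centralizer ({u⁻¹} : Set G) = centralizer ({u} : Set G) := by
    ext g
    rw [Ito.mem_cent, Ito.mem_cent]
    constructor
    · intro h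
      calc g * u = u * (u⁻¹ * g) * u := by group
        _ = u * (g * u⁻¹) * u := by rw [h]
        _ = u * g := by group
    · intro h
      calc g * u⁻¹ = u⁻¹ * (u * g) * u⁻¹ := by group
        _ = u⁻¹ * (g * u) * u⁻¹ := by rw [h]
        _ = u⁻¹ * g := by group
  rw [idx_def, idx_def, this]

/-- a subgroup containing the commutators of a non-central element `t` of order `p` and
centralizing `t` has order divisible by `p` -/
theorem dvd_card_of_comm_mem [Finite G] [hp : Fact p.Prime] {t : G} (ht : orderOf t = p)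
    (htc : t ∉ center G) (K : Subgroup G) (hK : ∀ g : G, g * t * g⁻¹ * t⁻¹ ∈ K)
    (hKc : K ≤ centralizer ({t} : Set G)) : p ∣ Nat.card K := by
  rw [mem_center_iff] at htc
  push Not at htc
  obtain ⟨g, hg⟩ := htc
  set k := g * t * g⁻¹ * t⁻¹ with hk
  have hkK : k ∈ K := hK g
  have hk1 : k ≠ 1 := by
    intro h
    apply hg
    calc g * t = (g * t * g⁻¹ * t⁻¹) * t * g := by group
      _ = t * g := by rw [← hk, h, one_mul]
  have hkt : Commute k t := Ito.mem_cent.mp (hKc hkK)
  have htp : t ^ p = 1 := by rw [← ht]; exact pow_orderOf_eq_one t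
  have e1 : g * t * g⁻¹ = k * t := by rw [hk]; group
  have e2 : (g * t * g⁻¹) ^ p = 1 := by rw [conj_pow, htp]; group
  rw [e1, hkt.mul_pow, htp, mul_one] at e2
  have h3 : orderOf k ∣ p := orderOf_dvd_of_pow_eq_one e2
  have h4 : orderOf k = p := by
    rcases (Nat.Prime.eq_one_or_self_of_dvd hp.out _ h3) with h | h
    · exact absurd (orderOf_eq_one_iff.mp h) hk1
    · exact h
  have h5 := orderOf_dvd_natCard (⟨k, hkK⟩ : K)
  rwa [Subgroup.orderOf_mk, h4] at h5

theorem mem_smul_sylow_iff [Fact p.Prime] (Q : Sylow p G) (g y : G) :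
    y ∈ ((g • Q : Sylow p G) : Subgroup G) ↔ g⁻¹ * y * g ∈ (Q : Subgroup G) := by
  rw [Sylow.smul_def, Sylow.pointwise_smul_def,
    Subgroup.mem_pointwise_smul_iff_inv_smul_mem, ← map_inv, MulAut.smul_def,
    MulAut.conj_apply, inv_inv]

theorem orderOf_conj' (g v : G) : orderOf (g * v * g⁻¹) = orderOf v := by
  have := MulEquiv.orderOf_eq (MulAut.conj g) v
  rwa [MulAut.conj_apply] at this

/-- positioning the two elements of order `p` in a Sylow `p`-subgroup -/
theorem core_position [Finite G] [hp : Fact p.Prime] (hZ : ¬ p ∣ Nat.card (center G))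
    {u v : G} (hu : orderOf u = p) (hv : orderOf v = p) (hpu : ¬ p ∣ idx u)
    (H3 : NoMix G p u v) :
    ∃ (P : Sylow p G) (v' : G), orderOf v' = p ∧ idx v' = idx v ∧
      (P : Subgroup G) ≤ centralizer ({u} : Set G) ∧ u ∈ (P : Subgroup G) ∧
      v' ∈ (P : Subgroup G) ∧ p ∣ idx v' := by
  obtain ⟨P0, hP0⟩ := Cfsg.Agent.Helper20.exists_sylow_le_of_not_dvd_index
    (centralizer ({u} : Set G)) hpu
  obtain ⟨P, hPle, huP⟩ := Cfsg.Agent.Helper20.exists_sylow_le_and_mem
    (centralizer ({u} : Set G)) P0 hP0 u (Ito.self_mem_cent u) 1 (by rw [pow_one]; exact hu)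
  -- conjugate `v` into `P`
  have hvp : IsPGroup p (zpowers v) := by
    rw [IsPGroup.iff_card, Nat.card_zpowers, hv]
    exact ⟨1, (pow_one p).symm⟩
  obtain ⟨Q, hQ⟩ := hvp.exists_le_sylow
  obtain ⟨g, hg⟩ := MulAction.exists_smul_eq G Q P
  set v' := g * v * g⁻¹ with hv'
  have hv'P : v' ∈ (P : Subgroup G) := by
    rw [← hg, mem_smul_sylow_iff]
    have : g⁻¹ * v' * g = v := by rw [hv']; group
    rw [this]
    exact hQ (mem_zpowers v)
  have hv'o : orderOf v' = p := by rw [hv', orderOf_conj', hv]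
  have hidx : idx v' = idx v := idx_conj g v
  have H3' : NoMix G p u v' := by
    intro y hy a b ha hb h1 h2 h3 h4
    rw [hidx] at h4
    exact H3 y hy a b ha hb h1 h2 h3 h4
  refine ⟨P, v', hv'o, hidx, hPle, huP, hv'P, ?_⟩
  have huS : p ∣ orderOf u := by rw [hu]
  have hcop : Nat.Coprime (idx u) (idx v') := H3'.coprime huS
  have hcomm : v' * u = u * v' := Ito.mem_cent.mp (hPle hv'P)
  have hup : u ^ p = 1 := by rw [← hu]; exact pow_orderOf_eq_one u
  have hvp' : v' ^ p = 1 := by rw [← hv'o]; exact pow_orderOf_eq_one v'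
  have hzp : (v' * u) ^ p = 1 := by
    rw [(show Commute v' u from hcomm).mul_pow, hup, hvp', one_mul]
  have hz1 : v' * u ≠ 1 := by
    intro h
    have h1 : v' = u⁻¹ := eq_inv_of_mul_eq_one_left h
    have h2 : idx v' = idx u := by rw [h1, idx_inv]
    rw [h2] at hcop
    exact idx_ne_one_of_orderOf hZ hu ((Nat.coprime_self _).mp hcop)
  have hzo : orderOf (v' * u) = p := by
    rcases (Nat.Prime.eq_one_or_self_of_dvd hp.out _ (orderOf_dvd_of_pow_eq_one hzp)) with h | h
    · exact absurd (orderOf_eq_one_iff.mp h) hz1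
    · exact h
  have hzS : p ∣ orderOf (v' * u) := by rw [hzo]
  by_cases hle : idx u ≤ idx v'
  · -- the smaller class is that of `u`
    have h1 : idx (v' * u) ≤ idx v' := by
      have hd : idx (v' * u) ∣ idx u * idx v' := by
        rw [mul_comm]; exact idx_mul_dvd hcop.symm
      apply le_of_dvd_mul_of_no_mixed (Nat.pos_of_ne_zero (idx_ne_zero u))
        (Nat.pos_of_ne_zero (idx_ne_zero v')) hle hd
      intro a b ha hb h1 h2 h3 h4
      exact H3' (v' * u) hzS a b ha hb h1 h2 h3 h4
    have h2 : ∀ g : G, g * u * g⁻¹ * u⁻¹ ∈ rstab (conjugatesOf v') :=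
      comm_mem_rstab' h1 hcop.symm
    have h3 : rstab (conjugatesOf v') ≤ centralizer ({u} : Set G) := rstab_le_cent hcop.symm
    have h4 := dvd_card_of_comm_mem hu (not_mem_center_of_orderOf hZ hu) _ h2 h3
    exact h4.trans (card_rstab_dvd_idx v')
  · -- the smaller class is that of `v'`: impossible
    exfalso
    have hle' : idx v' ≤ idx u := (not_le.mp hle).le
    have h1 : idx (u * v') ≤ idx u := by
      have hd : idx (u * v') ∣ idx v' * idx u := by
        rw [mul_comm]; exact idx_mul_dvd hcop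
      apply le_of_dvd_mul_of_no_mixed (Nat.pos_of_ne_zero (idx_ne_zero v'))
        (Nat.pos_of_ne_zero (idx_ne_zero u)) hle' hd
      intro a b ha hb h1 h2 h3 h4
      have hzS' : p ∣ orderOf (u * v') := by rw [← hcomm]; exact hzS
      exact H3' (u * v') hzS' b a hb ha h4 h3 h2 h1
    have h2 : ∀ g : G, g * v' * g⁻¹ * v'⁻¹ ∈ rstab (conjugatesOf u) :=
      comm_mem_rstab' h1 hcop
    have h3 : rstab (conjugatesOf u) ≤ centralizer ({v'} : Set G) := rstab_le_cent hcop
    have h4 := dvd_card_of_comm_mem hv'o (not_mem_center_of_orderOf hZ hv'o) _ h2 h3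
    exact hpu (h4.trans (card_rstab_dvd_idx u))

end Cfsg.Agent.Helper10.CSG
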