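import Mathlib
import Cfsg.Agent.Helper10.CSG5

/-!
The prime graph on the class sizes of `p`-singular elements, part 2: the structure of `C(u)` and
the normality of the Sylow `p`-subgroup.
-/

set_option autoImplicit false

namespace Cfsg.Agent.Helper10.CSG

open Subgroup Cfsg.Agent.Helper1 Cfsg.Agent.Helper1.ClsGraph

variable {G : Type*} [Group G] {p : ℕ}

/-- Sylow subgroups contained in a subgroup `C` are conjugate under `C` -/
theorem exists_smul_eq_of_le [Finite G] [Fact p.Prime] (C : Subgroup G) (P Q : Sylow p G)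
    (hP : (P : Subgroup G) ≤ C) (hQ : (Q : Subgroup G) ≤ C) : ∃ c ∈ C, c • P = Q := by
  obtain ⟨c, hc⟩ := MulAction.exists_smul_eq C (P.subtype hP) (Q.subtype hQ)
  refine ⟨c, c.2, ?_⟩
  apply Sylow.ext
  ext y
  rw [mem_smul_sylow_iff]
  constructor
  · intro h
    have hyC : y ∈ C := by
      have h1 : (c : G)⁻¹ * y * c ∈ C := hP h
      have e : y = (c : G) * ((c : G)⁻¹ * y * c) * (c : G)⁻¹ := by group
      rw [e]
      exact C.mul_mem (C.mul_mem c.2 h1) (C.inv_mem c.2)
    have h2 : (⟨y, hyC⟩ : C) ∈ ((c • P.subtype hP : Sylow p C) : Subgroup C) := by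
      rw [mem_smul_sylow_iff, Sylow.coe_subtype, Subgroup.mem_subgroupOf]
      simpa using h
    rw [hc, Sylow.coe_subtype, Subgroup.mem_subgroupOf] at h2
    exact h2
  · intro h
    have hyC : y ∈ C := hQ h
    have h2 : (⟨y, hyC⟩ : C) ∈ ((Q.subtype hQ : Sylow p C) : Subgroup C) := by
      rw [Sylow.coe_subtype, Subgroup.mem_subgroupOf]
      exact h
    rw [← hc, mem_smul_sylow_iff, Sylow.coe_subtype, Subgroup.mem_subgroupOf] at h2
    simpa using h2

/-- the standing hypotheses for the `p`-singular graph -/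
structure SCtx (G : Type*) [Group G] (p : ℕ) (P : Sylow p G) (u v : G) : Prop where
  hZ : ¬ p ∣ Nat.card (center G)
  hu : orderOf u = p
  hv : orderOf v = p
  hpu : ¬ p ∣ idx u
  hpv : p ∣ idx v
  nomix : NoMix G p u v
  hPle : (P : Subgroup G) ≤ centralizer ({u} : Set G)
  huP : u ∈ (P : Subgroup G)
  hvP : v ∈ (P : Subgroup G)

variable {P : Sylow p G} {u v : G}

theorem SCtx.coprime_of_dvd [Fact p.Prime] (S : SCtx G p P u v) {y : G} (hy : p ∣ orderOf y)
    (hpy : p ∣ idx y) : Nat.Coprime (idx u) (idx y) := by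
  by_contra hc
  obtain ⟨a, ha, h1, h2⟩ := Nat.Prime.not_coprime_iff_dvd.mp hc
  exact S.nomix y hy a p ha Fact.out h1 h2 hpy S.hpv

/-- a `p`-regular element of `C(u)` centralizes a Sylow `p`-subgroup inside `C(u)` -/
theorem SCtx.exists_sylow_le_inf [Finite G] [hp : Fact p.Prime] (S : SCtx G p P u v) {w : G}
    (hw : w ∈ centralizer ({u} : Set G)) (hcop : (orderOf w).Coprime p) :
    ∃ Q : Sylow p G, (Q : Subgroup G) ≤ centralizer ({u} : Set G) ⊓ centralizer ({w} : Set G) := by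
  have hcomm : Commute u w := (Ito.mem_cent.mp hw).symm
  have hcop' : (orderOf u).Coprime (orderOf w) := by rw [S.hu]; exact hcop.symm
  have hord : orderOf (u * w) = p * orderOf w := by
    rw [hcomm.orderOf_mul_eq_mul_orderOf_of_coprime hcop', S.hu]
  have hS : p ∣ orderOf (u * w) := by rw [hord]; exact dvd_mul_right _ _
  obtain ⟨k, hk⟩ := Ito.exists_pow_eq_left hcomm hcop'
  obtain ⟨j, hj⟩ := Ito.exists_pow_eq_left hcomm.symm hcop'.symm
  have hle1 : centralizer ({u * w} : Set G) ≤ centralizer ({u} : Set G) := by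
    have := Ito.cent_le_cent_pow (u * w) k
    rwa [hk] at this
  have hle2 : centralizer ({u * w} : Set G) ≤ centralizer ({w} : Set G) := by
    have := Ito.cent_le_cent_pow (w * u) j
    rw [hj, ← hcomm.eq] at this
    exact this
  have hnd : ¬ p ∣ idx (u * w) := by
    intro hd
    obtain ⟨a, ha, hau⟩ := Nat.exists_prime_and_dvd (idx_ne_one_of_orderOf S.hZ S.hu)
    have h1 : idx u ∣ idx (u * w) := index_dvd_of_le hle1
    exact S.nomix (u * w) hS a p ha hp.out hau (hau.trans h1) hd S.hpv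
  obtain ⟨Q, hQ⟩ := Cfsg.Agent.Helper20.exists_sylow_le_of_not_dvd_index _ hnd
  exact ⟨Q, hQ.trans (le_inf hle1 hle2)⟩

/-- `C(u)` normalizes `P` -/
theorem SCtx.cent_le_normalizer [Finite G] [hp : Fact p.Prime] (S : SCtx G p P u v) :
    centralizer ({u} : Set G) ≤ normalizer ((P : Subgroup G) : Set G) := by
  apply le_of_forall_conj_mem
  intro t ht
  obtain ⟨a, m, s, t', hcop, hord, hdec⟩ := Cfsg.Agent.Helper20.exists_pow_decomp p t
  set w := t ^ (p ^ a) with hw
  set x := t ^ m with hx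
  have hwC : w ∈ centralizer ({u} : Set G) := Subgroup.pow_mem _ ht _
  have hxC : x ∈ centralizer ({u} : Set G) := Subgroup.pow_mem _ ht _
  obtain ⟨Q0, hQ0⟩ := S.exists_sylow_le_inf hwC hcop
  have hxw : x ∈ centralizer ({w} : Set G) := by
    rw [Ito.mem_cent, hx, hw, ← pow_add, ← pow_add, add_comm]
  obtain ⟨Q', hQ', hxQ'⟩ := Cfsg.Agent.Helper20.exists_sylow_le_and_mem
    (centralizer ({u} : Set G) ⊓ centralizer ({w} : Set G)) Q0 hQ0 x
    (Subgroup.mem_inf.mpr ⟨hxC, hxw⟩) a hord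
  have hwN : w ∈ normalizer ((Q' : Subgroup G) : Set G) := by
    apply Subgroup.centralizer_le_normalizer
    rw [Subgroup.mem_centralizer_iff]
    intro y hy
    exact (Ito.mem_cent.mp ((hQ'.trans inf_le_right) hy))
  have hxN : x ∈ normalizer ((Q' : Subgroup G) : Set G) := Subgroup.le_normalizer hxQ'
  have htN : t ∈ normalizer ((Q' : Subgroup G) : Set G) := by
    rw [hdec]
    exact Subgroup.mul_mem _ (Subgroup.zpow_mem _ hwN s) (Subgroup.zpow_mem _ hxN t')
  obtain ⟨c, hc, hcP⟩ := exists_smul_eq_of_le (centralizer ({u} : Set G)) P Q' S.hPle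
    (hQ'.trans inf_le_left)
  refine ⟨c⁻¹, Subgroup.inv_mem _ hc, ?_⟩
  rw [← hcP, Cfsg.Agent.Helper20.mem_normalizer_smul_sylow_iff] at htN
  rw [inv_inv]
  exact htN

theorem SCtx.sylow_eq_of_le [Finite G] [Fact p.Prime] (S : SCtx G p P u v) {Q : Sylow p G}
    (hQ : (Q : Subgroup G) ≤ centralizer ({u} : Set G)) : Q = P := by
  obtain ⟨c, hc, hcP⟩ := exists_smul_eq_of_le (centralizer ({u} : Set G)) P Q S.hPle hQ
  rw [← hcP]
  exact Sylow.smul_eq_iff_mem_normalizer.mpr (S.cent_le_normalizer hc)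

/-- every element of `C(u)` is the product of an element centralizing `P` and an element of `P` -/
theorem SCtx.exists_mul_of_mem_cent [Finite G] [hp : Fact p.Prime] (S : SCtx G p P u v) {c : G}
    (hc : c ∈ centralizer ({u} : Set G)) :
    ∃ h : G, (∀ y ∈ (P : Subgroup G), h * y = y * h) ∧ ∃ a ∈ (P : Subgroup G), c = h * a := by
  obtain ⟨a, m, s, t', hcop, hord, hdec⟩ := Cfsg.Agent.Helper20.exists_pow_decomp p c
  set w := c ^ (p ^ a) with hw
  set x := c ^ m with hx
  have hwC : w ∈ centralizer ({u} : Set G) := Subgroup.pow_mem _ hc _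
  have hxC : x ∈ centralizer ({u} : Set G) := Subgroup.pow_mem _ hc _
  obtain ⟨Q0, hQ0⟩ := S.exists_sylow_le_inf hwC hcop
  have hQ0P : Q0 = P := S.sylow_eq_of_le (hQ0.trans inf_le_left)
  obtain ⟨Q', hQ', hxQ'⟩ := Cfsg.Agent.Helper20.exists_sylow_le_and_mem
    (centralizer ({u} : Set G)) P S.hPle x hxC a hord
  have hQ'P : Q' = P := S.sylow_eq_of_le hQ'
  rw [hQ'P] at hxQ'
  rw [hQ0P] at hQ0
  have hwP : ∀ y ∈ (P : Subgroup G), Commute w y := by
    intro y hy
    exact (Ito.mem_cent.mp ((hQ0.trans inf_le_right) hy)).symm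
  refine ⟨w ^ s, ?_, x ^ t', Subgroup.zpow_mem _ hxQ' t', hdec⟩
  intro y hy
  exact ((hwP y hy).zpow_left s).eq

/-- the class of an element of `P` with class size divisible by `p` is its `P`-class -/
theorem SCtx.conj_eq [Finite G] [hp : Fact p.Prime] (S : SCtx G p P u v) {y : G}
    (hy : y ∈ (P : Subgroup G)) (hpy : p ∣ idx y) (g : G) :
    ∃ a ∈ (P : Subgroup G), g * y * g⁻¹ = a * y * a⁻¹ := by
  have hy1 : y ≠ 1 := by
    rintro rfl
    have : idx (1 : G) = 1 := idx_eq_one_iff.mpr (Subgroup.one_mem _)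
    rw [this] at hpy
    exact hp.out.one_lt.ne' (Nat.dvd_one.mp hpy)
  have hyS : p ∣ orderOf y := by
    obtain ⟨k, hk⟩ := Cfsg.Agent.Helper20.orderOf_eq_pow_of_mem_pgroup (P : Subgroup G)
      P.isPGroup' y hy
    rw [hk]
    have hk0 : k ≠ 0 := by
      rintro rfl
      rw [pow_zero, orderOf_eq_one_iff] at hk
      exact hy1 hk
    exact dvd_pow_self p hk0
  have hcop := S.coprime_of_dvd hyS hpy
  obtain ⟨c, hc, b, hb, rfl⟩ := exists_mul_of_coprime_index (centralizer ({u} : Set G))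
    (centralizer ({y} : Set G)) hcop g
  obtain ⟨h, hh, a, ha, rfl⟩ := S.exists_mul_of_mem_cent hc
  refine ⟨a, ha, ?_⟩
  have hby : b * y = y * b := Ito.mem_cent.mp hb
  have h1 : a * y * a⁻¹ ∈ (P : Subgroup G) :=
    Subgroup.mul_mem _ (Subgroup.mul_mem _ ha hy) (Subgroup.inv_mem _ ha)
  have h2 := hh _ h1
  calc h * a * b * y * (h * a * b)⁻¹ = h * (a * (b * y * b⁻¹) * a⁻¹) * h⁻¹ := by group
    _ = h * (a * y * a⁻¹) * h⁻¹ := by rw [hby]; group
    _ = (a * y * a⁻¹) * h * h⁻¹ := by rw [h2]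
    _ = a * y * a⁻¹ := by group

/-- the Sylow `p`-subgroup is normal -/
theorem SCtx.normal [Finite G] [hp : Fact p.Prime] (S : SCtx G p P u v) :
    (P : Subgroup G).Normal := by
  set O : Subgroup G := normalClosure {y | y ∈ (P : Subgroup G) ∧ p ∣ idx y} with hO
  have hOn : O.Normal := normalClosure_normal
  have hOle : O ≤ (P : Subgroup G) := by
    rw [hO, normalClosure, closure_le]
    intro x hx
    rw [Group.mem_conjugatesOfSet_iff] at hx
    obtain ⟨y, ⟨hyP, hpy⟩, hconj⟩ := hx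
    obtain ⟨g, hg⟩ := isConj_iff.mp hconj
    obtain ⟨a, ha, e⟩ := S.conj_eq hyP hpy g
    rw [← hg, e]
    exact Subgroup.mul_mem _ (Subgroup.mul_mem _ ha hyP) (Subgroup.inv_mem _ ha)
  have hvO : v ∈ O := subset_normalClosure ⟨S.hvP, S.hpv⟩
  have hcen : ∀ t ∈ (P : Subgroup G), t ∉ O → t ∈ centralizer (O : Set G) := by
    intro t htP htO
    have hnd : ¬ p ∣ idx t := fun h => htO (subset_normalClosure ⟨htP, h⟩)
    obtain ⟨Q, hQ⟩ := Cfsg.Agent.Helper20.exists_sylow_le_of_not_dvd_index _ hnd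
    obtain ⟨g, hg⟩ := MulAction.exists_smul_eq G P Q
    rw [Subgroup.mem_centralizer_iff]
    intro o ho
    have h1 : g⁻¹ * o * g ∈ (P : Subgroup G) := by
      have := hOn.conj_mem o ho g⁻¹
      rw [inv_inv] at this
      exact hOle this
    have h2 : o ∈ (Q : Subgroup G) := by rw [← hg, mem_smul_sylow_iff]; exact h1
    exact Ito.mem_cent.mp (hQ h2)
  have hPO : (P : Subgroup G) ≤ O := by
    by_contra hne
    obtain ⟨y0, hy0P, hy0O⟩ := SetLike.not_le_iff_exists.mp hne
    have hy0c := hcen y0 hy0P hy0O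
    have hall : (P : Subgroup G) ≤ centralizer (O : Set G) := by
      intro t htP
      by_cases htO : t ∈ O
      · have h1 : y0 * t ∉ O := fun h => hy0O (by
          have := O.mul_mem h (O.inv_mem htO)
          rwa [mul_inv_cancel_right] at this)
        have h2 := hcen (y0 * t) (Subgroup.mul_mem _ hy0P htP) h1
        have h3 := Subgroup.mul_mem _ (Subgroup.inv_mem _ hy0c) h2
        rwa [inv_mul_cancel_left] at h3
      · exact hcen t htP htO
    have h1 : (P : Subgroup G) ≤ centralizer ({v} : Set G) := by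
      intro t ht
      rw [Ito.mem_cent]
      exact ((Subgroup.mem_centralizer_iff.mp (hall ht)) v hvO).symm
    exact P.not_dvd_index (S.hpv.trans (index_dvd_of_le h1))
  have hEq : (P : Subgroup G) = O := le_antisymm hPO hOle
  rw [hEq]
  exact hOn

end Cfsg.Agent.Helper10.CSG
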