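import Mathlib
import Cfsg.Agent.Helper10.CSG6

/-!
The prime graph on the class sizes of `p`-singular elements, part 3: the final contradiction and
the diameter bound.
-/

set_option autoImplicit false

namespace Cfsg.Agent.Helper10.CSG

open Subgroup Cfsg.Agent.Helper1 Cfsg.Agent.Helper1.ClsGraph

variable {G : Type*} [Group G] {p : ℕ} {P : Sylow p G} {u v : G}

/-- an element of the normal Sylow subgroup `P` whose class size is prime to `p` is central in `P` -/
theorem SCtx.commute_of_not_dvd [Finite G] [hp : Fact p.Prime] (S : SCtx G p P u v) {y : G}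
    (hpy : ¬ p ∣ idx y) {t : G} (ht : t ∈ (P : Subgroup G)) : t * y = y * t := by
  have hn : (P : Subgroup G).Normal := S.normal
  obtain ⟨Q, hQ⟩ := Cfsg.Agent.Helper20.exists_sylow_le_of_not_dvd_index _ hpy
  have : Subsingleton (Sylow p G) := (Sylow.unique_of_normal P hn).instSubsingleton
  have hQP : Q = P := Subsingleton.elim _ _
  rw [hQP] at hQ
  exact Ito.mem_cent.mp (hQ ht)

/-- elements of prime power order for primes other than `p` centralize the elements of `P` of
class size divisible by `p` -/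
theorem SCtx.commute_of_isPGroup [Finite G] [hp : Fact p.Prime] (S : SCtx G p P u v) {l : ℕ}
    [hl : Fact l.Prime] (hlp : l ≠ p) {g : G} (hg : IsPGroup l (zpowers g)) {y : G}
    (hy : y ∈ (P : Subgroup G)) (hpy : p ∣ idx y) : g * y = y * g := by
  have hn : (P : Subgroup G).Normal := S.normal
  -- the class of an element of `P` with `p ∣ idx` meets `C(g)`
  have key : ∀ y' ∈ (P : Subgroup G), p ∣ idx y' →
      ∃ a ∈ (P : Subgroup G), g * (a * y' * a⁻¹) = (a * y' * a⁻¹) * g := by
    intro y' hy' hpy'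
    have htop : centralizer ({y'} : Set G) ⊔ (P : Subgroup G) = ⊤ := by
      rw [eq_top_iff]
      intro g' _
      obtain ⟨a, ha, e⟩ := S.conj_eq hy' hpy' g'
      have h1 : a⁻¹ * g' ∈ centralizer ({y'} : Set G) := by
        rw [Ito.mem_cent]
        calc a⁻¹ * g' * y' = a⁻¹ * (g' * y' * g'⁻¹) * g' := by group
          _ = a⁻¹ * (a * y' * a⁻¹) * g' := by rw [e]
          _ = y' * (a⁻¹ * g') := by group
      have e2 : g' = a * (a⁻¹ * g') := by group
      rw [e2, sup_comm]
      exact Subgroup.mul_mem_sup ha h1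
    have hidx : idx y' = (centralizer ({y'} : Set G)).relIndex (P : Subgroup G) := by
      have h1 := relIndex_sup_normal (centralizer ({y'} : Set G)) (P : Subgroup G)
      rw [htop, relIndex_top_right] at h1
      exact h1
    have hnl : ¬ l ∣ (centralizer ({y'} : Set G)).index := by
      intro hd
      have h1 : l ∣ Nat.card (P : Subgroup G) := by
        have : l ∣ idx y' := hd
        rw [hidx] at this
        exact this.trans (relIndex_dvd_card _ _)
      obtain ⟨n, hn'⟩ := IsPGroup.iff_card.mp P.isPGroup'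
      rw [hn'] at h1
      exact hlp ((Nat.prime_dvd_prime_iff_eq hl.out hp.out).mp (hl.out.dvd_of_dvd_pow h1))
    obtain ⟨g', hg'⟩ := exists_conj_mem_of_not_dvd_index hg (centralizer ({y'} : Set G)) hnl
    obtain ⟨a, ha, e⟩ := S.conj_eq hy' hpy' g'
    refine ⟨a, ha, ?_⟩
    rw [← e]
    have h1 := Ito.mem_cent.mp hg'
    calc g * (g' * y' * g'⁻¹) = g' * ((g'⁻¹ * g * g') * y') * g'⁻¹ := by group
      _ = g' * (y' * (g'⁻¹ * g * g')) * g'⁻¹ := by rw [h1]
      _ = g' * y' * g'⁻¹ * g := by group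
  -- the subgroups `Z(P)` and `C_P(g)`
  set ZP : Subgroup G := (P : Subgroup G) ⊓ centralizer ((P : Subgroup G) : Set G) with hZP
  set D : Subgroup G := (P : Subgroup G) ⊓ centralizer ({g} : Set G) with hD
  have hZPn : ZP.Normal := by
    have : (centralizer ((P : Subgroup G) : Set G)).Normal := normal_centralizer
    exact Subgroup.normal_inf_normal _ _
  have hPle : (P : Subgroup G) ≤ ZP ⊔ D := by
    apply le_of_forall_conj_mem
    intro t ht
    by_cases hpt : p ∣ idx t
    · obtain ⟨a, ha, e⟩ := key t ht hpt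
      refine ⟨a, ha, ?_⟩
      apply (le_sup_right : D ≤ ZP ⊔ D)
      refine Subgroup.mem_inf.mpr ⟨?_, ?_⟩
      · exact Subgroup.mul_mem _ (Subgroup.mul_mem _ ha ht) (Subgroup.inv_mem _ ha)
      · rw [Ito.mem_cent]; exact e.symm
    · refine ⟨1, Subgroup.one_mem _, ?_⟩
      apply (le_sup_left : ZP ≤ ZP ⊔ D)
      rw [one_mul, inv_one, mul_one]
      refine Subgroup.mem_inf.mpr ⟨ht, ?_⟩
      rw [Subgroup.mem_centralizer_iff]
      intro t' ht'
      exact S.commute_of_not_dvd hpt ht'
  obtain ⟨a, ha, e⟩ := key y hy hpy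
  have haZD : a ∈ ((ZP ⊔ D : Subgroup G) : Set G) := hPle ha
  rw [Subgroup.normal_mul, Set.mem_mul] at haZD
  obtain ⟨z, hz, d, hd, rfl⟩ := haZD
  obtain ⟨hzP, hzc⟩ := Subgroup.mem_inf.mp hz
  obtain ⟨hdP, hdg⟩ := Subgroup.mem_inf.mp hd
  have hdg' : d * g = g * d := Ito.mem_cent.mp hdg
  have h1 : d * y * d⁻¹ ∈ (P : Subgroup G) :=
    Subgroup.mul_mem _ (Subgroup.mul_mem _ hdP hy) (Subgroup.inv_mem _ hdP)
  have h2 : (d * y * d⁻¹) * z = z * (d * y * d⁻¹) := (Subgroup.mem_centralizer_iff.mp hzc) _ h1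
  have e1 : z * d * y * (z * d)⁻¹ = d * y * d⁻¹ := by
    calc z * d * y * (z * d)⁻¹ = (z * (d * y * d⁻¹)) * z⁻¹ := by group
      _ = ((d * y * d⁻¹) * z) * z⁻¹ := by rw [h2]
      _ = d * y * d⁻¹ := by group
  rw [e1] at e
  have hdg'' : d⁻¹ * g = g * d⁻¹ := by
    calc d⁻¹ * g = d⁻¹ * (g * d) * d⁻¹ := by group
      _ = d⁻¹ * (d * g) * d⁻¹ := by rw [hdg']
      _ = g * d⁻¹ := by group
  calc g * y = d⁻¹ * ((d * g) * y * d⁻¹) * d := by group
    _ = d⁻¹ * (g * (d * y * d⁻¹)) * d := by rw [hdg']; group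
    _ = d⁻¹ * ((d * y * d⁻¹) * g) * d := by rw [e]
    _ = y * (d⁻¹ * g) * d := by group
    _ = y * (g * d⁻¹) * d := by rw [hdg'']
    _ = y * g := by group

/-- the final contradiction -/
theorem SCtx.false [Finite G] [hp : Fact p.Prime] (S : SCtx G p P u v) : False := by
  have hn : (P : Subgroup G).Normal := S.normal
  -- `p ∣ idx (v * u)`
  have hvu : p ∣ idx (v * u) := by
    by_contra hnd
    have h1 : (P : Subgroup G) ≤ centralizer ({v} : Set G) := by
      intro t ht
      rw [Ito.mem_cent]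
      have h2 : t * (v * u) = (v * u) * t := S.commute_of_not_dvd hnd ht
      have h3 : t * u = u * t := Ito.mem_cent.mp (S.hPle ht)
      calc t * v = t * (v * u) * u⁻¹ := by group
        _ = (v * u) * t * u⁻¹ := by rw [h2]
        _ = v * (u * t) * u⁻¹ := by group
        _ = v * (t * u) * u⁻¹ := by rw [h3]
        _ = v * t := by group
    exact P.not_dvd_index (S.hpv.trans (index_dvd_of_le h1))
  have hvuP : v * u ∈ (P : Subgroup G) := Subgroup.mul_mem _ S.hvP S.huP
  apply idx_ne_one_of_orderOf S.hZ S.hu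
  by_contra hne
  obtain ⟨l, hl, hlu⟩ := Nat.exists_prime_and_dvd hne
  have hlF : Fact l.Prime := ⟨hl⟩
  have hlp : l ≠ p := by
    rintro rfl
    exact S.hpu hlu
  obtain ⟨L⟩ : Nonempty (Sylow l G) := inferInstance
  have hL : (L : Subgroup G) ≤ centralizer ({u} : Set G) := by
    intro g hg
    have hgl : IsPGroup l (zpowers g) := L.isPGroup'.to_le (zpowers_le.mpr hg)
    have h1 : g * v = v * g := S.commute_of_isPGroup hlp hgl S.hvP S.hpv
    have h2 : g * (v * u) = (v * u) * g := S.commute_of_isPGroup hlp hgl hvuP hvu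
    rw [Ito.mem_cent]
    calc g * u = v⁻¹ * (v * g) * u := by group
      _ = v⁻¹ * (g * v) * u := by rw [h1]
      _ = v⁻¹ * (g * (v * u)) := by group
      _ = v⁻¹ * ((v * u) * g) := by rw [h2]
      _ = u * g := by group
  exact L.not_dvd_index (hlu.trans (index_dvd_of_le hL))

/-- the core statement: two elements of order `p` whose class sizes are never mixed by a
`p`-singular class cannot exist when `p ∤ |Z(G)|` -/
theorem core [Finite G] [hp : Fact p.Prime] (hZ : ¬ p ∣ Nat.card (center G)) {u v : G}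
    (hu : orderOf u = p) (hv : orderOf v = p) (hpu : ¬ p ∣ idx u) (H3 : NoMix G p u v) : False := by
  obtain ⟨P, v', hv'o, hidx, hPle, huP, hv'P, hpv'⟩ := core_position hZ hu hv hpu H3
  have H3' : NoMix G p u v' := by
    intro y hy a b ha hb h1 h2 h3 h4
    rw [hidx] at h4
    exact H3 y hy a b ha hb h1 h2 h3 h4
  exact SCtx.false (P := P) (u := u) (v := v') ⟨hZ, hu, hv'o, hpu, hpv', H3', hPle, huP, hv'P⟩

end Cfsg.Agent.Helper10.CSG
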