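import Mathlib
import Cfsg.Agent.Helper10.CSG7

/-!
The prime graph on the class sizes of `p`-singular elements, part 4: the diameter bound.
-/

set_option autoImplicit false

namespace Cfsg.Agent.Helper10.CSG

open Subgroup Cfsg.Agent.Helper1 Cfsg.Agent.Helper1.ClsGraph

variable {G : Type*} [Group G]

theorem psing_diameter_le_three [Finite G] (p : ℕ) [hp : Fact p.Prime]
    (hZ : ¬ p ∣ Nat.card ↥(Subgroup.center G)) (r s : ℕ)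
    (hr : (r.Prime ∧ ∃ x : G, p ∣ orderOf x ∧ r ∣ idx x))
    (hs : (s.Prime ∧ ∃ x : G, p ∣ orderOf x ∧ s ∣ idx x)) (hrs : r ≠ s) :
    (∃ x : G, p ∣ orderOf x ∧ r * s ∣ idx x) ∨
    (∃ t : ℕ, (t.Prime ∧ ∃ x : G, p ∣ orderOf x ∧ t ∣ idx x) ∧ t ≠ r ∧ t ≠ s ∧
      (∃ x : G, p ∣ orderOf x ∧ r * t ∣ idx x) ∧ (∃ x : G, p ∣ orderOf x ∧ t * s ∣ idx x)) ∨
    (∃ t u : ℕ, (t.Prime ∧ ∃ x : G, p ∣ orderOf x ∧ t ∣ idx x) ∧
      (u.Prime ∧ ∃ x : G, p ∣ orderOf x ∧ u ∣ idx x) ∧ t ≠ r ∧ u ≠ s ∧ t ≠ u ∧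
      (∃ x : G, p ∣ orderOf x ∧ r * t ∣ idx x) ∧ (∃ x : G, p ∣ orderOf x ∧ t * u ∣ idx x) ∧
      (∃ x : G, p ∣ orderOf x ∧ u * s ∣ idx x)) := by
  by_contra hneg
  obtain ⟨hrp, x1, hx1S, hrx1⟩ := hr
  obtain ⟨hsp, x2, hx2S, hsx2⟩ := hs
  have hfar : ∀ a b : ℕ, a.Prime → b.Prime →
      (∃ x : G, p ∣ orderOf x ∧ r ∣ idx x ∧ a ∣ idx x) →
      (∃ x : G, p ∣ orderOf x ∧ a ∣ idx x ∧ b ∣ idx x) →
      (∃ x : G, p ∣ orderOf x ∧ b ∣ idx x ∧ s ∣ idx x) → False := by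
    intro a b ha hb h1 h2 h3
    obtain ⟨g1, hg1, h1p, h1a⟩ := h1
    obtain ⟨g2, hg2, h2a, h2b⟩ := h2
    obtain ⟨g3, hg3, h3b, h3q⟩ := h3
    apply hneg
    by_cases haq : a = s
    · left; subst haq
      exact ⟨g1, hg1, mul_dvd_of_primes hrp ha hrs h1p h1a⟩
    by_cases hbp : b = r
    · left; subst hbp
      exact ⟨g3, hg3, mul_dvd_of_primes hb hsp hrs h3b h3q⟩
    by_cases hap : a = r
    · subst hap
      by_cases hbq : b = s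
      · left; subst hbq
        exact ⟨g2, hg2, mul_dvd_of_primes ha hb hrs h2a h2b⟩
      · right; left
        exact ⟨b, ⟨hb, g2, hg2, h2b⟩, hbp, hbq,
          ⟨g2, hg2, mul_dvd_of_primes ha hb (Ne.symm hbp) h2a h2b⟩,
          ⟨g3, hg3, mul_dvd_of_primes hb hsp hbq h3b h3q⟩⟩
    by_cases hbq : b = s
    · subst hbq
      right; left
      exact ⟨a, ⟨ha, g1, hg1, h1a⟩, hap, haq,
        ⟨g1, hg1, mul_dvd_of_primes hrp ha (Ne.symm hap) h1p h1a⟩,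
        ⟨g2, hg2, mul_dvd_of_primes ha hb haq h2a h2b⟩⟩
    by_cases hab : a = b
    · subst hab
      right; left
      exact ⟨a, ⟨ha, g1, hg1, h1a⟩, hap, haq,
        ⟨g1, hg1, mul_dvd_of_primes hrp ha (Ne.symm hap) h1p h1a⟩,
        ⟨g3, hg3, mul_dvd_of_primes ha hsp haq h3b h3q⟩⟩
    right; right
    exact ⟨a, b, ⟨ha, g1, hg1, h1a⟩, ⟨hb, g2, hg2, h2b⟩, hap, hbq, hab,
      ⟨g1, hg1, mul_dvd_of_primes hrp ha (Ne.symm hap) h1p h1a⟩,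
      ⟨g2, hg2, mul_dvd_of_primes ha hb hab h2a h2b⟩,
      ⟨g3, hg3, mul_dvd_of_primes hb hsp hbq h3b h3q⟩⟩
  -- the parts of order `p`
  set u1 := x1 ^ (orderOf x1 / p) with hu1
  set u2 := x2 ^ (orderOf x2 / p) with hu2
  have ho1 : orderOf u1 = p := orderOf_pow_orderOf_div (orderOf_pos x1).ne' hx1S
  have ho2 : orderOf u2 = p := orderOf_pow_orderOf_div (orderOf_pos x2).ne' hx2S
  have hd1 : idx u1 ∣ idx x1 := idx_pow_dvd x1 _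
  have hd2 : idx u2 ∣ idx x2 := idx_pow_dvd x2 _
  have H3 : NoMix G p u1 u2 := by
    intro y hy a b ha hb h1 h2 h3 h4
    exact hfar a b ha hb ⟨x1, hx1S, hrx1, h1.trans hd1⟩ ⟨y, hy, h2, h3⟩
      ⟨x2, hx2S, h4.trans hd2, hsx2⟩
  have H3' : NoMix G p u2 u1 := by
    intro y hy a b ha hb h1 h2 h3 h4
    exact hfar b a hb ha ⟨x1, hx1S, hrx1, h4.trans hd1⟩ ⟨y, hy, h3, h2⟩
      ⟨x2, hx2S, h1.trans hd2, hsx2⟩
  have hcop : Nat.Coprime (idx u1) (idx u2) := H3.coprime (by rw [ho1])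
  by_cases hpu1 : p ∣ idx u1
  · have hpu2 : ¬ p ∣ idx u2 := by
      intro h
      have := Nat.dvd_gcd hpu1 h
      rw [hcop] at this
      exact hp.out.one_lt.ne' (Nat.dvd_one.mp this)
    exact core hZ ho2 ho1 hpu2 H3'
  · exact core hZ ho1 ho2 hpu1 H3

end Cfsg.Agent.Helper10.CSG
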