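import Mathlib
import Cfsg.Prelude.Def_LieExceptional
import Cfsg.Agent.Helper18.CTDefs

set_option autoImplicit false

/-! Piece ZASA of S5748: in the geometry of a simple CT-group no non-identity element fixes three
points, and the subgroup `K α` is regular on the remaining points. -/

namespace Cfsg.Agent.Helper10.CT

open Cfsg Cfsg.Agent.Helper18.CT MulAction

variable {G : Type*} [Group G]

/-- a subgroup inverted elementwise is commutative -/
theorem comm_of_inverted {D : Subgroup G} {u : G} (hu : ∀ d ∈ D, u * d * u⁻¹ = d⁻¹)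
    {x y : G} (hx : x ∈ D) (hy : y ∈ D) : x * y = y * x := by
  have h1 := hu (x * y) (D.mul_mem hx hy)
  have h2 := hu x hx
  have h3 := hu y hy
  have h4 : u * (x * y) * u⁻¹ = (u * x * u⁻¹) * (u * y * u⁻¹) := by group
  rw [h4, h2, h3] at h1
  have h5 : (x * y)⁻¹ = y⁻¹ * x⁻¹ := by group
  rw [h5] at h1
  have h6 : (x⁻¹ * y⁻¹)⁻¹ = (y⁻¹ * x⁻¹)⁻¹ := by rw [h1]
  simpa using h6.symm

theorem pairOK_comm {Ω : Type*} [MulAction G Ω] {e : ℕ} {α β : Ω} (hp : PairOK G Ω e α β)
    (he : 0 < e) {x y : G} (hx : x ∈ stabilizer G α ⊓ stabilizer G β)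
    (hy : y ∈ stabilizer G α ⊓ stabilizer G β) : x * y = y * x := by
  obtain ⟨-, h2, h3⟩ := hp
  have hne : Nonempty {u : G // orderOf u = 2 ∧ u • α = β} := by
    by_contra hcon
    rw [not_nonempty_iff] at hcon
    rw [Nat.card_of_isEmpty] at h2
    omega
  obtain ⟨⟨u, hu2, huab⟩⟩ := hne
  exact comm_of_inverted (h3 u hu2 huab) hx hy

theorem Geo.three_fixed [Finite G] {Ω : Type*} [MulAction G Ω] [Finite Ω] {K : Ω → Subgroup G}
    {e : ℕ} (h : Geo Ω K e) (hpair : ∀ α β : Ω, α ≠ β → PairOK G Ω e α β)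
    (hfix : ∀ α β γ : Ω, α ≠ β →
      (∀ d ∈ stabilizer G α ⊓ stabilizer G β, d • γ = γ) → γ = α ∨ γ = β)
    (g : G) (a b c : Ω) (hab : a ≠ b) (hbc : b ≠ c) (hac : a ≠ c)
    (ha : g • a = a) (hb : g • b = b) (hc : g • c = c) : g = 1 := by
  by_contra hg
  have he : 0 < e := by have := h.e_ge; omega
  have hg1 : g ∈ stabilizer G a ⊓ stabilizer G b := ⟨ha, hb⟩
  have hg2 : g ∈ stabilizer G a ⊓ stabilizer G c := ⟨ha, hc⟩
  -- every element of `D₁` commutes with every element of `D₂`
  have hcomm : ∀ d ∈ stabilizer G a ⊓ stabilizer G b, ∀ y ∈ stabilizer G a ⊓ stabilizer G c,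
      d * y = y * d := by
    intro d hd y hy
    by_cases hd1 : d = 1
    · rw [hd1]; simp
    by_cases hy1 : y = 1
    · rw [hy1]; simp
    have c1 : Commute d g := pairOK_comm (hpair a b hab) he hd hg1
    have c2 : Commute g y := pairOK_comm (hpair a c hac) he hg2 hy
    exact h.ct d g y hd1 hg hy1 c1 c2
  -- so `D₁` fixes `c`
  have hD1c : ∀ d ∈ stabilizer G a ⊓ stabilizer G b, d • c = c := by
    intro d hd
    have hfixed : ∀ y ∈ stabilizer G a ⊓ stabilizer G c, y • (d • c) = d • c := by
      intro y hy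
      have hyc : y • c = c := hy.2
      rw [← mul_smul, ← hcomm d hd y hy, mul_smul, hyc]
    rcases hfix a c (d • c) hac hfixed with h1 | h1
    · exfalso
      have hda : d • a = a := hd.1
      have : d • c = d • a := by rw [h1, hda]
      exact hac (smul_left_cancel d this).symm
    · exact h1
  rcases hfix a b c hab hD1c with h1 | h1
  · exact hac h1.symm
  · exact hbc h1.symm

theorem Geo.regular [Finite G] {Ω : Type*} [MulAction G Ω] [Finite Ω] {K : Ω → Subgroup G}
    {e : ℕ} (h : Geo Ω K e) (hpair : ∀ α β : Ω, α ≠ β → PairOK G Ω e α β)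
    (h3 : ∀ (g : G) (a b c : Ω), a ≠ b → b ≠ c → a ≠ c → g • a = a → g • b = b → g • c = c → g = 1)
    (hn : 2 ≤ Nat.card Ω) (α : Ω) :
    Nat.card (K α) + 1 = Nat.card Ω ∧
      ∀ y z : Ω, y ≠ α → z ≠ α → ∃! u : K α, (u : G) • y = z := by
  classical
  have : Fintype G := Fintype.ofFinite G
  have : Fintype Ω := Fintype.ofFinite Ω
  have he3 := h.e_ge
  set S := stabilizer G α with hS
  have hKS : K α ≤ S := h.K_le α
  -- `|S| = |K α| * e`
  have hcardS : Nat.card S = Nat.card (K α) * e := by
    have h1 := Subgroup.card_mul_index ((K α).subgroupOf S)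
    have h2 : ((K α).subgroupOf S).index = e := h.K_index α
    have h3' : Nat.card ((K α).subgroupOf S) = Nat.card (K α) :=
      Nat.card_congr (Subgroup.subgroupOfEquivOfLe hKS).toEquiv
    rw [h2, h3'] at h1
    exact h1.symm
  -- a point different from `α`
  obtain ⟨y₀, hy₀⟩ : ∃ y₀ : Ω, y₀ ≠ α := by
    by_contra hcon
    push Not at hcon
    have : Nat.card Ω ≤ 1 := by
      rw [Nat.card_eq_fintype_card]
      exact Fintype.card_le_one_iff.mpr (fun x y => by rw [hcon x, hcon y])
    omega
  have hmove : ∀ y : Ω, y ≠ α → ∀ u : K α, (u : G) • y ≠ α := by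
    intro y hy u hcon
    have hu : (u : G) • α = α := hKS u.2
    exact hy (smul_left_cancel (u : G) (hcon.trans hu.symm))
  -- the orbit maps are injective
  have hinj : ∀ (y : Ω) (hy : y ≠ α), Function.Injective
      (fun u : K α => (⟨(u : G) • y, hmove y hy u⟩ : {z : Ω // z ≠ α})) := by
    intro y hy u u' huu
    have h1 : (u : G) • y = (u' : G) • y := congrArg Subtype.val huu
    have h2 : ((u' : G)⁻¹ * (u : G)) • y = y := by
      rw [mul_smul, h1, ← mul_smul, inv_mul_cancel, one_smul]
    by_contra hne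
    have h4 : (u' : G)⁻¹ * (u : G) ≠ 1 := by
      intro h5
      apply hne
      apply Subtype.ext
      have : (u : G) = (u' : G) := by
        have := congrArg (fun z => (u' : G) * z) h5
        simpa using this
      exact this
    exact hy (h.K_free α _ ((K α).mul_mem ((K α).inv_mem u'.2) u.2) h4 y h2)
  have hcardcompl : Fintype.card {z : Ω // z ≠ α} = Fintype.card Ω - 1 := by
    rw [Fintype.card_subtype_compl, Fintype.card_subtype_eq]
  -- `|K α| ≤ n - 1`
  have hle1 : Nat.card (K α) ≤ Nat.card Ω - 1 := by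
    rw [Nat.card_eq_fintype_card, Nat.card_eq_fintype_card, ← hcardcompl]
    exact Fintype.card_le_of_injective _ (hinj y₀ hy₀)
  -- the count
  let Dset : Ω → Finset G := fun β =>
    (Finset.univ.filter (fun x : G => x • α = α ∧ x • β = β)).erase 1
  let Tset : Finset G := (Finset.univ.filter (fun x : G => x ∈ S)) \
    (Finset.univ.filter (fun x : G => x ∈ K α))
  have hDcard : ∀ β : Ω, β ≠ α → (Dset β).card = e - 1 := by
    intro β hβ
    have h1 : (Finset.univ.filter (fun x : G => x • α = α ∧ x • β = β)).card = e := by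
      rw [← (hpair α β hβ.symm).1, Nat.card_eq_fintype_card, Fintype.card_subtype]
      congr 1
      ext x
      simp only [Finset.mem_filter, Finset.mem_univ, true_and, Subgroup.mem_inf,
        MulAction.mem_stabilizer_iff]
    show ((Finset.univ.filter (fun x : G => x • α = α ∧ x • β = β)).erase 1).card = e - 1
    rw [Finset.card_erase_of_mem, h1]
    simp
  have hTcard : Tset.card = Nat.card (K α) * e - Nat.card (K α) := by
    show ((Finset.univ.filter (fun x : G => x ∈ S)) \
      (Finset.univ.filter (fun x : G => x ∈ K α))).card = _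
    rw [Finset.card_sdiff_of_subset]
    · have e1 : (Finset.univ.filter (fun x : G => x ∈ S)).card = Nat.card S := by
        rw [Nat.card_eq_fintype_card, Fintype.card_subtype]
      have e2 : (Finset.univ.filter (fun x : G => x ∈ K α)).card = Nat.card (K α) := by
        rw [Nat.card_eq_fintype_card, Fintype.card_subtype]
      rw [e1, e2, hcardS]
    · intro x hx
      simp only [Finset.mem_filter, Finset.mem_univ, true_and] at hx ⊢
      exact hKS hx
  have hdisj : ∀ β ∈ (Finset.univ.erase α : Finset Ω), ∀ β' ∈ (Finset.univ.erase α : Finset Ω),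
      β ≠ β' → Disjoint (Dset β) (Dset β') := by
    intro β hβ β' hβ' hne
    rw [Finset.disjoint_left]
    intro x hx hx'
    simp only [Dset, Finset.mem_erase, Finset.mem_filter, Finset.mem_univ, true_and] at hx hx'
    have hβα : β ≠ α := (Finset.mem_erase.mp hβ).1
    have hβ'α : β' ≠ α := (Finset.mem_erase.mp hβ').1
    exact hx.1 (h3 x α β β' hβα.symm hne hβ'α.symm hx.2.1 hx.2.2 hx'.2.2)
  have hsub : (Finset.univ.erase α : Finset Ω).biUnion Dset ⊆ Tset := by
    intro x hx
    rw [Finset.mem_biUnion] at hx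
    obtain ⟨β, hβ, hxβ⟩ := hx
    have hβα : β ≠ α := (Finset.mem_erase.mp hβ).1
    simp only [Dset, Finset.mem_erase, Finset.mem_filter, Finset.mem_univ, true_and] at hxβ
    simp only [Tset, Finset.mem_sdiff, Finset.mem_filter, Finset.mem_univ, true_and]
    refine ⟨hxβ.2.1, fun hxK => ?_⟩
    exact hβα (h.K_free α x hxK hxβ.1 β hxβ.2.2)
  have hcount : (Fintype.card Ω - 1) * (e - 1) ≤ Nat.card (K α) * e - Nat.card (K α) := by
    have h1 := Finset.card_le_card hsub
    rw [Finset.card_biUnion hdisj, hTcard] at h1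
    have h2 : ∑ β ∈ (Finset.univ.erase α : Finset Ω), (Dset β).card =
        ∑ β ∈ (Finset.univ.erase α : Finset Ω), (e - 1) := by
      apply Finset.sum_congr rfl
      intro β hβ
      exact hDcard β (Finset.mem_erase.mp hβ).1
    rw [h2, Finset.sum_const, Finset.card_erase_of_mem (Finset.mem_univ α), Finset.card_univ,
      smul_eq_mul] at h1
    exact h1
  have hle2 : Nat.card Ω - 1 ≤ Nat.card (K α) := by
    rw [Nat.card_eq_fintype_card (α := Ω)]
    have h1 : Nat.card (K α) * e - Nat.card (K α) = Nat.card (K α) * (e - 1) := by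
      rw [Nat.mul_sub_one]
    rw [h1] at hcount
    exact Nat.le_of_mul_le_mul_right hcount (by omega)
  have hcardeq : Nat.card (K α) + 1 = Nat.card Ω := by omega
  refine ⟨hcardeq, ?_⟩
  intro y z hy hz
  have hbij : Function.Bijective
      (fun u : K α => (⟨(u : G) • y, hmove y hy u⟩ : {z : Ω // z ≠ α})) := by
    rw [Fintype.bijective_iff_injective_and_card]
    refine ⟨hinj y hy, ?_⟩
    rw [hcardcompl, ← Nat.card_eq_fintype_card, ← Nat.card_eq_fintype_card]
    omega
  obtain ⟨u, hu, huniq⟩ := hbij.existsUnique ⟨z, hz⟩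
  refine ⟨u, congrArg Subtype.val hu, ?_⟩
  intro u' hu'
  exact huniq u' (Subtype.ext hu')

end Cfsg.Agent.Helper10.CT
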