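import Mathlib
import Cfsg.Prelude.Def_Local
import Cfsg.Prelude.Def_LocalStructure
import Cfsg.Prelude.Def_LocalEven
import Cfsg.Agent.Helper10.CharP
import Cfsg.Agent.Helper10.PGroupBasic
import Cfsg.Agent.Helper10.SylowSub
import Cfsg.Agent.Helper15.CharP
import Cfsg.Agent.S1246
import Cfsg.Agent.S0542

set_option autoImplicit false
set_option linter.unusedSectionVars false
set_option linter.unusedVariables false

/-! # Characteristic `p`, parabolic characteristic `p`, local characteristic `p` -/

namespace Cfsg.Agent.Helper10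

open Subgroup Cfsg
open Cfsg.Agent.Helper14 (cj mem_map_cj map_cj_centralizer)

universe u

section

variable {G : Type u} [Group G] [Finite G] {p : ℕ} [hp : Fact p.Prime]

theorem centralizer_singleton_eq_zpowers (z : G) :
    centralizer ({z} : Set G) = centralizer ((zpowers z : Subgroup G) : Set G) := by
  apply le_antisymm
  · intro x hx
    rw [mem_centralizer_iff] at hx ⊢
    intro y hy
    obtain ⟨i, rfl⟩ := mem_zpowers_iff.1 hy
    have h1 : Commute z x := hx z rfl
    exact (h1.zpow_left i).eq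
  · apply centralizer_le
    intro y hy
    rw [Set.mem_singleton_iff] at hy
    subst hy
    exact mem_zpowers y

theorem charP_subgroup_congr {A B : Subgroup G} (h : A = B)
    (hA : generalizedFittingSubgroup ↥A = pCore p ↥A) :
    generalizedFittingSubgroup ↥B = pCore p ↥B := by
  subst h; exact hA

/-- `V ≤ U` `p`-subgroups, `C_G(V)` of characteristic `p` ⇒ `C_G(U)` of characteristic `p`. -/
theorem charP_centralizer_of_le {U V : Subgroup G} (hVU : V ≤ U) (hU : IsPGroup p U)
    (hV : generalizedFittingSubgroup ↥(centralizer (V : Set G)) =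
      pCore p ↥(centralizer (V : Set G))) :
    generalizedFittingSubgroup ↥(centralizer (U : Set G)) =
      pCore p ↥(centralizer (U : Set G)) :=
  fstar_eq_pCore_of_isPGroup (Cfsg.Agent.S1246.result U V hVU hU (isPGroup_fstar_of_eq hV))

/-- If `z ∈ R`, `R` a `p`-group and `C_G(z)` has characteristic `p`, then so has `N_G(R)`. -/
theorem charP_normalizer_of_mem {R : Subgroup G} (hR : IsPGroup p R) {z : G} (hz : z ∈ R)
    (h : generalizedFittingSubgroup ↥(centralizer ({z} : Set G)) =
      pCore p ↥(centralizer ({z} : Set G))) :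
    generalizedFittingSubgroup ↥(normalizer (R : Set G)) =
      pCore p ↥(normalizer (R : Set G)) := by
  apply charP_normalizer_of_centralizer hR
  apply charP_centralizer_of_le (V := zpowers z) (zpowers_le.2 hz) hR
  exact charP_subgroup_congr (centralizer_singleton_eq_zpowers z) h

theorem charP_map_conj {H : Subgroup G} (g : G)
    (h : generalizedFittingSubgroup ↥H = pCore p ↥H) :
    generalizedFittingSubgroup ↥(H.map (cj g)) = pCore p ↥(H.map (cj g)) :=
  fstar_eq_pCore_congr (H.equivMapOfInjective _ (MulAut.conj g).injective) h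

theorem centralizer_singleton_conj (g z : G) :
    centralizer ({g * z * g⁻¹} : Set G) = (centralizer ({z} : Set G)).map (cj g) := by
  rw [centralizer_singleton_eq_zpowers, centralizer_singleton_eq_zpowers, map_cj_centralizer,
    MonoidHom.map_zpowers]
  rfl

theorem charP_centralizer_singleton_conj (g z : G)
    (h : generalizedFittingSubgroup ↥(centralizer ({z} : Set G)) =
      pCore p ↥(centralizer ({z} : Set G))) :
    generalizedFittingSubgroup ↥(centralizer ({g * z * g⁻¹} : Set G)) =
      pCore p ↥(centralizer ({g * z * g⁻¹} : Set G)) :=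
  charP_subgroup_congr (centralizer_singleton_conj g z).symm (charP_map_conj g h)

/-- A nontrivial `p`-subgroup `R` whose normalizer contains the Sylow subgroup `T` lies in `T` and
contains an element of order `p` central in `T`. -/
theorem exists_central_order_p_of_sylow_le_normalizer {R : Subgroup G} (hR : IsPGroup p R)
    (hne : R ≠ ⊥) (T : Sylow p G) (hT : (T : Subgroup G) ≤ normalizer (R : Set G)) :
    ∃ z ∈ R, z ≠ 1 ∧ z ^ p = 1 ∧ z ∈ (T : Subgroup G) ∧
      ∀ t ∈ (T : Subgroup G), t * z = z * t := by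
  have hRT : R ≤ (T : Subgroup G) := by
    have h1 : IsPGroup p ↥((T : Subgroup G) ⊔ R) := T.2.to_sup_of_normal_right' hR hT
    have h2 := T.3 h1 le_sup_left
    rw [← h2]
    exact le_sup_right
  have hN : (R.subgroupOf (T : Subgroup G)).Normal :=
    (normal_subgroupOf_iff_le_normalizer hRT).2 hT
  have hNne : R.subgroupOf (T : Subgroup G) ≠ ⊥ := by
    intro h
    rw [subgroupOf_eq_bot, disjoint_iff, inf_of_le_left hRT] at h
    exact hne h
  obtain ⟨z₀, hz₀N, hz₀1, hz₀c⟩ := exists_ne_one_mem_inf_center T.2 (R.subgroupOf (T : Subgroup G)) hNne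
  -- the nontrivial `p`-group `N ⊓ Z(T)`
  have hMp : IsPGroup p ↥(R.subgroupOf (T : Subgroup G) ⊓ center ↥(T : Subgroup G)) :=
    T.2.to_subgroup _
  have hMnt : Nontrivial ↥(R.subgroupOf (T : Subgroup G) ⊓ center ↥(T : Subgroup G)) := by
    rw [Subgroup.nontrivial_iff_exists_ne_one]
    exact ⟨z₀, ⟨hz₀N, hz₀c⟩, hz₀1⟩
  obtain ⟨n, hn0, hn⟩ := hMp.nontrivial_iff_card.1 hMnt
  have hdvd : p ∣ Nat.card ↥(R.subgroupOf (T : Subgroup G) ⊓ center ↥(T : Subgroup G)) := by
    rw [hn]; exact dvd_pow_self _ (ne_of_gt hn0)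
  obtain ⟨x, hx⟩ := exists_prime_orderOf_dvd_card' p hdvd
  have hxN : (x : ↥(T : Subgroup G)) ∈ R.subgroupOf (T : Subgroup G) := x.2.1
  have hxc : (x : ↥(T : Subgroup G)) ∈ center ↥(T : Subgroup G) := x.2.2
  refine ⟨((x : ↥(T : Subgroup G)) : G), mem_subgroupOf.1 hxN, ?_, ?_, (x : ↥(T : Subgroup G)).2, ?_⟩
  · intro h
    have h1 : x = 1 := by
      apply Subtype.ext; apply Subtype.ext; exact h
    rw [h1, orderOf_one] at hx
    exact hp.out.one_lt.ne hx
  · have h1 : x ^ p = 1 := by
      have h0 := pow_orderOf_eq_one x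
      rwa [hx] at h0
    have h2 := congrArg (fun y : ↥(R.subgroupOf (T : Subgroup G) ⊓ center ↥(T : Subgroup G)) =>
      ((y : ↥(T : Subgroup G)) : G)) h1
    simpa using h2
  · intro t ht
    have h1 := (mem_center_iff.1 hxc) ⟨t, ht⟩
    exact congrArg (fun y : ↥(T : Subgroup G) => (y : G)) h1

/-- In a group of parabolic characteristic `p`, centralizers of nontrivial elements of
`Z(S)` have characteristic `p`. -/
theorem charP_centralizer_of_isOfParabolicCharacteristic
    (hG : IsOfParabolicCharacteristic p G) (S : Sylow p G) {z : G}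
    (hzS : z ∈ (S : Subgroup G)) (hzc : z ∈ centralizer ((S : Subgroup G) : Set G))
    (hz1 : z ≠ 1) :
    generalizedFittingSubgroup ↥(centralizer ({z} : Set G)) =
      pCore p ↥(centralizer ({z} : Set G)) := by
  have hRp : IsPGroup p ↥(zpowers z) := S.2.to_le (zpowers_le.2 hzS)
  have hRne : zpowers z ≠ ⊥ := zpowers_ne_bot.2 hz1
  have hSN : (S : Subgroup G) ≤ normalizer ((zpowers z : Subgroup G) : Set G) := by
    refine le_trans ?_ (centralizer_le_normalizer _)
    rw [← centralizer_singleton_eq_zpowers]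
    intro s hs
    rw [mem_centralizer_iff]
    intro y hy
    rw [Set.mem_singleton_iff] at hy
    subst hy
    exact (mem_centralizer_iff.1 hzc s hs).symm
  have h1 := hG (zpowers z) hRp hRne ⟨S, hSN⟩
  have h2 := fstar_eq_pCore_of_centralizer_le h1
  have h3 := charP_centralizer_step hRp (M := normalizer ((zpowers z : Subgroup G) : Set G))
    (le_normalizer.trans le_normalizer) (centralizer_le_normalizer _) h2
  exact charP_subgroup_congr (centralizer_singleton_eq_zpowers z).symm h3

theorem mem_omegaOne_of_pow_eq_one {H : Subgroup G} {x : G} (hx : x ∈ H) (hxp : x ^ p = 1) :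
    x ∈ omegaOne p H := subset_closure ⟨hx, hxp⟩

theorem omegaOne_le' (H : Subgroup G) : omegaOne p H ≤ H := by
  unfold omegaOne
  rw [closure_le]
  intro x hx
  exact hx.1

/-- The criterion for parabolic characteristic `p`. -/
theorem isOfParabolicCharacteristic_of_forall (S : Sylow p G)
    (h : ∀ z : G, z ≠ 1 →
      z ∈ omegaOne p ((S : Subgroup G) ⊓ centralizer ((S : Subgroup G) : Set G)) →
      generalizedFittingSubgroup ↥(centralizer ({z} : Set G)) =
        pCore p ↥(centralizer ({z} : Set G))) :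
    IsOfParabolicCharacteristic p G := by
  intro R hR hRne ⟨T, hT⟩
  obtain ⟨z, hzR, hz1, hzp, hzT, hzc⟩ :=
    exists_central_order_p_of_sylow_le_normalizer hR hRne T hT
  obtain ⟨g, hg⟩ := MulAction.exists_smul_eq G S T
  have hTmap : (T : Subgroup G) = (S : Subgroup G).map (cj g) := by
    rw [← hg]; exact sylow_smul_coe_eq_map S g
  have hs : g⁻¹ * z * g ∈ (S : Subgroup G) := by
    rw [hTmap, mem_map_cj] at hzT; exact hzT
  have hsc : g⁻¹ * z * g ∈ centralizer ((S : Subgroup G) : Set G) := by
    rw [mem_centralizer_iff]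
    intro y hy
    have hyT : g * y * g⁻¹ ∈ (T : Subgroup G) := by
      rw [hTmap, mem_map_cj]
      have e0 : g⁻¹ * (g * y * g⁻¹) * g = y := by group
      rw [e0]; exact hy
    have h1 := hzc _ hyT
    have e1 : y * (g⁻¹ * z * g) = g⁻¹ * ((g * y * g⁻¹) * z) * g := by group
    have e2 : g⁻¹ * z * g * y = g⁻¹ * (z * (g * y * g⁻¹)) * g := by group
    rw [e1, e2, h1]
  have hs1 : g⁻¹ * z * g ≠ 1 := by
    intro h1
    apply hz1
    have : z = g * (g⁻¹ * z * g) * g⁻¹ := by group
    rw [this, h1]; group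
  have hsp : (g⁻¹ * z * g) ^ p = 1 := by
    have : (g⁻¹ * z * g) ^ p = g⁻¹ * z ^ p * g := by
      have := conj_pow (a := g⁻¹) (b := z) (i := p)
      simpa using this
    rw [this, hzp]; group
  have h1 := h _ hs1 (mem_omegaOne_of_pow_eq_one ⟨hs, hsc⟩ hsp)
  have h2 := charP_centralizer_singleton_conj g _ h1
  have e : g * (g⁻¹ * z * g) * g⁻¹ = z := by group
  rw [e] at h2
  exact centralizer_pCore_le_of_fstar_eq (charP_normalizer_of_mem hR hzR h2)

/-- The criterion for local characteristic `p`. -/
theorem isOfLocalCharacteristic_of_forall (hdiv : p ∣ Nat.card G) (S : Sylow p G)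
    (h : ∀ z : G, z ∈ (S : Subgroup G) → orderOf z = p →
      generalizedFittingSubgroup ↥(centralizer ({z} : Set G)) =
        pCore p ↥(centralizer ({z} : Set G))) :
    IsOfLocalCharacteristic p G := by
  refine ⟨hdiv, ?_⟩
  intro T hT hTne
  have hTnt : Nontrivial ↥T := (Subgroup.nontrivial_iff_ne_bot T).2 hTne
  obtain ⟨n, hn0, hn⟩ := hT.nontrivial_iff_card.1 hTnt
  have hdvd : p ∣ Nat.card ↥T := by
    rw [hn]; exact dvd_pow_self _ (ne_of_gt hn0)
  obtain ⟨x, hx⟩ := exists_prime_orderOf_dvd_card' p hdvd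
  obtain ⟨Q, hQ⟩ := hT.exists_le_sylow
  obtain ⟨g, hg⟩ := MulAction.exists_smul_eq G S Q
  have hQmap : (Q : Subgroup G) = (S : Subgroup G).map (cj g) := by
    rw [← hg]; exact sylow_smul_coe_eq_map S g
  have hxQ : (x : G) ∈ (Q : Subgroup G) := hQ x.2
  have hs : g⁻¹ * (x : G) * g ∈ (S : Subgroup G) := by
    rw [hQmap, mem_map_cj] at hxQ; exact hxQ
  have hso : orderOf (g⁻¹ * (x : G) * g) = p := by
    have hsc : SemiconjBy g⁻¹ (x : G) (g⁻¹ * (x : G) * g) := by
      unfold SemiconjBy; group
    rw [← hsc.orderOf_eq, Subgroup.orderOf_coe]; exact hx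
  have h1 := h _ hs hso
  have h2 := charP_centralizer_singleton_conj g _ h1
  have e : g * (g⁻¹ * (x : G) * g) * g⁻¹ = (x : G) := by group
  rw [e] at h2
  exact centralizer_pCore_le_of_fstar_eq (charP_normalizer_of_mem hT x.2 h2)

end

end Cfsg.Agent.Helper10
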