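import Mathlib
import Cfsg.Agent.Helper10.CharP2

set_option autoImplicit false
set_option linter.unusedSectionVars false
set_option linter.unusedVariables false

/-! # Parabolic characteristic `p` passes to suitable subnormal subgroups -/

namespace Cfsg.Agent.Helper10

open Subgroup Cfsg
open Cfsg.Agent.Helper14 (cj mem_map_cj map_cj_centralizer)

universe u

section

variable {G : Type u} [Group G]

/-- The centralizer of `s` in the subgroup `G₁`, seen inside `C_G(s)` or inside `G₁`. -/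
def centSubEquiv (G₁ : Subgroup G) (s : ↥G₁) :
    ↥(G₁.subgroupOf (centralizer ({(s : G)} : Set G))) ≃* ↥(centralizer ({s} : Set ↥G₁)) where
  toFun x := ⟨⟨((x : ↥(centralizer ({(s : G)} : Set G))) : G), mem_subgroupOf.1 x.2⟩, by
    rw [mem_centralizer_iff]
    intro y hy
    rw [Set.mem_singleton_iff] at hy
    subst hy
    apply Subtype.ext
    exact mem_centralizer_iff.1 (x : ↥(centralizer ({(y : G)} : Set G))).2 (y : G) rfl⟩
  invFun y := ⟨⟨((y : ↥G₁) : G), by
    rw [mem_centralizer_iff]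
    intro t ht
    rw [Set.mem_singleton_iff] at ht
    subst ht
    exact congrArg Subtype.val (mem_centralizer_iff.1 y.2 s rfl)⟩, by
    rw [mem_subgroupOf]; exact (y : ↥G₁).2⟩
  left_inv x := by apply Subtype.ext; apply Subtype.ext; rfl
  right_inv y := by apply Subtype.ext; apply Subtype.ext; rfl
  map_mul' x y := by apply Subtype.ext; apply Subtype.ext; rfl

variable [Finite G] {p : ℕ} [hp : Fact p.Prime]

/-- Conjugating a central element of order `p` of the Sylow subgroup `T` into the Sylow subgroup `S`. -/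
theorem exists_conj_central (S T : Sylow p G) {z : G} (hzT : z ∈ (T : Subgroup G))
    (hzc : ∀ t ∈ (T : Subgroup G), t * z = z * t) :
    ∃ g : G, g⁻¹ * z * g ∈ (S : Subgroup G) ∧
      ∀ y ∈ (S : Subgroup G), y * (g⁻¹ * z * g) = g⁻¹ * z * g * y := by
  obtain ⟨g, hg⟩ := MulAction.exists_smul_eq G S T
  have hTmap : (T : Subgroup G) = (S : Subgroup G).map (cj g) := by
    rw [← hg]; exact sylow_smul_coe_eq_map S g
  refine ⟨g, ?_, ?_⟩
  · rw [hTmap, mem_map_cj] at hzT; exact hzT
  · intro y hy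
    have hyT : g * y * g⁻¹ ∈ (T : Subgroup G) := by
      rw [hTmap, mem_map_cj]
      have e0 : g⁻¹ * (g * y * g⁻¹) * g = y := by group
      rw [e0]; exact hy
    have h1 := hzc _ hyT
    have e1 : y * (g⁻¹ * z * g) = g⁻¹ * ((g * y * g⁻¹) * z) * g := by group
    have e2 : g⁻¹ * z * g * y = g⁻¹ * (z * (g * y * g⁻¹)) * g := by group
    rw [e1, e2, h1]

/-- Parabolic characteristic `p` passes to a subnormal subgroup `G₁` with
`Ω₁(Z(S ∩ G₁)) ≤ Ω₁(Z(S))`. -/
theorem isOfParabolicCharacteristic_of_isSubnormal (hG : IsOfParabolicCharacteristic p G)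
    (S : Sylow p G) (G₁ : Subgroup G) (hsn : G₁.IsSubnormal)
    (hle : omegaOne p (((S : Subgroup G) ⊓ G₁) ⊓
        centralizer (((S : Subgroup G) ⊓ G₁ : Subgroup G) : Set G)) ≤
      omegaOne p ((S : Subgroup G) ⊓ centralizer ((S : Subgroup G) : Set G))) :
    IsOfParabolicCharacteristic p ↥G₁ := by
  intro R hR hRne ⟨T, hT⟩
  obtain ⟨z, hzR, hz1, hzp, hzT, hzc⟩ :=
    exists_central_order_p_of_sylow_le_normalizer hR hRne T hT
  obtain ⟨Q, hQ⟩ := Cfsg.Agent.S0542.result p G₁ hsn S
  obtain ⟨g, hs, hsc⟩ := exists_conj_central Q T hzT hzc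
  have hs1 : g⁻¹ * z * g ≠ 1 := by
    intro h1
    apply hz1
    have : z = g * (g⁻¹ * z * g) * g⁻¹ := by group
    rw [this, h1]; group
  have hsp : (g⁻¹ * z * g) ^ p = 1 := by
    have : (g⁻¹ * z * g) ^ p = g⁻¹ * z ^ p * g := by
      have := conj_pow (a := g⁻¹) (b := z) (i := p)
      simpa using this
    rw [this, hzp]; group
  -- in `G`
  have hsG : ((g⁻¹ * z * g : ↥G₁) : G) ∈ omegaOne p (((S : Subgroup G) ⊓ G₁) ⊓
        centralizer (((S : Subgroup G) ⊓ G₁ : Subgroup G) : Set G)) := by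
    apply mem_omegaOne_of_pow_eq_one
    · refine ⟨⟨?_, (g⁻¹ * z * g).2⟩, ?_⟩
      · have h0 := hs
        rw [hQ, mem_subgroupOf] at h0; exact h0
      · show ((g⁻¹ * z * g : ↥G₁) : G) ∈
          centralizer (((S : Subgroup G) ⊓ G₁ : Subgroup G) : Set G)
        rw [mem_centralizer_iff]
        intro y hy
        have hyQ : (⟨y, hy.2⟩ : ↥G₁) ∈ (Q : Subgroup ↥G₁) := by
          rw [hQ, mem_subgroupOf]; exact hy.1
        exact congrArg Subtype.val (hsc _ hyQ)
    · have h0 := congrArg Subtype.val hsp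
      simpa using h0
  have hsG' := omegaOne_le' _ (hle hsG)
  have h1 := charP_centralizer_of_isOfParabolicCharacteristic hG S hsG'.1 hsG'.2
    (by intro h; apply hs1; exact Subtype.ext h)
  -- pass to `G₁`
  have h2 := centralizer_pCore_le_of_fstar_eq h1
  have h3 := Cfsg.Agent.Helper15.charP_of_isSubnormal h2 (G₁.subgroupOf _) hsn.subgroupOf
  have h4 := Cfsg.Agent.Helper15.charP_of_mulEquiv p (centSubEquiv G₁ (g⁻¹ * z * g)) h3
  have h5 := fstar_eq_pCore_of_centralizer_le h4
  have h6 := charP_centralizer_singleton_conj g _ h5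
  have e : g * (g⁻¹ * z * g) * g⁻¹ = z := by group
  rw [e] at h6
  exact centralizer_pCore_le_of_fstar_eq (charP_normalizer_of_mem hR hzR h6)

end

end Cfsg.Agent.Helper10
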