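import Mathlib
import Cfsg.Agent.Lead.SylowNumber3
import Cfsg.Agent.Lead.CoprimeSylow

set_option autoImplicit false
set_option linter.unusedSectionVars false
set_option linter.unusedVariables false

/-! # Groups in which a Sylow `p`-subgroup is a maximal subgroup with a normal complement -/

namespace Cfsg.Agent.Helper10

open Subgroup

variable {G : Type*} [Group G] [Finite G] {p : ℕ} [Fact p.Prime]

/-- if the Sylow `p`-subgroup `T` is a maximal subgroup with normal complement `A`, every
`T`-invariant subgroup of `A` is trivial or `A` -/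
theorem coatom_sylow_minimal (T : Sylow p G) (hco : IsCoatom (T : Subgroup G)) (A : Subgroup G)
    (hc : A.IsComplement' (T : Subgroup G)) (L : Subgroup G) (hLA : L ≤ A)
    (hTL : (T : Subgroup G) ≤ normalizer (L : Set G)) : L = ⊥ ∨ L = A := by
  have hdisj : (T : Subgroup G) ⊓ A = ⊥ := hc.symm.disjoint.eq_bot
  have hTLbot : (T : Subgroup G) ⊓ L = ⊥ := by
    rw [eq_bot_iff, ← hdisj]
    exact inf_le_inf_left _ hLA
  rcases hco.le_iff.1 (le_sup_left : (T : Subgroup G) ≤ (T : Subgroup G) ⊔ L) with h | h
  · right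
    have h1 := Cfsg.Agent.Lead.relIndex_sup_of_le_normalizer (T : Subgroup G) L hTL
    rw [h, Subgroup.relIndex_top_right, ← Subgroup.inf_relIndex_right, hTLbot,
      Subgroup.relIndex_bot_left] at h1
    have h2 : (T : Subgroup G).index = Nat.card ↥A := hc.index_eq_card
    apply Subgroup.eq_of_le_of_card_ge hLA
    rw [← h1, h2]
  · left
    rw [eq_bot_iff, ← hTLbot]
    have : L ≤ (T : Subgroup G) := by
      rw [← h]
      exact le_sup_right
    exact le_inf this le_rfl

/-- in that situation `A` is commutative -/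
theorem coatom_sylow_complement_comm (T : Sylow p G) (hco : IsCoatom (T : Subgroup G))
    (A : Subgroup G) [hA : A.Normal] (hc : A.IsComplement' (T : Subgroup G)) :
    ∀ a ∈ A, ∀ b ∈ A, a * b = b * a := by
  have hp : p.Prime := Fact.out
  by_cases hAbot : A = ⊥
  · intro a ha b hb
    rw [hAbot, Subgroup.mem_bot] at ha hb
    rw [ha, hb]
  have hcardA : Nat.card ↥A ≠ 1 := by
    intro h
    exact hAbot (Subgroup.card_eq_one.1 h)
  obtain ⟨q, hq, hqdvd⟩ := Nat.exists_prime_and_dvd hcardA
  have : Fact q.Prime := ⟨hq⟩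
  have hTA : (T : Subgroup G) ≤ normalizer (A : Set G) := by
    rw [Subgroup.normalizer_eq_top_iff.2 hA]
    exact le_top
  have hcop : (Nat.card ↥(T : Subgroup G)).Coprime (Nat.card ↥A) := by
    have h1 : (T : Subgroup G).index = Nat.card ↥A := hc.index_eq_card
    rw [← h1]
    exact T.card_coprime_index
  have hsolv : Group.IsSolvable ↥(T : Subgroup G) := by
    have : Group.IsNilpotent ↥(T : Subgroup G) := T.2.isNilpotent
    infer_instance
  obtain ⟨Q, hQ⟩ := Cfsg.Agent.Lead.coprime_exists_invariant_sylow (T : Subgroup G) A hTA hcop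
    (Or.inl hsolv) q
  have hQne : (Q : Subgroup ↥A).map A.subtype ≠ ⊥ := by
    intro h
    rw [Subgroup.map_eq_bot_iff_of_injective _ A.subtype_injective] at h
    have h1 : Nat.card ↥(Q : Subgroup ↥A) = 1 := Subgroup.card_eq_one.2 h
    have h2 := Q.card_eq_multiplicity
    rw [h1] at h2
    have h3 : 1 ≤ (Nat.card ↥A).factorization q :=
      (hq.dvd_iff_one_le_factorization Nat.card_pos.ne').1 hqdvd
    have h4 : q ^ 1 ≤ q ^ (Nat.card ↥A).factorization q := Nat.pow_le_pow_right hq.pos h3
    rw [pow_one] at h4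
    have := hq.one_lt
    omega
  have hQA : (Q : Subgroup ↥A).map A.subtype = A := by
    rcases coatom_sylow_minimal T hco A hc _ (Subgroup.map_subtype_le _) hQ with h | h
    · exact absurd h hQne
    · exact h
  have hQtop : (Q : Subgroup ↥A) = ⊤ := by
    rw [eq_top_iff]
    intro a _
    have h1 : (a : G) ∈ (Q : Subgroup ↥A).map A.subtype := by
      rw [hQA]
      exact a.2
    obtain ⟨b, hb, hbe⟩ := h1
    have : b = a := Subtype.ext hbe
    rw [← this]
    exact hb
  have hAq : IsPGroup q ↥A := by
    intro a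
    obtain ⟨k, hk⟩ := Q.2 ⟨a, hQtop ▸ Subgroup.mem_top a⟩
    refine ⟨k, ?_⟩
    have := congrArg Subtype.val hk
    simpa using this
  have hAnt : Nontrivial ↥A := (Subgroup.nontrivial_iff_ne_bot A).2 hAbot
  have hZne : (Subgroup.center ↥A).map A.subtype ≠ ⊥ := by
    rw [Ne, Subgroup.map_eq_bot_iff_of_injective _ A.subtype_injective]
    exact (hAq.bot_lt_center).ne'
  have hZn : ((Subgroup.center ↥A).map A.subtype).Normal := inferInstance
  have hZA : (Subgroup.center ↥A).map A.subtype = A := by
    rcases coatom_sylow_minimal T hco A hc _ (Subgroup.map_subtype_le _)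
      (by rw [Subgroup.normalizer_eq_top_iff.2 hZn]; exact le_top) with h | h
    · exact absurd h hZne
    · exact h
  intro a ha b hb
  have h1 : a ∈ (Subgroup.center ↥A).map A.subtype := by rw [hZA]; exact ha
  obtain ⟨z, hz, rfl⟩ := h1
  have h2 := Subgroup.mem_center_iff.1 hz ⟨b, hb⟩
  have h3 := congrArg Subtype.val h2
  exact h3.symm

end Cfsg.Agent.Helper10
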