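import Mathlib

set_option autoImplicit false

namespace Cfsg.Agent.Helper10

variable {H : Type*} [Group H] [Finite H]

/-- An involution acting fixed-point-freely on a normal subgroup inverts it. -/
theorem conj_eq_inv_of_fpf {N : Subgroup H} [N.Normal] {e : H} (he : e * e = 1)
    (hfpf : ∀ n ∈ N, e * n * e⁻¹ = n → n = 1) : ∀ n ∈ N, e * n * e⁻¹ = n⁻¹ := by
  let φ : ↥N →* ↥N := (MulAut.conjNormal e : MulAut ↥N).toMonoidHom
  have hφ_apply : ∀ n : ↥N, ((φ n : ↥N) : H) = e * n * e⁻¹ := by
    intro n; simp [φ, MulAut.conjNormal_apply]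
  have hfp : MonoidHom.FixedPointFree φ := by
    intro n hn
    have := hfpf n n.2 (by rw [← hφ_apply, hn])
    exact Subtype.ext this
  have hinv : Function.Involutive φ := by
    intro n
    apply Subtype.ext
    rw [hφ_apply, hφ_apply]
    have e1 : e⁻¹ = e := inv_eq_of_mul_eq_one_left he
    rw [e1]
    calc e * (e * ↑n * e) * e = (e * e) * ↑n * (e * e) := by group
      _ = n := by rw [he]; simp
  have := MonoidHom.FixedPointFree.coe_eq_inv_of_involutive hfp hinv
  intro n hn
  have h2 := congrFun this ⟨n, hn⟩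
  have h3 := congrArg Subtype.val h2
  rw [hφ_apply] at h3
  simpa using h3

theorem proper_normal_eq_bot (z : H) (hz : orderOf z = 2)
    (hN : ∀ N : Subgroup H, N.Normal → N ≠ ⊤ → N ⊓ Subgroup.centralizer ({z} : Set H) = ⊥)
    (E : Subgroup H) (hE : IsKleinFour ↥E) (hzE : z ∈ E) (hc : ∀ e ∈ E, e ≠ 1 → IsConj z e)
    (N : Subgroup H) [hNn : N.Normal] (hNtop : N ≠ ⊤) : N = ⊥ := by
  classical
  have hz1 : z ≠ 1 := by
    intro h; rw [h, orderOf_one] at hz; exact absurd hz (by norm_num)
  have hzz : z * z = 1 := by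
    have := pow_orderOf_eq_one z
    rw [hz, pow_two] at this; exact this
  -- every nonidentity element of `E` acts fixed point freely on `N`
  have hfpf : ∀ e ∈ E, e ≠ 1 → ∀ n ∈ N, e * n * e⁻¹ = n → n = 1 := by
    intro e heE he1 n hn hen
    obtain ⟨c, hc'⟩ := isConj_iff.1 (hc e heE he1)
    -- c * z * c⁻¹ = e
    have hmem : c⁻¹ * n * c ∈ N ⊓ Subgroup.centralizer ({z} : Set H) := by
      refine ⟨?_, ?_⟩
      · have := hNn.conj_mem n hn c⁻¹
        simpa using this
      · show c⁻¹ * n * c ∈ Subgroup.centralizer ({z} : Set H)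
        rw [Subgroup.mem_centralizer_iff]
        intro y hy
        rw [Set.mem_singleton_iff] at hy
        subst hy
        have h1 : e * n = n * e := by
          calc e * n = e * n * e⁻¹ * e := by group
            _ = n * e := by rw [hen]
        rw [← hc'] at h1
        calc y * (c⁻¹ * n * c) = c⁻¹ * ((c * y * c⁻¹) * n) * c := by group
          _ = c⁻¹ * (n * (c * y * c⁻¹)) * c := by rw [h1]
          _ = c⁻¹ * n * c * y := by group
    rw [hN N hNn hNtop, Subgroup.mem_bot] at hmem
    calc n = c * (c⁻¹ * n * c) * c⁻¹ := by group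
      _ = 1 := by rw [hmem]; group
  have hexp : ∀ e ∈ E, e * e = 1 := by
    intro e he
    have h2 : (⟨e, he⟩ : ↥E) ^ 2 = 1 := by
      have := Monoid.pow_exponent_eq_one (⟨e, he⟩ : ↥E)
      rwa [hE.exponent_two] at this
    have := congrArg Subtype.val h2
    simpa [pow_two] using this
  -- an element of `E` other than `1, z`
  obtain ⟨e₂, he₂E, he₂1, he₂z⟩ : ∃ e ∈ E, e ≠ 1 ∧ e ≠ z := by
    by_contra hcon
    push Not at hcon
    have hall : ∀ e : ↥E, e = 1 ∨ e = ⟨z, hzE⟩ := by
      intro e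
      by_cases h1 : (e : H) = 1
      · left; exact Subtype.ext h1
      · right; exact Subtype.ext (hcon e e.2 h1)
    let f : ↥E → Bool := fun e => decide (e = ⟨z, hzE⟩)
    have hf : Function.Injective f := by
      intro a b hab
      simp only [f, decide_eq_decide] at hab
      rcases hall a with ha | ha <;> rcases hall b with hb | hb
      · rw [ha, hb]
      · exfalso
        have : a ≠ ⟨z, hzE⟩ := by
          rw [ha]; intro h; exact hz1 (congrArg Subtype.val h).symm
        exact this (hab.2 hb)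
      · exfalso
        have : b ≠ ⟨z, hzE⟩ := by
          rw [hb]; intro h; exact hz1 (congrArg Subtype.val h).symm
        exact this (hab.1 ha)
      · rw [ha, hb]
    have := Nat.card_le_card_of_injective f hf
    rw [hE.card_four, Nat.card_eq_fintype_card, Fintype.card_bool] at this
    omega
  have he₃E : z * e₂ ∈ E := E.mul_mem hzE he₂E
  have he₃1 : z * e₂ ≠ 1 := by
    intro h
    apply he₂z
    have : e₂ = z⁻¹ := (inv_eq_of_mul_eq_one_right h).symm
    rw [this]; exact inv_eq_of_mul_eq_one_left hzz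
  have i1 := conj_eq_inv_of_fpf hzz (hfpf z hzE hz1)
  have i2 := conj_eq_inv_of_fpf (hexp e₂ he₂E) (hfpf e₂ he₂E he₂1)
  have i3 := conj_eq_inv_of_fpf (hexp _ he₃E) (hfpf _ he₃E he₃1)
  rw [eq_bot_iff]
  intro n hn
  rw [Subgroup.mem_bot]
  have h3 := i3 n hn
  have h4 : (z * e₂) * n * (z * e₂)⁻¹ = n := by
    calc (z * e₂) * n * (z * e₂)⁻¹ = z * (e₂ * n * e₂⁻¹) * z⁻¹ := by group
      _ = z * n⁻¹ * z⁻¹ := by rw [i2 n hn]
      _ = (n⁻¹)⁻¹ := i1 n⁻¹ (N.inv_mem hn)
      _ = n := inv_inv n
  exact hfpf _ he₃E he₃1 n hn h4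

end Cfsg.Agent.Helper10
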