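import Mathlib
import Cfsg.Prelude.Def_PLocal
import Cfsg.Agent.Helper26.Uniserial
import Cfsg.Agent.Helper14.Stability2
import Cfsg.Agent.Helper10.NormLemmas

set_option autoImplicit false

/-! # A relative three subgroups lemma and a bigraded commutator estimate -/

namespace Cfsg.Agent.Helper10

open Subgroup
open scoped commutatorElement

variable {G : Type*} [Group G]

/-- the three subgroups lemma modulo a subgroup normalized by all three -/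
theorem three_subgroups_le {H₁ H₂ H₃ N : Subgroup G}
    (hN₁ : H₁ ≤ normalizer (N : Set G)) (hN₂ : H₂ ≤ normalizer (N : Set G))
    (hN₃ : H₃ ≤ normalizer (N : Set G))
    (h1 : ⁅⁅H₂, H₃⁆, H₁⁆ ≤ N) (h2 : ⁅⁅H₃, H₁⁆, H₂⁆ ≤ N) : ⁅⁅H₁, H₂⁆, H₃⁆ ≤ N := by
  have hnorm : ⁅H₁, H₂⁆ ≤ normalizer (N : Set G) := by
    rw [commutator_le]
    intro x hx y hy
    rw [commutatorElement_def]
    exact (normalizer (N : Set G)).mul_mem ((normalizer (N : Set G)).mul_mem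
      ((normalizer (N : Set G)).mul_mem (hN₁ hx) (hN₂ hy)) (inv_mem (hN₁ hx))) (inv_mem (hN₂ hy))
  rw [commutator_le]
  intro w hw
  have hw' : w ∈ closure {g | ∃ g₁ ∈ H₁, ∃ g₂ ∈ H₂, ⁅g₁, g₂⁆ = g} := hw
  refine Subgroup.closure_induction (p := fun w _ => ∀ z ∈ H₃, ⁅w, z⁆ ∈ N) ?_ ?_ ?_ ?_ hw'
  · rintro _ ⟨x, hx, y, hy, rfl⟩ z hz
    rw [← commutatorElement_inv]
    apply N.inv_mem
    have e : ⁅z, ⁅x, y⁆⁆ = x * ((z * ⁅y, ⁅z⁻¹, x⁻¹⁆⁆⁻¹ * z⁻¹) * (y * ⁅x⁻¹, ⁅y⁻¹, z⁆⁆⁻¹ * y⁻¹)) * x⁻¹ := by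
      simp only [commutatorElement_def]
      group
    rw [e]
    have m1 : ⁅y, ⁅z⁻¹, x⁻¹⁆⁆⁻¹ ∈ N := by
      rw [commutatorElement_inv]
      exact h2 (commutator_mem_commutator
        (commutator_mem_commutator (H₃.inv_mem hz) (H₁.inv_mem hx)) hy)
    have m2 : ⁅x⁻¹, ⁅y⁻¹, z⁆⁆⁻¹ ∈ N := by
      rw [commutatorElement_inv]
      exact h1 (commutator_mem_commutator
        (commutator_mem_commutator (H₂.inv_mem hy) hz) (H₁.inv_mem hx))
    have m1' : z * ⁅y, ⁅z⁻¹, x⁻¹⁆⁆⁻¹ * z⁻¹ ∈ N := (mem_normalizer_iff.1 (hN₃ hz) _).1 m1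
    have m2' : y * ⁅x⁻¹, ⁅y⁻¹, z⁆⁆⁻¹ * y⁻¹ ∈ N := (mem_normalizer_iff.1 (hN₂ hy) _).1 m2
    exact (mem_normalizer_iff.1 (hN₁ hx) _).1 (N.mul_mem m1' m2')
  · intro z _
    rw [commutatorElement_one_left]
    exact N.one_mem
  · intro w₁ w₂ hw₁ hw₂ ih₁ ih₂ z hz
    have e : ⁅w₁ * w₂, z⁆ = w₁ * ⁅w₂, z⁆ * w₁⁻¹ * ⁅w₁, z⁆ := by
      simp only [commutatorElement_def]
      group
    rw [e]
    have hw₁n : w₁ ∈ normalizer (N : Set G) := hnorm hw₁
    exact N.mul_mem ((mem_normalizer_iff.1 hw₁n _).1 (ih₂ z hz)) (ih₁ z hz)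
  · intro w₁ hw₁ ih z hz
    have e : ⁅w₁⁻¹, z⁆ = w₁⁻¹ * ⁅w₁, z⁆⁻¹ * w₁⁻¹⁻¹ := by
      simp only [commutatorElement_def]
      group
    rw [e]
    have hw₁n : w₁⁻¹ ∈ normalizer (N : Set G) := inv_mem (hnorm hw₁)
    exact (mem_normalizer_iff.1 hw₁n _).1 (N.inv_mem (ih z hz))

/-- `⁅X ⊔ N, K⁆ ≤ ⁅X, K⁆ ⊔ N` for `N` normal -/
theorem commutator_sup_normal_le (X K N : Subgroup G) [hN : N.Normal] :
    ⁅X ⊔ N, K⁆ ≤ ⁅X, K⁆ ⊔ N := by
  rw [commutator_le]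
  intro w hw k hk
  obtain ⟨x, hx, n, hn, rfl⟩ := Subgroup.mem_sup_of_normal_right.1 hw
  have e : ⁅x * n, k⁆ = x * ⁅n, k⁆ * x⁻¹ * ⁅x, k⁆ := by
    simp only [commutatorElement_def]
    group
  rw [e]
  have h1 : ⁅n, k⁆ ∈ N := by
    rw [commutatorElement_def]
    have := hN.conj_mem n⁻¹ (N.inv_mem hn) k
    have e1 : n * k * n⁻¹ * k⁻¹ = n * (k * n⁻¹ * k⁻¹) := by group
    rw [e1]
    exact N.mul_mem hn this
  have h2 : x * ⁅n, k⁆ * x⁻¹ ∈ N := hN.conj_mem _ h1 x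
  exact Subgroup.mul_mem _ (Subgroup.mem_sup_right h2)
    (Subgroup.mem_sup_left (commutator_mem_commutator hx hk))

theorem iterCommutator_mono {U U' K K' : Subgroup G} (hU : U ≤ U') (hK : K ≤ K') (n : ℕ) :
    Cfsg.iterCommutator U K n ≤ Cfsg.iterCommutator U' K' n := by
  induction n with
  | zero => exact hU
  | succ n ih => exact commutator_mono ih hK

theorem iterCommutator_bot (K : Subgroup G) (n : ℕ) : Cfsg.iterCommutator (⊥ : Subgroup G) K n = ⊥ := by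
  induction n with
  | zero => rfl
  | succ n ih =>
    show ⁅Cfsg.iterCommutator (⊥ : Subgroup G) K n, K⁆ = ⊥
    rw [ih, eq_bot_iff, commutator_le]
    intro x hx k _
    rw [Subgroup.mem_bot] at hx
    rw [hx, commutatorElement_one_left]
    exact Subgroup.one_mem _

theorem iterCommutator_add (U K : Subgroup G) (m n : ℕ) :
    Cfsg.iterCommutator U K (m + n) = Cfsg.iterCommutator (Cfsg.iterCommutator U K m) K n := by
  induction n with
  | zero => rfl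
  | succ n ih =>
    show ⁅Cfsg.iterCommutator U K (m + n), K⁆ = ⁅Cfsg.iterCommutator (Cfsg.iterCommutator U K m) K n, K⁆
    rw [ih]

theorem iterCommutator_eq_bot_of_le {U K : Subgroup G} {m n : ℕ} (h : Cfsg.iterCommutator U K m = ⊥)
    (hmn : m ≤ n) : Cfsg.iterCommutator U K n = ⊥ := by
  obtain ⟨k, rfl⟩ := Nat.exists_eq_add_of_le hmn
  rw [iterCommutator_add, h, iterCommutator_bot]

/-- the bigraded estimate -/
theorem bigraded {Pf Qf : ℕ → Subgroup G} {H K W : Subgroup G}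
    (ha : ∀ r, ⁅Pf r, K⁆ ≤ Pf (r + 1))
    (hb : ∀ n, ⁅Qf n, K⁆ ≤ Qf (n + 1))
    (hc : ∀ r, ⁅Pf r, H⁆ ≤ Qf r)
    (hK : ∀ n, K ≤ normalizer ((Qf n : Subgroup G) : Set G))
    (hW : ∀ n, W ≤ normalizer ((Qf n : Subgroup G) : Set G))
    (hPW : ∀ r, Pf r ≤ W) (hHW : ∀ s, Cfsg.iterCommutator H K s ≤ W) :
    ∀ s r, ⁅Pf r, Cfsg.iterCommutator H K s⁆ ≤ Qf (s + r) := by
  intro s
  induction s with
  | zero =>
    intro r
    rw [Nat.zero_add]
    exact hc r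
  | succ s ih =>
    intro r
    show ⁅Pf r, ⁅Cfsg.iterCommutator H K s, K⁆⁆ ≤ Qf (s + 1 + r)
    rw [commutator_comm]
    apply three_subgroups_le ((hHW s).trans (hW _)) (hK _) ((hPW r).trans (hW _))
    · rw [commutator_comm K (Pf r)]
      refine (commutator_mono (ha r) le_rfl).trans ?_
      have := ih (r + 1)
      have e : s + (r + 1) = s + 1 + r := by omega
      rw [e] at this
      exact this
    · refine (commutator_mono (ih r) le_rfl).trans ?_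
      have := hb (s + r)
      have e : s + r + 1 = s + 1 + r := by omega
      rw [e] at this
      exact this

end Cfsg.Agent.Helper10
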