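import Mathlib
import Cfsg.Prelude.Def_PLocal
import Cfsg.Prelude.Def_LocalEven
import Cfsg.Agent.Helper10.ThreeSub

set_option autoImplicit false
set_option linter.unusedSectionVars false
set_option linter.unusedVariables false

/-! # The stability series of a normal `p`-subgroup `T` acting on a normal subgroup `A`,
and the action of a cubic/quadratic element on the chief factors below `T` -/

namespace Cfsg.Agent.Helper10

open Subgroup
open scoped commutatorElement

section CentMod

variable {G : Type*} [Group G]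

/-- `C_G(U/V)` -/
def centMod (U V : Subgroup G) [V.Normal] : Subgroup G :=
  (centralizer ((U.map (QuotientGroup.mk' V) : Subgroup (G ⧸ V)) : Set (G ⧸ V))).comap
    (QuotientGroup.mk' V)

theorem le_centMod_iff {U V H : Subgroup G} [V.Normal] : H ≤ centMod U V ↔ ⁅U, H⁆ ≤ V := by
  unfold centMod
  rw [← Subgroup.map_le_iff_le_comap, ← commutator_eq_bot_iff_le_centralizer,
    ← Subgroup.map_commutator, (Subgroup.map_eq_bot_iff _), QuotientGroup.ker_mk', commutator_comm]

instance centMod_normal (U V : Subgroup G) [hU : U.Normal] [V.Normal] : (centMod U V).Normal := by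
  unfold centMod
  haveI : (U.map (QuotientGroup.mk' V)).Normal :=
    Subgroup.Normal.map hU _ (QuotientGroup.mk'_surjective V)
  exact Subgroup.Normal.comap inferInstance _

end CentMod

section Stab

variable {G : Type*} [Group G] [Finite G] (A T : Subgroup G) [hA : A.Normal] [hT : T.Normal]

/-- `A_i = [A, T; i]` -/
abbrev Ai (i : ℕ) : Subgroup G := Cfsg.iterCommutator A T i

instance Ai_normal (i : ℕ) : (Ai A T i).Normal := by
  induction i with
  | zero => exact hA
  | succ i ih =>
    show (⁅Ai A T i, T⁆).Normal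
    exact Subgroup.commutator_normal _ _

theorem Ai_succ_le (i : ℕ) : Ai A T (i + 1) ≤ Ai A T i :=
  Subgroup.commutator_le_left _ _

theorem Ai_antitone : Antitone (Ai A T) := antitone_nat_of_succ_le (Ai_succ_le A T)

/-- the stability series -/
def Nj (j : ℕ) : Subgroup G := T ⊓ ⨅ i, centMod (Ai A T i) (Ai A T (i + j))

instance Nj_normal (j : ℕ) : (Nj A T j).Normal := by
  unfold Nj
  haveI : (⨅ i, centMod (Ai A T i) (Ai A T (i + j))).Normal :=
    Subgroup.normal_iInf_normal (fun i => inferInstance)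
  exact Subgroup.normal_inf_normal _ _

theorem Nj_le (j : ℕ) : Nj A T j ≤ T := inf_le_left

theorem le_Nj_iff {H : Subgroup G} {j : ℕ} :
    H ≤ Nj A T j ↔ H ≤ T ∧ ∀ i, ⁅Ai A T i, H⁆ ≤ Ai A T (i + j) := by
  unfold Nj
  rw [le_inf_iff, le_iInf_iff]
  simp only [le_centMod_iff]

theorem commutator_Ai_Nj_le (i j : ℕ) : ⁅Ai A T i, Nj A T j⁆ ≤ Ai A T (i + j) :=
  ((le_Nj_iff A T).1 le_rfl).2 i

theorem Nj_one : Nj A T 1 = T :=
  le_antisymm (Nj_le A T 1) ((le_Nj_iff A T).2 ⟨le_rfl, fun i => le_rfl⟩)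

theorem le_normalizer_of_normal (K X : Subgroup G) [hX : X.Normal] :
    K ≤ normalizer (X : Set G) := by
  rw [normalizer_eq_top_iff.2 hX]
  exact le_top

variable {A T}

/-- if `A_n = 1` then `N_n ≤ Z(A)` -/
theorem Nj_le_center (hcent : T ⊓ centralizer (A : Set G) ≤ A) {n : ℕ} (hn : Ai A T n = ⊥) :
    Nj A T n ≤ A ⊓ centralizer (A : Set G) := by
  have h1 : ⁅A, Nj A T n⁆ ≤ ⊥ := by
    have := commutator_Ai_Nj_le A T 0 n
    rw [Nat.zero_add, hn] at this
    exact this
  have h2 : Nj A T n ≤ centralizer (A : Set G) := by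
    rw [← commutator_eq_bot_iff_le_centralizer, commutator_comm]
    exact le_bot_iff.1 h1
  exact le_inf ((le_inf (Nj_le A T n) h2).trans hcent) h2

/-- the core estimate: a cubic/quadratic `K` acts with `[N_j, K; 4] ≤ N_{j+1}` -/
theorem stab_step (hAT : A ≤ T) (hcrit : ⁅A, T⁆ ≤ A ⊓ centralizer (A : Set G)) (K : Subgroup G)
    (h3 : Cfsg.iterCommutator A K 3 = ⊥)
    (h2 : Cfsg.iterCommutator (A ⊓ centralizer (A : Set G)) K 2 = ⊥)
    (j : ℕ) (hj : 1 ≤ j) : Cfsg.iterCommutator (Nj A T j) K 4 ≤ Nj A T (j + 1) := by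
  rw [le_Nj_iff]
  refine ⟨(Cfsg.Agent.Helper14.iterCommutator_le _ _ (le_normalizer_of_normal K _) 4).trans
    (Nj_le A T j), ?_⟩
  intro i
  have hQ1Q : Ai A T (i + j + 1) ≤ Ai A T (i + j) := Ai_succ_le A T (i + j)
  have hQZ : Ai A T (i + j) ≤ A ⊓ centralizer (A : Set G) := by
    refine (Ai_antitone A T (show 1 ≤ i + j by omega)).trans ?_
    exact hcrit
  have hQf_le : ∀ n, Cfsg.iterCommutator (Ai A T (i + j)) K (n - 2) ⊔ Ai A T (i + j + 1) ≤
      Ai A T (i + j) := fun n =>
    sup_le (Cfsg.Agent.Helper14.iterCommutator_le _ _ (le_normalizer_of_normal K _) _) hQ1Q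
  have hPA : Ai A T i ≤ A := Cfsg.Agent.Helper14.iterCommutator_le _ _ (le_normalizer_of_normal T _) i
  have key := bigraded (Pf := fun r => Cfsg.iterCommutator (Ai A T i) K r)
    (Qf := fun n => Cfsg.iterCommutator (Ai A T (i + j)) K (n - 2) ⊔ Ai A T (i + j + 1))
    (H := Nj A T j) (K := K) (W := T) (fun r => le_rfl) ?_ ?_ ?_ ?_ ?_ ?_ 4 0
  · refine key.trans (sup_le ?_ le_rfl)
    have h4 : Cfsg.iterCommutator (Ai A T (i + j)) K (4 + 0 - 2) ≤
        Cfsg.iterCommutator (A ⊓ centralizer (A : Set G)) K 2 :=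
      iterCommutator_mono hQZ le_rfl 2
    rw [h2] at h4
    exact h4.trans bot_le
  · -- hb
    intro n
    refine (commutator_sup_normal_le _ K _).trans (sup_le ?_ le_sup_right)
    by_cases hn : n < 2
    · have e1 : n - 2 = 0 := by omega
      have e2 : n + 1 - 2 = 0 := by omega
      rw [e1, e2]
      exact (Subgroup.commutator_le_left (Ai A T (i + j)) K).trans le_sup_left
    · have e2 : n + 1 - 2 = (n - 2) + 1 := by omega
      rw [e2]
      exact le_sup_left
  · -- hc
    intro r
    by_cases hr : r < 3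
    · have e1 : r - 2 = 0 := by omega
      show ⁅Cfsg.iterCommutator (Ai A T i) K r, Nj A T j⁆ ≤
        Cfsg.iterCommutator (Ai A T (i + j)) K (r - 2) ⊔ Ai A T (i + j + 1)
      rw [e1]
      refine (commutator_mono
        (Cfsg.Agent.Helper14.iterCommutator_le _ _ (le_normalizer_of_normal K _) r) le_rfl).trans ?_
      exact (commutator_Ai_Nj_le A T i j).trans le_sup_left
    · have h0 : Cfsg.iterCommutator (Ai A T i) K r = ⊥ := by
        rw [eq_bot_iff]
        have := iterCommutator_mono hPA (le_refl K) r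
        rw [iterCommutator_eq_bot_of_le h3 (by omega : 3 ≤ r)] at this
        exact this
      show ⁅Cfsg.iterCommutator (Ai A T i) K r, Nj A T j⁆ ≤ _
      rw [h0]
      have : ⁅(⊥ : Subgroup G), Nj A T j⁆ = ⊥ := by
        rw [eq_bot_iff]
        exact Subgroup.commutator_le_left _ _
      rw [this]
      exact bot_le
  · -- hK
    intro n
    exact le_normalizer_sup_of_le
      (Cfsg.Agent.Helper26.iter_props (le_normalizer_of_normal K _) _).2 (le_normalizer_of_normal K _)
  · -- hW
    intro n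
    apply le_normalizer_of_commutator_le'
    refine (commutator_mono (hQf_le n) le_rfl).trans ?_
    exact le_sup_right
  · -- hPW
    intro r
    exact ((Cfsg.Agent.Helper14.iterCommutator_le _ _ (le_normalizer_of_normal K _) r).trans hPA).trans
      hAT
  · -- hHW
    intro s
    exact (Cfsg.Agent.Helper14.iterCommutator_le _ _ (le_normalizer_of_normal K _) s).trans
      (Nj_le A T j)

end Stab

section Descent

variable {G : Type*} [Group G] [Finite G]

theorem iterCommutator_sup_normal_le (X K N : Subgroup G) [N.Normal] (m : ℕ) :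
    Cfsg.iterCommutator (X ⊔ N) K m ≤ Cfsg.iterCommutator X K m ⊔ N := by
  induction m with
  | zero => exact le_rfl
  | succ m ih =>
    show ⁅Cfsg.iterCommutator (X ⊔ N) K m, K⁆ ≤ ⁅Cfsg.iterCommutator X K m, K⁆ ⊔ N
    exact (commutator_mono ih le_rfl).trans (commutator_sup_normal_le _ K N)

/-- descent along a normal series -/
theorem chief_descent (N : ℕ → Subgroup G) (hN : ∀ j, (N j).Normal) (K : Subgroup G) (m : ℕ)
    (hstep : ∀ j, 1 ≤ j → Cfsg.iterCommutator (N j) K m ≤ N (j + 1))
    {U V : Subgroup G} (hUV : Cfsg.IsChiefFactor U V) :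
    ∀ k j, 1 ≤ j → (U ≤ N (j + k) ⊔ V → Cfsg.iterCommutator U K m ≤ V) → U ≤ N j ⊔ V →
      Cfsg.iterCommutator U K m ≤ V := by
  intro k
  induction k with
  | zero =>
    intro j _ hbase hU
    exact hbase hU
  | succ k ih =>
    intro j hj hbase hU
    have hUn : U.Normal := hUV.2.1
    have hVn : V.Normal := hUV.2.2.1
    have hNn : (N (j + 1)).Normal := hN (j + 1)
    have e : j + (k + 1) = j + 1 + k := by omega
    rw [e] at hbase
    have ih' := ih (j + 1) (by omega) hbase
    have hZn : (U ⊓ (N (j + 1) ⊔ V)).Normal := Subgroup.normal_inf_normal _ _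
    rcases hUV.2.2.2 _ hZn (le_inf hUV.1.le le_sup_right) inf_le_left with h | h
    · have h1 : Cfsg.iterCommutator U K m ≤ U :=
        Cfsg.Agent.Helper14.iterCommutator_le _ _ (le_normalizer_of_normal K _) m
      have h2 : Cfsg.iterCommutator U K m ≤ N (j + 1) ⊔ V := by
        refine (iterCommutator_mono hU le_rfl m).trans ?_
        refine (iterCommutator_sup_normal_le _ K V m).trans ?_
        exact sup_le_sup_right (hstep j hj) V
      rw [← h]
      exact le_inf h1 h2
    · apply ih'
      rw [← h]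
      exact inf_le_right

theorem exists_Ai_eq_bot {p : ℕ} [Fact p.Prime] {A T : Subgroup G} [A.Normal] [T.Normal]
    (hTp : IsPGroup p ↥T) (hAT : A ≤ T) : ∃ n, Ai A T n = ⊥ := by
  by_contra hcon
  push Not at hcon
  have hAp : IsPGroup p ↥A := hTp.to_le hAT
  have hlt : ∀ n, Ai A T (n + 1) < Ai A T n := fun n =>
    Cfsg.Agent.Helper26.iter_succ_lt hAp hTp (le_normalizer_of_normal T A) n (hcon n)
  exact not_injective_infinite_finite _ (strictAnti_nat_of_succ_lt hlt).injective

/-- an element acting cubically on `A` and quadratically on `Z(A)` acts with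
`[U, K; 4] ≤ V` on every chief factor below `T` -/
theorem chief_good_of_A_good {p : ℕ} [Fact p.Prime] {A T : Subgroup G} [A.Normal] [T.Normal]
    (hTp : IsPGroup p ↥T) (hAT : A ≤ T) (hcrit : ⁅A, T⁆ ≤ A ⊓ centralizer (A : Set G))
    (hcent : T ⊓ centralizer (A : Set G) ≤ A) (K : Subgroup G)
    (h3 : Cfsg.iterCommutator A K 3 = ⊥)
    (h2 : Cfsg.iterCommutator (A ⊓ centralizer (A : Set G)) K 2 = ⊥)
    {U V : Subgroup G} (hUV : Cfsg.IsChiefFactor U V) (hUT : U ≤ T) :
    Cfsg.iterCommutator U K 4 ≤ V := by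
  obtain ⟨n, hn⟩ := exists_Ai_eq_bot hTp hAT
  have hVn : V.Normal := hUV.2.2.1
  have hn' : Ai A T (1 + n) = ⊥ := by
    rw [eq_bot_iff, ← hn]
    exact Ai_antitone A T (by omega)
  apply chief_descent (Nj A T) (fun j => inferInstance) K 4
    (fun j hj => stab_step hAT hcrit K h3 h2 j hj) hUV n 1 le_rfl
  · intro hU
    refine (iterCommutator_mono hU le_rfl 4).trans ?_
    refine (iterCommutator_sup_normal_le _ K V 4).trans ?_
    have h4 : Cfsg.iterCommutator (Nj A T (1 + n)) K 4 ≤
        Cfsg.iterCommutator (A ⊓ centralizer (A : Set G)) K 4 :=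
      iterCommutator_mono (Nj_le_center hcent hn') le_rfl 4
    rw [iterCommutator_eq_bot_of_le h2 (by omega : 2 ≤ 4)] at h4
    exact sup_le (h4.trans bot_le) le_rfl
  · rw [Nj_one]
    exact hUT.trans le_sup_left

end Descent

end Cfsg.Agent.Helper10
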