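import Mathlib
import Cfsg.Prelude.Def_PLocal
import Cfsg.Prelude.Def_LocalEven
import Cfsg.Agent.Helper10.StabSeries
import Cfsg.Agent.Helper26.Uniserial
import Cfsg.Agent.S3766

set_option autoImplicit false
set_option linter.unusedSectionVars false
set_option linter.unusedVariables false

/-! # Descent from a critical subgroup: `i`-step on the chief factors in `Q`, `j`-step on those in
`Z(Q)` gives `(i+j-1)`-step on the chief factors in `P` -/

namespace Cfsg.Agent.Helper10

open Subgroup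
open scoped commutatorElement

section Series

variable {G : Type*} [Group G] [Finite G] (c : ℕ → Subgroup G) [hc : ∀ a, (c a).Normal]
  (P : Subgroup G) [hP : P.Normal]

/-- the stability series of `P` on the normal series `c` -/
def Nc (k : ℕ) : Subgroup G := P ⊓ ⨅ a, centMod (c a) (c (a + k))

instance Nc_normal (k : ℕ) : (Nc c P k).Normal := by
  unfold Nc
  have : (⨅ a, centMod (c a) (c (a + k))).Normal :=
    Subgroup.normal_iInf_normal (fun a => inferInstance)
  exact Subgroup.normal_inf_normal _ _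

theorem Nc_le (k : ℕ) : Nc c P k ≤ P := inf_le_left

theorem le_Nc_iff {H : Subgroup G} {k : ℕ} :
    H ≤ Nc c P k ↔ H ≤ P ∧ ∀ a, ⁅c a, H⁆ ≤ c (a + k) := by
  unfold Nc
  rw [le_inf_iff, le_iInf_iff]
  simp only [le_centMod_iff]

theorem commutator_c_Nc_le (a k : ℕ) : ⁅c a, Nc c P k⁆ ≤ c (a + k) :=
  ((le_Nc_iff c P).1 le_rfl).2 a

theorem iterCommutator_anti {X K : Subgroup G} (hK : K ≤ normalizer (X : Set G)) {m n : ℕ}
    (hmn : m ≤ n) : Cfsg.iterCommutator X K n ≤ Cfsg.iterCommutator X K m := by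
  obtain ⟨t, rfl⟩ := Nat.exists_eq_add_of_le hmn
  rw [iterCommutator_add]
  exact Cfsg.Agent.Helper14.iterCommutator_le _ _ (Cfsg.Agent.Helper26.iter_props hK m).2 t

variable {c P}

/-- the core estimate -/
theorem crit_step (K : Subgroup G) (r i j : ℕ) (hj1 : 1 ≤ j) (hji : j ≤ i)
    (hanti : Antitone c) (hcP : c 0 ≤ P)
    (hK : ∀ a, Cfsg.iterCommutator (c a) K (if a < r then i else j) ≤ c (a + 1))
    (hcrit : ⁅c 0, P⁆ ≤ c r) (hPc : ∀ a, ⁅c a, P⁆ ≤ c (a + 1))
    (k : ℕ) (hk : 1 ≤ k) :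
    Cfsg.iterCommutator (Nc c P k) K (i + j - 1) ≤ Nc c P (k + 1) := by
  rw [le_Nc_iff]
  have hHP : ∀ s, Cfsg.iterCommutator (Nc c P k) K s ≤ P := fun s =>
    (Cfsg.Agent.Helper14.iterCommutator_le _ _ (le_normalizer_of_normal K _) s).trans (Nc_le c P k)
  refine ⟨hHP _, ?_⟩
  intro a
  by_cases hA : a < r ∧ a + k + 1 ≤ r
  · -- trivial case
    refine (commutator_mono (hanti (Nat.zero_le a)) (hHP _)).trans ?_
    exact hcrit.trans (hanti hA.2)
  -- the bigraded case
  have he : (if a < r then i else j) + (if a + k < r then i else j) ≤ i + j := by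
    by_cases h1 : a < r
    · have h2 : ¬ a + k < r := by
        intro h2
        exact hA ⟨h1, by omega⟩
      rw [if_pos h1, if_neg h2]
    · have h2 : ¬ a + k < r := by omega
      rw [if_neg h1, if_neg h2]
      omega
  obtain ⟨ea, hea⟩ : ∃ ea, ea = if a < r then i else j := ⟨_, rfl⟩
  obtain ⟨eb, heb⟩ : ∃ eb, eb = if a + k < r then i else j := ⟨_, rfl⟩
  rw [← hea, ← heb] at he
  have hea1 : 1 ≤ ea := by
    rw [hea]; split_ifs <;> omega
  have hKa : Cfsg.iterCommutator (c a) K ea ≤ c (a + 1) := by rw [hea]; exact hK a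
  have hKb : Cfsg.iterCommutator (c (a + k)) K eb ≤ c (a + k + 1) := by rw [heb]; exact hK (a + k)
  have hcaP : c a ≤ P := (hanti (Nat.zero_le a)).trans hcP
  have key := bigraded (Pf := fun t => Cfsg.iterCommutator (c a) K t ⊔ c (a + 1))
    (Qf := fun t => Cfsg.iterCommutator (c (a + k)) K (t - (ea - 1)) ⊔ c (a + k + 1))
    (H := Nc c P k) (K := K) (W := P) ?_ ?_ ?_ ?_ ?_ ?_ ?_ (i + j - 1) 0
  · have h0 : c a ≤ Cfsg.iterCommutator (c a) K 0 ⊔ c (a + 1) := le_sup_left
    refine (commutator_mono h0 le_rfl).trans (key.trans ?_)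
    refine sup_le ?_ le_rfl
    have e : (i + j - 1 + 0 - (ea - 1)) = eb + (i + j - ea - eb) := by omega
    show Cfsg.iterCommutator (c (a + k)) K (i + j - 1 + 0 - (ea - 1)) ≤ c (a + k + 1)
    rw [e]
    exact (iterCommutator_anti (le_normalizer_of_normal K _) (Nat.le_add_right _ _)).trans hKb
  · -- ha
    intro t
    exact commutator_sup_normal_le _ K _
  · -- hb
    intro t
    refine (commutator_sup_normal_le _ K _).trans (sup_le ?_ le_sup_right)
    by_cases ht : t < ea - 1
    · have e1 : t - (ea - 1) = 0 := by omega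
      have e2 : t + 1 - (ea - 1) = 0 := by omega
      rw [e1, e2]
      exact (Subgroup.commutator_le_left (c (a + k)) K).trans le_sup_left
    · have e2 : t + 1 - (ea - 1) = (t - (ea - 1)) + 1 := by omega
      rw [e2]
      exact le_sup_left
  · -- hc
    intro t
    show ⁅Cfsg.iterCommutator (c a) K t ⊔ c (a + 1), Nc c P k⁆ ≤
      Cfsg.iterCommutator (c (a + k)) K (t - (ea - 1)) ⊔ c (a + k + 1)
    by_cases ht : t < ea
    · have e1 : t - (ea - 1) = 0 := by omega
      rw [e1]
      have h1 : Cfsg.iterCommutator (c a) K t ⊔ c (a + 1) ≤ c a :=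
        sup_le (Cfsg.Agent.Helper14.iterCommutator_le _ _ (le_normalizer_of_normal K _) t)
          (hanti (Nat.le_succ a))
      exact (commutator_mono h1 le_rfl).trans ((commutator_c_Nc_le c P a k).trans le_sup_left)
    · push Not at ht
      have h1 : Cfsg.iterCommutator (c a) K t ⊔ c (a + 1) ≤ c (a + 1) :=
        sup_le ((iterCommutator_anti (le_normalizer_of_normal K _) ht).trans hKa) le_rfl
      refine (commutator_mono h1 le_rfl).trans ((commutator_c_Nc_le c P (a + 1) k).trans ?_)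
      have e : a + 1 + k = a + k + 1 := by omega
      rw [e]
      exact le_sup_right
  · -- hK
    intro t
    exact le_normalizer_sup_of_le
      (Cfsg.Agent.Helper26.iter_props (le_normalizer_of_normal K _) _).2 (le_normalizer_of_normal K _)
  · -- hW
    intro t
    apply le_normalizer_of_commutator_le'
    have h1 : Cfsg.iterCommutator (c (a + k)) K (t - (ea - 1)) ⊔ c (a + k + 1) ≤ c (a + k) :=
      sup_le (Cfsg.Agent.Helper14.iterCommutator_le _ _ (le_normalizer_of_normal K _) _)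
        (hanti (Nat.le_succ _))
    exact (commutator_mono h1 le_rfl).trans ((hPc (a + k)).trans le_sup_right)
  · -- hPW
    intro t
    exact sup_le ((Cfsg.Agent.Helper14.iterCommutator_le _ _ (le_normalizer_of_normal K _) t).trans hcaP)
      ((hanti (Nat.le_succ a)).trans hcaP)
  · -- hHW
    exact hHP

/-- descent: the conclusion on all chief factors below `P` -/
theorem crit_descent (K : Subgroup G) (r M i j : ℕ) (hj1 : 1 ≤ j) (hji : j ≤ i) (hM1 : 1 ≤ M)
    (hanti : Antitone c) (hcP : c 0 ≤ P) (hcM : c M = ⊥)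
    (hK : ∀ a, Cfsg.iterCommutator (c a) K (if a < r then i else j) ≤ c (a + 1))
    (hcrit : ⁅c 0, P⁆ ≤ c r) (hPc : ∀ a, ⁅c a, P⁆ ≤ c (a + 1))
    (hcent : P ⊓ centralizer ((c 0 : Subgroup G) : Set G) ≤ c r)
    {U V : Subgroup G} (hUV : Cfsg.IsChiefFactor U V) (hUP : U ≤ P) :
    Cfsg.iterCommutator U K (i + j - 1) ≤ V := by
  have hVn : V.Normal := hUV.2.2.1
  have hUn : U.Normal := hUV.2.1
  -- the full series
  obtain ⟨𝒩, h𝒩⟩ : ∃ 𝒩 : ℕ → Subgroup G,
      𝒩 = fun t => if t ≤ M then Nc c P t else c (r + (t - M - 1)) := ⟨_, rfl⟩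
  have h𝒩1 : ∀ t, t ≤ M → 𝒩 t = Nc c P t := by
    intro t ht; rw [h𝒩]; simp only; rw [if_pos ht]
  have h𝒩2 : ∀ t, M < t → 𝒩 t = c (r + (t - M - 1)) := by
    intro t ht; rw [h𝒩]; simp only; rw [if_neg (by omega)]
  have h𝒩n : ∀ t, (𝒩 t).Normal := by
    intro t
    by_cases ht : t ≤ M
    · rw [h𝒩1 t ht]; infer_instance
    · rw [h𝒩2 t (by omega)]; infer_instance
  have hNM : Nc c P M ≤ c r := by
    have h1 : ⁅c 0, Nc c P M⁆ ≤ ⊥ := by
      have := commutator_c_Nc_le c P 0 M
      rw [Nat.zero_add, hcM] at this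
      exact this
    have h2 : Nc c P M ≤ centralizer ((c 0 : Subgroup G) : Set G) := by
      rw [← commutator_eq_bot_iff_le_centralizer, commutator_comm]
      exact le_bot_iff.1 h1
    exact (le_inf (Nc_le c P M) h2).trans hcent
  have hstep : ∀ t, 1 ≤ t → Cfsg.iterCommutator (𝒩 t) K (i + j - 1) ≤ 𝒩 (t + 1) := by
    intro t ht
    by_cases h1 : t < M
    · rw [h𝒩1 t h1.le, h𝒩1 (t + 1) h1]
      exact crit_step K r i j hj1 hji hanti hcP hK hcrit hPc t ht
    by_cases h2 : t = M
    · rw [h𝒩1 t h2.le, h𝒩2 (t + 1) (by omega), h2]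
      have e : r + (M + 1 - M - 1) = r := by omega
      rw [e]
      exact (Cfsg.Agent.Helper14.iterCommutator_le _ _ (le_normalizer_of_normal K _) _).trans hNM
    · rw [h𝒩2 t (by omega), h𝒩2 (t + 1) (by omega)]
      have e : r + (t + 1 - M - 1) = r + (t - M - 1) + 1 := by omega
      rw [e]
      have := hK (r + (t - M - 1))
      rw [if_neg (by omega)] at this
      refine le_trans ?_ this
      exact iterCommutator_anti (le_normalizer_of_normal K _) (by omega)
  apply chief_descent 𝒩 h𝒩n K (i + j - 1) hstep hUV (2 * M) 1 le_rfl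
  · intro hU
    rw [h𝒩2 (1 + 2 * M) (by omega)] at hU
    have hbot : c (r + (1 + 2 * M - M - 1)) = ⊥ := by
      rw [eq_bot_iff, ← hcM]
      exact hanti (by omega)
    rw [hbot, bot_sup_eq] at hU
    exact (Cfsg.Agent.Helper14.iterCommutator_le _ _ (le_normalizer_of_normal K _) _).trans hU
  · rw [h𝒩1 1 hM1]
    have : Nc c P 1 = P := le_antisymm (Nc_le c P 1) ((le_Nc_iff c P).2 ⟨le_rfl, hPc⟩)
    rw [this]
    exact hUP.trans le_sup_left

end Series

section ChiefSeries

variable {G : Type*} [Group G] [Finite G]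

/-- a chief series from `A` down to `B`, continued by a given sequence `d` -/
theorem exists_chief_series_above (B : Subgroup G) (hB : B.Normal) (d : ℕ → Subgroup G)
    (hd0 : d 0 = B) :
    ∀ (n : ℕ) (A : Subgroup G), A.Normal → B ≤ A → Nat.card ↥A = n →
      ∃ (m : ℕ) (c : ℕ → Subgroup G), c 0 = A ∧ (∀ a, c (m + a) = d a) ∧
        ∀ a < m, Cfsg.IsChiefFactor (c a) (c (a + 1)) := by
  intro n
  induction n using Nat.strong_induction_on with
  | _ n ih =>
  intro A hA hBA hn
  by_cases hAB : A = B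
  · refine ⟨0, d, by rw [hd0, hAB], fun a => by rw [Nat.zero_add], fun a ha => absurd ha (Nat.not_lt_zero a)⟩
  have hlt : B < A := lt_of_le_of_ne hBA (Ne.symm hAB)
  have h1 : (fun N : Subgroup G => N.Normal ∧ B ≤ N ∧ N < A) B := ⟨hB, le_rfl, hlt⟩
  obtain ⟨N, -, hmax⟩ := Finite.exists_le_maximal (α := Subgroup G)
    (p := fun N : Subgroup G => N.Normal ∧ B ≤ N ∧ N < A) (a := B) h1
  have hNn : N.Normal := hmax.1.1
  have hBN : B ≤ N := hmax.1.2.1
  have hNA : N < A := hmax.1.2.2
  have hchief : Cfsg.IsChiefFactor A N := by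
    refine ⟨hNA, hA, hNn, ?_⟩
    intro L hL hNL hLA
    by_cases h : L = A
    · exact Or.inr h
    · left
      exact le_antisymm (hmax.2 ⟨hL, hBN.trans hNL, lt_of_le_of_ne hLA h⟩ hNL) hNL
  have hcard : Nat.card ↥N < n := by
    rw [← hn]
    by_contra hcon
    push Not at hcon
    exact hNA.ne (Subgroup.eq_of_le_of_card_ge hNA.le hcon)
  obtain ⟨m', c', hc0, hcd, hcc⟩ := ih _ hcard N hNn hBN rfl
  refine ⟨m' + 1, fun a => if a = 0 then A else c' (a - 1), by simp, ?_, ?_⟩
  · intro a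
    have e : m' + 1 + a ≠ 0 := by omega
    simp only [e, if_false]
    have e2 : m' + 1 + a - 1 = m' + a := by omega
    rw [e2]
    exact hcd a
  · intro a ha
    by_cases ha0 : a = 0
    · subst ha0
      simp only [if_true, Nat.zero_add, Nat.one_ne_zero, if_false, Nat.sub_self]
      rw [hc0]
      exact hchief
    · have e1 : a + 1 ≠ 0 := by omega
      simp only [ha0, e1, if_false]
      have e2 : a + 1 - 1 = (a - 1) + 1 := by omega
      rw [e2]
      exact hcc (a - 1) (by omega)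

end ChiefSeries

section Main

variable {G : Type*} [Group G] [Finite G] {p : ℕ} [Fact p.Prime]

/-- the descent theorem for a critical subgroup, in the case `j ≤ i` -/
theorem crit_main (P : Subgroup G) [hPn : P.Normal] (hP : IsPGroup p ↥P) (Q : Subgroup G) [hQn : Q.Normal]
    (hQP : Q ≤ P)
    (hQ3 : ⁅P, Q⁆ ≤ Q ⊓ centralizer (Q : Set G))
    (hQ4 : P ⊓ centralizer (Q : Set G) ≤ Q ⊓ centralizer (Q : Set G))
    (K : Subgroup G) (i j : ℕ) (hj1 : 1 ≤ j) (hji : j ≤ i)
    (hQi : ∀ U V : Subgroup G, Cfsg.IsChiefFactor U V → U ≤ Q → Cfsg.iterCommutator U K i ≤ V)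
    (hZj : ∀ U V : Subgroup G, Cfsg.IsChiefFactor U V → U ≤ Q ⊓ centralizer (Q : Set G) →
      Cfsg.iterCommutator U K j ≤ V)
    {U V : Subgroup G} (hUV : Cfsg.IsChiefFactor U V) (hUP : U ≤ P) :
    Cfsg.iterCommutator U K (i + j - 1) ≤ V := by
  have hZn : (Q ⊓ centralizer (Q : Set G)).Normal := Subgroup.normal_inf_normal _ _
  obtain ⟨s, c₂, hc₂0, hc₂d, hc₂c⟩ := exists_chief_series_above (⊥ : Subgroup G) inferInstance
    (fun _ => ⊥) rfl _ (Q ⊓ centralizer (Q : Set G)) hZn bot_le rfl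
  obtain ⟨r, c, hc0, hcd, hcc⟩ := exists_chief_series_above (Q ⊓ centralizer (Q : Set G)) hZn
    c₂ hc₂0 _ Q hQn inf_le_left rfl
  have hstruct : ∀ a, Cfsg.IsChiefFactor (c a) (c (a + 1)) ∨ (c a = ⊥ ∧ c (a + 1) = ⊥) := by
    intro a
    by_cases ha : a < r
    · exact Or.inl (hcc a ha)
    push Not at ha
    obtain ⟨b, rfl⟩ := Nat.exists_eq_add_of_le ha
    rw [Nat.add_assoc, hcd b, hcd (b + 1)]
    by_cases hb : b < s
    · exact Or.inl (hc₂c b hb)
    push Not at hb
    obtain ⟨b', rfl⟩ := Nat.exists_eq_add_of_le hb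
    rw [Nat.add_assoc, hc₂d b', hc₂d (b' + 1)]
    exact Or.inr ⟨rfl, rfl⟩
  have hcr : c r = Q ⊓ centralizer (Q : Set G) := by
    have := hcd 0
    rw [Nat.add_zero] at this
    rw [this, hc₂0]
  have hcrs : c (r + s) = ⊥ := by
    rw [hcd s]
    have := hc₂d 0
    rw [Nat.add_zero] at this
    exact this
  have hcn : ∀ a, (c a).Normal := by
    intro a
    rcases hstruct a with h | h
    · exact h.2.1
    · rw [h.1]; infer_instance
  have hanti : Antitone c := by
    apply antitone_nat_of_succ_le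
    intro a
    rcases hstruct a with h | h
    · exact h.1.le
    · rw [h.1, h.2]
  have hcQ : ∀ a, c a ≤ Q := fun a => hc0 ▸ hanti (Nat.zero_le a)
  have hcZ : ∀ a, r ≤ a → c a ≤ Q ⊓ centralizer (Q : Set G) := fun a ha => hcr ▸ hanti ha
  have hnil : Group.IsNilpotent ↥P := hP.isNilpotent
  refine crit_descent (c := c) (P := P) K r (r + s + 1) i j hj1 hji (by omega) hanti
    (hc0 ▸ hQP) ?_ ?_ ?_ ?_ ?_ hUV hUP
  · rw [eq_bot_iff, ← hcrs]
    exact hanti (by omega)
  · intro a
    rcases hstruct a with h | h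
    · by_cases ha : a < r
      · rw [if_pos ha]
        exact hQi _ _ h (hcQ a)
      · rw [if_neg ha]
        exact hZj _ _ h (hcZ a (by omega))
    · rw [h.1, iterCommutator_bot]
      exact bot_le
  · rw [hc0, hcr, commutator_comm]
    exact hQ3
  · intro a
    rcases hstruct a with h | h
    · rw [commutator_le]
      intro u hu x hx
      have hchief : Cfsg.Agent.S3766.Chief (c a) (c (a + 1)) := ⟨h.2.1, h.2.2.1, h.1, h.2.2.2⟩
      have := Cfsg.Agent.S3766.cent_of_nilpotent_normal P hPn hnil hchief x hx u hu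
      rw [commutatorElement_def]
      exact this
    · rw [h.1, h.2]
      exact Subgroup.commutator_le_left _ _
  · rw [hc0, hcr]
    exact hQ4

end Main

end Cfsg.Agent.Helper10
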