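import Cfsg.Agent.Helper7.Layer

set_option autoImplicit false

/-!
# The diagonal of `L L^a` together with any element outside `J Z(M)` generates `M = L L^a`
-/

namespace Cfsg.Agent.Helper10

open Cfsg Subgroup

theorem exists_mul_of_mem_sup_of_commute {H : Type*} [Group H] {A B : Subgroup H}
    (h : ∀ a ∈ A, ∀ b ∈ B, a * b = b * a) {x : H} (hx : x ∈ A ⊔ B) :
    ∃ a ∈ A, ∃ b ∈ B, x = a * b := by
  rw [sup_eq_closure] at hx
  induction hx using closure_induction with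
  | mem y hy =>
    rcases hy with hy | hy
    · exact ⟨y, hy, 1, one_mem _, (mul_one _).symm⟩
    · exact ⟨1, one_mem _, y, hy, (one_mul _).symm⟩
  | one => exact ⟨1, one_mem _, 1, one_mem _, (mul_one _).symm⟩
  | mul y z _ _ ihy ihz =>
    obtain ⟨a₁, ha₁, b₁, hb₁, rfl⟩ := ihy
    obtain ⟨a₂, ha₂, b₂, hb₂, rfl⟩ := ihz
    refine ⟨a₁ * a₂, A.mul_mem ha₁ ha₂, b₁ * b₂, B.mul_mem hb₁ hb₂, ?_⟩
    calc a₁ * b₁ * (a₂ * b₂) = a₁ * (b₁ * a₂) * b₂ := by group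
      _ = a₁ * (a₂ * b₁) * b₂ := by rw [h a₂ ha₂ b₁ hb₁]
      _ = a₁ * a₂ * (b₁ * b₂) := by group
  | inv y _ ih =>
    obtain ⟨a₁, ha₁, b₁, hb₁, rfl⟩ := ih
    refine ⟨a₁⁻¹, A.inv_mem ha₁, b₁⁻¹, B.inv_mem hb₁, ?_⟩
    rw [mul_inv_rev, h a₁⁻¹ (A.inv_mem ha₁) b₁⁻¹ (B.inv_mem hb₁)]

/-- S1921 -/
theorem diag_generates {H : Type*} [Group H] [Finite H] (a : H) (L : Subgroup H)
    (hL : IsComponent L) (hLa : L.map (MulAut.conj a).toMonoidHom ≠ L) (x : H)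
    (hxM : x ∈ L ⊔ L.map (MulAut.conj a).toMonoidHom)
    (hxJ : x ∉ Subgroup.closure {y : H | ∃ l ∈ L, y = l * (a * l * a⁻¹)} ⊔
      ((L ⊔ L.map (MulAut.conj a).toMonoidHom) ⊓
        Subgroup.centralizer ((L ⊔ L.map (MulAut.conj a).toMonoidHom : Subgroup H) : Set H))) :
    Subgroup.closure {y : H | ∃ l ∈ L, y = l * (a * l * a⁻¹)} ⊔ Subgroup.zpowers x =
      L ⊔ L.map (MulAut.conj a).toMonoidHom := by
  obtain ⟨La, hLadef⟩ : ∃ La : Subgroup H, La = L.map (MulAut.conj a).toMonoidHom := ⟨_, rfl⟩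
  obtain ⟨J, hJdef⟩ : ∃ J : Subgroup H,
    J = Subgroup.closure {y : H | ∃ l ∈ L, y = l * (a * l * a⁻¹)} := ⟨_, rfl⟩
  rw [← hLadef] at hLa hxM hxJ ⊢
  rw [← hJdef] at hxJ ⊢
  have hLac : IsComponent La := by
    rw [hLadef]; exact Cfsg.Agent.Helper7.isComponent_map_conj hL a
  have hcomm : ⁅L, La⁆ = ⊥ := Cfsg.Agent.Helper7.components_commute hL hLac (Ne.symm hLa)
  have hc : ∀ l ∈ L, ∀ m ∈ La, l * m = m * l := by
    intro l hl m hm
    have h1 : L ≤ centralizer (La : Set H) := Subgroup.commutator_eq_bot_iff_le_centralizer.1 hcomm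
    exact (Subgroup.mem_centralizer_iff.1 (h1 hl) m hm).symm
  have hamem : ∀ l ∈ L, a * l * a⁻¹ ∈ La := by
    intro l hl
    rw [hLadef]
    exact ⟨l, hl, rfl⟩
  have hJgen : ∀ l ∈ L, l * (a * l * a⁻¹) ∈ J := by
    intro l hl
    rw [hJdef]
    exact Subgroup.subset_closure ⟨l, hl, rfl⟩
  apply le_antisymm
  · apply sup_le
    · rw [hJdef, Subgroup.closure_le]
      rintro _ ⟨l, hl, rfl⟩
      exact Subgroup.mul_mem _ (Subgroup.mem_sup_left hl) (Subgroup.mem_sup_right (hamem l hl))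
    · exact (Subgroup.zpowers_le).2 hxM
  · obtain ⟨X, hXdef⟩ : ∃ X : Subgroup H, X = J ⊔ Subgroup.zpowers x := ⟨_, rfl⟩
    rw [← hXdef]
    have hJX : J ≤ X := by rw [hXdef]; exact le_sup_left
    have hxX : x ∈ X := by
      rw [hXdef]; exact Subgroup.mem_sup_right (Subgroup.mem_zpowers x)
    obtain ⟨l₁, hl₁, m, hm, hxlm⟩ := exists_mul_of_mem_sup_of_commute hc hxM
    have hm' := hm
    rw [hLadef] at hm'
    obtain ⟨l₂, hl₂, rfl⟩ := hm'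
    have hconj : (MulAut.conj a).toMonoidHom l₂ = a * l₂ * a⁻¹ := rfl
    rw [hconj] at hxlm hm
    -- w = l₁ l₂⁻¹ ∈ X
    have hwX : l₁ * l₂⁻¹ ∈ X := by
      have hj : l₂⁻¹ * (a * l₂⁻¹ * a⁻¹) ∈ J := hJgen _ (L.inv_mem hl₂)
      have e : l₁ * l₂⁻¹ = x * (l₂⁻¹ * (a * l₂⁻¹ * a⁻¹)) := by
        rw [hxlm]
        have h1 := hc l₂⁻¹ (L.inv_mem hl₂) (a * l₂ * a⁻¹) hm
        calc l₁ * l₂⁻¹ = l₁ * (l₂⁻¹ * (a * l₂ * a⁻¹)) * (a * l₂⁻¹ * a⁻¹) := by group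
          _ = l₁ * ((a * l₂ * a⁻¹) * l₂⁻¹) * (a * l₂⁻¹ * a⁻¹) := by rw [h1]
          _ = l₁ * (a * l₂ * a⁻¹) * (l₂⁻¹ * (a * l₂⁻¹ * a⁻¹)) := by group
      rw [e]
      exact X.mul_mem hxX (hJX hj)
    have hwL : l₁ * l₂⁻¹ ∈ L := L.mul_mem hl₁ (L.inv_mem hl₂)
    -- w is not central in L
    have hwnc : (⟨l₁ * l₂⁻¹, hwL⟩ : ↥L) ∉ Subgroup.center ↥L := by
      intro hcen
      apply hxJ
      have hwC : l₁ * l₂⁻¹ ∈ (L ⊔ La) ⊓ Subgroup.centralizer ((L ⊔ La : Subgroup H) : Set H) := by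
        refine ⟨Subgroup.mem_sup_left hwL, ?_⟩
        apply Subgroup.mem_centralizer_iff.2
        intro y hy
        have hy' : y ∈ L ⊔ La := hy
        obtain ⟨l, hl, m', hm', rfl⟩ := exists_mul_of_mem_sup_of_commute hc hy'
        have h1 : l * (l₁ * l₂⁻¹) = (l₁ * l₂⁻¹) * l := by
          have := Subgroup.mem_center_iff.1 hcen ⟨l, hl⟩
          exact congrArg Subtype.val this
        have h2 := hc (l₁ * l₂⁻¹) hwL m' hm'
        calc l * m' * (l₁ * l₂⁻¹) = l * (m' * (l₁ * l₂⁻¹)) := by group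
          _ = l * ((l₁ * l₂⁻¹) * m') := by rw [h2]
          _ = (l * (l₁ * l₂⁻¹)) * m' := by group
          _ = (l₁ * l₂⁻¹) * l * m' := by rw [h1]
          _ = l₁ * l₂⁻¹ * (l * m') := by group
      have e : x = (l₂ * (a * l₂ * a⁻¹)) * (l₁ * l₂⁻¹) := by
        rw [hxlm]
        have h1 := hc (l₁ * l₂⁻¹) hwL (a * l₂ * a⁻¹) hm
        have h2 : l₂ * (l₁ * l₂⁻¹) = (l₁ * l₂⁻¹) * l₂ := by
          have := Subgroup.mem_center_iff.1 hcen ⟨l₂, hl₂⟩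
          exact congrArg Subtype.val this
        calc l₁ * (a * l₂ * a⁻¹) = (l₁ * l₂⁻¹) * l₂ * (a * l₂ * a⁻¹) := by group
          _ = l₂ * (l₁ * l₂⁻¹) * (a * l₂ * a⁻¹) := by rw [h2]
          _ = l₂ * ((l₁ * l₂⁻¹) * (a * l₂ * a⁻¹)) := by group
          _ = l₂ * ((a * l₂ * a⁻¹) * (l₁ * l₂⁻¹)) := by rw [h1]
          _ = (l₂ * (a * l₂ * a⁻¹)) * (l₁ * l₂⁻¹) := by group
      rw [e]
      exact Subgroup.mul_mem _ (Subgroup.mem_sup_left (hJgen l₂ hl₂)) (Subgroup.mem_sup_right hwC)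
    -- the normal closure of w in L is L
    have hNtop : Subgroup.normalClosure ({⟨l₁ * l₂⁻¹, hwL⟩} : Set ↥L) = ⊤ := by
      rcases Cfsg.Agent.Helper7.IsQuasisimple.normal_eq_top_or_le_center hL.2
        (Subgroup.normalClosure ({⟨l₁ * l₂⁻¹, hwL⟩} : Set ↥L)) with h | h
      · exact h
      · exact absurd (h (Subgroup.subset_normalClosure (Set.mem_singleton _))) hwnc
    have hNX : Subgroup.normalClosure ({⟨l₁ * l₂⁻¹, hwL⟩} : Set ↥L) ≤ X.comap L.subtype := by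
      unfold Subgroup.normalClosure
      rw [Subgroup.closure_le]
      intro y hy
      rw [Group.mem_conjugatesOfSet_iff] at hy
      obtain ⟨b, hb, hby⟩ := hy
      rw [Set.mem_singleton_iff] at hb
      subst hb
      rw [isConj_iff] at hby
      obtain ⟨c, rfl⟩ := hby
      rw [SetLike.mem_coe, Subgroup.mem_comap]
      have hcm := hamem (c : H) c.2
      have e : L.subtype (c * ⟨l₁ * l₂⁻¹, hwL⟩ * c⁻¹) =
          ((c : H) * (a * (c : H) * a⁻¹)) * (l₁ * l₂⁻¹) * ((c : H) * (a * (c : H) * a⁻¹))⁻¹ := by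
        have h1 := hc (l₁ * l₂⁻¹) hwL _ hcm
        show (c : H) * (l₁ * l₂⁻¹) * (c : H)⁻¹ = _
        calc (c : H) * (l₁ * l₂⁻¹) * (c : H)⁻¹
            = (c : H) * ((l₁ * l₂⁻¹) * (a * (c : H) * a⁻¹)) * (a * (c : H) * a⁻¹)⁻¹ * (c : H)⁻¹ := by
              group
          _ = (c : H) * ((a * (c : H) * a⁻¹) * (l₁ * l₂⁻¹)) * (a * (c : H) * a⁻¹)⁻¹ * (c : H)⁻¹ := by
              rw [h1]
          _ = _ := by group
      rw [e]
      exact X.mul_mem (X.mul_mem (hJX (hJgen _ c.2)) hwX) (X.inv_mem (hJX (hJgen _ c.2)))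
    have hLX : L ≤ X := by
      intro l hl
      have : (⟨l, hl⟩ : ↥L) ∈ X.comap L.subtype := hNX (by rw [hNtop]; trivial)
      exact this
    apply sup_le hLX
    rw [hLadef]
    rintro _ ⟨l, hl, rfl⟩
    have e : (MulAut.conj a).toMonoidHom l = l⁻¹ * (l * (a * l * a⁻¹)) := by
      show a * l * a⁻¹ = _
      group
    rw [e]
    exact X.mul_mem (X.inv_mem (hLX hl)) (hJX (hJgen l hl))

end Cfsg.Agent.Helper10
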