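import Mathlib

set_option autoImplicit false

/-!
Pure group theory used for S5234 (strongly closed metacyclic subgroups are normal in a saturated
fusion system, `p` odd):
* `exists_inv_mem_closure`: two transvection groups with different centres on `C_p × C_p`
  generate an automorphism inverting every element;
* `le_center_of_inverting`: in a finite `p`-group (`p` odd) a subgroup containing all elements of
  order `p` which is inverted elementwise by an automorphism is central.
-/

namespace Cfsg.Agent.Helper10.MetaFus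

theorem aut_pow_apply {V : Type*} [Group V] (f : MulAut V) (x c : V) (hx : f x = x * c)
    (hc : f c = c) (k : ℕ) : (f ^ k) x = x * c ^ k := by
  induction k with
  | zero => simp
  | succ k ih =>
    rw [pow_succ', MulAut.mul_apply, ih, map_mul, map_pow, hx, hc, mul_assoc, ← pow_succ']

/-- fixed points of an automorphism -/
def fixSub {V : Type*} [Group V] (f : MulAut V) : Subgroup V where
  carrier := {v | f v = v}
  mul_mem' := by
    intro a b ha hb
    simp only [Set.mem_ofPred_eq] at *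
    rw [map_mul, ha, hb]
  one_mem' := map_one f
  inv_mem' := by
    intro a ha
    simp only [Set.mem_ofPred_eq] at *
    rw [map_inv, ha]

theorem mem_fixSub {V : Type*} [Group V] (f : MulAut V) (v : V) : v ∈ fixSub f ↔ f v = v := Iff.rfl

/-- inverted points of an automorphism of a commutative group -/
def invSub {V : Type*} [Group V] (hcomm : ∀ a b : V, a * b = b * a) (f : MulAut V) : Subgroup V where
  carrier := {v | f v = v⁻¹}
  mul_mem' := by
    intro a b ha hb
    simp only [Set.mem_ofPred_eq] at *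
    rw [map_mul, ha, hb, mul_inv_rev, hcomm]
  one_mem' := by simp
  inv_mem' := by
    intro a ha
    simp only [Set.mem_ofPred_eq] at *
    rw [map_inv, ha]

theorem mem_invSub {V : Type*} [Group V] (hcomm : ∀ a b : V, a * b = b * a) (f : MulAut V) (v : V) :
    v ∈ invSub hcomm f ↔ f v = v⁻¹ := Iff.rfl

theorem eq_top_of_lt {V : Type*} [Group V] [Finite V] {p : ℕ} [Fact p.Prime]
    (hcard : Nat.card V = p ^ 2) (L H : Subgroup V) (hL : Nat.card L = p) (hLH : L ≤ H)
    (x : V) (hxH : x ∈ H) (hxL : x ∉ L) : H = ⊤ := by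
  have hpp : p.Prime := Fact.out
  have hdvd : Nat.card H ∣ p ^ 2 := hcard ▸ Subgroup.card_subgroup_dvd_card H
  obtain ⟨i, hi, hHi⟩ := (Nat.dvd_prime_pow hpp).mp hdvd
  have hlt : Nat.card L < Nat.card H := by
    refine lt_of_le_of_ne (Subgroup.card_le_of_le hLH) ?_
    intro h
    have : L = H := Subgroup.eq_of_le_of_card_ge hLH h.ge
    exact hxL (this ▸ hxH)
  rw [hL, hHi] at hlt
  have hi2 : i = 2 := by
    interval_cases i
    · simp at hlt
      have := hpp.one_lt
      omega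
    · simp at hlt
    · rfl
  apply Subgroup.eq_top_of_card_eq
  rw [hHi, hi2, hcard]

theorem exists_pow_eq {V : Type*} [Group V] [Finite V] {p : ℕ} [Fact p.Prime]
    (L : Subgroup V) (hL : Nat.card L = p) (c e : V) (hc : c ∈ L) (hc1 : c ≠ 1) (he : e ∈ L) :
    ∃ k : ℕ, c ^ k = e := by
  have h1 : Subgroup.zpowers (⟨c, hc⟩ : L) = ⊤ := zpowers_eq_top_of_prime_card hL (by
    intro h
    exact hc1 (congrArg Subtype.val h))
  have h2 : (⟨e, he⟩ : L) ∈ Subgroup.zpowers (⟨c, hc⟩ : L) := by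
    rw [h1]
    trivial
  rw [← mem_powers_iff_mem_zpowers] at h2
  obtain ⟨k, hk⟩ := (Submonoid.mem_powers_iff _ _).mp h2
  exact ⟨k, by simpa using congrArg Subtype.val hk⟩

/-- Two transvection groups with different centres generate `-1`. -/
theorem exists_inv_mem_closure {V : Type*} [Group V] [Finite V] {p : ℕ} [Fact p.Prime]
    (hcomm : ∀ a b : V, a * b = b * a) (hcard : Nat.card V = p ^ 2)
    (L : Subgroup V) (hL : Nat.card L = p)
    (τ β : MulAut V) (hτL : ∀ u ∈ L, τ u = u) (hτV : ∀ v, τ v * v⁻¹ ∈ L) (hτ : τ ≠ 1)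
    (u : V) (hu : u ∈ L) (hβ : β u ∉ L) :
    ∃ ω ∈ Subgroup.closure ({τ, β} : Set (MulAut V)), ∀ v, ω v = v⁻¹ := by
  have hu1 : u ≠ 1 := by
    rintro rfl
    exact hβ (by rw [map_one]; exact L.one_mem)
  -- the fixed points of τ are exactly L
  have hfixL : ∀ x, τ x = x → x ∈ L := by
    intro x hx
    by_contra hxL
    have htop : fixSub τ = ⊤ := eq_top_of_lt hcard L (fixSub τ) hL (fun y hy => hτL y hy) x hx hxL
    apply hτ
    ext v
    have : v ∈ fixSub τ := htop ▸ Subgroup.mem_top v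
    exact this
  set e₂ := β u with he₂
  set c := τ e₂ * e₂⁻¹ with hc
  have hcL : c ∈ L := hτV e₂
  have hc1 : c ≠ 1 := by
    intro h
    have hfix : τ e₂ = e₂ := by rwa [hc, mul_inv_eq_one] at h
    exact hβ (hfixL e₂ hfix)
  have hτe₂ : τ e₂ = e₂ * c := by
    rw [hc, hcomm e₂, inv_mul_cancel_right]
  obtain ⟨k, hk⟩ := exists_pow_eq L hL c u hcL hc1 hu
  set μ := τ ^ k with hμ
  have hμ1 : μ u = u := by
    have := aut_pow_apply τ u 1 (by rw [mul_one]; exact hτL u hu) (map_one τ) k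
    rw [this, one_pow, mul_one]
  have hμ2 : μ e₂ = e₂ * u := by
    rw [hμ, aut_pow_apply τ e₂ c hτe₂ (hτL c hcL) k, hk]
  -- the second transvection group
  set τ' := β * τ * β⁻¹ with hτ'
  have hτ'e₂ : τ' e₂ = e₂ := by
    simp [hτ', he₂, MulAut.mul_apply, hτL u hu]
  set x₁ := β⁻¹ u with hx₁
  have hβx₁ : β x₁ = u := by simp [hx₁]
  set c' := τ x₁ * x₁⁻¹ with hc'
  have hc'L : c' ∈ L := hτV x₁
  set L₂ := L.map β.toMonoidHom with hL₂
  have hL₂card : Nat.card L₂ = p := by
    rw [hL₂, Subgroup.card_map_of_injective β.injective, hL]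
  have he₂L₂ : e₂ ∈ L₂ := ⟨u, hu, rfl⟩
  have hc'1 : c' ≠ 1 := by
    intro h
    have hfix : τ x₁ = x₁ := by rwa [hc', mul_inv_eq_one] at h
    have hx₁L : x₁ ∈ L := hfixL x₁ hfix
    have huL₂ : u ∈ L₂ := ⟨x₁, hx₁L, hβx₁⟩
    have hLL₂ : L ≤ L₂ := by
      intro y hy
      obtain ⟨j, hj⟩ := exists_pow_eq L hL u y hu hu1 hy
      rw [← hj]
      exact L₂.pow_mem huL₂ j
    have : L = L₂ := Subgroup.eq_of_le_of_card_ge hLL₂ (by rw [hL₂card, hL])
    exact hβ (this ▸ he₂L₂)
  set d := β c' with hd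
  have hdL₂ : d ∈ L₂ := ⟨c', hc'L, rfl⟩
  have hd1 : d ≠ 1 := by
    intro h
    apply hc'1
    have : β c' = β 1 := by rw [map_one]; exact h
    exact β.injective this
  have hτ'u : τ' u = u * d := by
    have h1 : τ x₁ = x₁ * c' := by rw [hc', hcomm x₁, inv_mul_cancel_right]
    have : τ' u = β (τ x₁) := by simp [hτ', hx₁, MulAut.mul_apply]
    rw [this, h1, map_mul, hβx₁]
  have hτ'd : τ' d = d := by
    simp [hτ', hd, MulAut.mul_apply, hτL c' hc'L]
  obtain ⟨k', hk'⟩ := exists_pow_eq L₂ hL₂card d e₂⁻¹ hdL₂ hd1 (L₂.inv_mem he₂L₂)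
  set ν := τ' ^ k' with hν
  have hν1 : ν e₂ = e₂ := by
    have := aut_pow_apply τ' e₂ 1 (by rw [mul_one]; exact hτ'e₂) (map_one τ') k'
    rw [this, one_pow, mul_one]
  have hν2 : ν u = u * e₂⁻¹ := by
    rw [hν, aut_pow_apply τ' u d hτ'u hτ'd k', hk']
  set w := μ * ν * μ with hw
  have hwu : w u = e₂⁻¹ := by
    have : w u = μ (ν (μ u)) := by simp [hw, MulAut.mul_apply]
    rw [this, hμ1, hν2, map_mul, map_inv, hμ1, hμ2, mul_inv_rev, mul_inv_cancel_left]
  have hwe₂ : w e₂ = u := by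
    have : w e₂ = μ (ν (μ e₂)) := by simp [hw, MulAut.mul_apply]
    rw [this, hμ2, map_mul, hν1, hν2]
    have : e₂ * (u * e₂⁻¹) = u := by rw [hcomm u, mul_inv_cancel_left]
    rw [this, hμ1]
  refine ⟨w * w, ?_, ?_⟩
  · have hτm : τ ∈ Subgroup.closure ({τ, β} : Set (MulAut V)) :=
      Subgroup.subset_closure (by simp)
    have hβm : β ∈ Subgroup.closure ({τ, β} : Set (MulAut V)) :=
      Subgroup.subset_closure (by simp)
    have hμm : μ ∈ Subgroup.closure ({τ, β} : Set (MulAut V)) := Subgroup.pow_mem _ hτm k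
    have hτ'm : τ' ∈ Subgroup.closure ({τ, β} : Set (MulAut V)) :=
      Subgroup.mul_mem _ (Subgroup.mul_mem _ hβm hτm) (Subgroup.inv_mem _ hβm)
    have hνm : ν ∈ Subgroup.closure ({τ, β} : Set (MulAut V)) := Subgroup.pow_mem _ hτ'm k'
    have hwm : w ∈ Subgroup.closure ({τ, β} : Set (MulAut V)) :=
      Subgroup.mul_mem _ (Subgroup.mul_mem _ hμm hνm) hμm
    exact Subgroup.mul_mem _ hwm hwm
  · have h1 : u ∈ invSub hcomm (w * w) := by
      rw [mem_invSub, MulAut.mul_apply, hwu, map_inv, hwe₂]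
    have h2 : e₂ ∈ invSub hcomm (w * w) := by
      rw [mem_invSub, MulAut.mul_apply, hwe₂, hwu]
    have hLle : L ≤ invSub hcomm (w * w) := by
      intro y hy
      obtain ⟨j, hj⟩ := exists_pow_eq L hL u y hu hu1 hy
      rw [← hj]
      exact Subgroup.pow_mem _ h1 j
    have htop : invSub hcomm (w * w) = ⊤ :=
      eq_top_of_lt hcard L _ hL hLle e₂ h2 hβ
    intro v
    have : v ∈ invSub hcomm (w * w) := htop ▸ Subgroup.mem_top v
    exact this

end Cfsg.Agent.Helper10.MetaFus
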