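import Mathlib
import Cfsg.Agent.Helper10.MetaFusA
import Cfsg.Agent.Helper25.StronglyEmb3

set_option autoImplicit false

/-! Tools for S5179 (essential subgroups inside an extraspecial subgroup of index `p`):
* `exists_comm_not_mem`: in a group of order `> p³` whose centre has order `p` and contains all
  commutators, every element of an abelian subgroup `E` is centralized by an element outside `E`;
* `exists_aut_no_commuting`: for an abelian essential subgroup `E`, some `α ∈ Aut_F(E)` conjugates a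
  given `p`-subgroup of `Aut_F(E)` to a subgroup with no nontrivial commuting pairs. -/

namespace Cfsg.Agent.Helper10.ExtraIdx

open Cfsg Cfsg.Agent.Helper10.MetaFus
open scoped commutatorElement

/-- The homomorphism `a ↦ [a, y]` when these commutators are central. -/
def commHomLeft {X : Type*} [Group X] (y : X) (h : ∀ a : X, ⁅a, y⁆ ∈ Subgroup.center X) :
    X →* X :=
  MonoidHom.mk' (fun a => ⁅a, y⁆) (by
    intro a b
    have hb : ∀ g : X, g * ⁅b, y⁆ = ⁅b, y⁆ * g := fun g => Subgroup.mem_center_iff.mp (h b) g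
    calc ⁅a * b, y⁆ = a * ⁅b, y⁆ * y * a⁻¹ * y⁻¹ := by
          rw [commutatorElement_def, commutatorElement_def]; group
      _ = ⁅b, y⁆ * a * y * a⁻¹ * y⁻¹ := by rw [hb a]
      _ = ⁅b, y⁆ * ⁅a, y⁆ := by rw [commutatorElement_def a y]; group
      _ = ⁅a, y⁆ * ⁅b, y⁆ := (hb _).symm)

theorem commHomLeft_apply {X : Type*} [Group X] (y : X)
    (h : ∀ a : X, ⁅a, y⁆ ∈ Subgroup.center X) (a : X) : commHomLeft y h a = ⁅a, y⁆ := rfl

theorem card_le_of_commHomLeft {X : Type*} [Group X] [Finite X] (y : X)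
    (h : ∀ a : X, ⁅a, y⁆ ∈ Subgroup.center X) (K : Subgroup X) (E : Subgroup X)
    (hker : ∀ a ∈ K, a * y = y * a → a ∈ E) :
    Nat.card K ≤ Nat.card (E ⊓ K : Subgroup X) * Nat.card (Subgroup.center X) := by
  set f : K →* X := (commHomLeft y h).comp K.subtype with hf
  have h1 : Nat.card f.ker * Nat.card f.range = Nat.card K := by
    rw [← Subgroup.index_ker, Subgroup.card_mul_index]
  have h2 : Nat.card f.range ≤ Nat.card (Subgroup.center X) := by
    apply Subgroup.card_le_of_le
    rintro _ ⟨a, rfl⟩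
    exact h a
  have h3 : Nat.card f.ker ≤ Nat.card (E ⊓ K : Subgroup X) := by
    apply Nat.card_le_card_of_injective
      (fun a : f.ker => (⟨(a : K), by
        have ha : f (a : K) = 1 := a.2
        have ha' : ⁅((a : K) : X), y⁆ = 1 := ha
        exact ⟨hker _ (a : K).2 (commutatorElement_eq_one_iff_mul_comm.mp ha'), (a : K).2⟩⟩ :
          (E ⊓ K : Subgroup X)))
    intro a b hab
    apply Subtype.ext
    apply Subtype.ext
    have h := hab
    simp only at h
    exact Subtype.mk.inj h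
  calc Nat.card K = Nat.card f.ker * Nat.card f.range := h1.symm
    _ ≤ Nat.card (E ⊓ K : Subgroup X) * Nat.card (Subgroup.center X) := Nat.mul_le_mul h3 h2

/-- In a group of order `> p³` whose centre has order `p` and contains all commutators, every
element of an abelian subgroup `E` is centralized by an element outside `E`. -/
theorem exists_comm_not_mem {X : Type*} [Group X] [Finite X] {p : ℕ} [Fact p.Prime]
    (hZcard : Nat.card (Subgroup.center X) = p)
    (hcomm : ∀ a b : X, ⁅a, b⁆ ∈ Subgroup.center X)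
    (hcard : p ^ 3 < Nat.card X) (E : Subgroup X)
    (hEab : ∀ a ∈ E, ∀ b ∈ E, a * b = b * a) (y : X) :
    ∃ q : X, q ∉ E ∧ q * y = y * q := by
  have hpp : p.Prime := Fact.out
  by_contra hcon
  push Not at hcon
  have hCE : ∀ q, q * y = y * q → q ∈ E := fun q h => by_contra fun hq => hcon q hq h
  -- `|X| ≤ |E| p`
  have h1 : Nat.card (⊤ : Subgroup X) ≤
      Nat.card (E ⊓ ⊤ : Subgroup X) * Nat.card (Subgroup.center X) :=
    card_le_of_commHomLeft y (fun a => hcomm a y) ⊤ E (fun a _ h => hCE a h)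
  rw [Subgroup.card_top, inf_top_eq, hZcard] at h1
  -- `|E| ≤ p²`
  have h2 : Nat.card E ≤ p * p := by
    by_cases hq₀ : ∃ q₀ : X, q₀ ∉ E
    · obtain ⟨q₀, hq₀⟩ := hq₀
      have hc₀1 : ⁅q₀, y⁆ ≠ 1 := by
        intro h
        exact hq₀ (hCE q₀ (commutatorElement_eq_one_iff_mul_comm.mp h))
      have hdecomp : ∀ q : X, ∃ k : ℕ, ∃ e' ∈ E, q = q₀ ^ k * e' := by
        intro q
        obtain ⟨k, hk⟩ := exists_pow_eq (Subgroup.center X) hZcard ⁅q₀, y⁆ ⁅q, y⁆
          (hcomm q₀ y) hc₀1 (hcomm q y)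
        refine ⟨k, (q₀ ^ k)⁻¹ * q, ?_, by group⟩
        apply hCE
        have h3 : commHomLeft y (fun a => hcomm a y) ((q₀ ^ k)⁻¹ * q) = 1 := by
          rw [map_mul, map_inv, map_pow, commHomLeft_apply, commHomLeft_apply, hk,
            inv_mul_cancel]
        exact commutatorElement_eq_one_iff_mul_comm.mp h3
      have hker : ∀ a ∈ E, a * q₀ = q₀ * a → a ∈ Subgroup.center X := by
        intro a ha haq
        rw [Subgroup.mem_center_iff]
        intro q
        obtain ⟨k, e', he', rfl⟩ := hdecomp q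
        have hc1 : Commute a (q₀ ^ k) := (show Commute a q₀ from haq).pow_right k
        have hc2 : Commute a e' := hEab a ha e' he'
        exact ((hc1.mul_right hc2).eq).symm
      have h3 := card_le_of_commHomLeft q₀ (fun a => hcomm a q₀) E (Subgroup.center X) hker
      rw [hZcard] at h3
      have h4 : Nat.card (Subgroup.center X ⊓ E : Subgroup X) ≤ p := by
        rw [← hZcard]
        exact Subgroup.card_le_of_le inf_le_left
      exact h3.trans (Nat.mul_le_mul_right p h4)
    · push Not at hq₀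
      have hall : ∀ x : X, x ∈ Subgroup.center X := by
        intro x
        rw [Subgroup.mem_center_iff]
        intro g
        exact hEab g (hq₀ g) x (hq₀ x)
      have htop : Subgroup.center X = ⊤ := eq_top_iff.mpr fun x _ => hall x
      have h5 : Nat.card E ≤ Nat.card (Subgroup.center X) := by
        rw [htop, Subgroup.card_top]
        exact Subgroup.card_le_card_group E
      rw [hZcard] at h5
      exact h5.trans (Nat.le_mul_of_pos_left p hpp.pos)
  have h3 : Nat.card X ≤ p ^ 3 := by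
    calc Nat.card X ≤ Nat.card E * p := h1
      _ ≤ p * p * p := Nat.mul_le_mul_right p h2
      _ = p ^ 3 := by ring
  omega

variable {Ω : Type*} [Group Ω] {S : Subgroup Ω}

/-- For an abelian essential subgroup `E` and a `p`-subgroup `T₀` of `Aut_F(E)`, some
`α ∈ Aut_F(E)` has: no nontrivial element of `T₀` commutes with a nontrivial element of
`α T₀ α⁻¹`. -/
theorem exists_aut_no_commuting [Finite S] (p : ℕ) [Fact p.Prime] (F : FusionSystem S)
    (E : Subgroup Ω) (hE : F.IsEssential p E) (hcomm : ∀ a b : ↥E, a * b = b * a)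
    (T₀ : Subgroup (MulAut ↥E)) (hT₀A : T₀ ≤ F.autGroup E) (hT₀p : IsPGroup p T₀) :
    ∃ α ∈ F.autGroup E, ∀ t ∈ T₀, t ≠ 1 → ∀ u ∈ T₀, u ≠ 1 →
      t * (α * u * α⁻¹) ≠ (α * u * α⁻¹) * t := by
  obtain ⟨hcen, hfn, hnorm, Ebar, hEbar⟩ := id hE
  have hES : E ≤ S := hcen.1
  have hfinE : Finite E :=
    Finite.of_injective (Subgroup.inclusion hES) (Subgroup.inclusion_injective hES)
  set A := F.autGroup E with hAdef
  have hInn : (Inn ↥E) = ⊥ := by
    rw [eq_bot_iff]
    rintro _ ⟨g, rfl⟩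
    rw [Subgroup.mem_bot]
    apply MulEquiv.ext
    intro x
    show g * x * g⁻¹ = x
    rw [hcomm g x, mul_inv_cancel_right]
  set N : Subgroup A := (Inn ↥E).subgroupOf A with hN
  have hNbot : N = ⊥ := by
    rw [hN, hInn, Subgroup.bot_subgroupOf]
  have hπinj : Function.Injective (QuotientGroup.mk' N) := by
    rw [← MonoidHom.ker_eq_bot_iff, QuotientGroup.ker_mk', hNbot]
  -- a Sylow subgroup of the quotient containing the image of `T₀`
  have hT₀'p : IsPGroup p ((T₀.subgroupOf A).map (QuotientGroup.mk' N)) :=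
    (hT₀p.comap_subtype).map _
  obtain ⟨T, hT⟩ := hT₀'p.exists_le_sylow
  obtain ⟨a, ha⟩ := Cfsg.Agent.Helper25.exists_no_commuting_conj p hEbar T
  obtain ⟨α', rfl⟩ := QuotientGroup.mk'_surjective N a
  refine ⟨(α' : MulAut ↥E), α'.2, ?_⟩
  intro t ht ht1 u hu hu1 hcontra
  have htT : QuotientGroup.mk' N ⟨t, hT₀A ht⟩ ∈ (T : Subgroup (A ⧸ N)) :=
    hT ⟨⟨t, hT₀A ht⟩, Subgroup.mem_subgroupOf.mpr ht, rfl⟩
  have huT : QuotientGroup.mk' N ⟨u, hT₀A hu⟩ ∈ (T : Subgroup (A ⧸ N)) :=
    hT ⟨⟨u, hT₀A hu⟩, Subgroup.mem_subgroupOf.mpr hu, rfl⟩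
  have ht1' : QuotientGroup.mk' N ⟨t, hT₀A ht⟩ ≠ 1 := by
    intro h
    apply ht1
    have h2 : (⟨t, hT₀A ht⟩ : A) = 1 := hπinj (by rw [h, map_one])
    exact congrArg Subtype.val h2
  have hu1' : QuotientGroup.mk' N ⟨u, hT₀A hu⟩ ≠ 1 := by
    intro h
    apply hu1
    have h2 : (⟨u, hT₀A hu⟩ : A) = 1 := hπinj (by rw [h, map_one])
    exact congrArg Subtype.val h2
  apply ha _ htT ht1' _ huT hu1'
  have h3 : (⟨t, hT₀A ht⟩ : A) * (α' * ⟨u, hT₀A hu⟩ * α'⁻¹) =
      (α' * ⟨u, hT₀A hu⟩ * α'⁻¹) * ⟨t, hT₀A ht⟩ := Subtype.ext hcontra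
  have h4 := congrArg (QuotientGroup.mk' N) h3
  simpa only [map_mul, map_inv] using h4

end Cfsg.Agent.Helper10.ExtraIdx
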