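import Mathlib
import Cfsg.Agent.Helper25.FusionChain
import Cfsg.Agent.Helper23.OmegaOne

set_option autoImplicit false

/-! Criteria for an automorphism in `Aut_F(R)` to be inner, when `O_p(Aut_F(R)) ≤ Inn(R)`:
chain stabilizers and automorphisms acting trivially modulo an invariant subgroup. -/

namespace Cfsg.Agent.Helper10.MetaTwo

open Cfsg Cfsg.FusionSystem Cfsg.Agent.Helper25

variable {Ω : Type*} [Group Ω] {S : Subgroup Ω}

/-- An automorphism in the system stabilizing an invariant chain is inner. -/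
theorem mem_inn_of_stabilizesChain (p : ℕ) [Fact p.Prime] (F : FusionSystem S) {R : Subgroup Ω}
    [Finite R] (hRp : IsPGroup p R) (hOp : OpAutLeInn F p R)
    (N : ℕ → Subgroup R) (hN0 : N 0 = ⊥) (hNmono : Monotone N) {m : ℕ} (hNtop : N m = ⊤)
    (hinv : ∀ β ∈ F.autGroup R, ∀ i, ∀ x ∈ N i, β x ∈ N i)
    {α : MulAut R} (hα : α ∈ F.autGroup R) (hstab : StabilizesChain N α) : α ∈ Inn R := by
  have hAI : chainStabilizer hRp N hN0 hNmono hNtop ⊓ F.autGroup R ≤ Inn R := by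
    apply hOp _ inf_le_right
    · intro α hα k hk
      refine ⟨?_, (F.autGroup R).mul_mem ((F.autGroup R).mul_mem hα hk.2)
        ((F.autGroup R).inv_mem hα)⟩
      have hks : StabilizesChain N k := hk.1
      show StabilizesChain N (α * k * α⁻¹)
      intro i x hx
      have hy : α⁻¹ x ∈ N (i + 1) := hinv α⁻¹ ((F.autGroup R).inv_mem hα) _ x hx
      have h1 := hks i _ hy
      have h2 := hinv α hα i _ h1
      have e : α (k (α⁻¹ x) * (α⁻¹ x)⁻¹) = (α * k * α⁻¹) x * x⁻¹ := by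
        simp [MulAut.mul_apply]
      rwa [e] at h2
    · exact (chainStabilizer_isPGroup hRp N hN0 hNmono hNtop).to_le inf_le_left
  exact hAI ⟨hstab, hα⟩

/-- The chain `⊥ ≤ T ≤ ⊤`. -/
def chain3 {G : Type*} [Group G] (T : Subgroup G) : ℕ → Subgroup G :=
  fun i => if i = 0 then ⊥ else if i = 1 then T else ⊤

theorem chain3_zero {G : Type*} [Group G] (T : Subgroup G) : chain3 T 0 = ⊥ := by
  simp [chain3]

theorem chain3_one {G : Type*} [Group G] (T : Subgroup G) : chain3 T 1 = T := by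
  simp [chain3]

theorem chain3_add_two {G : Type*} [Group G] (T : Subgroup G) (i : ℕ) :
    chain3 T (i + 2) = ⊤ := by
  simp [chain3]

theorem chain3_two {G : Type*} [Group G] (T : Subgroup G) : chain3 T 2 = ⊤ :=
  chain3_add_two T 0

theorem chain3_mono {G : Type*} [Group G] (T : Subgroup G) : Monotone (chain3 T) := by
  apply monotone_nat_of_le_succ
  intro i
  rcases i with _ | _ | i
  · rw [chain3_zero]; exact bot_le
  · rw [show (0 + 1 + 1) = 0 + 2 from rfl, chain3_add_two]; exact le_top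
  · rw [show i + 1 + 1 + 1 = (i + 1) + 2 from rfl, chain3_add_two]; exact le_top

theorem stabilizesChain_chain3 {G : Type*} [Group G] (T : Subgroup G) (α : MulAut G)
    (h1 : ∀ x ∈ T, α x = x) (h2 : ∀ x, α x * x⁻¹ ∈ T) : StabilizesChain (chain3 T) α := by
  intro i x hx
  rcases i with _ | _ | i
  · rw [show 0 + 1 = 1 from rfl, chain3_one] at hx
    rw [chain3_zero, Subgroup.mem_bot, h1 x hx, mul_inv_cancel]
  · rw [show 0 + 1 = 1 from rfl, chain3_one]; exact h2 x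
  · rw [chain3_add_two]; exact Subgroup.mem_top _

theorem chain3_invariant {G : Type*} [Group G] (T : Subgroup G) (β : MulAut G)
    (h : ∀ x ∈ T, β x ∈ T) : ∀ i, ∀ x ∈ chain3 T i, β x ∈ chain3 T i := by
  intro i x hx
  rcases i with _ | _ | i
  · rw [chain3_zero, Subgroup.mem_bot] at hx ⊢; rw [hx, map_one]
  · rw [show 0 + 1 = 1 from rfl, chain3_one] at hx ⊢; exact h x hx
  · rw [chain3_add_two]; exact Subgroup.mem_top _

/-- An automorphism in the system centralizing an invariant subgroup `T` and `R/T` is inner. -/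
theorem mem_inn_of_stabilizes_three (p : ℕ) [Fact p.Prime] (F : FusionSystem S) {R : Subgroup Ω}
    [Finite R] (hRp : IsPGroup p R) (hOp : OpAutLeInn F p R) (T : Subgroup R)
    (hTinv : ∀ β ∈ F.autGroup R, ∀ x ∈ T, β x ∈ T)
    {α : MulAut R} (hα : α ∈ F.autGroup R) (h1 : ∀ x ∈ T, α x = x) (h2 : ∀ x, α x * x⁻¹ ∈ T) :
    α ∈ Inn R :=
  mem_inn_of_stabilizesChain p F hRp hOp (chain3 T) (chain3_zero T) (chain3_mono T)
    (chain3_two T) (fun β hβ => chain3_invariant T β (hTinv β hβ)) hα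
    (stabilizesChain_chain3 T α h1 h2)

/-- If `Aut(T)` is a `p`-group, an automorphism in the system centralizing `R/T` is inner. -/
theorem mem_inn_of_aut_isPGroup (p : ℕ) [Fact p.Prime] (F : FusionSystem S) {R : Subgroup Ω}
    [Finite R] (hRp : IsPGroup p R) (hOp : OpAutLeInn F p R) (T : Subgroup R)
    (hTinv : ∀ β ∈ F.autGroup R, ∀ x ∈ T, β x ∈ T) (hTaut : IsPGroup p (MulAut T))
    {α : MulAut R} (hα : α ∈ F.autGroup R) (h2 : ∀ x, α x * x⁻¹ ∈ T) : α ∈ Inn R := by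
  let A : Subgroup (MulAut R) :=
    { carrier := {β | β ∈ F.autGroup R ∧ ∀ x, β x * x⁻¹ ∈ T}
      one_mem' := ⟨(F.autGroup R).one_mem, fun x => by
        rw [MulAut.one_apply, mul_inv_cancel]; exact T.one_mem⟩
      mul_mem' := by
        rintro β γ ⟨hβ, hβ'⟩ ⟨hγ, hγ'⟩
        refine ⟨(F.autGroup R).mul_mem hβ hγ, fun x => ?_⟩
        have h := T.mul_mem (hβ' (γ x)) (hγ' x)
        have e : β (γ x) * (γ x)⁻¹ * (γ x * x⁻¹) = (β * γ) x * x⁻¹ := by
          rw [MulAut.mul_apply]; group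
        rwa [e] at h
      inv_mem' := by
        rintro β ⟨hβ, hβ'⟩
        refine ⟨(F.autGroup R).inv_mem hβ, fun x => ?_⟩
        have h := T.inv_mem (hβ' (β⁻¹ x))
        have e : (β (β⁻¹ x) * (β⁻¹ x)⁻¹)⁻¹ = β⁻¹ x * x⁻¹ := by
          rw [MulAut.apply_inv_self]; group
        rwa [e] at h }
  have hAle : A ≤ F.autGroup R := fun β hβ => hβ.1
  have hAnorm : ∀ γ ∈ F.autGroup R, ∀ k ∈ A, γ * k * γ⁻¹ ∈ A := by
    intro γ hγ k hk
    refine ⟨(F.autGroup R).mul_mem ((F.autGroup R).mul_mem hγ hk.1)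
      ((F.autGroup R).inv_mem hγ), fun x => ?_⟩
    have h1 := hk.2 (γ⁻¹ x)
    have h3 := hTinv γ hγ _ h1
    have e : γ (k (γ⁻¹ x) * (γ⁻¹ x)⁻¹) = (γ * k * γ⁻¹) x * x⁻¹ := by
      simp [MulAut.mul_apply]
    rwa [e] at h3
  have hAp : IsPGroup p A := by
    rintro ⟨β, hβ⟩
    have hK : ∀ x, x ∈ T ↔ β x ∈ T := by
      intro x
      refine ⟨hTinv β hβ.1 x, fun h => ?_⟩
      have := hTinv β⁻¹ ((F.autGroup R).inv_mem hβ.1) _ h
      rwa [MulAut.inv_apply_self] at this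
    obtain ⟨k, hk⟩ := hTaut (Cfsg.Agent.Helper23.restrictAut β T hK)
    have hfix : ∀ x ∈ T, (β ^ (p ^ k)) x = x := by
      intro x hx
      have := Cfsg.Agent.Helper23.restrictAut_pow_apply β T hK (p ^ k) ⟨x, hx⟩
      rw [hk] at this
      exact this.symm
    have hmem : β ^ (p ^ k) ∈ A := A.pow_mem hβ _
    have hst := stabilizesChain_chain3 T (β ^ (p ^ k)) hfix hmem.2
    obtain ⟨l, hl⟩ := hst.pow_eq_one hRp (chain3_zero T) (chain3_mono T) (chain3_two T)
    refine ⟨k + l, Subtype.ext ?_⟩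
    show β ^ (p ^ (k + l)) = 1
    rw [pow_add, pow_mul, hl]
  exact hOp A hAle hAnorm hAp ⟨hα, h2⟩

/-- The `k`-th powers of a commutative subgroup. -/
def powerSub {G : Type*} [Group G] (T : Subgroup G) (hT : ∀ x ∈ T, ∀ y ∈ T, x * y = y * x)
    (k : ℕ) : Subgroup G where
  carrier := {x | ∃ y ∈ T, y ^ k = x}
  one_mem' := ⟨1, T.one_mem, one_pow k⟩
  mul_mem' := by
    rintro _ _ ⟨y₁, h₁, rfl⟩ ⟨y₂, h₂, rfl⟩
    exact ⟨y₁ * y₂, T.mul_mem h₁ h₂, (show Commute y₁ y₂ from hT y₁ h₁ y₂ h₂).mul_pow k⟩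
  inv_mem' := by
    rintro _ ⟨y, h, rfl⟩
    exact ⟨y⁻¹, T.inv_mem h, inv_pow y k⟩

/-- An automorphism in the system centralizing `R/T` and moving the elements of the abelian
invariant subgroup `T` by squares is inner. -/
theorem mem_inn_of_comm_sq (F : FusionSystem S) {R : Subgroup Ω} [Finite R]
    (hRp : IsPGroup 2 R) (hOp : OpAutLeInn F 2 R) (T : Subgroup R)
    (hTinv : ∀ β ∈ F.autGroup R, ∀ x ∈ T, β x ∈ T)
    (hTab : ∀ x ∈ T, ∀ y ∈ T, x * y = y * x) (n : ℕ) (hexp : ∀ x ∈ T, x ^ (2 ^ n) = 1)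
    {α : MulAut R} (hα : α ∈ F.autGroup R) (h2 : ∀ x, α x * x⁻¹ ∈ T)
    (hsq : ∀ x ∈ T, ∃ y ∈ T, α x * x⁻¹ = y * y) : α ∈ Inn R := by
  have : Fact (Nat.Prime 2) := ⟨Nat.prime_two⟩
  let N : ℕ → Subgroup R := fun i => if i ≤ n then powerSub T hTab (2 ^ (n - i)) else ⊤
  have hNle : ∀ i, i ≤ n → N i = powerSub T hTab (2 ^ (n - i)) := fun i hi => if_pos hi
  have hNgt : ∀ i, ¬ i ≤ n → N i = ⊤ := fun i hi => if_neg hi
  have hN0 : N 0 = ⊥ := by
    rw [hNle 0 (Nat.zero_le _), eq_bot_iff]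
    rintro _ ⟨y, hy, rfl⟩
    rw [Subgroup.mem_bot, Nat.sub_zero]
    exact hexp y hy
  have hNmono : Monotone N := by
    apply monotone_nat_of_le_succ
    intro i
    by_cases hi : i + 1 ≤ n
    · rw [hNle i (by omega), hNle (i + 1) hi]
      rintro _ ⟨y, hy, rfl⟩
      refine ⟨y ^ 2, T.pow_mem hy 2, ?_⟩
      have e : n - i = (n - (i + 1)) + 1 := by omega
      rw [← pow_mul, ← pow_succ', e]
    · rw [hNgt (i + 1) hi]; exact le_top
  have hNtop : N (n + 1) = ⊤ := hNgt _ (by omega)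
  have hinv : ∀ β ∈ F.autGroup R, ∀ i, ∀ x ∈ N i, β x ∈ N i := by
    intro β hβ i x hx
    by_cases hi : i ≤ n
    · rw [hNle i hi] at hx ⊢
      obtain ⟨y, hy, rfl⟩ := hx
      exact ⟨β y, hTinv β hβ y hy, (map_pow β y _).symm⟩
    · rw [hNgt i hi]; exact Subgroup.mem_top _
  apply mem_inn_of_stabilizesChain 2 F hRp hOp N hN0 hNmono hNtop hinv hα
  intro i x hx
  by_cases hi : i + 1 ≤ n
  · rw [hNle (i + 1) hi] at hx
    rw [hNle i (by omega)]
    obtain ⟨y, hy, rfl⟩ := hx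
    obtain ⟨z, hz, hzy⟩ := hsq y hy
    refine ⟨z, hz, ?_⟩
    have hαy : α y ∈ T := hTinv α hα y hy
    have hc : Commute (α y) y⁻¹ := hTab _ hαy _ (T.inv_mem hy)
    have e : n - i = (n - (i + 1)) + 1 := by omega
    rw [map_pow, ← inv_pow, ← hc.mul_pow, hzy, ← pow_two, ← pow_mul, ← pow_succ', e]
  · by_cases hi' : i ≤ n
    · have hin : i = n := by omega
      rw [hNle i hi', hin, Nat.sub_self, pow_zero]
      exact ⟨α x * x⁻¹, h2 x, pow_one _⟩
    · rw [hNgt i hi']; exact Subgroup.mem_top _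

end Cfsg.Agent.Helper10.MetaTwo
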