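import Mathlib
import Cfsg.Agent.Helper10.ExtraIdxA
import Cfsg.Agent.Helper10.MetaTwoB
import Cfsg.Agent.Helper26.FusionChainLocal

set_option autoImplicit false

/-! S5179: an essential subgroup contained in an extraspecial subgroup `Q` of index `p` of `S`
(`|S| ≥ p⁶`) equals `Q`. -/

namespace Cfsg.Agent.Helper10.ExtraIdx

open Cfsg Cfsg.FusionSystem Cfsg.Agent.Helper25 Cfsg.Agent.Helper10.MetaFus
  Cfsg.Agent.Helper10.MetaTwo
open scoped commutatorElement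

variable {Ω : Type*} [Group Ω] {S : Subgroup Ω}

theorem eq_of_isEssential_le [Finite S] (p : ℕ) [Fact p.Prime] (hS : IsPGroup p S)
    (Q : Subgroup Ω) (hQS : Q ≤ S) (hQ : Cfsg.IsExtraspecial p ↥Q)
    (hQi : (Q.subgroupOf S).index = p) (h6 : p ^ 6 ≤ Nat.card S) (F : FusionSystem S)
    (E : Subgroup Ω) (hEQ : E ≤ Q) (hE : F.IsEssential p E) : E = Q := by
  have hpp : p.Prime := Fact.out
  have hES : E ≤ S := hE.1.1
  have hC : centralizerIn S E ≤ E := hE.1.2 E (isConj_refl F hES)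
  have hfinQ : Finite Q := finite_of_le hQS
  have hfinE : Finite E := finite_of_le hES
  obtain ⟨⟨hQp, -, hcomm⟩, hZcard⟩ := hQ
  have hcommQ : ∀ a b : Q, ⁅a, b⁆ ∈ Subgroup.center ↥Q := by
    intro a b
    rw [← hcomm, commutator_def]
    exact Subgroup.commutator_mem_commutator (Subgroup.mem_top _) (Subgroup.mem_top _)
  -- the centre of `Q` lies in `E`
  have hZE : ∀ z : Q, z ∈ Subgroup.center ↥Q → (z : Ω) ∈ E := by
    intro z hz
    apply hC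
    refine ⟨hQS z.2, ?_⟩
    show (z : Ω) ∈ Subgroup.centralizer (E : Set Ω)
    rw [Subgroup.mem_centralizer_iff]
    intro e he
    have := Subgroup.mem_center_iff.mp hz ⟨e, hEQ he⟩
    exact congrArg Subtype.val this
  -- `S` normalizes `Q`
  have hcardS : Nat.card (Q.subgroupOf S) * p = Nat.card S := by
    rw [← hQi]; exact Subgroup.card_mul_index _
  have hcardQ : Nat.card (Q.subgroupOf S) = Nat.card Q :=
    Nat.card_congr (Subgroup.subgroupOfEquivOfLe hQS).toEquiv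
  have hSNQ : S ≤ Subgroup.normalizer (Q : Set Ω) := by
    rw [← Subgroup.normal_subgroupOf_iff_le_normalizer hQS]
    apply Subgroup.normal_of_index_eq_minFac_card
    obtain ⟨k, hk⟩ := IsPGroup.iff_card.mp hS
    have hk0 : k ≠ 0 := by
      rintro rfl
      rw [pow_zero] at hk
      have : 1 < p ^ 6 := Nat.one_lt_pow (by norm_num) hpp.one_lt
      omega
    rw [hQi, hk, Nat.pow_minFac hk0, hpp.minFac_eq]
  have hQcard : p ^ 3 < Nat.card Q := by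
    rw [← hcardQ]
    have h1 : p ^ 6 ≤ Nat.card (Q.subgroupOf S) * p := hcardS ▸ h6
    have h2 : p ^ 3 * p < p ^ 6 := by
      have : p ^ 3 * p = p ^ 4 := by ring
      rw [this]
      exact Nat.pow_lt_pow_right hpp.one_lt (by norm_num)
    have h3 : p ^ 3 * p < Nat.card (Q.subgroupOf S) * p := lt_of_lt_of_le h2 h1
    exact lt_of_mul_lt_mul_right h3 (Nat.zero_le p)
  -- `Q` normalizes `E`
  have hEN : Q ≤ Subgroup.normalizer (E : Set Ω) := by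
    intro q hq
    apply mem_normalizer_of_conj_mem
    intro e he
    have h1 : (⁅(⟨q, hq⟩ : Q), ⟨e, hEQ he⟩⁆ : Q) ∈ Subgroup.center ↥Q := hcommQ _ _
    have h2 := E.mul_mem (hZE _ h1) he
    have e1 : ((⁅(⟨q, hq⟩ : Q), ⟨e, hEQ he⟩⁆ : Q) : Ω) * e = q * e * q⁻¹ := by
      rw [commutatorElement_def]
      show q * e * q⁻¹ * e⁻¹ * e = _
      group
    rwa [e1] at h2
  -- a nontrivial central element of `Q`
  obtain ⟨z₀, hz₀, hz₀1⟩ : ∃ z₀ : Q, z₀ ∈ Subgroup.center ↥Q ∧ z₀ ≠ 1 := by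
    have hne : Subgroup.center ↥Q ≠ ⊥ := by
      intro h
      rw [h, Subgroup.card_bot] at hZcard
      exact hpp.one_lt.ne hZcard
    obtain ⟨y, hy1⟩ := Subgroup.ne_bot_iff_exists_ne_one.mp hne
    exact ⟨y, y.2, fun h => hy1 (Subtype.ext h)⟩
  set zE : E := ⟨(z₀ : Ω), hZE z₀ hz₀⟩ with hzE
  -- conjugation by elements of `Q` moves elements of `E` by powers of `z₀`
  have hform : ∀ (g : Q) (e : E), ∃ k : ℕ,
      E.normalizerMonoidHom ⟨(g : Ω), hEN g.2⟩ e = e * zE ^ k := by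
    intro g e
    have h1 : (⁅(⟨(e : Ω), hEQ e.2⟩ : Q)⁻¹, g⁆ : Q) ∈ Subgroup.center ↥Q := hcommQ _ _
    obtain ⟨k, hk⟩ := exists_pow_eq (Subgroup.center ↥Q) hZcard z₀ _ hz₀ hz₀1 h1
    refine ⟨k, Subtype.ext ?_⟩
    show (g : Ω) * (e : Ω) * (g : Ω)⁻¹ = (e : Ω) * ((zE ^ k : E) : Ω)
    have h2 : ((zE ^ k : E) : Ω) = ((z₀ ^ k : Q) : Ω) := by
      rw [Subgroup.coe_pow, Subgroup.coe_pow]
    rw [h2, hk, commutatorElement_def]
    show _ = (e : Ω) * ((e : Ω)⁻¹ * (g : Ω) * ((e : Ω)⁻¹)⁻¹ * (g : Ω)⁻¹)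
    group
  have hfixz : ∀ g : Q, E.normalizerMonoidHom ⟨(g : Ω), hEN g.2⟩ zE = zE := by
    intro g
    apply Subtype.ext
    show (g : Ω) * (z₀ : Ω) * (g : Ω)⁻¹ = (z₀ : Ω)
    have := Subgroup.mem_center_iff.mp hz₀ g
    have h1 : (g : Ω) * (z₀ : Ω) = (z₀ : Ω) * (g : Ω) := congrArg Subtype.val this
    rw [h1, mul_inv_cancel_right]
  apply le_antisymm hEQ
  by_cases hab : ∀ a ∈ E, ∀ b ∈ E, a * b = b * a
  · -- `E` abelian
    by_contra hQE
    have hcommE : ∀ a b : E, a * b = b * a := fun a b => Subtype.ext (hab a a.2 b b.2)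
    have hEQab : ∀ a ∈ E.subgroupOf Q, ∀ b ∈ E.subgroupOf Q, a * b = b * a := fun a ha b hb =>
      Subtype.ext (hab a ha b hb)
    have hex : ∀ y : Q, ∃ q : Q, q ∉ E.subgroupOf Q ∧ q * y = y * q := fun y =>
      exists_comm_not_mem hZcard hcommQ hQcard (E.subgroupOf Q) hEQab y
    set T₀ : Subgroup (MulAut E) := autInducedBy Q E with hT₀
    have hT₀S : T₀ ≤ autInducedBy S E := by
      intro t ht
      obtain ⟨g, hgQ, hg⟩ := (mem_autInducedBy_iff Q E t).mp ht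
      exact (mem_autInducedBy_iff S E t).mpr ⟨g, hQS hgQ, hg⟩
    have hT₀A : T₀ ≤ F.autGroup E := hT₀S.trans (autInducedBy_le_autGroup F hES)
    have hT₀p : IsPGroup p T₀ := (autInducedBy_isPGroup hS E).to_le hT₀S
    obtain ⟨α, hαA, hα⟩ := exists_aut_no_commuting p F E hE hcommE T₀ hT₀A hT₀p
    set y₁ : E := α zE with hy₁
    set y₂ : E := α⁻¹ zE with hy₂
    obtain ⟨q, hqE, hqy⟩ := hex ⟨(y₁ : Ω), hEQ y₁.2⟩
    obtain ⟨q', hq'E, hq'y⟩ := hex ⟨(y₂ : Ω), hEQ y₂.2⟩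
    set t₀ : MulAut E := E.normalizerMonoidHom ⟨(q : Ω), hEN q.2⟩ with ht₀
    set u₀ : MulAut E := E.normalizerMonoidHom ⟨(q' : Ω), hEN q'.2⟩ with hu₀
    have ht₀T : t₀ ∈ T₀ := (mem_autInducedBy_iff Q E t₀).mpr ⟨q, q.2, fun _ => rfl⟩
    have hu₀T : u₀ ∈ T₀ := (mem_autInducedBy_iff Q E u₀).mpr ⟨q', q'.2, fun _ => rfl⟩
    have ht₀1 : t₀ ≠ 1 := by
      intro h
      apply hqE
      have h1 : E.normalizerMonoidHom ⟨(q : Ω), hEN q.2⟩ ∈ Inn E := by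
        rw [← ht₀, h]; exact (Inn E).one_mem
      exact mem_of_normalizerMonoidHom_mem_inn hES hC ⟨(q : Ω), hEN q.2⟩ (hQS q.2) h1
    have hu₀1 : u₀ ≠ 1 := by
      intro h
      apply hq'E
      have h1 : E.normalizerMonoidHom ⟨(q' : Ω), hEN q'.2⟩ ∈ Inn E := by
        rw [← hu₀, h]; exact (Inn E).one_mem
      exact mem_of_normalizerMonoidHom_mem_inn hES hC ⟨(q' : Ω), hEN q'.2⟩ (hQS q'.2) h1
    have ht₀y : t₀ y₁ = y₁ := by
      apply Subtype.ext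
      show (q : Ω) * (y₁ : Ω) * (q : Ω)⁻¹ = (y₁ : Ω)
      have h1 : (q : Ω) * (y₁ : Ω) = (y₁ : Ω) * (q : Ω) := congrArg Subtype.val hqy
      rw [h1, mul_inv_cancel_right]
    have hu₀y : u₀ y₂ = y₂ := by
      apply Subtype.ext
      show (q' : Ω) * (y₂ : Ω) * (q' : Ω)⁻¹ = (y₂ : Ω)
      have h1 : (q' : Ω) * (y₂ : Ω) = (y₂ : Ω) * (q' : Ω) := congrArg Subtype.val hq'y
      rw [h1, mul_inv_cancel_right]
    have hαy₂ : α y₂ = zE := by rw [hy₂, MulAut.apply_inv_self]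
    apply hα t₀ ht₀T ht₀1 u₀ hu₀T hu₀1
    apply MulEquiv.ext
    intro e
    obtain ⟨j, hj⟩ := hform q e
    obtain ⟨k, hk⟩ := hform q' (α⁻¹ e)
    have hL : (t₀ * (α * u₀ * α⁻¹)) e = e * zE ^ j * y₁ ^ k := by
      show t₀ (α (u₀ (α⁻¹ e))) = _
      have e1 : u₀ (α⁻¹ e) = α⁻¹ e * zE ^ k := hk
      have e2 : α (α⁻¹ e * zE ^ k) = e * y₁ ^ k := by
        rw [map_mul, map_pow, MulAut.apply_inv_self]
      have e3 : t₀ (e * y₁ ^ k) = e * zE ^ j * y₁ ^ k := by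
        rw [map_mul, map_pow, ht₀y]
        exact congrArg (· * y₁ ^ k) hj
      rw [e1, e2, e3]
    have hR : ((α * u₀ * α⁻¹) * t₀) e = e * y₁ ^ k * zE ^ j := by
      show α (u₀ (α⁻¹ (t₀ e))) = _
      have e1 : t₀ e = e * zE ^ j := hj
      have e2 : α⁻¹ (e * zE ^ j) = α⁻¹ e * y₂ ^ j := by rw [map_mul, map_pow]
      have e3 : u₀ (α⁻¹ e * y₂ ^ j) = α⁻¹ e * zE ^ k * y₂ ^ j := by
        rw [map_mul, map_pow, hu₀y]
        exact congrArg (· * y₂ ^ j) hk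
      rw [e1, e2, e3, map_mul, map_mul, map_pow, map_pow, MulAut.apply_inv_self, hαy₂]
    rw [hL, hR, mul_assoc, mul_assoc, hcommE (zE ^ j)]
  · -- `E` nonabelian
    push Not at hab
    obtain ⟨a, haE, b, hbE, hab⟩ := hab
    have hOp : OpAutLeInn F p E := opAutLeInn_of_isEssential F p hE
    set Z₀ : Subgroup Ω := (Subgroup.center ↥Q).map Q.subtype with hZ₀
    have hZ₀E : Z₀ ≤ E := by
      rintro _ ⟨z, hz, rfl⟩
      exact hZE z hz
    set Z₀E : Subgroup E := Z₀.subgroupOf E with hZ₀E'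
    have hZ₀Ecard : Nat.card Z₀E = p := by
      rw [hZ₀E', Nat.card_congr (Subgroup.subgroupOfEquivOfLe hZ₀E).toEquiv, hZ₀,
        Subgroup.card_map_of_injective Q.subtype_injective, hZcard]
    have hcommZ : ∀ u v : E, ⁅u, v⁆ ∈ Z₀E := by
      intro u v
      show ((⁅u, v⁆ : E) : Ω) ∈ Z₀
      exact ⟨⁅(⟨(u : Ω), hEQ u.2⟩ : Q), ⟨(v : Ω), hEQ v.2⟩⁆, hcommQ _ _, rfl⟩
    have hc1 : (⁅(⟨a, haE⟩ : E), (⟨b, hbE⟩ : E)⁆ : E) ≠ 1 := by
      intro h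
      apply hab
      exact congrArg Subtype.val (commutatorElement_eq_one_iff_mul_comm.mp h)
    have hinv : ∀ β ∈ F.autGroup E, ∀ x ∈ Z₀E, β x ∈ Z₀E := by
      intro β _ x hx
      obtain ⟨k, hk⟩ := exists_pow_eq Z₀E hZ₀Ecard _ x (hcommZ ⟨a, haE⟩ ⟨b, hbE⟩) hc1 hx
      rw [← hk, map_pow, map_commutatorElement]
      exact Z₀E.pow_mem (hcommZ _ _) k
    refine Cfsg.Agent.Helper26.le_of_stabilizes_chain p hS F hES hC hOp hQS hSNQ (chain3 Z₀E)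
      (chain3_zero _) (chain3_mono _) (chain3_two _)
      (fun β hβ => chain3_invariant Z₀E β (hinv β hβ)) ?_
    intro α hα
    obtain ⟨g, hgQ, hgα⟩ := (mem_autInducedBy_iff Q E α).mp hα
    apply stabilizesChain_chain3
    · rintro x ⟨z, hz, hzx⟩
      have hzx' : (z : Ω) = (x : Ω) := hzx
      apply Subtype.ext
      rw [hgα, ← hzx']
      have := Subgroup.mem_center_iff.mp hz ⟨g, hgQ⟩
      have h1 : g * (z : Ω) = (z : Ω) * g := congrArg Subtype.val this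
      show g * (z : Ω) * g⁻¹ = (z : Ω)
      rw [h1, mul_inv_cancel_right]
    · intro x
      show ((α x * x⁻¹ : E) : Ω) ∈ Z₀
      refine ⟨⁅(⟨g, hgQ⟩ : Q), ⟨(x : Ω), hEQ x.2⟩⁆, hcommQ _ _, ?_⟩
      show ((⁅(⟨g, hgQ⟩ : Q), ⟨(x : Ω), hEQ x.2⟩⁆ : Q) : Ω) = ((α x : E) : Ω) * ((x⁻¹ : E) : Ω)
      rw [hgα, commutatorElement_def]
      rfl

end Cfsg.Agent.Helper10.ExtraIdx
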