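import Mathlib
import Cfsg.Prelude.Def_ConjugacyFunctors
import Cfsg.Agent.Helper10.Fusion

set_option autoImplicit false

namespace Cfsg.Agent.Helper10

open Subgroup Cfsg.Agent.Helper14
open scoped commutatorElement

variable {G : Type*} [Group G]

theorem map_cj_eq_self_of_mem {H : Subgroup G} {u : G} (hu : u ∈ H) : H.map (cj u) = H :=
  Cfsg.Agent.Helper14.map_cj_eq_self_of_mem hu

/-- `ControlsTransferIn` holds for every Sylow subgroup of `H`. -/
theorem controlsTransferIn_sylow [Finite G] {p : ℕ} [Fact p.Prime]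
    {W : Subgroup G → Subgroup G} (hW : Cfsg.IsConjugacyFunctor p W) {H : Subgroup G}
    (hc : Cfsg.ControlsTransferIn p W H) {R : Subgroup G} (hR : R ≤ H) (hRp : IsPGroup p ↥R)
    (hRi : ¬ p ∣ R.relIndex H) :
    R ⊓ ⁅H, H⁆ = R ⊓ ⁅H ⊓ normalizer ((W R : Subgroup G) : Set G), H ⊓ normalizer ((W R : Subgroup G) : Set G)⁆ := by
  obtain ⟨T, hT, hTp, hTi, heq⟩ := hc
  obtain ⟨u, hu, huT⟩ := exists_conj_eq_of_not_dvd_relIndex hT hR hTp hRp hTi hRi
  have hHu : H.map (cj u) = H := map_cj_eq_self_of_mem hu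
  have hWc : W (T.map (cj u)) = (W T).map (cj u) := (hW T hTp).2.2 u
  have h1 := congrArg (Subgroup.map (cj u)) heq
  rw [map_cj_inf, map_cj_inf, Subgroup.map_commutator, Subgroup.map_commutator, map_cj_inf,
    map_cj_normalizer, hHu, huT, ← hWc, huT] at h1
  exact h1

/-- climbing the tower of a well-placed subgroup, transfer version -/
theorem climb_tower_transfer [Finite G] {p : ℕ} [Fact p.Prime] (S : Sylow p G)
    {W : Subgroup G → Subgroup G} (hW : Cfsg.IsConjugacyFunctor p W)
    (hloc : ∀ T : Subgroup G, T ≠ ⊥ → Cfsg.IsWellPlaced p W (S : Subgroup G) T →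
      Cfsg.ControlsTransferIn p W (Subgroup.normalizer ((T : Subgroup G) : Set G))) :
    ∀ (n : ℕ) (T : Subgroup G), T ≠ ⊥ → Cfsg.IsWellPlaced p W (S : Subgroup G) T →
      Nat.card ↥(S : Subgroup G) - Nat.card ↥((S : Subgroup G) ⊓ normalizer (T : Set G)) = n →
      ((S : Subgroup G) ⊓ normalizer (T : Set G)) ⊓ ⁅normalizer (T : Set G), normalizer (T : Set G)⁆ ≤
        (S : Subgroup G) ⊓ ⁅normalizer ((W (S : Subgroup G) : Subgroup G) : Set G),
          normalizer ((W (S : Subgroup G) : Subgroup G) : Set G)⁆ := by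
  intro n
  induction n using Nat.strong_induction_on with
  | _ n ih =>
  intro T hTne hTwp hn
  have hRle : (S : Subgroup G) ⊓ normalizer (T : Set G) ≤ normalizer (T : Set G) := inf_le_right
  have hRp : IsPGroup p ↥((S : Subgroup G) ⊓ normalizer (T : Set G) : Subgroup G) := S.2.to_le inf_le_left
  have hRi : ¬ p ∣ ((S : Subgroup G) ⊓ normalizer (T : Set G)).relIndex (normalizer (T : Set G)) := hTwp.2 0
  have heq := controlsTransferIn_sylow hW (hloc T hTne hTwp) hRle hRp hRi
  rw [heq]
  by_cases hRS : (S : Subgroup G) ⊓ normalizer (T : Set G) = (S : Subgroup G)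
  · rw [hRS]
    exact inf_le_inf_left _ (Subgroup.commutator_mono inf_le_right inf_le_right)
  · have hT1wp := isWellPlaced_shift hW S.2 hTwp
    have hT1eq : Cfsg.functorTower W (S : Subgroup G) T 1 = W ((S : Subgroup G) ⊓ normalizer (T : Set G)) := rfl
    have hTR : T ≤ (S : Subgroup G) ⊓ normalizer (T : Set G) := le_inf hTwp.1 Subgroup.le_normalizer
    have hRne : (S : Subgroup G) ⊓ normalizer (T : Set G) ≠ ⊥ := by
      intro h
      apply hTne
      rw [eq_bot_iff, ← h]
      exact hTR
    have hT1ne : Cfsg.functorTower W (S : Subgroup G) T 1 ≠ ⊥ := by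
      rw [hT1eq]
      exact (hW _ hRp).2.1 hRne
    have hlt : (S : Subgroup G) ⊓ normalizer (T : Set G) < (S : Subgroup G) := lt_of_le_of_ne inf_le_left hRS
    have hgrow := Cfsg.Agent.Helper11.lt_inf_normalizer (S : Subgroup G) _ S.2 hlt
    have hle1 : (S : Subgroup G) ⊓ normalizer (((S : Subgroup G) ⊓ normalizer (T : Set G) : Subgroup G) : Set G) ≤
        (S : Subgroup G) ⊓ normalizer ((Cfsg.functorTower W (S : Subgroup G) T 1 : Subgroup G) : Set G) := by
      rw [hT1eq]
      exact inf_le_inf_left _ (normalizer_le_normalizer_functor hW hRp)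
    have hlt2 := hgrow.trans_le hle1
    have hcard : Nat.card ↥((S : Subgroup G) ⊓ normalizer (T : Set G) : Subgroup G) <
        Nat.card ↥((S : Subgroup G) ⊓ normalizer ((Cfsg.functorTower W (S : Subgroup G) T 1 : Subgroup G) : Set G) : Subgroup G) := by
      by_contra hcon
      push Not at hcon
      exact hlt2.ne (Subgroup.eq_of_le_of_card_ge hlt2.le hcon)
    have hcardS : Nat.card ↥((S : Subgroup G) ⊓ normalizer ((Cfsg.functorTower W (S : Subgroup G) T 1 : Subgroup G) : Set G) : Subgroup G) ≤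
        Nat.card ↥(S : Subgroup G) := Subgroup.card_le_of_le inf_le_left
    have hmeas : Nat.card ↥(S : Subgroup G) -
        Nat.card ↥((S : Subgroup G) ⊓ normalizer ((Cfsg.functorTower W (S : Subgroup G) T 1 : Subgroup G) : Set G) : Subgroup G) < n := by
      omega
    have hIH := ih _ hmeas _ hT1ne hT1wp rfl
    refine le_trans ?_ hIH
    apply inf_le_inf hlt2.le
    rw [hT1eq]
    exact Subgroup.commutator_mono inf_le_right inf_le_right

/-- along a decomposition by well-placed subgroups, transfer version -/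
theorem transfer_of_dec [Finite G] {p : ℕ} [Fact p.Prime] (S : Sylow p G)
    {W : Subgroup G → Subgroup G} (hW : Cfsg.IsConjugacyFunctor p W)
    (hloc : ∀ T : Subgroup G, T ≠ ⊥ → Cfsg.IsWellPlaced p W (S : Subgroup G) T →
      Cfsg.ControlsTransferIn p W (Subgroup.normalizer ((T : Subgroup G) : Set G)))
    (l : List (Subgroup G × G)) :
    ∀ x : G, Dec {T : Subgroup G | Cfsg.IsWellPlaced p W (S : Subgroup G) T} {x} l →
      x * ((lprod l)⁻¹ * x * lprod l)⁻¹ ∈ (S : Subgroup G) ⊓
        ⁅normalizer ((W (S : Subgroup G) : Subgroup G) : Set G),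
          normalizer ((W (S : Subgroup G) : Subgroup G) : Set G)⁆ := by
  induction l with
  | nil =>
    intro x _
    simp [lprod_nil]
  | cons b l ih =>
    obtain ⟨T, y⟩ := b
    intro x hd
    obtain ⟨hTwp, hyT, hxT, hd'⟩ := hd
    have hTwp' : Cfsg.IsWellPlaced p W (S : Subgroup G) T := hTwp
    have hxT' : x ∈ T := hxT rfl
    have hrc : rc y ({x} : Set G) = {y⁻¹ * x * y} := by
      unfold rc; simp
    rw [hrc] at hd'
    have h2 := ih _ hd'
    rw [lprod_cons]
    have e : x * ((y * lprod l)⁻¹ * x * (y * lprod l))⁻¹ =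
        (x * (y⁻¹ * x * y)⁻¹) * ((y⁻¹ * x * y) * ((lprod l)⁻¹ * (y⁻¹ * x * y) * lprod l)⁻¹) := by group
    rw [e]
    refine mul_mem ?_ h2
    by_cases hTne : T = ⊥
    · have : x = 1 := by
        rw [hTne] at hxT'
        exact hxT'
      subst this
      simp
    · apply climb_tower_transfer S hW hloc _ T hTne hTwp' rfl
      have hyx : y⁻¹ * x * y ∈ T := by
        have := (Subgroup.mem_normalizer_iff.mp (inv_mem hyT) x).mp hxT'
        simpa using this
      have hmemT : x * (y⁻¹ * x * y)⁻¹ ∈ T := mul_mem hxT' (inv_mem hyx)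
      refine ⟨⟨hTwp'.1 hmemT, Subgroup.le_normalizer hmemT⟩, ?_⟩
      have e2 : x * (y⁻¹ * x * y)⁻¹ = ⁅x, y⁻¹⁆ := by
        rw [commutatorElement_def]; group
      rw [e2]
      exact Subgroup.commutator_mem_commutator (Subgroup.le_normalizer hxT') (inv_mem hyT)

/-- local-to-global control of transfer via well-placed subgroups -/
theorem controlsTransfer_of_wellPlaced [Finite G] {p : ℕ} [Fact p.Prime] (S : Sylow p G)
    {W : Subgroup G → Subgroup G} (hW : Cfsg.IsConjugacyFunctor p W)
    (hloc : ∀ T : Subgroup G, T ≠ ⊥ → Cfsg.IsWellPlaced p W (S : Subgroup G) T →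
      Cfsg.ControlsTransferIn p W (Subgroup.normalizer ((T : Subgroup G) : Set G))) :
    Cfsg.ControlsTransferIn p W ⊤ := by
  refine ⟨(S : Subgroup G), le_top, S.2, ?_, ?_⟩
  · rw [Subgroup.relIndex_top_right]
    exact S.not_dvd_index
  · apply le_antisymm
    · rw [top_inf_eq]
      have hfoc := Subgroup.commutator_inf_eq_focalSubgroup S
      rw [commutator_def, inf_comm] at hfoc
      rw [hfoc, Subgroup.focalSubgroup_def, Subgroup.closure_le]
      rintro g₀ ⟨hg₀, x, hx, u, rfl⟩
      have hux : u * x * u⁻¹ ∈ (S : Subgroup G) := by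
        have h1 : x⁻¹ * ⁅x, u⁆ ∈ (S : Subgroup G) := mul_mem (inv_mem hx) hg₀
        have e : x⁻¹ * ⁅x, u⁆ = (u * x * u⁻¹)⁻¹ := by
          rw [commutatorElement_def]; group
        rw [e] at h1
        simpa using inv_mem h1
      have hAg : rc u⁻¹ ({x} : Set G) ⊆ (S : Subgroup G) := by
        rintro _ ⟨a, ha, rfl⟩
        rw [Set.mem_singleton_iff] at ha
        subst ha
        have e3 : u⁻¹⁻¹ * a * u⁻¹ = u * a * u⁻¹ := by group
        change u⁻¹⁻¹ * a * u⁻¹ ∈ (S : Subgroup G)
        rw [e3]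
        exact hux
      have hA : ({x} : Set G) ⊆ (S : Subgroup G) := by
        intro a ha
        rw [Set.mem_singleton_iff] at ha
        subst ha
        exact hx
      obtain ⟨l, hl, hlp⟩ := exists_dec_of_extremal_set S
        {T : Subgroup G | Cfsg.IsWellPlaced p W (S : Subgroup G) T} (fun U hU => hU.1)
        (wellPlaced_family_hyp S hW) {x} u⁻¹ hA hAg
      have := transfer_of_dec S hW hloc l x hl
      rw [hlp] at this
      have e : ⁅x, u⁆ = x * (u⁻¹⁻¹ * x * u⁻¹)⁻¹ := by
        rw [commutatorElement_def]; group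
      rw [SetLike.mem_coe, e]
      exact this
    · rw [top_inf_eq]
      exact inf_le_inf_left _ (Subgroup.commutator_mono le_top le_top)

end Cfsg.Agent.Helper10
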