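import Mathlib
import Cfsg.Prelude.Def_ConjugacyFunctors
import Cfsg.Agent.Helper10.TransferCtl
import Cfsg.Agent.Helper10.FamilyFusion

set_option autoImplicit false

namespace Cfsg.Agent.Helper10

open Subgroup Cfsg.Agent.Helper14
open scoped commutatorElement

variable {G : Type*} [Group G] {𝓦 : Set (Subgroup G → Subgroup G)}

/-- `FamilyControlsTransferIn` holds for every Sylow subgroup of `H`. -/
theorem familyControlsTransferIn_sylow [Finite G] {p : ℕ} [Fact p.Prime]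
    (h𝓦 : ∀ W ∈ 𝓦, Cfsg.IsConjugacyFunctor p W) {H : Subgroup G}
    (hc : Cfsg.FamilyControlsTransferIn p 𝓦 H) {R : Subgroup G} (hR : R ≤ H) (hRp : IsPGroup p ↥R)
    (hRi : ¬ p ∣ R.relIndex H) :
    R ⊓ ⁅H, H⁆ = ⨆ W ∈ 𝓦, R ⊓ ⁅H ⊓ normalizer ((W R : Subgroup G) : Set G),
      H ⊓ normalizer ((W R : Subgroup G) : Set G)⁆ := by
  obtain ⟨T, hT, hTp, hTi, heq⟩ := hc
  obtain ⟨u, hu, huT⟩ := exists_conj_eq_of_not_dvd_relIndex hT hR hTp hRp hTi hRi
  have hHu : H.map (cj u) = H := map_cj_eq_self_of_mem hu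
  have h1 := congrArg (Subgroup.map (cj u)) heq
  rw [map_cj_inf, Subgroup.map_commutator, hHu, huT, Subgroup.map_iSup] at h1
  rw [h1]
  apply iSup_congr
  intro W
  rw [Subgroup.map_iSup]
  apply iSup_congr
  intro hW
  have hWc : W (T.map (cj u)) = (W T).map (cj u) := (h𝓦 W hW T hTp).2.2 u
  rw [map_cj_inf, Subgroup.map_commutator, map_cj_inf, map_cj_normalizer, hHu, huT, ← hWc, huT]

section main

variable [Finite G] {p : ℕ} [Fact p.Prime] (S : Sylow p G)
  (h𝓦 : ∀ W ∈ 𝓦, Cfsg.IsConjugacyFunctor p W)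
  (hloc : ∀ T : Subgroup G, T ≤ (S : Subgroup G) → T ≠ ⊥ →
    ¬ p ∣ ((S : Subgroup G) ⊓ Subgroup.normalizer ((T : Subgroup G) : Set G)).relIndex
      (Subgroup.normalizer ((T : Subgroup G) : Set G)) →
    Cfsg.FamilyControlsTransferIn p 𝓦 (Subgroup.normalizer ((T : Subgroup G) : Set G)))

/-- the target subgroup -/
def ftarget (𝓦 : Set (Subgroup G → Subgroup G)) (S : Subgroup G) : Subgroup G :=
  ⨆ W ∈ 𝓦, S ⊓ ⁅normalizer ((W S : Subgroup G) : Set G), normalizer ((W S : Subgroup G) : Set G)⁆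

include h𝓦 hloc in
theorem ft_local {U : Subgroup G} (hUS : U ≤ (S : Subgroup G)) (hUne : U ≠ ⊥)
    (hUext : IsExt p (S : Subgroup G) U)
    (hQ : ∀ W ∈ 𝓦, ((S : Subgroup G) ⊓ normalizer (U : Set G)) ⊓
      ⁅normalizer ((W ((S : Subgroup G) ⊓ normalizer (U : Set G)) : Subgroup G) : Set G),
        normalizer ((W ((S : Subgroup G) ⊓ normalizer (U : Set G)) : Subgroup G) : Set G)⁆ ≤
      ftarget 𝓦 (S : Subgroup G)) :
    ((S : Subgroup G) ⊓ normalizer (U : Set G)) ⊓ ⁅normalizer (U : Set G), normalizer (U : Set G)⁆ ≤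
      ftarget 𝓦 (S : Subgroup G) := by
  have hRp : IsPGroup p ↥((S : Subgroup G) ⊓ normalizer (U : Set G) : Subgroup G) := S.2.to_le inf_le_left
  rw [familyControlsTransferIn_sylow h𝓦 (hloc U hUS hUne hUext) inf_le_right hRp hUext]
  apply iSup₂_le
  intro W hW
  refine le_trans ?_ (hQ W hW)
  exact inf_le_inf_left _ (Subgroup.commutator_mono inf_le_right inf_le_right)

include h𝓦 hloc in
theorem ft_main : ∀ (n : ℕ) (B : Subgroup G), B ≤ (S : Subgroup G) →
    Nat.card ↥(S : Subgroup G) - Nat.card ↥B = n →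
    (∀ g : G, B.map (cj g) ≤ (S : Subgroup G) → ∀ b ∈ B,
      b * (g * b * g⁻¹)⁻¹ ∈ ftarget 𝓦 (S : Subgroup G)) ∧
    (∀ W ∈ 𝓦, B ⊓ ⁅normalizer ((W B : Subgroup G) : Set G), normalizer ((W B : Subgroup G) : Set G)⁆ ≤
      ftarget 𝓦 (S : Subgroup G)) := by
  intro n
  induction n using Nat.strong_induction_on with
  | _ n ih =>
  intro B hBS hn
  have hBp : IsPGroup p ↥B := S.2.to_le hBS
  have big : ∀ B' : Subgroup G, B' ≤ (S : Subgroup G) → Nat.card ↥B < Nat.card ↥B' →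
      (∀ g : G, B'.map (cj g) ≤ (S : Subgroup G) → ∀ b ∈ B',
        b * (g * b * g⁻¹)⁻¹ ∈ ftarget 𝓦 (S : Subgroup G)) ∧
      (∀ W ∈ 𝓦, B' ⊓ ⁅normalizer ((W B' : Subgroup G) : Set G), normalizer ((W B' : Subgroup G) : Set G)⁆ ≤
        ftarget 𝓦 (S : Subgroup G)) := by
    intro B' hB'S hcard
    have hle : Nat.card ↥B' ≤ Nat.card ↥(S : Subgroup G) := Subgroup.card_le_of_le hB'S
    exact ih (Nat.card ↥(S : Subgroup G) - Nat.card ↥B') (by omega) B' hB'S rfl
  have card_lt_of_lt : ∀ {X Y : Subgroup G}, X < Y → Nat.card ↥X < Nat.card ↥Y := by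
    intro X Y hXY
    by_contra hcon
    push Not at hcon
    exact hXY.ne (Subgroup.eq_of_le_of_card_ge hXY.le hcon)
  -- Q first
  have hQ : ∀ W ∈ 𝓦, B ⊓ ⁅normalizer ((W B : Subgroup G) : Set G), normalizer ((W B : Subgroup G) : Set G)⁆ ≤
      ftarget 𝓦 (S : Subgroup G) := by
    intro W hW
    by_cases hBtop : B = (S : Subgroup G)
    · subst hBtop
      exact le_iSup₂ (f := fun (W : Subgroup G → Subgroup G) (_ : W ∈ 𝓦) =>
        (S : Subgroup G) ⊓ ⁅normalizer ((W (S : Subgroup G) : Subgroup G) : Set G),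
          normalizer ((W (S : Subgroup G) : Subgroup G) : Set G)⁆) W hW
    by_cases hBbot : B = ⊥
    · rw [hBbot, bot_inf_eq]; exact bot_le
    have hBlt : B < (S : Subgroup G) := lt_of_le_of_ne hBS hBtop
    have hWf := h𝓦 W hW
    have hVne : W B ≠ ⊥ := (hWf B hBp).2.1 hBbot
    have hVB : W B ≤ B := (hWf B hBp).1
    have hgrow := Cfsg.Agent.Helper11.lt_inf_normalizer (S : Subgroup G) B S.2 hBlt
    have hNVle : (S : Subgroup G) ⊓ normalizer (B : Set G) ≤ (S : Subgroup G) ⊓ normalizer ((W B : Subgroup G) : Set G) :=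
      inf_le_inf_left _ (normalizer_le_normalizer_functor hWf hBp)
    have hBNV : B < (S : Subgroup G) ⊓ normalizer ((W B : Subgroup G) : Set G) := hgrow.trans_le hNVle
    obtain ⟨v, hv1, hv2⟩ := exists_isExt_conj S (W B)
    have hVNV : W B ≤ (S : Subgroup G) ⊓ normalizer ((W B : Subgroup G) : Set G) :=
      le_inf (hVB.trans hBS) Subgroup.le_normalizer
    have hV'S : (W B).map (cj v) ≤ (S : Subgroup G) := (Subgroup.map_mono hVNV).trans hv1
    have hV'ne : (W B).map (cj v) ≠ ⊥ := by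
      intro h
      exact hVne ((Subgroup.map_eq_bot_iff_of_injective _ (cj_injective v)).mp h)
    have hNVR1 : ((S : Subgroup G) ⊓ normalizer ((W B : Subgroup G) : Set G)).map (cj v) ≤
        (S : Subgroup G) ⊓ normalizer (((W B).map (cj v) : Subgroup G) : Set G) := by
      apply le_inf hv1
      rw [← map_cj_normalizer]
      exact Subgroup.map_mono inf_le_right
    have hcardNV := card_lt_of_lt hBNV
    have hcardR1 : Nat.card ↥B < Nat.card ↥((S : Subgroup G) ⊓ normalizer (((W B).map (cj v) : Subgroup G) : Set G) : Subgroup G) := by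
      have := Subgroup.card_le_of_le hNVR1
      rw [card_map_cj] at this
      omega
    obtain ⟨hP_NV, -⟩ := big _ inf_le_left hcardNV
    obtain ⟨-, hQ_R1⟩ := big _ inf_le_left hcardR1
    have hloc1 := ft_local S h𝓦 hloc hV'S hV'ne hv2 hQ_R1
    intro x hx
    have hxNV : x ∈ (S : Subgroup G) ⊓ normalizer ((W B : Subgroup G) : Set G) := hBNV.le hx.1
    have h1 := hP_NV v hv1 x hxNV
    have h2 : v * x * v⁻¹ ∈ ftarget 𝓦 (S : Subgroup G) := by
      apply hloc1
      refine ⟨hNVR1 ⟨x, hxNV, rfl⟩, ?_⟩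
      rw [← map_cj_normalizer, ← Subgroup.map_commutator]
      exact ⟨x, hx.2, rfl⟩
    have := mul_mem h1 h2
    have e : x * (v * x * v⁻¹)⁻¹ * (v * x * v⁻¹) = x := by group
    rwa [e] at this
  refine ⟨?_, hQ⟩
  intro g hg b hb
  by_cases hBbot : B = ⊥
  · have : b = 1 := by
      rw [hBbot] at hb
      exact hb
    subst this
    simp
  by_cases hBtop : B = (S : Subgroup G)
  · subst hBtop
    have hgN : g ∈ normalizer (((S : Subgroup G) : Subgroup G) : Set G) := by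
      have h1 : (S : Subgroup G).map (cj g) = (S : Subgroup G) := by
        apply Subgroup.eq_of_le_of_card_ge hg
        rw [card_map_cj]
      exact mem_normalizer_iff_map_cj.mpr h1
    have hSN : (S : Subgroup G) ≤ normalizer (((S : Subgroup G) : Subgroup G) : Set G) := Subgroup.le_normalizer
    have hext : IsExt p (S : Subgroup G) (S : Subgroup G) := by
      unfold IsExt
      rw [inf_of_le_left hSN]
      intro hdvd
      exact S.not_dvd_index (hdvd.trans (Subgroup.relIndex_dvd_index_of_le hSN))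
    have hR : (S : Subgroup G) ⊓ normalizer (((S : Subgroup G) : Subgroup G) : Set G) = (S : Subgroup G) :=
      inf_of_le_left hSN
    have hloc1 := ft_local S h𝓦 hloc le_rfl hBbot hext (by rw [hR]; exact hQ)
    apply hloc1
    rw [hR]
    have hgb : g * b * g⁻¹ ∈ (S : Subgroup G) := hg ⟨b, hb, rfl⟩
    refine ⟨(S : Subgroup G).mul_mem hb ((S : Subgroup G).inv_mem hgb), ?_⟩
    have e : b * (g * b * g⁻¹)⁻¹ = ⁅b, g⁆ := by
      rw [commutatorElement_def]; group
    rw [e]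
    exact Subgroup.commutator_mem_commutator (hSN hb) hgN
  -- general case
  have hBlt : B < (S : Subgroup G) := lt_of_le_of_ne hBS hBtop
  have hgrow := Cfsg.Agent.Helper11.lt_inf_normalizer (S : Subgroup G) B S.2 hBlt
  obtain ⟨u, hu1, hu2⟩ := exists_isExt_conj S B
  have hBNB : B ≤ (S : Subgroup G) ⊓ normalizer (B : Set G) := hgrow.le
  have hUS : B.map (cj u) ≤ (S : Subgroup G) := (Subgroup.map_mono hBNB).trans hu1
  have hUne : B.map (cj u) ≠ ⊥ := by
    intro h
    exact hBbot ((Subgroup.map_eq_bot_iff_of_injective _ (cj_injective u)).mp h)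
  obtain ⟨hP_NB, -⟩ := big _ inf_le_left (card_lt_of_lt hgrow)
  have hstep1 := hP_NB u hu1 b (hBNB hb)
  have hhh : (B.map (cj g)).map (MulAut.conj (u * g⁻¹)).toMonoidHom = B.map (cj u) := by
    have := map_cj_mul B (u * g⁻¹) g
    rw [inv_mul_cancel_right] at this
    exact this
  obtain ⟨g₂, hg₂, hg₂N, -⟩ := Cfsg.Agent.S2014.result p S (B.map (cj g)) (B.map (cj u)) hg hUS hu2 (u * g⁻¹) hhh
  have hB'card : Nat.card ↥(B.map (cj g)) = Nat.card ↥B := card_map_cj B g
  have hB'lt : B.map (cj g) < (S : Subgroup G) := by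
    refine lt_of_le_of_ne hg ?_
    intro h
    have := card_lt_of_lt hBlt
    rw [h] at hB'card
    omega
  have hgrow' := Cfsg.Agent.Helper11.lt_inf_normalizer (S : Subgroup G) _ S.2 hB'lt
  have hcardNB' : Nat.card ↥B < Nat.card ↥((S : Subgroup G) ⊓ normalizer ((B.map (cj g) : Subgroup G) : Set G) : Subgroup G) := by
    have := card_lt_of_lt hgrow'
    omega
  obtain ⟨hP_NB', -⟩ := big _ inf_le_left hcardNB'
  have hb' : g * b * g⁻¹ ∈ B.map (cj g) := ⟨b, hb, rfl⟩
  have hstep3 := hP_NB' g₂ (hg₂N.trans inf_le_left) (g * b * g⁻¹) (hgrow'.le hb')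
  -- m
  have hm : g₂ * g * u⁻¹ ∈ normalizer ((B.map (cj u) : Subgroup G) : Set G) := by
    rw [mem_normalizer_iff_map_cj, map_cj_mul]
    have e : g₂ * g * u⁻¹ * u = g₂ * g := by group
    rw [e, ← map_cj_mul]
    exact hg₂
  have hUlt : B.map (cj u) < (S : Subgroup G) := by
    refine lt_of_le_of_ne hUS ?_
    intro h
    have h1 := card_map_cj B u
    have := card_lt_of_lt hBlt
    rw [h] at h1
    omega
  have hgrowU := Cfsg.Agent.Helper11.lt_inf_normalizer (S : Subgroup G) _ S.2 hUlt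
  have hcardR : Nat.card ↥B < Nat.card ↥((S : Subgroup G) ⊓ normalizer ((B.map (cj u) : Subgroup G) : Set G) : Subgroup G) := by
    have := card_lt_of_lt hgrowU
    have h1 := card_map_cj B u
    omega
  obtain ⟨-, hQ_R⟩ := big _ inf_le_left hcardR
  have hloc1 := ft_local S h𝓦 hloc hUS hUne hu2 hQ_R
  have hw : u * b * u⁻¹ ∈ B.map (cj u) := ⟨b, hb, rfl⟩
  have hmw : (g₂ * g * u⁻¹) * (u * b * u⁻¹) * (g₂ * g * u⁻¹)⁻¹ ∈ B.map (cj u) :=
    (Subgroup.mem_normalizer_iff.mp hm _).mp hw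
  have hstep2 : (u * b * u⁻¹) * ((g₂ * g * u⁻¹) * (u * b * u⁻¹) * (g₂ * g * u⁻¹)⁻¹)⁻¹ ∈
      ftarget 𝓦 (S : Subgroup G) := by
    apply hloc1
    refine ⟨hgrowU.le (mul_mem hw (inv_mem hmw)), ?_⟩
    have e : (u * b * u⁻¹) * ((g₂ * g * u⁻¹) * (u * b * u⁻¹) * (g₂ * g * u⁻¹)⁻¹)⁻¹ =
        ⁅u * b * u⁻¹, g₂ * g * u⁻¹⁆ := by
      rw [commutatorElement_def]; group
    rw [e]
    exact Subgroup.commutator_mem_commutator (Subgroup.le_normalizer hw) hm
  have := mul_mem (mul_mem hstep1 hstep2) (inv_mem hstep3)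
  have e : b * (u * b * u⁻¹)⁻¹ * ((u * b * u⁻¹) * ((g₂ * g * u⁻¹) * (u * b * u⁻¹) * (g₂ * g * u⁻¹)⁻¹)⁻¹) *
      ((g * b * g⁻¹) * (g₂ * (g * b * g⁻¹) * g₂⁻¹)⁻¹)⁻¹ = b * (g * b * g⁻¹)⁻¹ := by group
  rwa [e] at this

include h𝓦 hloc in
/-- local-to-global control of transfer for a set of conjugacy functors -/
theorem familyControlsTransfer_of_extremal : Cfsg.FamilyControlsTransferIn p 𝓦 ⊤ := by
  refine ⟨(S : Subgroup G), le_top, S.2, ?_, ?_⟩
  · rw [Subgroup.relIndex_top_right]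
    exact S.not_dvd_index
  · have htgt : (⨆ W ∈ 𝓦, (S : Subgroup G) ⊓ ⁅⊤ ⊓ normalizer ((W (S : Subgroup G) : Subgroup G) : Set G),
        ⊤ ⊓ normalizer ((W (S : Subgroup G) : Subgroup G) : Set G)⁆) = ftarget 𝓦 (S : Subgroup G) := by
      unfold ftarget
      simp only [top_inf_eq]
    rw [htgt]
    apply le_antisymm
    · have hfoc := Subgroup.commutator_inf_eq_focalSubgroup S
      rw [commutator_def, inf_comm] at hfoc
      rw [hfoc, Subgroup.focalSubgroup_def, Subgroup.closure_le]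
      rintro g₀ ⟨hg₀, x, hx, u, rfl⟩
      have hux : u * x * u⁻¹ ∈ (S : Subgroup G) := by
        have h1 : x⁻¹ * ⁅x, u⁆ ∈ (S : Subgroup G) := mul_mem (inv_mem hx) hg₀
        have e : x⁻¹ * ⁅x, u⁆ = (u * x * u⁻¹)⁻¹ := by
          rw [commutatorElement_def]; group
        rw [e] at h1
        simpa using inv_mem h1
      have hT : Subgroup.zpowers x ≤ (S : Subgroup G) := (Subgroup.zpowers_le).mpr hx
      have hTg : (Subgroup.zpowers x).map (cj u) ≤ (S : Subgroup G) := by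
        rw [MonoidHom.map_zpowers, Subgroup.zpowers_le]
        exact hux
      obtain ⟨hP, -⟩ := ft_main S h𝓦 hloc _ _ hT rfl
      have := hP u hTg x (Subgroup.mem_zpowers x)
      have e : ⁅x, u⁆ = x * (u * x * u⁻¹)⁻¹ := by
        rw [commutatorElement_def]; group
      rw [SetLike.mem_coe, e]
      exact this
    · unfold ftarget
      apply iSup₂_le
      intro W _
      exact inf_le_inf_left _ (Subgroup.commutator_mono le_top le_top)

end main

end Cfsg.Agent.Helper10
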