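import Mathlib

set_option autoImplicit false
set_option linter.unusedSectionVars false
set_option linter.unusedVariables false
set_option linter.style.haveILetI false

/-! # Orbit products: a `p`-group generated by elements with trivial norm

An abstract form of the transfer computation: `Ω` a finite `G`-set, `V` a commutative group with
`G`-action `ρ`, `H ω : V →* A` an equivariant family of homomorphisms.  If the `p`-group `G` is
generated by elements `v` whose norm `∏_{i<p} ρ(v⁻¹)^i` is trivial on `V`, then the product of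
`H ω m` over every `G`-invariant set without `G`-fixed points is trivial. -/

namespace Cfsg.Agent.Helper10

open Finset MulAction

section Norm

variable {V : Type*} [CommGroup V]

theorem prod_range_mul_eq_one (σ : MulAut V) (p : ℕ)
    (h : ∀ m : V, ∏ i ∈ range p, (σ ^ i) m = 1) :
    ∀ (k : ℕ) (m : V), ∏ i ∈ range (k * p), (σ ^ i) m = 1 := by
  intro k
  induction k with
  | zero => intro m; simp
  | succ k ih =>
    intro m
    rw [Nat.succ_mul, Finset.prod_range_add, ih, one_mul]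
    have e : ∀ i, (σ ^ (k * p + i)) m = (σ ^ i) ((σ ^ (k * p)) m) := by
      intro i
      rw [add_comm, pow_add]
      rfl
    simp_rw [e]
    exact h _

end Norm

section Orbit

variable {G : Type*} [Group G] {Ω : Type*} [MulAction G Ω] [DecidableEq Ω]
  {V : Type*} [CommGroup V] {A : Type*} [CommGroup A]
  (ρ : G →* MulAut V) (H : Ω → V →* A)

/-- the elements whose (inverse) norm of length `p` is trivial on `V` -/
def NormSet (p : ℕ) : Set G := {v | ∀ m : V, ∏ i ∈ range p, ((ρ v⁻¹) ^ i) m = 1}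

variable {ρ H}

/-- a `v`-invariant set without `v`-fixed points, `v` of `p`-power order with trivial norm -/
theorem cyclic_prod_eq_one (hH : ∀ (g : G) (ω : Ω) (m : V), H (g • ω) m = H ω (ρ g⁻¹ m))
    {p : ℕ} (hp : p.Prime) {v : G} (hv : v ∈ NormSet ρ p) {k : ℕ} (hvk : v ^ (p ^ k) = 1) :
    ∀ (n : ℕ) (E : Finset Ω), E.card = n → (∀ ω ∈ E, v • ω ∈ E) → (∀ ω ∈ E, v • ω ≠ ω) →
      ∀ m : V, ∏ ω ∈ E, H ω m = 1 := by
  intro n
  induction n using Nat.strong_induction_on with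
  | _ n ih =>
  intro E hE hinv hfix m
  rcases E.eq_empty_or_nonempty with rfl | ⟨ω₀, hω₀⟩
  · simp
  obtain ⟨N, hN⟩ : ∃ N, N = Function.minimalPeriod (v • ·) ω₀ := ⟨_, rfl⟩
  have hpowiff : ∀ j : ℕ, v ^ j • ω₀ = ω₀ ↔ N ∣ j := by
    intro j
    rw [hN]
    exact MulAction.pow_smul_eq_iff_minimalPeriod_dvd
  have hNdvd : N ∣ p ^ k := by
    rw [← hpowiff, hvk, one_smul]
  have hN1 : N ≠ 1 := by
    intro h1
    have := (hpowiff 1).2 (by rw [h1])
    rw [pow_one] at this
    exact hfix ω₀ hω₀ this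
  obtain ⟨j, hjk, hNj⟩ := (Nat.dvd_prime_pow hp).1 hNdvd
  have hj0 : j ≠ 0 := by
    rintro rfl
    exact hN1 (by rw [hNj, pow_zero])
  obtain ⟨c, hc⟩ : ∃ c, N = c * p := by
    obtain ⟨j', rfl⟩ := Nat.exists_eq_succ_of_ne_zero hj0
    exact ⟨p ^ j', by rw [hNj, pow_succ]⟩
  have hNpos : 0 < N := by
    rw [hNj]; exact pow_pos hp.pos j
  have hvN : v ^ N • ω₀ = ω₀ := (hpowiff N).2 dvd_rfl
  -- the orbit
  have hmod : ∀ i : ℕ, v ^ i • ω₀ = v ^ (i % N) • ω₀ := by
    intro i
    conv_lhs => rw [← Nat.mod_add_div i N]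
    rw [pow_add, mul_smul]
    congr 1
    rw [(hpowiff _).2 (Dvd.intro _ rfl)]
  have hkey : ∀ a b : ℕ, a < N → b < N → a ≤ b → v ^ a • ω₀ = v ^ b • ω₀ → a = b := by
    intro a b ha hb hle hab
    have h1 : v ^ (b - a) • ω₀ = ω₀ := by
      have e : v ^ b = v ^ a * v ^ (b - a) := by
        rw [← pow_add]; congr 1; omega
      rw [e, mul_smul] at hab
      exact (smul_left_cancel _ hab).symm
    have h2 := (hpowiff _).1 h1
    have h3 : b - a < N := by omega
    have h4 := Nat.eq_zero_of_dvd_of_lt h2 h3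
    omega
  have hinj : Set.InjOn (fun j : ℕ => v ^ j • ω₀) (range N : Set ℕ) := by
    intro a ha b hb hab
    simp only [Finset.coe_range, Set.mem_Iio] at ha hb
    beta_reduce at hab
    rcases le_total a b with hle | hle
    · exact hkey a b ha hb hle hab
    · exact (hkey b a hb ha hle hab.symm).symm
  obtain ⟨O, hO⟩ : ∃ O : Finset Ω, O = (range N).image (fun j : ℕ => v ^ j • ω₀) := ⟨_, rfl⟩
  have hmemO : ∀ i : ℕ, v ^ i • ω₀ ∈ O := by
    intro i
    rw [hO, Finset.mem_image]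
    exact ⟨i % N, Finset.mem_range.2 (Nat.mod_lt _ hNpos), (hmod i).symm⟩
  have hpowE : ∀ i : ℕ, v ^ i • ω₀ ∈ E := by
    intro i
    induction i with
    | zero => rw [pow_zero, one_smul]; exact hω₀
    | succ i ih' =>
      rw [pow_succ', mul_smul]
      exact hinv _ ih'
  have hOE : O ⊆ E := by
    intro ω hω
    rw [hO, Finset.mem_image] at hω
    obtain ⟨i, _, rfl⟩ := hω
    exact hpowE i
  have hOne : O.Nonempty := ⟨ω₀, by have := hmemO 0; rwa [pow_zero, one_smul] at this⟩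
  have hprodO : ∏ ω ∈ O, H ω m = 1 := by
    rw [hO, Finset.prod_image hinj]
    have e : ∀ i ∈ range N, H (v ^ i • ω₀) m = H ω₀ (((ρ v⁻¹) ^ i) m) := by
      intro i _
      rw [hH, ← map_pow, inv_pow]
    rw [Finset.prod_congr rfl e, ← map_prod, hc, prod_range_mul_eq_one _ p hv c m, map_one]
  have hE' : ∀ ω ∈ E \ O, v • ω ∈ E \ O := by
    intro ω hω
    rw [Finset.mem_sdiff] at hω ⊢
    refine ⟨hinv ω hω.1, ?_⟩
    intro hmem
    apply hω.2
    rw [hO, Finset.mem_image] at hmem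
    obtain ⟨i, _, hi⟩ := hmem
    have h1 : v • (v ^ (i + (N - 1)) • ω₀) = v • ω := by
      rw [← mul_smul, ← pow_succ', ← hi]
      have e : i + (N - 1) + 1 = i + N := by omega
      rw [e, pow_add, mul_smul, hvN]
    rw [← smul_left_cancel _ h1]
    exact hmemO _
  have hlt : (E \ O).card < n := by
    rw [← hE]
    exact Finset.card_lt_card (Finset.sdiff_ssubset hOE hOne)
  have h1 := ih _ hlt (E \ O) rfl hE' (fun ω hω => hfix ω (Finset.mem_sdiff.1 hω).1) m
  rw [← Finset.prod_sdiff hOE, h1, hprodO, one_mul]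

/-- a finite `p`-group generated by elements with trivial norm: invariant sets without fixed points -/
theorem pgroup_prod_eq_one [Finite G] {p : ℕ} [Fact p.Prime] (hG : IsPGroup p G)
    (hH : ∀ (g : G) (ω : Ω) (m : V), H (g • ω) m = H ω (ρ g⁻¹ m))
    (hgen : Subgroup.closure (NormSet ρ p) = ⊤) :
    ∀ (n : ℕ) (E : Finset Ω), E.card = n → (∀ (g : G), ∀ ω ∈ E, g • ω ∈ E) →
      (∀ ω ∈ E, ∃ g : G, g • ω ≠ ω) → ∀ m : V, ∏ ω ∈ E, H ω m = 1 := by
  classical
  have hp : p.Prime := Fact.out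
  intro n
  induction n using Nat.strong_induction_on with
  | _ n ih =>
  intro E hE hinv hfix m
  rcases E.eq_empty_or_nonempty with rfl | ⟨ω₀, hω₀⟩
  · simp
  have hRtop : MulAction.stabilizer G ω₀ ≠ ⊤ := by
    intro h
    obtain ⟨g, hg⟩ := hfix ω₀ hω₀
    apply hg
    have : g ∈ MulAction.stabilizer G ω₀ := by rw [h]; trivial
    exact this
  obtain ⟨R₁, hR₁, hRR₁⟩ := (eq_top_or_exists_le_coatom (MulAction.stabilizer G ω₀)).resolve_left hRtop
  have hnil : Group.IsNilpotent G := hG.isNilpotent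
  have hR₁n : R₁.Normal :=
    Subgroup.NormalizerCondition.normal_of_coatom _ Group.normalizerCondition_of_isNilpotent hR₁
  obtain ⟨v, hvD, hvR⟩ : ∃ v ∈ NormSet ρ p, v ∉ R₁ := by
    by_contra hcon
    push Not at hcon
    have : Subgroup.closure (NormSet ρ p) ≤ R₁ := (Subgroup.closure_le _).2 hcon
    rw [hgen, top_le_iff] at this
    exact hR₁.1 this
  obtain ⟨k, hvk⟩ := hG v
  obtain ⟨O, hO⟩ : ∃ O : Finset Ω, O = E.filter (fun ω => ω ∈ MulAction.orbit G ω₀) := ⟨_, rfl⟩
  have hOE : O ⊆ E := by rw [hO]; exact Finset.filter_subset _ _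
  have hOne : O.Nonempty := ⟨ω₀, by rw [hO, Finset.mem_filter]; exact ⟨hω₀, MulAction.mem_orbit_self _⟩⟩
  have hOinv : ∀ ω ∈ O, v • ω ∈ O := by
    intro ω hω
    rw [hO, Finset.mem_filter] at hω ⊢
    refine ⟨hinv v ω hω.1, ?_⟩
    obtain ⟨g, rfl⟩ := hω.2
    exact ⟨v * g, mul_smul _ _ _⟩
  have hOfix : ∀ ω ∈ O, v • ω ≠ ω := by
    intro ω hω hvω
    rw [hO, Finset.mem_filter] at hω
    obtain ⟨g, rfl⟩ := hω.2
    apply hvR
    have h1 : g⁻¹ * v * g ∈ MulAction.stabilizer G ω₀ := by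
      rw [MulAction.mem_stabilizer_iff, mul_smul, mul_smul]
      beta_reduce at hvω
      rw [hvω, inv_smul_smul]
    have h2 := hR₁n.conj_mem _ (hRR₁ h1) g
    have e : g * (g⁻¹ * v * g) * g⁻¹ = v := by group
    rw [e] at h2
    exact h2
  have hprodO : ∏ ω ∈ O, H ω m = 1 :=
    cyclic_prod_eq_one hH hp hvD hvk _ O rfl hOinv hOfix m
  have hE' : ∀ (g : G), ∀ ω ∈ E \ O, g • ω ∈ E \ O := by
    intro g ω hω
    rw [Finset.mem_sdiff] at hω ⊢
    refine ⟨hinv g ω hω.1, ?_⟩
    intro hmem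
    apply hω.2
    rw [hO, Finset.mem_filter] at hmem ⊢
    refine ⟨hω.1, ?_⟩
    obtain ⟨h, hh⟩ := hmem.2
    refine ⟨g⁻¹ * h, ?_⟩
    beta_reduce at hh ⊢
    rw [mul_smul, hh, inv_smul_smul]
  have hlt : (E \ O).card < n := by
    rw [← hE]
    exact Finset.card_lt_card (Finset.sdiff_ssubset hOE hOne)
  have h1 := ih _ hlt (E \ O) rfl hE' (fun ω hω => hfix ω (Finset.mem_sdiff.1 hω).1) m
  rw [← Finset.prod_sdiff hOE, h1, hprodO, one_mul]

/-- if `ω₁` is the only fixed point, the total product is the value at `ω₁` -/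
theorem prod_univ_eq_of_unique_fixed [Fintype Ω] [Finite G] {p : ℕ} [Fact p.Prime]
    (hG : IsPGroup p G)
    (hH : ∀ (g : G) (ω : Ω) (m : V), H (g • ω) m = H ω (ρ g⁻¹ m))
    (hgen : Subgroup.closure (NormSet ρ p) = ⊤) (ω₁ : Ω) (hω₁ : ∀ g : G, g • ω₁ = ω₁)
    (huniq : ∀ ω : Ω, (∀ g : G, g • ω = ω) → ω = ω₁) (m : V) :
    ∏ ω, H ω m = H ω₁ m := by
  rw [← Finset.mul_prod_erase Finset.univ _ (Finset.mem_univ ω₁)]
  have h1 := pgroup_prod_eq_one hG hH hgen _ (Finset.univ.erase ω₁) rfl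
    (by
      intro g ω hω
      rw [Finset.mem_erase] at hω ⊢
      refine ⟨?_, Finset.mem_univ _⟩
      intro h
      apply hω.1
      have : ω = g⁻¹ • ω₁ := by rw [← h, inv_smul_smul]
      rw [this, hω₁])
    (by
      intro ω hω
      rw [Finset.mem_erase] at hω
      by_contra hcon
      push Not at hcon
      exact hω.1 (huniq ω hcon)) m
  rw [h1, mul_one]

end Orbit

end Cfsg.Agent.Helper10
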