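import Mathlib
import Cfsg.Agent.Helper10.OrbitNorm

set_option autoImplicit false
set_option linter.unusedSectionVars false
set_option linter.unusedVariables false

/-! # Orbit products, vector form

`Ω` a finite `G`-set, `V` a commutative group with `G`-action `ρ`, `x : Ω → V` an equivariant family.
If the `p`-group `G` is generated by elements with trivial norm on `V` and has exactly one fixed point
`ω₁` on `Ω`, then `∏ ω, x ω = x ω₁`.  Deduced from the scalar form by letting `G` act on `V →* V`. -/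

namespace Cfsg.Agent.Helper10

open Finset MulAction

section DualRho

variable {G : Type*} [Group G] {V : Type*} [CommGroup V] (ρ : G →* MulAut V)

/-- the action on `V →* V` by precomposition with the inverse -/
def dualRho : G →* MulAut (V →* V) where
  toFun g :=
    { toFun := fun χ => χ.comp (ρ g⁻¹).toMonoidHom
      invFun := fun χ => χ.comp (ρ g).toMonoidHom
      left_inv := by intro χ; ext m; simp
      right_inv := by intro χ; ext m; simp
      map_mul' := by intro χ₁ χ₂; ext m; simp }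
  map_one' := by ext χ m; simp
  map_mul' := by intro g h; ext χ m; simp [mul_inv_rev]

theorem dualRho_apply (g : G) (χ : V →* V) (m : V) : dualRho ρ g χ m = χ (ρ g⁻¹ m) := rfl

theorem dualRho_pow_apply (g : G) (χ : V →* V) (m : V) :
    ∀ i : ℕ, ((dualRho ρ g) ^ i) χ m = χ (((ρ g⁻¹) ^ i) m) := by
  intro i
  induction i generalizing χ with
  | zero => simp
  | succ i ih =>
    rw [pow_succ, MulAut.mul_apply, ih, dualRho_apply, pow_succ', MulAut.mul_apply]

theorem normSet_dualRho {p : ℕ} {v : G} (hv : v⁻¹ ∈ NormSet ρ p) : v ∈ NormSet (dualRho ρ) p := by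
  intro χ
  ext m
  rw [MonoidHom.finsetProd_apply, MonoidHom.one_apply]
  have e : ∀ i ∈ range p, (((dualRho ρ v⁻¹) ^ i) χ) m = χ (((ρ (v⁻¹)⁻¹) ^ i) m) :=
    fun i _ => dualRho_pow_apply ρ v⁻¹ χ m i
  rw [Finset.prod_congr rfl e, ← map_prod, hv m, map_one]

variable {ρ}

theorem prod_univ_eq_of_unique_fixed_vec {Ω : Type*} [MulAction G Ω] [DecidableEq Ω] [Fintype Ω]
    [Finite G] {p : ℕ} [Fact p.Prime] (hG : IsPGroup p G) (x : Ω → V)
    (hx : ∀ (g : G) (ω : Ω), x (g • ω) = ρ g (x ω))
    (hgen : Subgroup.closure (NormSet ρ p) = ⊤) (ω₁ : Ω) (hω₁ : ∀ g : G, g • ω₁ = ω₁)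
    (huniq : ∀ ω : Ω, (∀ g : G, g • ω = ω) → ω = ω₁) :
    ∏ ω, x ω = x ω₁ := by
  have hgen' : Subgroup.closure (NormSet (dualRho ρ) p) = ⊤ := by
    rw [eq_top_iff, ← hgen, ← Subgroup.closure_inv]
    apply Subgroup.closure_mono
    intro v hv
    exact normSet_dualRho ρ (Set.mem_inv.1 hv)
  have h := prod_univ_eq_of_unique_fixed (ρ := dualRho ρ) (H := fun ω => MonoidHom.eval (x ω)) hG
    (by
      intro g ω χ
      show χ (x (g • ω)) = (dualRho ρ g⁻¹ χ) (x ω)
      rw [hx, dualRho_apply, inv_inv]) hgen' ω₁ hω₁ huniq (MonoidHom.id V)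
  simpa using h

end DualRho

end Cfsg.Agent.Helper10
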