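import Mathlib
import Cfsg.Agent.Helper10.ChiefAction
import Cfsg.Agent.Helper10.OrbitNorm
import Cfsg.Agent.Helper10.SylowSub
import Cfsg.Agent.Helper14.PCore
import Cfsg.Agent.Helper14.Conj

set_option autoImplicit false
set_option linter.unusedSectionVars false
set_option linter.unusedVariables false
set_option linter.style.haveILetI false

/-! # A transfer lemma on chief factors

`M` contains a Sylow `p`-subgroup `S` of `G` and every proper subgroup of `G` over `S`; `ϕ : M →* A`;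
`X / Y` is an elementary abelian normal section of `G` inside `M` on which `ϕ` does not vanish although
the transfer of `ϕ` does.  Then every `u ∈ S` with `[X, u; p - 1] ≤ Y` lies in `O_p(G)`. -/

namespace Cfsg.Agent.Helper10

open Subgroup MulAction Cfsg.Agent.Helper14
open scoped Pointwise IsMulCommutative

section TransferFormula

variable {G : Type*} [Group G] {M : Subgroup G} {A : Type*} [CommGroup A]

theorem conj_out_mem {X : Subgroup G} [hX : X.Normal] (hXM : X ≤ M) {x : G} (hx : x ∈ X) (g : G) :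
    g⁻¹ * x * g ∈ M := by
  apply hXM
  have := hX.conj_mem x hx g⁻¹
  simpa using this

/-- transfer of an element of a normal subgroup contained in `M` -/
theorem transfer_eq_prod_conj [M.FiniteIndex] (ϕ : ↥M →* A) {X : Subgroup G} [hX : X.Normal]
    (hXM : X ≤ M) {x : G} (hx : x ∈ X) :
    letI := M.fintypeQuotientOfFiniteIndex
    MonoidHom.transfer ϕ x = ∏ q : G ⧸ M, ϕ ⟨(q.out)⁻¹ * x * q.out, conj_out_mem hXM hx _⟩ := by
  letI := M.fintypeQuotientOfFiniteIndex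
  let T₀ : M.LeftTransversal :=
    ⟨Set.range (Quotient.out : G ⧸ M → G), isComplement_range_left QuotientGroup.out_eq'⟩
  rw [MonoidHom.transfer_def ϕ T₀ x]
  unfold leftTransversals.diff
  apply Finset.prod_congr rfl
  intro q _
  congr 1
  apply Subtype.ext
  simp only
  have h1 : ((T₀.2.leftQuotientEquiv q : G)) = q.out :=
    IsComplement.leftQuotientEquiv_apply QuotientGroup.out_eq' q
  have hfix : x⁻¹ • q = q := by
    obtain ⟨g, rfl⟩ := QuotientGroup.mk_surjective q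
    rw [MulAction.Quotient.smul_mk, QuotientGroup.eq]
    have := conj_out_mem hXM hx g
    have e : (x⁻¹ • g)⁻¹ * g = g⁻¹ * x * g := by
      rw [smul_eq_mul]; group
    rw [e]; exact this
  have h2 : (((x • T₀).2.leftQuotientEquiv q : G)) = x * q.out := by
    rw [smul_apply_eq_smul_apply_inv_smul, hfix, h1, smul_eq_mul]
  rw [h1, h2, mul_assoc]

end TransferFormula

section Lift

variable {G : Type*} [Group G] {M : Subgroup G} (X Y : Subgroup G) [hXn : X.Normal] [hYn : Y.Normal]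
  {A : Type*} [CommGroup A] (ϕ : ↥M →* A) (hXM : X ≤ M)

/-- `x ↦ ϕ(g⁻¹ x g)` on `X` -/
noncomputable def conjHom (g : G) : ↥X →* A :=
  ϕ.comp ((Subgroup.inclusion hXM).comp (MulAut.conjNormal (H := X) g⁻¹).toMonoidHom)

theorem conjHom_apply (g : G) (x : ↥X) :
    conjHom X ϕ hXM g x = ϕ ⟨g⁻¹ * (x : G) * g, conj_out_mem hXM x.2 g⟩ := by
  unfold conjHom
  simp only [MonoidHom.comp_apply]
  congr 1
  apply Subtype.ext
  simp

/-- the projection of `X` onto `XY/Y` -/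
noncomputable def piX : ↥X →* ↥(Ub X Y) := (QuotientGroup.mk' Y).subgroupMap X

theorem piX_coe (x : ↥X) : ((piX X Y x : ↥(Ub X Y)) : G ⧸ Y) = QuotientGroup.mk' Y (x : G) := rfl

theorem piX_surjective : Function.Surjective (piX X Y) :=
  MonoidHom.subgroupMap_surjective _ _

variable (hϕY : ∀ (y : G) (hy : y ∈ Y) (hyM : y ∈ M), ϕ ⟨y, hyM⟩ = 1)

include hϕY in
theorem piX_ker_le (g : G) : (piX X Y).ker ≤ (conjHom X ϕ hXM g).ker := by
  intro x hx
  rw [MonoidHom.mem_ker] at hx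
  apply MonoidHom.mem_ker.2
  have hxY : (x : G) ∈ Y := by
    have h1 := congrArg Subtype.val hx
    rw [piX_coe] at h1
    exact (QuotientGroup.eq_one_iff _).1 h1
  rw [conjHom_apply]
  apply hϕY
  have := hYn.conj_mem _ hxY g⁻¹
  simpa using this

/-- `m ↦ ϕ(g⁻¹ m g)` on the section `XY/Y` -/
noncomputable def liftHom (g : G) : ↥(Ub X Y) →* A :=
  (piX X Y).liftOfSurjective (piX_surjective X Y) ⟨conjHom X ϕ hXM g, piX_ker_le X Y ϕ hXM hϕY g⟩

theorem liftHom_apply (g : G) (x : ↥X) :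
    liftHom X Y ϕ hXM hϕY g (piX X Y x) = ϕ ⟨g⁻¹ * (x : G) * g, conj_out_mem hXM x.2 g⟩ := by
  rw [← conjHom_apply]
  exact MonoidHom.liftOfRightInverse_comp_apply _ _ _ _ _

theorem liftHom_mul (g b : G) (m : ↥(Ub X Y)) :
    liftHom X Y ϕ hXM hϕY (g * b) m = liftHom X Y ϕ hXM hϕY b (rhoZ X Y g⁻¹ m) := by
  obtain ⟨x, rfl⟩ := piX_surjective X Y m
  have hx' : g⁻¹ * (x : G) * g ∈ X := by
    have := hXn.conj_mem _ x.2 g⁻¹
    simpa using this
  have e : rhoZ X Y g⁻¹ (piX X Y x) = piX X Y ⟨g⁻¹ * (x : G) * g, hx'⟩ := by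
    apply Subtype.ext
    rw [rhoZ_apply, piX_coe, piX_coe]
    simp only [map_mul, map_inv, inv_inv]
  rw [e, liftHom_apply, liftHom_apply]
  congr 1
  apply Subtype.ext
  simp only
  group

theorem liftHom_coset (a b : G) (h : a⁻¹ * b ∈ M) :
    liftHom X Y ϕ hXM hϕY b = liftHom X Y ϕ hXM hϕY a := by
  ext m
  obtain ⟨x, rfl⟩ := piX_surjective X Y m
  rw [liftHom_apply, liftHom_apply]
  have e : (⟨b⁻¹ * (x : G) * b, conj_out_mem hXM x.2 b⟩ : ↥M) =
      (⟨a⁻¹ * b, h⟩ : ↥M)⁻¹ * ⟨a⁻¹ * (x : G) * a, conj_out_mem hXM x.2 a⟩ * ⟨a⁻¹ * b, h⟩ := by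
    apply Subtype.ext
    simp only [Subgroup.coe_mul, Subgroup.coe_inv]
    group
  rw [e, map_mul, map_mul, map_inv, mul_comm, mul_inv_cancel_left]

theorem liftHom_mem (a : G) (ha : a ∈ M) (x : ↥X) :
    liftHom X Y ϕ hXM hϕY a (piX X Y x) = ϕ ⟨(x : G), hXM x.2⟩ := by
  have h1 := liftHom_coset X Y ϕ hXM hϕY 1 a (by simpa using ha)
  rw [h1, liftHom_apply]
  congr 1
  apply Subtype.ext
  simp

end Lift

section Main

variable {G : Type*} [Group G] [Finite G] {p : ℕ} [Fact p.Prime]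
  {M : Subgroup G} (X Y : Subgroup G) [hXn : X.Normal] [hYn : Y.Normal]
  {A : Type*} [CommGroup A] (ϕ : ↥M →* A) (hXM : X ≤ M)

theorem conj_mem_closure {K : Set G} {g : G} (hK : ∀ k ∈ K, g * k * g⁻¹ ∈ Subgroup.closure K) :
    ∀ d ∈ Subgroup.closure K, g * d * g⁻¹ ∈ Subgroup.closure K := by
  intro d hd
  induction hd using Subgroup.closure_induction with
  | mem x hx => exact hK x hx
  | one => simp
  | mul x y _ _ hx hy =>
    have e : g * (x * y) * g⁻¹ = (g * x * g⁻¹) * (g * y * g⁻¹) := by group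
    rw [e]
    exact Subgroup.mul_mem _ hx hy
  | inv x _ hx =>
    have e : g * x⁻¹ * g⁻¹ = (g * x * g⁻¹)⁻¹ := by group
    rw [e]
    exact Subgroup.inv_mem _ hx

theorem normSet_conj [hcomm : IsMulCommutative ↥(Ub X Y)] {v : G}
    (hv : v ∈ NormSet (rhoZ X Y) p) (g : G) : g * v * g⁻¹ ∈ NormSet (rhoZ X Y) p := by
  intro m
  have e : rhoZ X Y (g * v * g⁻¹)⁻¹ = rhoZ X Y g * rhoZ X Y v⁻¹ * (rhoZ X Y g)⁻¹ := by
    rw [← map_inv, ← map_mul, ← map_mul]
    congr 1
    group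
  have e2 : ∀ i : ℕ, ((rhoZ X Y (g * v * g⁻¹)⁻¹) ^ i) m =
      rhoZ X Y g (((rhoZ X Y v⁻¹) ^ i) ((rhoZ X Y g)⁻¹ m)) := by
    intro i
    rw [e, conj_pow]
    rfl
  simp_rw [e2]
  rw [← map_prod, hv, map_one]

theorem mem_pCore_of_transfer (S : Sylow p G) (hSM : (S : Subgroup G) ≤ M)
    (hmax : ∀ H : Subgroup G, (S : Subgroup G) ≤ H → H ≠ ⊤ → H ≤ M)
    [hcomm : IsMulCommutative ↥(Ub X Y)] (hexp : ∀ m : ↥(Ub X Y), m ^ p = 1)
    (hϕY : ∀ (y : G) (hy : y ∈ Y) (hyM : y ∈ M), ϕ ⟨y, hyM⟩ = 1)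
    (htr : ∀ x ∈ X, MonoidHom.transfer ϕ x = 1)
    (hne : ∃ (x : G) (hx : x ∈ X), ϕ ⟨x, hXM hx⟩ ≠ 1)
    (u : G) (huS : u ∈ (S : Subgroup G))
    (hiter : Cfsg.iterCommutator X (Subgroup.zpowers u) (p - 1) ≤ Y) : u ∈ Cfsg.pCore p G := by
  classical
  have hp : p.Prime := Fact.out
  letI := M.fintypeQuotientOfFiniteIndex
  -- `u` has trivial norm
  have hu𝒟 : u ∈ NormSet (rhoZ X Y) p := by
    have hiter' : Cfsg.iterCommutator X (Subgroup.zpowers u⁻¹) (p - 1) ≤ Y := by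
      rw [Subgroup.zpowers_inv]; exact hiter
    exact norm_eq_one_of_iterate hp hexp (rhoZ X Y u⁻¹) (iterate_eq_one_of_iter_le X Y hiter')
  have hDS : Subgroup.closure (NormSet (rhoZ X Y) p ∩ ((S : Subgroup G) : Set G)) ≤ (S : Subgroup G) :=
    (Subgroup.closure_le _).2 Set.inter_subset_right
  have hDp : IsPGroup p ↥(Subgroup.closure (NormSet (rhoZ X Y) p ∩ ((S : Subgroup G) : Set G))) :=
    S.2.to_le hDS
  have huD : u ∈ Subgroup.closure (NormSet (rhoZ X Y) p ∩ ((S : Subgroup G) : Set G)) :=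
    Subgroup.subset_closure ⟨hu𝒟, huS⟩
  by_cases hDn : (Subgroup.closure (NormSet (rhoZ X Y) p ∩ ((S : Subgroup G) : Set G))).Normal
  · exact Cfsg.Agent.Helper14.le_pCore p hDn hDp huD
  exfalso
  have hNtop : normalizer ((Subgroup.closure (NormSet (rhoZ X Y) p ∩ ((S : Subgroup G) : Set G)) :
      Subgroup G) : Set G) ≠ ⊤ := fun h => hDn (Subgroup.normalizer_eq_top_iff.1 h)
  -- conjugates staying in `S` stay in `D`
  have hwc : ∀ n : G, (∀ v ∈ NormSet (rhoZ X Y) p ∩ ((S : Subgroup G) : Set G),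
      n * v * n⁻¹ ∈ (S : Subgroup G)) →
      n ∈ normalizer ((Subgroup.closure (NormSet (rhoZ X Y) p ∩ ((S : Subgroup G) : Set G)) :
        Subgroup G) : Set G) := by
    intro n hn
    have h1 : ∀ d ∈ Subgroup.closure (NormSet (rhoZ X Y) p ∩ ((S : Subgroup G) : Set G)),
        n * d * n⁻¹ ∈ Subgroup.closure (NormSet (rhoZ X Y) p ∩ ((S : Subgroup G) : Set G)) :=
      conj_mem_closure (fun v hv => Subgroup.subset_closure ⟨normSet_conj X Y hv.1 n, hn v hv⟩)
    rw [mem_normalizer_iff_map_cj]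
    apply Subgroup.eq_of_le_of_card_ge
    · rintro _ ⟨d, hd, rfl⟩
      exact h1 d hd
    · rw [Subgroup.card_map_of_injective (cj_injective n)]
  have hSN : (S : Subgroup G) ≤ normalizer ((Subgroup.closure (NormSet (rhoZ X Y) p ∩
      ((S : Subgroup G) : Set G)) : Subgroup G) : Set G) := by
    intro s hs
    apply hwc
    intro v hv
    exact Subgroup.mul_mem _ (Subgroup.mul_mem _ hs hv.2) (Subgroup.inv_mem _ hs)
  have hNM := hmax _ hSN hNtop
  -- the action of `D` on `G ⧸ M`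
  have hH : ∀ (d : ↥(Subgroup.closure (NormSet (rhoZ X Y) p ∩ ((S : Subgroup G) : Set G))))
      (ω : G ⧸ M) (m : ↥(Ub X Y)),
      liftHom X Y ϕ hXM hϕY (d • ω).out m =
        liftHom X Y ϕ hXM hϕY ω.out (((rhoZ X Y).comp (Subgroup.subtype _)) d⁻¹ m) := by
    intro d ω m
    have h1 : ((d : G) * ω.out)⁻¹ * (d • ω).out ∈ M := by
      rw [← QuotientGroup.eq, QuotientGroup.out_eq']
      have e : d • ω = (d : G) • ((ω.out : G) : G ⧸ M) := by
        rw [QuotientGroup.out_eq']; rfl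
      rw [e]; rfl
    rw [liftHom_coset X Y ϕ hXM hϕY _ _ h1, liftHom_mul]
    rfl
  have hgen : Subgroup.closure (NormSet ((rhoZ X Y).comp
      (Subgroup.subtype (Subgroup.closure (NormSet (rhoZ X Y) p ∩ ((S : Subgroup G) : Set G))))) p) = ⊤ := by
    rw [eq_top_iff]
    rintro ⟨d, hd⟩ -
    induction hd using Subgroup.closure_induction with
    | mem x hx =>
      apply Subgroup.subset_closure
      exact hx.1
    | one => exact Subgroup.one_mem _
    | mul x y hx hy ihx ihy => exact Subgroup.mul_mem _ ihx ihy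
    | inv x hx ihx => exact Subgroup.inv_mem _ ihx
  have hfix1 : ∀ d : ↥(Subgroup.closure (NormSet (rhoZ X Y) p ∩ ((S : Subgroup G) : Set G))),
      d • ((1 : G) : G ⧸ M) = ((1 : G) : G ⧸ M) := by
    intro d
    change (((d : G) * 1 : G) : G ⧸ M) = _
    rw [QuotientGroup.eq]
    have := hSM (hDS d.2)
    simpa using M.inv_mem this
  have huniq : ∀ ω : G ⧸ M,
      (∀ d : ↥(Subgroup.closure (NormSet (rhoZ X Y) p ∩ ((S : Subgroup G) : Set G))), d • ω = ω) →
      ω = ((1 : G) : G ⧸ M) := by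
    intro ω hω
    obtain ⟨g, rfl⟩ := QuotientGroup.mk_surjective ω
    have h1 : ∀ d ∈ Subgroup.closure (NormSet (rhoZ X Y) p ∩ ((S : Subgroup G) : Set G)),
        g⁻¹ * d * g ∈ M := by
      intro d hd
      have h2 := hω ⟨d, hd⟩
      change ((d * g : G) : G ⧸ M) = (g : G ⧸ M) at h2
      rw [QuotientGroup.eq] at h2
      have e : g⁻¹ * d * g = ((d * g)⁻¹ * g)⁻¹ := by group
      rw [e]
      exact M.inv_mem h2
    have hRp : IsPGroup p ↥((Subgroup.closure (NormSet (rhoZ X Y) p ∩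
        ((S : Subgroup G) : Set G))).map (cj g⁻¹)) := hDp.map _
    have hRM : (Subgroup.closure (NormSet (rhoZ X Y) p ∩ ((S : Subgroup G) : Set G))).map (cj g⁻¹) ≤ M := by
      rintro _ ⟨d, hd, rfl⟩
      rw [cj_apply, inv_inv]
      exact h1 d hd
    obtain ⟨c, hcM, hc⟩ := exists_conj_le_sylow_of_le S M _ hSM hRp hRM
    have hn : c * g⁻¹ ∈ normalizer ((Subgroup.closure (NormSet (rhoZ X Y) p ∩
        ((S : Subgroup G) : Set G)) : Subgroup G) : Set G) := by
      apply hwc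
      intro v hv
      have h3 := hc (g⁻¹ * v * g) ⟨v, Subgroup.subset_closure hv, by rw [cj_apply, inv_inv]⟩
      have e : c * g⁻¹ * v * (c * g⁻¹)⁻¹ = c * (g⁻¹ * v * g) * c⁻¹ := by group
      rw [e]; exact h3
    have hgM : g⁻¹ ∈ M := by
      have := M.mul_mem (M.inv_mem hcM) (hNM hn)
      simpa using this
    rw [QuotientGroup.eq]
    simpa using M.inv_mem hgM
  obtain ⟨x, hx, hxne⟩ := hne
  apply hxne
  have h1 := prod_univ_eq_of_unique_fixed (p := p)
    (ρ := (rhoZ X Y).comp (Subgroup.subtype (Subgroup.closure (NormSet (rhoZ X Y) p ∩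
      ((S : Subgroup G) : Set G)))))
    (H := fun ω : G ⧸ M => liftHom X Y ϕ hXM hϕY ω.out) hDp hH hgen ((1 : G) : G ⧸ M) hfix1 huniq
    (piX X Y ⟨x, hx⟩)
  beta_reduce at h1
  have h2 := transfer_eq_prod_conj ϕ hXM hx
  rw [htr x hx] at h2
  have h3 : ∀ ω : G ⧸ M, liftHom X Y ϕ hXM hϕY ω.out (piX X Y ⟨x, hx⟩) =
      ϕ ⟨(ω.out)⁻¹ * x * ω.out, conj_out_mem hXM hx _⟩ := fun ω => liftHom_apply X Y ϕ hXM hϕY _ _
  rw [Finset.prod_congr rfl (fun ω _ => h3 ω)] at h1
  have h4 : (((1 : G) : G ⧸ M).out) ∈ M := by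
    have : (1 : G)⁻¹ * (((1 : G) : G ⧸ M).out) ∈ M := by
      rw [← QuotientGroup.eq, QuotientGroup.out_eq']
    simpa using this
  rw [liftHom_mem X Y ϕ hXM hϕY _ h4] at h1
  rw [← h1]
  convert h2.symm

end Main

end Cfsg.Agent.Helper10
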