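import Mathlib
import Cfsg.Agent.Helper10.TransferChief
import Cfsg.Agent.Helper10.OrbitVec

set_option autoImplicit false
set_option linter.unusedSectionVars false
set_option linter.unusedVariables false
set_option linter.style.haveILetI false

/-! # A fixed-vector lemma on chief factors

`M` contains a Sylow `p`-subgroup `S` of `G` and every proper subgroup of `G` over `S`;
`X / Y` is an elementary abelian normal section of `G`, and `m₀ ≠ 1` is an element of `X / Y` fixed by
`M` whose norm over `G / M` is trivial.  Then every `u ∈ S` with `[X, u; p - 1] ≤ Y` lies in `O_p(G)`. -/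

namespace Cfsg.Agent.Helper10

open Subgroup MulAction Cfsg.Agent.Helper14
open scoped Pointwise IsMulCommutative

variable {G : Type*} [Group G] [Finite G] {p : ℕ} [Fact p.Prime]
  {M : Subgroup G} (X Y : Subgroup G) [hXn : X.Normal] [hYn : Y.Normal]

theorem mem_pCore_of_fixed [Fintype (G ⧸ M)] (S : Sylow p G) (hSM : (S : Subgroup G) ≤ M)
    (hmax : ∀ H : Subgroup G, (S : Subgroup G) ≤ H → H ≠ ⊤ → H ≤ M)
    [hcomm : IsMulCommutative ↥(Ub X Y)] (hexp : ∀ m : ↥(Ub X Y), m ^ p = 1)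
    (m₀ : ↥(Ub X Y)) (hm₀ : m₀ ≠ 1) (hfixM : ∀ a ∈ M, rhoZ X Y a m₀ = m₀)
    (hprod : ∏ q : G ⧸ M, rhoZ X Y q.out m₀ = 1)
    (u : G) (huS : u ∈ (S : Subgroup G))
    (hiter : Cfsg.iterCommutator X (Subgroup.zpowers u) (p - 1) ≤ Y) : u ∈ Cfsg.pCore p G := by
  classical
  have hp : p.Prime := Fact.out
  -- `u` has trivial norm
  have hu𝒟 : u ∈ NormSet (rhoZ X Y) p := by
    have hiter' : Cfsg.iterCommutator X (Subgroup.zpowers u⁻¹) (p - 1) ≤ Y := by
      rw [Subgroup.zpowers_inv]; exact hiter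
    exact norm_eq_one_of_iterate hp hexp (rhoZ X Y u⁻¹) (iterate_eq_one_of_iter_le X Y hiter')
  have hDS : Subgroup.closure (NormSet (rhoZ X Y) p ∩ ((S : Subgroup G) : Set G)) ≤ (S : Subgroup G) :=
    (Subgroup.closure_le _).2 Set.inter_subset_right
  have hDp : IsPGroup p ↥(Subgroup.closure (NormSet (rhoZ X Y) p ∩ ((S : Subgroup G) : Set G))) :=
    S.2.to_le hDS
  have huD : u ∈ Subgroup.closure (NormSet (rhoZ X Y) p ∩ ((S : Subgroup G) : Set G)) :=
    Subgroup.subset_closure ⟨hu𝒟, huS⟩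
  by_cases hDn : (Subgroup.closure (NormSet (rhoZ X Y) p ∩ ((S : Subgroup G) : Set G))).Normal
  · exact Cfsg.Agent.Helper14.le_pCore p hDn hDp huD
  exfalso
  have hNtop : normalizer ((Subgroup.closure (NormSet (rhoZ X Y) p ∩ ((S : Subgroup G) : Set G)) :
      Subgroup G) : Set G) ≠ ⊤ := fun h => hDn (Subgroup.normalizer_eq_top_iff.1 h)
  -- conjugates staying in `S` stay in `D`
  have hwc : ∀ n : G, (∀ v ∈ NormSet (rhoZ X Y) p ∩ ((S : Subgroup G) : Set G),
      n * v * n⁻¹ ∈ (S : Subgroup G)) →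
      n ∈ normalizer ((Subgroup.closure (NormSet (rhoZ X Y) p ∩ ((S : Subgroup G) : Set G)) :
        Subgroup G) : Set G) := by
    intro n hn
    have h1 : ∀ d ∈ Subgroup.closure (NormSet (rhoZ X Y) p ∩ ((S : Subgroup G) : Set G)),
        n * d * n⁻¹ ∈ Subgroup.closure (NormSet (rhoZ X Y) p ∩ ((S : Subgroup G) : Set G)) :=
      conj_mem_closure (fun v hv => Subgroup.subset_closure ⟨normSet_conj X Y hv.1 n, hn v hv⟩)
    rw [mem_normalizer_iff_map_cj]
    apply Subgroup.eq_of_le_of_card_ge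
    · rintro _ ⟨d, hd, rfl⟩
      exact h1 d hd
    · rw [Subgroup.card_map_of_injective (cj_injective n)]
  have hSN : (S : Subgroup G) ≤ normalizer ((Subgroup.closure (NormSet (rhoZ X Y) p ∩
      ((S : Subgroup G) : Set G)) : Subgroup G) : Set G) := by
    intro s hs
    apply hwc
    intro v hv
    exact Subgroup.mul_mem _ (Subgroup.mul_mem _ hs hv.2) (Subgroup.inv_mem _ hs)
  have hNM := hmax _ hSN hNtop
  -- the action of `D` on `G ⧸ M`
  have hx : ∀ (d : ↥(Subgroup.closure (NormSet (rhoZ X Y) p ∩ ((S : Subgroup G) : Set G))))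
      (ω : G ⧸ M),
      rhoZ X Y (d • ω).out m₀ =
        ((rhoZ X Y).comp (Subgroup.subtype _)) d (rhoZ X Y ω.out m₀) := by
    intro d ω
    have h1 : ((d : G) * ω.out)⁻¹ * (d • ω).out ∈ M := by
      rw [← QuotientGroup.eq, QuotientGroup.out_eq']
      have e : d • ω = (d : G) • ((ω.out : G) : G ⧸ M) := by
        rw [QuotientGroup.out_eq']; rfl
      rw [e]; rfl
    have e2 : (d • ω).out = (d : G) * ω.out * (((d : G) * ω.out)⁻¹ * (d • ω).out) := by group
    rw [e2, map_mul, map_mul, MulAut.mul_apply, MulAut.mul_apply, hfixM _ h1]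
    rfl
  have hgen : Subgroup.closure (NormSet ((rhoZ X Y).comp
      (Subgroup.subtype (Subgroup.closure (NormSet (rhoZ X Y) p ∩ ((S : Subgroup G) : Set G))))) p) = ⊤ := by
    rw [eq_top_iff]
    rintro ⟨d, hd⟩ -
    induction hd using Subgroup.closure_induction with
    | mem x hx =>
      apply Subgroup.subset_closure
      exact hx.1
    | one => exact Subgroup.one_mem _
    | mul x y hx hy ihx ihy => exact Subgroup.mul_mem _ ihx ihy
    | inv x hx ihx => exact Subgroup.inv_mem _ ihx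
  have hfix1 : ∀ d : ↥(Subgroup.closure (NormSet (rhoZ X Y) p ∩ ((S : Subgroup G) : Set G))),
      d • ((1 : G) : G ⧸ M) = ((1 : G) : G ⧸ M) := by
    intro d
    change (((d : G) * 1 : G) : G ⧸ M) = _
    rw [QuotientGroup.eq]
    have := hSM (hDS d.2)
    simpa using M.inv_mem this
  have huniq : ∀ ω : G ⧸ M,
      (∀ d : ↥(Subgroup.closure (NormSet (rhoZ X Y) p ∩ ((S : Subgroup G) : Set G))), d • ω = ω) →
      ω = ((1 : G) : G ⧸ M) := by
    intro ω hω
    obtain ⟨g, rfl⟩ := QuotientGroup.mk_surjective ω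
    have h1 : ∀ d ∈ Subgroup.closure (NormSet (rhoZ X Y) p ∩ ((S : Subgroup G) : Set G)),
        g⁻¹ * d * g ∈ M := by
      intro d hd
      have h2 := hω ⟨d, hd⟩
      change ((d * g : G) : G ⧸ M) = (g : G ⧸ M) at h2
      rw [QuotientGroup.eq] at h2
      have e : g⁻¹ * d * g = ((d * g)⁻¹ * g)⁻¹ := by group
      rw [e]
      exact M.inv_mem h2
    have hRp : IsPGroup p ↥((Subgroup.closure (NormSet (rhoZ X Y) p ∩
        ((S : Subgroup G) : Set G))).map (cj g⁻¹)) := hDp.map _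
    have hRM : (Subgroup.closure (NormSet (rhoZ X Y) p ∩ ((S : Subgroup G) : Set G))).map (cj g⁻¹) ≤ M := by
      rintro _ ⟨d, hd, rfl⟩
      rw [cj_apply, inv_inv]
      exact h1 d hd
    obtain ⟨c, hcM, hc⟩ := exists_conj_le_sylow_of_le S M _ hSM hRp hRM
    have hn : c * g⁻¹ ∈ normalizer ((Subgroup.closure (NormSet (rhoZ X Y) p ∩
        ((S : Subgroup G) : Set G)) : Subgroup G) : Set G) := by
      apply hwc
      intro v hv
      have h3 := hc (g⁻¹ * v * g) ⟨v, Subgroup.subset_closure hv, by rw [cj_apply, inv_inv]⟩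
      have e : c * g⁻¹ * v * (c * g⁻¹)⁻¹ = c * (g⁻¹ * v * g) * c⁻¹ := by group
      rw [e]; exact h3
    have hgM : g⁻¹ ∈ M := by
      have := M.mul_mem (M.inv_mem hcM) (hNM hn)
      simpa using this
    rw [QuotientGroup.eq]
    simpa using M.inv_mem hgM
  apply hm₀
  have h1 := prod_univ_eq_of_unique_fixed_vec (p := p)
    (ρ := (rhoZ X Y).comp (Subgroup.subtype (Subgroup.closure (NormSet (rhoZ X Y) p ∩
      ((S : Subgroup G) : Set G)))))
    hDp (fun ω : G ⧸ M => rhoZ X Y ω.out m₀) hx hgen ((1 : G) : G ⧸ M) hfix1 huniq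
  beta_reduce at h1
  rw [hprod] at h1
  have h4 : (((1 : G) : G ⧸ M).out) ∈ M := by
    have : (1 : G)⁻¹ * (((1 : G) : G ⧸ M).out) ∈ M := by
      rw [← QuotientGroup.eq, QuotientGroup.out_eq']
    simpa using this
  rw [hfixM _ h4] at h1
  exact h1.symm

end Cfsg.Agent.Helper10
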