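import Mathlib
import Cfsg.Agent.Helper10.ConjFamily

set_option autoImplicit false

/-! # Chains of right conjugations by elements of a generating set -/

namespace Cfsg.Agent.Helper10

open Subgroup

variable {G : Type*} [Group G]

theorem rc_congr {g g' : G} {A : Set G} (h : ∀ a ∈ A, g⁻¹ * a * g = g'⁻¹ * a * g') :
    rc g A = rc g' A :=
  Set.image_congr h

/-- chains of right conjugations by elements of `M`, keeping `A` inside `T` -/
inductive GChain (M : Set G) (T : Set G) (A : Set G) : G → Prop
  | nil : A ⊆ T → GChain M T A 1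
  | step (z m : G) : GChain M T A z → m ∈ M → rc (z * m) A ⊆ T → GChain M T A (z * m)

variable {M : Set G} {T : Set G}

theorem GChain.subset {A : Set G} {z : G} (h : GChain M T A z) : A ⊆ T := by
  induction h with
  | nil h => exact h
  | step z m _ _ _ ih => exact ih

theorem GChain.image {A : Set G} {z : G} (h : GChain M T A z) : rc z A ⊆ T := by
  cases h with
  | nil h => rw [rc_one]; exact h
  | step z m _ _ h => exact h

theorem GChain.mono_set {A B : Set G} {z : G} (hBA : B ⊆ A) (h : GChain M T A z) :
    GChain M T B z := by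
  induction h with
  | nil h => exact GChain.nil (hBA.trans h)
  | step z m _ hm him ih => exact GChain.step z m ih hm ((rc_mono _ hBA).trans him)

theorem GChain.mono_gen {M' : Set G} {A : Set G} {z : G} (hM : M ⊆ M')
    (h : GChain M T A z) : GChain M' T A z := by
  induction h with
  | nil h => exact GChain.nil h
  | step z m _ hm him ih => exact GChain.step z m ih (hM hm) him

theorem GChain.append {A : Set G} {z z' : G} (h : GChain M T A z)
    (h' : GChain M T (rc z A) z') : GChain M T A (z * z') := by
  induction h' with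
  | nil _ => rw [mul_one]; exact h
  | step z'' m _ hm him ih =>
    rw [← mul_assoc]
    refine GChain.step _ m ih hm ?_
    rw [mul_assoc, rc_mul]
    exact him

theorem GChain.single {A : Set G} {m : G} (hm : m ∈ M) (hA : A ⊆ T) (hmA : rc m A ⊆ T) :
    GChain M T A m := by
  have := GChain.step 1 m (GChain.nil hA) hm (by rw [one_mul]; exact hmA)
  rwa [one_mul] at this

theorem GChain.inv (hMinv : ∀ m ∈ M, m⁻¹ ∈ M) {A : Set G} {z : G} (h : GChain M T A z) :
    GChain M T (rc z A) z⁻¹ := by
  induction h with
  | nil h => rw [rc_one, inv_one]; exact GChain.nil h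
  | step z m hz hm him ih =>
    have h1 : GChain M T (rc (z * m) A) m⁻¹ := by
      apply GChain.single (hMinv m hm) him
      rw [rc_mul, rc_inv_rc]
      exact hz.image
    have h2 : GChain M T (rc m⁻¹ (rc (z * m) A)) z⁻¹ := by
      rw [rc_mul, rc_inv_rc]
      exact ih
    have := h1.append h2
    rwa [← mul_inv_rev] at this

theorem GChain.to_list {A : Set G} {z : G} (h : GChain M T A z) :
    ∃ l : List G, (∀ d ∈ l, d ∈ M) ∧ l.prod = z ∧ ∀ k : ℕ, rc (l.take k).prod A ⊆ T := by
  induction h with
  | nil h =>
    refine ⟨[], by simp, rfl, ?_⟩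
    intro k
    simp only [List.take_nil, List.prod_nil, rc_one]
    exact h
  | step z m _ hm him ih =>
    obtain ⟨l, hl, hprod, himg⟩ := ih
    refine ⟨l ++ [m], ?_, ?_, ?_⟩
    · intro d hd
      rw [List.mem_append, List.mem_singleton] at hd
      rcases hd with hd | rfl
      · exact hl d hd
      · exact hm
    · rw [List.prod_append, hprod, List.prod_singleton]
    · intro k
      by_cases hk : k ≤ l.length
      · rw [List.take_append_of_le_length hk]
        exact himg k
      · push Not at hk
        rw [List.take_of_length_le (by simp; omega), List.prod_append, hprod, List.prod_singleton]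
        exact him

theorem GChain.of_list {A : Set G} (l : List G) (hl : ∀ d ∈ l, d ∈ M)
    (himg : ∀ k : ℕ, rc (l.take k).prod A ⊆ T) : GChain M T A l.prod := by
  induction l using List.reverseRecOn with
  | nil =>
    rw [List.prod_nil]
    apply GChain.nil
    have := himg 0
    simpa [rc_one] using this
  | append_singleton l m ih =>
    rw [List.prod_append, List.prod_singleton]
    refine GChain.step _ m (ih ?_ ?_) (hl m (by simp)) ?_
    · intro d hd
      exact hl d (by simp [hd])
    · intro k
      by_cases hk : k ≤ l.length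
      · have := himg k
        rwa [List.take_append_of_le_length hk] at this
      · push Not at hk
        have := himg l.length
        rw [List.take_append_of_le_length le_rfl] at this
        rw [List.take_of_length_le hk.le]
        rwa [List.take_of_length_le le_rfl] at this
    · have := himg (l.length + 1)
      rw [List.take_of_length_le (by simp), List.prod_append, List.prod_singleton] at this
      exact this

section GDg

variable (M) (S : Set G)

/-- `(A, g)` is decomposable: right conjugation by `g` on `A` is a chain of conjugations by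
elements of `M`, keeping `A` in `S`. -/
def GDg (A : Set G) (g : G) : Prop :=
  ∃ z, GChain M S A z ∧ ∀ a ∈ A, z⁻¹ * a * z = g⁻¹ * a * g

variable {M S}

theorem GDg.mono {A B : Set G} {g : G} (hBA : B ⊆ A) (h : GDg M S A g) : GDg M S B g := by
  obtain ⟨z, hz, hzA⟩ := h
  exact ⟨z, hz.mono_set hBA, fun a ha => hzA a (hBA ha)⟩

theorem GDg.subset {A : Set G} {g : G} (h : GDg M S A g) : A ⊆ S := by
  obtain ⟨z, hz, -⟩ := h
  exact hz.subset

theorem GDg.image {A : Set G} {g : G} (h : GDg M S A g) : rc g A ⊆ S := by
  obtain ⟨z, hz, hzA⟩ := h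
  rw [← rc_congr hzA]
  exact hz.image

theorem GDg.comp {A : Set G} {g g' : G} (h : GDg M S A g) (h' : GDg M S (rc g A) g') :
    GDg M S A (g * g') := by
  obtain ⟨z, hz, hzA⟩ := h
  obtain ⟨z', hz', hz'A⟩ := h'
  have hrc : rc z A = rc g A := rc_congr hzA
  refine ⟨z * z', hz.append (hrc ▸ hz'), ?_⟩
  intro a ha
  have h1 := hzA a ha
  have h2 := hz'A (g⁻¹ * a * g) ⟨a, ha, rfl⟩
  have e1 : (z * z')⁻¹ * a * (z * z') = z'⁻¹ * (z⁻¹ * a * z) * z' := by group
  have e2 : (g * g')⁻¹ * a * (g * g') = g'⁻¹ * (g⁻¹ * a * g) * g' := by group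
  rw [e1, e2, h1, h2]

theorem GDg.inv (hMinv : ∀ m ∈ M, m⁻¹ ∈ M) {A : Set G} {g : G} (h : GDg M S A g) :
    GDg M S (rc g A) g⁻¹ := by
  obtain ⟨z, hz, hzA⟩ := h
  have hrc : rc z A = rc g A := rc_congr hzA
  refine ⟨z⁻¹, hrc ▸ hz.inv hMinv, ?_⟩
  rintro _ ⟨a, ha, rfl⟩
  have h1 := hzA a ha
  have e1 : z⁻¹⁻¹ * (g⁻¹ * a * g) * z⁻¹ = a := by rw [← h1]; group
  have e2 : g⁻¹⁻¹ * (g⁻¹ * a * g) * g⁻¹ = a := by group
  rw [e1, e2]

theorem GDg.of_trivial {A : Set G} {g : G} (hA : A ⊆ S) (h : ∀ a ∈ A, g⁻¹ * a * g = a) :
    GDg M S A g :=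
  ⟨1, GChain.nil hA, fun a ha => by rw [h a ha]; group⟩

theorem GDg.congr {A : Set G} {g g' : G} (hgg : ∀ a ∈ A, g⁻¹ * a * g = g'⁻¹ * a * g')
    (h : GDg M S A g) : GDg M S A g' := by
  obtain ⟨z, hz, hzA⟩ := h
  exact ⟨z, hz, fun a ha => (hzA a ha).trans (hgg a ha)⟩

theorem GDg.single {A : Set G} {m : G} (hm : m ∈ M) (hA : A ⊆ S) (hmA : rc m A ⊆ S) :
    GDg M S A m :=
  ⟨m, GChain.single hm hA hmA, fun _ _ => rfl⟩

/-- a product of steps each of which is decomposable is decomposable -/
theorem GDg.of_list_steps {B₁ : Set G} {Mloc : Set G}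
    (hstep : ∀ d ∈ Mloc, ∀ A₀ : Set G, A₀ ⊆ B₁ → rc d A₀ ⊆ B₁ → GDg M S A₀ d)
    (hB₁ : B₁ ⊆ S) :
    ∀ (l : List G) (A : Set G), (∀ d ∈ l, d ∈ Mloc) → (∀ k : ℕ, rc (l.take k).prod A ⊆ B₁) →
      GDg M S A l.prod := by
  intro l
  induction l with
  | nil =>
    intro A _ himg
    rw [List.prod_nil]
    apply GDg.of_trivial
    · have := himg 0
      simp only [List.take_zero, List.prod_nil, rc_one] at this
      exact this.trans hB₁
    · intro a _; group
  | cons d l ih =>
    intro A hl himg
    rw [List.prod_cons]
    have h0 : A ⊆ B₁ := by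
      have := himg 0
      simpa [rc_one] using this
    have h1 : rc d A ⊆ B₁ := by
      have := himg 1
      simpa using this
    apply (hstep d (hl d (by simp)) A h0 h1).comp
    apply ih (rc d A) (fun d' hd' => hl d' (by simp [hd']))
    intro k
    have := himg (k + 1)
    rw [List.take_succ_cons, List.prod_cons, rc_mul] at this
    exact this

/-- positional version: each step is decomposable on the current image -/
theorem GDg.of_list_pos : ∀ (l : List G) (A : Set G), A ⊆ S →
    (∀ (k : ℕ) (hk : k < l.length), GDg M S (rc (l.take k).prod A) l[k]) → GDg M S A l.prod := by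
  intro l
  induction l with
  | nil =>
    intro A hA _
    rw [List.prod_nil]
    exact GDg.of_trivial hA (fun a _ => by group)
  | cons d l ih =>
    intro A hA hstep
    rw [List.prod_cons]
    have h0 : GDg M S A d := by
      have := hstep 0 (by simp)
      simpa [rc_one] using this
    apply h0.comp
    apply ih (rc d A) h0.image
    intro k hk
    have := hstep (k + 1) (by simp; omega)
    rw [List.take_succ_cons, List.prod_cons, rc_mul] at this
    simpa using this

end GDg

end Cfsg.Agent.Helper10
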