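import Mathlib
import Cfsg.Agent.Helper10.MetaFusA
import Cfsg.Agent.Helper19.Class2
import Cfsg.Agent.Helper23.PGroup

set_option autoImplicit false

/-! Pure group theory for S5233 (strongly closed generalized extraspecial subgroups):
Sylow conjugation inside an overgroup of a Sylow subgroup, the `SL₂`-computation producing an
inverting automorphism commuting with a transvection, and the `p`-th power formula in class two. -/

namespace Cfsg.Agent.Helper10.GExtra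

open Cfsg.Agent.Helper10.MetaFus
open scoped commutatorElement

/-- A `p`-element of a subgroup `M` containing a Sylow `p`-subgroup `Sy` of `G` is conjugate into
`Sy` by an element of `M`. -/
theorem sylow_conj_mem {G : Type*} [Group G] [Finite G] {p : ℕ} [Fact p.Prime] (Sy : Sylow p G)
    (M : Subgroup G) (h : (Sy : Subgroup G) ≤ M) (v : G) (hv : v ∈ M)
    (hvp : ∃ k : ℕ, v ^ (p ^ k) = 1) : ∃ m ∈ M, m * v * m⁻¹ ∈ (Sy : Subgroup G) := by
  obtain ⟨k, hk⟩ := hvp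
  have hQ : IsPGroup p (Subgroup.zpowers (⟨v, hv⟩ : M)) := by
    rintro ⟨y, hy⟩
    obtain ⟨j, rfl⟩ := Subgroup.mem_zpowers_iff.mp hy
    refine ⟨k, Subtype.ext ?_⟩
    show ((⟨v, hv⟩ : M) ^ j) ^ (p ^ k) = 1
    rw [← zpow_natCast, ← zpow_mul, mul_comm, zpow_mul, zpow_natCast]
    have : (⟨v, hv⟩ : M) ^ (p ^ k) = 1 := Subtype.ext (by simpa using hk)
    rw [this, one_zpow]
  obtain ⟨Q₁, hQ₁⟩ := hQ.exists_le_sylow
  obtain ⟨m, hm⟩ := MulAction.exists_smul_eq M Q₁ (Sy.subtype h)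
  refine ⟨(m : G), m.2, ?_⟩
  have h1 : (⟨v, hv⟩ : M) ∈ (Q₁ : Subgroup M) := hQ₁ (Subgroup.mem_zpowers _)
  have h2 : m * ⟨v, hv⟩ * m⁻¹ ∈ ((m • Q₁ : Sylow p M) : Subgroup M) := by
    rw [Sylow.coe_subgroup_smul]
    exact ⟨⟨v, hv⟩, h1, rfl⟩
  rw [hm] at h2
  exact h2

/-- A normal subgroup of prime order of a finite `p`-group is central (elementwise form). -/
theorem comm_of_normal_card_prime {G : Type*} [Group G] [Finite G] {p : ℕ} [Fact p.Prime]
    (hG : IsPGroup p G) (H : Subgroup G) [H.Normal] (hH : Nat.card H = p) :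
    ∀ h ∈ H, ∀ g : G, g * h = h * g := by
  have hpp : p.Prime := Fact.out
  have hne : H ≠ ⊥ := by
    intro h
    rw [h, Subgroup.card_bot] at hH
    exact hpp.one_lt.ne hH
  obtain ⟨b, hbH, hbZ, hb1⟩ := Cfsg.Agent.Helper23.exists_mem_inf_center_ne_one hG H hne
  intro h hh g
  obtain ⟨k, hk⟩ := exists_pow_eq H hH b h hbH hb1 hh
  rw [← hk]
  have hgb : Commute g b := Subgroup.mem_center_iff.mp hbZ g
  exact hgb.pow_right k

/-- In a group where `[y, x]` commutes with `x` and `y` and has order dividing the odd prime `p`,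
`(x y)^p = x^p y^p`. -/
theorem mul_pow_prime_of_odd {G : Type*} [Group G] {p : ℕ} (hp : p.Prime) (hp2 : p ≠ 2)
    (x y : G) (hx : Commute ⁅y, x⁆ x) (hy : Commute ⁅y, x⁆ y) (hc : ⁅y, x⁆ ^ p = 1) :
    (x * y) ^ p = x ^ p * y ^ p := by
  rw [Cfsg.Agent.Helper19.mul_pow_of_commute_comm x y hx hy p]
  have h2 : 2 < p := lt_of_le_of_ne hp.two_le (Ne.symm hp2)
  obtain ⟨m, hm⟩ := hp.dvd_choose_self (by norm_num : (2 : ℕ) ≠ 0) h2
  rw [hm, pow_mul, hc, one_pow, mul_one]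

/-- The normalized `SL₂` computation. -/
theorem inverting_of_normalized {V : Type*} [Group V] (hcomm : ∀ a b : V, a * b = b * a)
    (μ ν : MulAut V) (z x : V)
    (hμz : μ z = z) (hμx : μ x = x * z) (hνx : ν x = x) (hνz : ν z = z * x⁻¹)
    (hμV : ∀ t, ∃ i : ℕ, μ t = t * z ^ i) (hνV : ∀ t, ∃ j : ℕ, ν t = t * x ^ j) :
    ((μ * ν * μ) * (μ * ν * μ)) z = z⁻¹ ∧
      ((μ * ν * μ) * (μ * ν * μ)) * μ = μ * ((μ * ν * μ) * (μ * ν * μ)) := by
  set w := μ * ν * μ with hw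
  have hwz : w z = x⁻¹ := by
    have : w z = μ (ν (μ z)) := by simp [hw, MulAut.mul_apply]
    rw [this, hμz, hνz, map_mul, map_inv, hμz, hμx, mul_inv_rev, mul_inv_cancel_left]
  have hwx : w x = z := by
    have : w x = μ (ν (μ x)) := by simp [hw, MulAut.mul_apply]
    rw [this, hμx, map_mul, hνx, hνz]
    have : x * (z * x⁻¹) = z := by rw [hcomm z, mul_inv_cancel_left]
    rw [this, hμz]
  have hdz : (w * w) z = z⁻¹ := by rw [MulAut.mul_apply, hwz, map_inv, hwx]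
  have hdx : (w * w) x = x⁻¹ := by rw [MulAut.mul_apply, hwx, hwz]
  refine ⟨hdz, ?_⟩
  have hfix : ∀ k : V, μ k = k → ν k = k → (w * w) k = k := by
    intro k h1 h2
    have h3 : w k = k := by
      have : w k = μ (ν (μ k)) := by simp [hw, MulAut.mul_apply]
      rw [this, h1, h2, h1]
    rw [MulAut.mul_apply, h3, h3]
  -- the locus where the two sides agree
  let E : Subgroup V := MonoidHom.eqLocus ((w * w) * μ).toMonoidHom (μ * (w * w)).toMonoidHom
  have hE : ∀ t, t ∈ E ↔ (w * w) (μ t) = μ ((w * w) t) := fun t => Iff.rfl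
  have hzE : z ∈ E := by rw [hE, hμz, hdz, map_inv, hμz]
  have hxE : x ∈ E := by
    rw [hE, hμx, map_mul, hdx, hdz, map_inv, hμx, mul_inv_rev, hcomm]
  have hkE : ∀ k : V, μ k = k → ν k = k → k ∈ E := by
    intro k h1 h2
    rw [hE, h1, hfix k h1 h2, h1]
  have hall : ∀ t, t ∈ E := by
    intro t
    obtain ⟨i, hi⟩ := hμV t
    obtain ⟨j, hj⟩ := hνV t
    set s := (x ^ i)⁻¹ * z ^ j with hs
    have hsE : s ∈ E := E.mul_mem (E.inv_mem (E.pow_mem hxE i)) (E.pow_mem hzE j)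
    have hμs : μ s = ((x ^ i * z ^ i))⁻¹ * z ^ j := by
      rw [hs, map_mul, map_inv, map_pow, map_pow, hμx, hμz,
        (show Commute x z from hcomm x z).mul_pow]
    have hνs : ν s = (x ^ i)⁻¹ * (z ^ j * (x ^ j)⁻¹) := by
      rw [hs, map_mul, map_inv, map_pow, map_pow, hνx, hνz,
        (show Commute z x⁻¹ from hcomm z x⁻¹).mul_pow, inv_pow]
    have hk1 : μ (t * s) = t * s := by
      rw [map_mul, hi, hμs, hs]
      group
    have hk2 : ν (t * s) = t * s := by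
      rw [map_mul, hj, hνs, hs, mul_assoc t, hcomm (x ^ j)]
      group
    have := E.mul_mem (hkE (t * s) hk1 hk2) (E.inv_mem hsE)
    rwa [mul_inv_cancel_right] at this
  ext t
  exact hall t

/-- Two conjugate transvection groups whose centres move each other generate an automorphism
inverting the centre and commuting with a power of the transvection. -/
theorem exists_inverting_comm {V : Type*} [Group V] [Finite V] {p : ℕ} [Fact p.Prime]
    (hcomm : ∀ a b : V, a * b = b * a) (L : Subgroup V) (hL : Nat.card L = p)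
    (τ β : MulAut V) (hτL : ∀ y ∈ L, τ y = y) (hτV : ∀ v, τ v * v⁻¹ ∈ L)
    (z : V) (hz : z ∈ L) (hz1 : z ≠ 1) (h1 : τ (β z) ≠ β z) (h2 : τ (β⁻¹ z) ≠ β⁻¹ z) :
    ∃ k : ℕ, ∃ d ∈ Subgroup.closure ({τ, β} : Set (MulAut V)),
      d z = z⁻¹ ∧ d * τ ^ k = τ ^ k * d ∧ (τ ^ k) (β z) ≠ β z := by
  have hτform : ∀ t, τ t = t * (τ t * t⁻¹) := fun t => by
    rw [hcomm t, inv_mul_cancel_right]
  set x := β z with hx
  have hx1 : x ≠ 1 := by
    intro h
    apply hz1
    have : β z = β 1 := by rw [map_one]; exact h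
    exact β.injective this
  set c := τ x * x⁻¹ with hc
  have hcL : c ∈ L := hτV x
  have hc1 : c ≠ 1 := fun h => h1 (by rwa [hc, mul_inv_eq_one] at h)
  obtain ⟨k, hk⟩ := exists_pow_eq L hL c z hcL hc1 hz
  set μ := τ ^ k with hμ
  have hμL : ∀ y ∈ L, μ y = y := by
    intro y hy
    have := aut_pow_apply τ y 1 (by rw [mul_one]; exact hτL y hy) (map_one τ) k
    rw [hμ, this, one_pow, mul_one]
  have hμx : μ x = x * z := by
    rw [hμ, aut_pow_apply τ x c (hτform x) (hτL c hcL) k, hk]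
  have hμV : ∀ t, ∃ i : ℕ, μ t = t * z ^ i := by
    intro t
    have heL : τ t * t⁻¹ ∈ L := hτV t
    obtain ⟨j, hj⟩ := exists_pow_eq L hL z _ hz hz1 heL
    refine ⟨j * k, ?_⟩
    rw [hμ, aut_pow_apply τ t _ (hτform t) (hτL _ heL) k, ← hj, pow_mul]
  -- the second transvection group
  set τ' := β * τ * β⁻¹ with hτ'
  have hτ'app : ∀ t, τ' t = β (τ (β⁻¹ t)) := fun t => by simp [hτ', MulAut.mul_apply]
  set L₂ := L.map β.toMonoidHom with hL₂
  have hL₂card : Nat.card L₂ = p := by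
    rw [hL₂, Subgroup.card_map_of_injective β.injective, hL]
  have hxL₂ : x ∈ L₂ := ⟨z, hz, rfl⟩
  have hτ'L₂ : ∀ y ∈ L₂, τ' y = y := by
    rintro _ ⟨y, hy, rfl⟩
    rw [hτ'app]
    show β (τ (β⁻¹ (β y))) = β y
    rw [MulAut.inv_apply_self, hτL y hy]
  have hτ'V : ∀ t, τ' t * t⁻¹ ∈ L₂ := by
    intro t
    refine ⟨τ (β⁻¹ t) * (β⁻¹ t)⁻¹, hτV _, ?_⟩
    show β (τ (β⁻¹ t) * (β⁻¹ t)⁻¹) = τ' t * t⁻¹
    rw [map_mul, map_inv, MulAut.apply_inv_self, hτ'app]
  have hτ'form : ∀ t, τ' t = t * (τ' t * t⁻¹) := fun t => by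
    rw [hcomm t, inv_mul_cancel_right]
  set d₀ := τ' z * z⁻¹ with hd₀
  have hd₀L₂ : d₀ ∈ L₂ := hτ'V z
  have hd₀1 : d₀ ≠ 1 := by
    intro h
    rw [hd₀, mul_inv_eq_one, hτ'app] at h
    apply h2
    have : β (τ (β⁻¹ z)) = β (β⁻¹ z) := by rw [h, MulAut.apply_inv_self]
    exact β.injective this
  obtain ⟨k', hk'⟩ := exists_pow_eq L₂ hL₂card d₀ x⁻¹ hd₀L₂ hd₀1 (L₂.inv_mem hxL₂)
  set ν := τ' ^ k' with hν
  have hνx : ν x = x := by
    have := aut_pow_apply τ' x 1 (by rw [mul_one]; exact hτ'L₂ x hxL₂) (map_one τ') k'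
    rw [hν, this, one_pow, mul_one]
  have hνz : ν z = z * x⁻¹ := by
    rw [hν, aut_pow_apply τ' z d₀ (hτ'form z) (hτ'L₂ d₀ hd₀L₂) k', hk']
  have hνV : ∀ t, ∃ j : ℕ, ν t = t * x ^ j := by
    intro t
    have heL : τ' t * t⁻¹ ∈ L₂ := hτ'V t
    obtain ⟨j, hj⟩ := exists_pow_eq L₂ hL₂card x _ hxL₂ hx1 heL
    refine ⟨j * k', ?_⟩
    rw [hν, aut_pow_apply τ' t _ (hτ'form t) (hτ'L₂ _ heL) k', ← hj, pow_mul]
  obtain ⟨hdz, hdμ⟩ := inverting_of_normalized hcomm μ ν z x (hμL z hz) hμx hνx hνz hμV hνV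
  refine ⟨k, (μ * ν * μ) * (μ * ν * μ), ?_, hdz, hdμ, ?_⟩
  · have hτm : τ ∈ Subgroup.closure ({τ, β} : Set (MulAut V)) :=
      Subgroup.subset_closure (by simp)
    have hβm : β ∈ Subgroup.closure ({τ, β} : Set (MulAut V)) :=
      Subgroup.subset_closure (by simp)
    have hμm : μ ∈ Subgroup.closure ({τ, β} : Set (MulAut V)) := Subgroup.pow_mem _ hτm k
    have hτ'm : τ' ∈ Subgroup.closure ({τ, β} : Set (MulAut V)) :=
      Subgroup.mul_mem _ (Subgroup.mul_mem _ hβm hτm) (Subgroup.inv_mem _ hβm)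
    have hνm : ν ∈ Subgroup.closure ({τ, β} : Set (MulAut V)) := Subgroup.pow_mem _ hτ'm k'
    have hwm : μ * ν * μ ∈ Subgroup.closure ({τ, β} : Set (MulAut V)) :=
      Subgroup.mul_mem _ (Subgroup.mul_mem _ hμm hνm) hμm
    exact Subgroup.mul_mem _ hwm hwm
  · rw [hμx]
    intro h
    apply hz1
    have : x * z = x * 1 := by rw [mul_one]; exact h
    exact mul_left_cancel this

end Cfsg.Agent.Helper10.GExtra
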