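import Mathlib
import Cfsg.Agent.Helper25.FusionChain
import Cfsg.Agent.Helper25.FusionAlperin3
import Cfsg.Agent.Helper10.GExtraA

set_option autoImplicit false

/-! Fusion part of S5233, 1: the derived subgroup `Z = [P, P]` of a strongly closed subgroup `P`
with `|Z| = p`, the subsystem of the maps preserving `Z`, and the inductive form of Alperin's
theorem for it. -/

namespace Cfsg.Agent.Helper10.GExtra

open Cfsg Cfsg.FusionSystem Cfsg.Agent.Helper25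
open scoped commutatorElement

variable {Ω : Type*} [Group Ω] {S : Subgroup Ω}

/-- An injective map defined on `Q ≥ P` and preserving `P` preserves `[P, P]` in both
directions. -/
theorem commutator_pres {P Q : Subgroup Ω} [Finite ↥⁅P, P⁆] (hPQ : P ≤ Q) (φ : Q →* Ω)
    (hinj : Function.Injective φ) (hφP : ∀ x : Q, (x : Ω) ∈ P → φ x ∈ P) (x : Q) :
    (x : Ω) ∈ ⁅P, P⁆ ↔ φ x ∈ ⁅P, P⁆ := by
  set PQ : Subgroup Q := P.subgroupOf Q with hPQdef
  have h0 : PQ.map Q.subtype = P := by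
    rw [hPQdef, Subgroup.map_subgroupOf_eq_of_le hPQ]
  have h1 : (⁅PQ, PQ⁆).map Q.subtype = ⁅P, P⁆ := by
    rw [Subgroup.map_commutator, h0]
  have h2 : (⁅PQ, PQ⁆).map φ ≤ ⁅P, P⁆ := by
    rw [Subgroup.map_commutator]
    have hle : PQ.map φ ≤ P := by
      rintro _ ⟨y, hy, rfl⟩
      exact hφP y hy
    exact Subgroup.commutator_mono hle hle
  have hc1 : Nat.card ↥((⁅PQ, PQ⁆).map Q.subtype) = Nat.card ↥⁅PQ, PQ⁆ :=
    Subgroup.card_map_of_injective Q.subtype_injective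
  have hc2 : Nat.card ↥((⁅PQ, PQ⁆).map φ) = Nat.card ↥⁅PQ, PQ⁆ :=
    Subgroup.card_map_of_injective hinj
  have h3 : (⁅PQ, PQ⁆).map φ = ⁅P, P⁆ := by
    apply Subgroup.eq_of_le_of_card_ge h2
    rw [hc2, ← hc1, h1]
  have hmem : (x : Ω) ∈ ⁅P, P⁆ ↔ x ∈ ⁅PQ, PQ⁆ := by
    rw [← h1]
    constructor
    · rintro ⟨y, hy, hyx⟩
      have : y = x := Subtype.ext hyx
      exact this ▸ hy
    · intro hx
      exact ⟨x, hx, rfl⟩
  rw [hmem, ← h3]
  exact (Subgroup.mem_map_iff_mem hinj).symm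

/-- The data on the strongly closed subgroup `P`. -/
structure GData (p : ℕ) (F : FusionSystem S) (P : Subgroup Ω) : Prop where
  sc : F.StronglyClosed P
  card : Nat.card ↥⁅P, P⁆ = p
  pow : ∀ a ∈ P, a ^ p ∈ ⁅P, P⁆

namespace GData

variable {p : ℕ} [Fact p.Prime] {F : FusionSystem S} {P : Subgroup Ω}

omit [Fact (Nat.Prime p)] in
theorem le (_D : GData p F P) : ⁅P, P⁆ ≤ P := Subgroup.commutator_le_self P

omit [Fact (Nat.Prime p)] in
theorem leS (D : GData p F P) : ⁅P, P⁆ ≤ S := D.le.trans D.sc.1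

theorem finite (D : GData p F P) : Finite ↥⁅P, P⁆ :=
  Nat.finite_of_card_ne_zero (by rw [D.card]; exact (Fact.out : p.Prime).ne_zero)

theorem pow_eq_one (D : GData p F P) {y : Ω} (hy : y ∈ ⁅P, P⁆) : y ^ p = 1 := by
  have := D.finite
  have h := pow_card_eq_one' (G := ↥⁅P, P⁆) (x := ⟨y, hy⟩)
  rw [D.card] at h
  simpa using congrArg Subtype.val h

theorem conj_iff (D : GData p F P) {g : Ω} (hg : g ∈ S) (x : Ω) :
    x ∈ ⁅P, P⁆ ↔ g * x * g⁻¹ ∈ ⁅P, P⁆ := by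
  have := D.finite
  have hN : S ≤ Subgroup.normalizer (P : Set Ω) := le_normalizer_of_stronglyClosed F D.sc
  have hgN := hN hg
  have hinj : Function.Injective (conjHom P g) := F.injective_of_mem (F.conj_mem D.sc.1 hg)
  have hval : ∀ y : P, conjHom P g y = g * (y : Ω) * g⁻¹ := fun y => rfl
  have key : ∀ y : P, (y : Ω) ∈ ⁅P, P⁆ ↔ g * (y : Ω) * g⁻¹ ∈ ⁅P, P⁆ := by
    intro y
    have := commutator_pres (P := P) (Q := P) le_rfl (conjHom P g) hinj
      (fun y _ => by rw [hval]; exact (Subgroup.mem_normalizer_iff.mp hgN _).mp y.2) y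
    rwa [hval] at this
  constructor
  · intro hx
    exact (key ⟨x, D.le hx⟩).mp hx
  · intro hx
    have hxP : x ∈ P := (Subgroup.mem_normalizer_iff.mp hgN _).mpr (D.le hx)
    exact (key ⟨x, hxP⟩).mpr hx

theorem central [Finite S] (hS : IsPGroup p S) (D : GData p F P) :
    ∀ s ∈ S, ∀ y ∈ ⁅P, P⁆, s * y = y * s := by
  have hnorm : ((⁅P, P⁆).subgroupOf S).Normal := by
    constructor
    intro n hn g
    rw [Subgroup.mem_subgroupOf] at hn ⊢
    exact (D.conj_iff g.2 _).mp hn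
  have hcard : Nat.card ↥((⁅P, P⁆).subgroupOf S) = p := by
    rw [Nat.card_congr (Subgroup.subgroupOfEquivOfLe D.leS).toEquiv, D.card]
  intro s hs y hy
  have := comm_of_normal_card_prime hS ((⁅P, P⁆).subgroupOf S) hcard ⟨y, D.leS hy⟩
    (Subgroup.mem_subgroupOf.mpr hy) ⟨s, hs⟩
  exact congrArg Subtype.val this

end GData

/-- The subsystem of the maps `φ` with `x ∈ Z ↔ φ x ∈ Z`, for a subgroup `Z` normalized by `S`. -/
def presSys (F : FusionSystem S) (Z : Subgroup Ω)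
    (hZ : ∀ g ∈ S, ∀ x : Ω, x ∈ Z ↔ g * x * g⁻¹ ∈ Z) : FusionSystem S where
  Hom Q := {φ | φ ∈ F.Hom Q ∧ ∀ x : Q, (x : Ω) ∈ Z ↔ φ x ∈ Z}
  le_of_mem h := F.le_of_mem h.1
  injective_of_mem h := F.injective_of_mem h.1
  conj_mem hP hg := ⟨F.conj_mem hP hg, fun x => hZ _ hg x⟩
  comp_mem hφ hψ h := ⟨F.comp_mem hφ.1 hψ.1 h, fun x => (hφ.2 x).trans (hψ.2 ⟨_, h x⟩)⟩
  inv_mem := by
    intro P φ hφ
    obtain ⟨ψ, hψ, hψx⟩ := F.inv_mem hφ.1
    refine ⟨ψ, ⟨hψ, ?_⟩, hψx⟩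
    rintro ⟨y, x, rfl⟩
    rw [hψx x]
    exact (hφ.2 x).symm

/-- Inductive form of Alperin's theorem for the preservation of `Z`. -/
theorem hom_pres [Finite S] (p : ℕ) [Fact p.Prime] (hS : IsPGroup p S) (F : FusionSystem S)
    (hF : F.IsSaturated p) (Z : Subgroup Ω) (hZ : ∀ g ∈ S, ∀ x : Ω, x ∈ Z ↔ g * x * g⁻¹ ∈ Z)
    (hstep : ∀ R : Subgroup Ω, (R = S ∨ F.IsEssential p R) →
      (∀ Q : Subgroup Ω, Q ≤ S → Nat.card R < Nat.card Q → ∀ φ ∈ F.Hom Q, ∀ x : Q,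
        (x : Ω) ∈ Z ↔ φ x ∈ Z) →
      ∀ α ∈ F.autGroup R, ∀ y : R, (y : Ω) ∈ Z ↔ ((α y : R) : Ω) ∈ Z)
    (Q : Subgroup Ω) (φ : Q →* Ω) (hφ : φ ∈ F.Hom Q) (x : Q) : (x : Ω) ∈ Z ↔ φ x ∈ Z := by
  have hle : F ≤ presSys F Z hZ := by
    apply alperin_le_ind p hS F hF
    intro R hR hQ α hα
    have hRS : R ≤ S := by
      rcases hR with rfl | hR
      · exact le_rfl
      · exact hR.1.1
    apply Subgroup.subset_closure
    refine ⟨(mem_autGroup_iff F hRS α).mp hα, ?_⟩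
    exact hstep R hR (fun Q' hQ'S hlt φ' hφ' x' => (hQ Q' hQ'S hlt hφ').2 x') α hα
  exact (hle Q hφ).2 x

end Cfsg.Agent.Helper10.GExtra
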