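import Mathlib
import Cfsg.Agent.Helper10.GExtraB
import Cfsg.Agent.S5077

set_option autoImplicit false

/-! Fusion part of S5233, 2: the stabilizer of `Z = [P, P]` in `Aut_F(R)` for an essential
subgroup `R`; the extension lemma and the non-commuting lemma. -/

namespace Cfsg.Agent.Helper10.GExtra

open Cfsg Cfsg.FusionSystem Cfsg.Agent.Helper25 Cfsg.Agent.Helper10.MetaFus
open scoped commutatorElement

variable {Ω : Type*} [Group Ω] {S : Subgroup Ω}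

/-- The automorphisms in `Aut_F(R)` preserving `[P, P]` in both directions. -/
def stabZ (F : FusionSystem S) (P R : Subgroup Ω) : Subgroup (MulAut R) where
  carrier := {α | α ∈ F.autGroup R ∧ ∀ y : R, (y : Ω) ∈ ⁅P, P⁆ ↔ ((α y : R) : Ω) ∈ ⁅P, P⁆}
  one_mem' := ⟨(F.autGroup R).one_mem, fun _ => Iff.rfl⟩
  mul_mem' := by
    rintro a b ⟨ha, ha'⟩ ⟨hb, hb'⟩
    exact ⟨(F.autGroup R).mul_mem ha hb, fun y => (hb' y).trans (ha' (b y))⟩
  inv_mem' := by
    rintro a ⟨ha, ha'⟩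
    refine ⟨(F.autGroup R).inv_mem ha, fun y => ?_⟩
    have := ha' (a⁻¹ y)
    rw [MulAut.apply_inv_self] at this
    exact this.symm

theorem mem_stabZ (F : FusionSystem S) (P R : Subgroup Ω) (α : MulAut R) :
    α ∈ stabZ F P R ↔ α ∈ F.autGroup R ∧
      ∀ y : R, (y : Ω) ∈ ⁅P, P⁆ ↔ ((α y : R) : Ω) ∈ ⁅P, P⁆ := Iff.rfl

/-- An automorphism in the system sending a nontrivial element of `Z` into `Z` preserves `Z`. -/
theorem mem_stabZ_of_apply_mem {p : ℕ} [Fact p.Prime] {F : FusionSystem S} {P R : Subgroup Ω}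
    [Finite R] (D : GData p F P) (hZR : ⁅P, P⁆ ≤ R) {α : MulAut R} (hα : α ∈ F.autGroup R)
    (z₀ : R) (hz₀ : (z₀ : Ω) ∈ ⁅P, P⁆) (hz₀1 : z₀ ≠ 1) (hαz : ((α z₀ : R) : Ω) ∈ ⁅P, P⁆) :
    α ∈ stabZ F P R := by
  refine ⟨hα, ?_⟩
  set ZR : Subgroup R := (⁅P, P⁆).subgroupOf R with hZRdef
  have hcard : Nat.card ZR = p := by
    rw [hZRdef, Nat.card_congr (Subgroup.subgroupOfEquivOfLe hZR).toEquiv, D.card]
  have hle : ZR.map α.toMonoidHom ≤ ZR := by
    rintro _ ⟨y, hy, rfl⟩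
    obtain ⟨k, hk⟩ := exists_pow_eq ZR hcard z₀ y hz₀ hz₀1 hy
    rw [← hk]
    show α (z₀ ^ k) ∈ ZR
    rw [map_pow]
    exact ZR.pow_mem hαz k
  have heq : ZR.map α.toMonoidHom = ZR := by
    apply Subgroup.eq_of_le_of_card_ge hle
    rw [Subgroup.card_map_of_injective α.injective]
  intro y
  have h1 : y ∈ ZR ↔ α y ∈ ZR.map α.toMonoidHom :=
    (Subgroup.mem_map_iff_mem (f := α.toMonoidHom) α.injective).symm
  rw [heq] at h1
  exact h1

/-- Growth of normalizers: if `R` normalizes `C` and `C ≰ R`, some element of `C` outside `R`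
normalizes `R`. -/
theorem exists_mem_normalizer_not_mem [Finite S] (p : ℕ) [Fact p.Prime] (hS : IsPGroup p S)
    {R C : Subgroup Ω} (hRS : R ≤ S) (hCS : C ≤ S) (hRN : R ≤ Subgroup.normalizer (C : Set Ω))
    (hCR : ¬ C ≤ R) : ∃ b ∈ C, b ∈ Subgroup.normalizer (R : Set Ω) ∧ b ∉ R := by
  have hsupS : R ⊔ C ≤ S := sup_le hRS hCS
  have : Finite ↥(R ⊔ C) := finite_of_le hsupS
  have hne : R ≠ R ⊔ C := fun h => hCR (h ▸ le_sup_right)
  obtain ⟨g, hgN, hgR⟩ := exists_mem_normalizerIn_not_mem (S := R ⊔ C) p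
    (isPGroup_of_le hS hsupS) le_sup_left hne
  have hg' : g ∈ ((R ⊔ C : Subgroup Ω) : Set Ω) := hgN.1
  rw [Subgroup.coe_mul_of_left_le_normalizer_right R C hRN] at hg'
  obtain ⟨a, ha, b, hb, rfl⟩ := hg'
  have haN : a ∈ Subgroup.normalizer (R : Set Ω) := Subgroup.le_normalizer ha
  have hbN : b ∈ Subgroup.normalizer (R : Set Ω) := by
    have := Subgroup.mul_mem _ (Subgroup.inv_mem _ haN) hgN.2
    rwa [inv_mul_cancel_left] at this
  refine ⟨b, hb, hbN, fun hbR => hgR (R.mul_mem ha hbR)⟩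

section Essential

variable [Finite S] {p : ℕ} [Fact p.Prime] (hS : IsPGroup p S) {F : FusionSystem S}
  (hF : F.IsSaturated p) {P : Subgroup Ω} (D : GData p F P) {R : Subgroup Ω}
  (hR : F.IsEssential p R)
  (hM : ∀ Q : Subgroup Ω, Q ≤ S → Nat.card R < Nat.card Q → ∀ φ ∈ F.Hom Q, ∀ x : Q,
    (x : Ω) ∈ ⁅P, P⁆ ↔ φ x ∈ ⁅P, P⁆)

include hS D hR in
theorem commutator_le_of_isEssential : ⁅P, P⁆ ≤ R := by
  have hC : centralizerIn S R ≤ R := hR.1.2 R (isConj_refl F hR.1.1)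
  intro y hy
  apply hC
  refine ⟨D.leS hy, ?_⟩
  show y ∈ Subgroup.centralizer (R : Set Ω)
  rw [Subgroup.mem_centralizer_iff]
  intro r hr
  exact D.central hS r (hR.1.1 hr) y hy

include hS hF hR hM in
/-- The extension lemma: an automorphism in the system conjugating `c_g` (with `g ∈ N_S(R)`
outside `R`) to an automorphism induced by `S` preserves `Z`. -/
theorem mem_stabZ_of_conj {ψ : MulAut R} (hψ : ψ ∈ F.autGroup R) {g h : Ω} (hgS : g ∈ S)
    (hgN : g ∈ Subgroup.normalizer (R : Set Ω)) (hgR : g ∉ R) (hh : h ∈ S)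
    (hw : ∀ (x : R) (hx : g * (x : Ω) * g⁻¹ ∈ R),
      ((ψ ⟨g * x * g⁻¹, hx⟩ : R) : Ω) = h * ((ψ x : R) : Ω) * h⁻¹) :
    ψ ∈ stabZ F P R := by
  have hRS : R ≤ S := hR.1.1
  have hrec : F.IsReceptive R :=
    Cfsg.Agent.S5077.extension_axiom p hS F hF R
      (Cfsg.Agent.S5077.sylow_axiom p hS F hF R hR.2.1).1
  have hψmem : autHom ψ ∈ F.Hom R := (mem_autGroup_iff F hRS ψ).mp hψ
  obtain ⟨χ, hχ, hext⟩ := hrec.2 R (autHom ψ) hψmem (autHom_range ψ)
  have hRN : R ≤ extender S R (autHom ψ) :=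
    le_extender hRS _ (fun x => hRS (ψ x).2)
  have hgE : g ∈ extender S R (autHom ψ) :=
    Subgroup.subset_closure ⟨hgS, hgN, h, hh, hw⟩
  have hNS : extender S R (autHom ψ) ≤ S := (F.le_of_mem hχ).1
  have hlt : Nat.card R < Nat.card (extender S R (autHom ψ)) :=
    card_lt_of_lt hNS (lt_of_le_of_ne hRN (fun h => hgR (h ▸ hgE)))
  refine ⟨hψ, fun y => ?_⟩
  have h1 := hM _ hNS hlt χ hχ ⟨y, hRN y.2⟩
  rw [hext y y.2 (hRN y.2)] at h1
  exact h1

include hS hF D hR hM in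
/-- The non-commuting lemma: if some `g ∈ N_S(R)` outside `R` centralizes `φ z`, with
`1 ≠ z ∈ Z`, then `φ` preserves `Z`. -/
theorem mem_stabZ_of_commute {φ : MulAut R} (hφ : φ ∈ F.autGroup R) (z : R)
    (hz : (z : Ω) ∈ ⁅P, P⁆) (hz1 : z ≠ 1) {g : Ω} (hgS : g ∈ S)
    (hgN : g ∈ Subgroup.normalizer (R : Set Ω)) (hgR : g ∉ R)
    (hcomm : g * ((φ z : R) : Ω) = ((φ z : R) : Ω) * g) : φ ∈ stabZ F P R := by
  have hRS : R ≤ S := hR.1.1
  have hfinR : Finite R := finite_of_le hRS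
  have hZR : ⁅P, P⁆ ≤ R := commutator_le_of_isEssential hS D hR
  obtain ⟨-, Sy, hSy⟩ := (Cfsg.Agent.S5077.sylow_axiom p hS F hF R hR.2.1).2
  set u : MulAut R := R.normalizerMonoidHom ⟨g, hgN⟩ with hu
  have huapp : ∀ y : R, ((u y : R) : Ω) = g * (y : Ω) * g⁻¹ := fun y => rfl
  have huS : u ∈ autInducedBy S R := (mem_autInducedBy_iff S R u).mpr ⟨g, hgS, huapp⟩
  have huA : u ∈ F.autGroup R := autInducedBy_le_autGroup F hRS huS
  set u' : MulAut R := φ⁻¹ * u * φ with hu'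
  have hu'A : u' ∈ F.autGroup R :=
    (F.autGroup R).mul_mem ((F.autGroup R).mul_mem ((F.autGroup R).inv_mem hφ) huA) hφ
  have huφz : u (φ z) = φ z := by
    apply Subtype.ext
    rw [huapp, hcomm, mul_inv_cancel_right]
  have hu'z : u' z = z := by
    show φ⁻¹ (u (φ z)) = z
    rw [huφz, MulAut.inv_apply_self]
  have hu'M : u' ∈ stabZ F P R :=
    mem_stabZ_of_apply_mem D hZR hu'A z hz hz1 (by rw [hu'z]; exact hz)
  -- `u'` is a `p`-element
  obtain ⟨k, hk⟩ := (autInducedBy_isPGroup hS R) ⟨u, huS⟩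
  have huk : u ^ (p ^ k) = 1 := by
    have := congrArg Subtype.val hk
    simpa using this
  have hu'k : u' ^ (p ^ k) = 1 := by
    have : u' = φ⁻¹ * u * φ⁻¹⁻¹ := by rw [inv_inv]
    rw [this, conj_pow, huk, mul_one, mul_inv_cancel]
  -- Sylow conjugation inside the stabilizer
  set M' : Subgroup (F.autGroup R) := (stabZ F P R).subgroupOf (F.autGroup R) with hM'
  have hSyM : (Sy : Subgroup (F.autGroup R)) ≤ M' := by
    rw [hSy]
    intro a ha
    rw [Subgroup.mem_subgroupOf] at ha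
    rw [hM', Subgroup.mem_subgroupOf]
    obtain ⟨s, hs, hsa⟩ := (mem_autInducedBy_iff S R _).mp ha
    refine ⟨a.2, fun y => ?_⟩
    rw [hsa y]
    exact D.conj_iff hs _
  have hv : (⟨u', hu'A⟩ : F.autGroup R) ∈ M' := by
    rw [hM', Subgroup.mem_subgroupOf]
    exact hu'M
  have hvp : ∃ k : ℕ, (⟨u', hu'A⟩ : F.autGroup R) ^ (p ^ k) = 1 :=
    ⟨k, Subtype.ext (by simpa using hu'k)⟩
  have hfinA : Finite (F.autGroup R) := inferInstance
  obtain ⟨m, hmM, hmv⟩ := sylow_conj_mem Sy M' hSyM ⟨u', hu'A⟩ hv hvp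
  rw [hSy, Subgroup.mem_subgroupOf] at hmv
  rw [hM', Subgroup.mem_subgroupOf] at hmM
  obtain ⟨h, hh, hhm⟩ := (mem_autInducedBy_iff S R _).mp hmv
  -- the automorphism `ψ = m φ⁻¹`
  set ψ : MulAut R := (m : MulAut R) * φ⁻¹ with hψ
  have hψA : ψ ∈ F.autGroup R := (F.autGroup R).mul_mem m.2 ((F.autGroup R).inv_mem hφ)
  have hψM : ψ ∈ stabZ F P R := by
    apply mem_stabZ_of_conj hS hF hR hM hψA hgS hgN hgR hh
    intro x hx
    have h1 := hhm (ψ x)
    have h2 : ((m * ⟨u', hu'A⟩ * m⁻¹ : F.autGroup R) : MulAut R) (ψ x) =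
        ψ ⟨g * x * g⁻¹, hx⟩ := by
      show (m : MulAut R) (φ⁻¹ (u (φ ((m : MulAut R)⁻¹ ((m : MulAut R) (φ⁻¹ x)))))) = _
      rw [MulAut.inv_apply_self, MulAut.apply_inv_self]
      rfl
    rw [h2] at h1
    exact h1
  have : φ⁻¹ = (m : MulAut R)⁻¹ * ψ := by rw [hψ, inv_mul_cancel_left]
  have hφinv : φ⁻¹ ∈ stabZ F P R := by
    rw [this]
    exact (stabZ F P R).mul_mem ((stabZ F P R).inv_mem hmM) hψM
  have := (stabZ F P R).inv_mem hφinv
  rwa [inv_inv] at this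

end Essential

end Cfsg.Agent.Helper10.GExtra
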