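import Mathlib
import Cfsg.Agent.Helper10.MetaFusA

set_option autoImplicit false

namespace Cfsg.Agent.Helper10.MetaFus

/-- an automorphism inverting `V` elementwise: its odd powers do the same -/
theorem odd_pow_inverts {P : Type*} [Group P] (V : Subgroup P) (σ : MulAut P)
    (hσ : ∀ v ∈ V, σ v = v⁻¹) (j : ℕ) : ∀ v ∈ V, (σ ^ (2 * j + 1)) v = v⁻¹ := by
  have h2 : ∀ v ∈ V, (σ ^ 2) v = v := by
    intro v hv
    rw [pow_two, MulAut.mul_apply, hσ v hv, hσ _ (V.inv_mem hv), inv_inv]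
  have h2j : ∀ j : ℕ, ∀ v ∈ V, (σ ^ (2 * j)) v = v := by
    intro j
    induction j with
    | zero => intro v _; simp
    | succ j ih =>
      intro v hv
      rw [mul_add, mul_one, pow_add, MulAut.mul_apply, h2 v hv, ih v hv]
  intro v hv
  rw [pow_succ, MulAut.mul_apply, hσ v hv, h2j j _ (V.inv_mem hv)]

theorem le_center_of_inverting_two_pow {P : Type*} [Group P] [Finite P] {p : ℕ} [Fact p.Prime]
    (hp : p ≠ 2) (hP : IsPGroup p P) (V : Subgroup P) [hVn : V.Normal]
    (hV : ∀ x : P, x ^ p = 1 → x ∈ V)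
    (σ : MulAut P) (a : ℕ) (hσa : σ ^ (2 ^ a) = 1) (hσ : ∀ v ∈ V, σ v = v⁻¹) :
    V ≤ Subgroup.center P := by
  classical
  have hpp : p.Prime := Fact.out
  by_contra hcon
  set C := Subgroup.centralizer (V : Set P) with hC
  have hCne : ∃ g : P, g ∉ C := by
    by_contra h
    push Not at h
    apply hcon
    intro v hv
    rw [Subgroup.mem_center_iff]
    intro g
    exact (Subgroup.mem_centralizer_iff.mp (h g) v hv).symm
  obtain ⟨g, hg⟩ := hCne
  -- σ maps C into C
  have hσC : ∀ c ∈ C, σ c ∈ C := by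
    intro c hc
    rw [hC, Subgroup.mem_centralizer_iff]
    intro v hv
    have hv' : σ v⁻¹ = v := by rw [hσ _ (V.inv_mem hv), inv_inv]
    have hcv : v⁻¹ * c = c * v⁻¹ := Subgroup.mem_centralizer_iff.mp hc v⁻¹ (V.inv_mem hv)
    calc v * σ c = σ v⁻¹ * σ c := by rw [hv']
      _ = σ (v⁻¹ * c) := by rw [map_mul]
      _ = σ (c * v⁻¹) := by rw [hcv]
      _ = σ c * v := by rw [map_mul, hv']
  -- g⁻¹ σ(g) ∈ C for all g
  have hcomm : ∀ h : P, h⁻¹ * σ h ∈ C := by
    intro h
    rw [hC, Subgroup.mem_centralizer_iff]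
    intro v hv
    have ht : h * v⁻¹ * h⁻¹ ∈ V := hVn.conj_mem v⁻¹ (V.inv_mem hv) h
    have h1 : σ (h * v⁻¹ * h⁻¹) = h * v * h⁻¹ := by
      rw [hσ _ ht]
      group
    have hv' : σ v⁻¹ = v := by rw [hσ _ (V.inv_mem hv), inv_inv]
    have key : σ h * v * (σ h)⁻¹ = h * v * h⁻¹ := by
      rw [← h1, map_mul, map_mul, hv', map_inv]
    have key2 : σ h * v = h * v * h⁻¹ * σ h := by
      rw [← key]
      group
    calc v * (h⁻¹ * σ h) = h⁻¹ * (h * v * h⁻¹ * σ h) := by group
      _ = h⁻¹ * σ h * v := by rw [← key2, mul_assoc]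
  -- the coset g C
  let X : Type _ := {y : P // g⁻¹ * y ∈ C}
  have hfmem : ∀ y : X, g⁻¹ * σ y.1 ∈ C := by
    intro y
    have h1 : g⁻¹ * σ y.1 = (g⁻¹ * σ g) * σ (g⁻¹ * y.1) := by
      rw [map_mul, map_inv]
      group
    rw [h1]
    exact C.mul_mem (hcomm g) (hσC _ y.2)
  let f : Function.End X := fun y => ⟨σ y.1, hfmem y⟩
  have hfpow : ∀ (n : ℕ) (y : X), ((f ^ n) y).1 = (σ ^ n) y.1 := by
    intro n
    induction n with
    | zero => intro y; rfl
    | succ n ih =>
      intro y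
      rw [pow_succ', pow_succ']
      show σ ((f ^ n) y).1 = σ ((σ ^ n) y.1)
      rw [ih]
  have hfa : f ^ (2 ^ a) = 1 := by
    funext y
    apply Subtype.ext
    rw [hfpow, hσa]
    rfl
  haveI : Fintype X := Fintype.ofFinite X
  have hmod := Equiv.Perm.card_fixedPoints_modEq (f := f) (p := 2) (n := a) hfa
  let e : X ≃ C :=
    { toFun := fun y => ⟨g⁻¹ * y.1, y.2⟩
      invFun := fun c => ⟨g * c.1, by
        show g⁻¹ * (g * c.1) ∈ C
        rw [inv_mul_cancel_left]
        exact c.2⟩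
      left_inv := by
        intro y
        apply Subtype.ext
        show g * (g⁻¹ * y.1) = y.1
        rw [mul_inv_cancel_left]
      right_inv := by
        intro c
        apply Subtype.ext
        show g⁻¹ * (g * c.1) = c.1
        rw [inv_mul_cancel_left] }
  have hcardX : Fintype.card X = Nat.card C := by
    rw [← Nat.card_eq_fintype_card]
    exact Nat.card_congr e
  obtain ⟨m, hm⟩ := (hP.to_subgroup C).exists_card_eq
  have hodd : Odd (Fintype.card X) := by
    rw [hcardX, hm]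
    exact (hpp.odd_of_ne_two hp).pow
  have hfix : Fintype.card (Function.fixedPoints f) ≠ 0 := by
    intro h0
    rw [h0] at hmod
    have h1 := Nat.odd_iff.mp hodd
    have h2 : Fintype.card X % 2 = 0 % 2 := hmod
    omega
  obtain ⟨⟨y, hy⟩⟩ := Fintype.card_pos_iff.mp (Nat.pos_of_ne_zero hfix)
  have hσy : σ y.1 = y.1 := congrArg Subtype.val hy
  have hyC : y.1 ∉ C := by
    intro h
    apply hg
    have : g = y.1 * (g⁻¹ * y.1)⁻¹ := by group
    rw [this]
    exact C.mul_mem h (C.inv_mem y.2)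
  have hy1 : y.1 ≠ 1 := by
    intro h
    exact hyC (h ▸ C.one_mem)
  obtain ⟨k, hk⟩ := (IsPGroup.iff_orderOf.mp hP) y.1
  have hk0 : k ≠ 0 := by
    rintro rfl
    rw [pow_zero, orderOf_eq_one_iff] at hk
    exact hy1 hk
  set z := y.1 ^ (p ^ (k - 1)) with hz
  have hzp : z ^ p = 1 := by
    rw [hz, ← pow_mul, ← pow_succ, Nat.sub_add_cancel (Nat.pos_of_ne_zero hk0), ← hk,
      pow_orderOf_eq_one]
  have hz1 : z ≠ 1 := by
    rw [hz]
    apply pow_ne_one_of_lt_orderOf (pow_pos hpp.pos _).ne'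
    rw [hk]
    exact Nat.pow_lt_pow_right hpp.one_lt (by omega)
  have hσz : σ z = z := by rw [hz, map_pow, hσy]
  have hzV : z ∈ V := hV z hzp
  have hzz : z = z⁻¹ := by rw [← hσ z hzV, hσz]
  have hz2 : z ^ 2 = 1 := by
    rw [pow_two]
    nth_rewrite 2 [hzz]
    rw [mul_inv_cancel]
  have hd2 : orderOf z ∣ 2 := orderOf_dvd_of_pow_eq_one hz2
  have hdp : orderOf z ∣ p := orderOf_dvd_of_pow_eq_one hzp
  have hcop : Nat.Coprime 2 p := (Nat.coprime_primes Nat.prime_two hpp).mpr (Ne.symm hp)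
  have h1 : orderOf z ∣ 1 := by
    have := Nat.dvd_gcd hd2 hdp
    rwa [hcop.gcd_eq_one] at this
  exact hz1 (orderOf_eq_one_iff.mp (Nat.dvd_one.mp h1))

/-- In a finite `p`-group (`p` odd), a normal subgroup containing all elements of order `p` that is
inverted elementwise by an automorphism is central. -/
theorem le_center_of_inverting {P : Type*} [Group P] [Finite P] {p : ℕ} [Fact p.Prime]
    (hp : p ≠ 2) (hP : IsPGroup p P) (V : Subgroup P) [hVn : V.Normal]
    (hV : ∀ x : P, x ^ p = 1 → x ∈ V)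
    (σ : MulAut P) (hσ : ∀ v ∈ V, σ v = v⁻¹) : V ≤ Subgroup.center P := by
  obtain ⟨a, k, hk, hord⟩ := Nat.exists_eq_two_pow_mul_odd (orderOf_pos σ).ne'
  obtain ⟨j, rfl⟩ := hk
  apply le_center_of_inverting_two_pow hp hP V hV (σ ^ (2 * j + 1)) a _ (odd_pow_inverts V σ hσ j)
  rw [← pow_mul, mul_comm, ← hord, pow_orderOf_eq_one]

end Cfsg.Agent.Helper10.MetaFus
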