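import Mathlib
import Cfsg.Agent.Helper26.FusionOmega
import Cfsg.Agent.Helper10.MetaFusB

set_option autoImplicit false

/-! Fusion-theoretic glue for S5234, part 1: general extension helpers. -/

namespace Cfsg.Agent.Helper10.MetaFus

open Cfsg Cfsg.FusionSystem Cfsg.Agent.Helper25 Cfsg.Agent.Helper26

variable {Ω : Type*} [Group Ω] {S : Subgroup Ω}

theorem bot_sc (F : FusionSystem S) : F.StronglyClosed (⊥ : Subgroup Ω) := by
  refine ⟨bot_le, fun R hR φ _ x => ?_⟩
  have hx : x = 1 := by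
    apply Subtype.ext
    exact Subgroup.mem_bot.mp (hR x.2)
  rw [hx, map_one]
  exact Subgroup.one_mem _

/-- An injective map of the system from `V` to itself is an `F`-automorphism. -/
theorem exists_aut_of_hom (F : FusionSystem S) {V : Subgroup Ω} [Finite V] (φ : V →* Ω)
    (hφ : φ ∈ F.Hom V) (hV : ∀ x, φ x ∈ V) :
    ∃ α : MulAut V, α ∈ F.autGroup V ∧ ∀ x, ((α x : V) : Ω) = φ x := by
  have hinj : Function.Injective (φ.codRestrict V hV) := by
    intro a b hab
    exact F.injective_of_mem hφ (congrArg Subtype.val hab)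
  have hbij : Function.Bijective (φ.codRestrict V hV) :=
    ⟨hinj, Finite.injective_iff_surjective.mp hinj⟩
  refine ⟨MulEquiv.ofBijective (φ.codRestrict V hV) hbij, ?_, fun x => rfl⟩
  rw [mem_autGroup_iff F (F.le_of_mem hφ).1]
  have : autHom (MulEquiv.ofBijective (φ.codRestrict V hV) hbij) = φ := by
    ext x
    rfl
  rw [this]
  exact hφ

/-- Extension of a map onto a receptive subgroup to a subgroup `T` of its extender. -/
theorem exists_extension (F : FusionSystem S) {Q Y T : Subgroup Ω} (hrec : F.IsReceptive Q)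
    (ψ : Y →* Ω) (hψ : ψ ∈ F.Hom Y) (hψr : ψ.range = Q) (hYT : Y ≤ T) (hTS : T ≤ S)
    (hTN : T ≤ Subgroup.normalizer (Y : Set Ω))
    (hw : ∀ g ∈ T, ∃ h ∈ S, ∀ (x : Y) (hx : g * (x : Ω) * g⁻¹ ∈ Y),
      ψ ⟨g * x * g⁻¹, hx⟩ = h * ψ x * h⁻¹) :
    ∃ χ ∈ F.Hom T, ∀ (x : Ω) (hY : x ∈ Y), χ ⟨x, hYT hY⟩ = ψ ⟨x, hY⟩ := by
  obtain ⟨ψ', hψ', hext⟩ := hrec.2 Y ψ hψ hψr
  have hTe : T ≤ extender S Y ψ := by
    intro g hg
    obtain ⟨h, hh, hgh⟩ := hw g hg
    exact Subgroup.subset_closure ⟨hTS hg, hTN hg, h, hh, hgh⟩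
  refine ⟨ψ'.comp (Subgroup.inclusion hTe), restrict_mem F hTe hψ', ?_⟩
  intro x hY
  exact hext x hY (hTe (hYT hY))

/-- A strongly closed subgroup of a saturated system is receptive. -/
theorem receptive_of_stronglyClosed [Finite S] (p : ℕ) (F : FusionSystem S) (hF : F.IsSaturated p)
    {V : Subgroup Ω} (hV : F.StronglyClosed V) : F.IsReceptive V := by
  obtain ⟨X, ⟨φ, hφ, hφr⟩, -, hrec⟩ := hF V hV.1
  have : Finite V := finite_of_le hV.1
  have hXV : X ≤ V := by
    rw [← hφr]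
    rintro _ ⟨x, rfl⟩
    exact hV.2 V le_rfl φ hφ x
  have hcard : Nat.card X = Nat.card V := by
    rw [← hφr]
    exact (Nat.card_congr (MonoidHom.ofInjective (F.injective_of_mem hφ)).toEquiv).symm
  have : X = V := Subgroup.eq_of_le_of_card_ge hXV hcard.ge
  exact this ▸ hrec

end Cfsg.Agent.Helper10.MetaFus
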