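import Mathlib
import Cfsg.Agent.Helper10.GExtraC
import Cfsg.Agent.Helper10.MetaFusC

set_option autoImplicit false

/-! Fusion part of S5233, 3: the case where `P ⊓ R` contains all elements of order `p` of `P`
(`p` odd) is contradictory. -/

namespace Cfsg.Agent.Helper10.GExtra

open Cfsg Cfsg.FusionSystem Cfsg.Agent.Helper25 Cfsg.Agent.Helper10.MetaFus
open scoped commutatorElement

variable {Ω : Type*} [Group Ω] {S : Subgroup Ω}

theorem false_of_no_order_p [Finite S] {p : ℕ} [Fact p.Prime] (hS : IsPGroup p S)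
    {F : FusionSystem S} (hF : F.IsSaturated p) {P : Subgroup Ω} (D : GData p F P)
    {R : Subgroup Ω} (hRS : R ≤ S) (hp2 : p ≠ 2)
    (hTab : ∀ a ∈ P ⊓ R, ∀ b ∈ P ⊓ R, a * b = b * a) (hTexp : ∀ a ∈ P ⊓ R, a ^ p = 1)
    (hno : ∀ y ∈ P, y ∉ R → y ^ p ≠ 1)
    {β : MulAut R} (hβ : β ∈ F.autGroup R) (z : R) (hz : (z : Ω) ∈ ⁅P, P⁆) (hz1 : z ≠ 1)
    {g : Ω} (hgP : g ∈ P)
    (hnc1 : g * ((β z : R) : Ω) ≠ ((β z : R) : Ω) * g)
    (hnc2 : g * ((β⁻¹ z : R) : Ω) ≠ ((β⁻¹ z : R) : Ω) * g)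
    (hcent : ∀ y ∈ P, y * ((β z : R) : Ω) = ((β z : R) : Ω) * y → y ∈ R) : False := by
  have hpp : p.Prime := Fact.out
  have hPS : P ≤ S := D.sc.1
  set T : Subgroup Ω := P ⊓ R with hT
  have hTP : T ≤ P := inf_le_left
  have hTR : T ≤ R := inf_le_right
  have hTS : T ≤ S := hTP.trans hPS
  have hfinT : Finite T := finite_of_le hTS
  have hfinR : Finite R := finite_of_le hRS
  have hmemT : ∀ y ∈ P, y ^ p = 1 → y ∈ T := fun y hy h =>
    ⟨hy, by_contra fun hR' => hno y hy hR' h⟩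
  have hZT : ⁅P, P⁆ ≤ T := fun y hy => hmemT y (D.le hy) (D.pow_eq_one hy)
  -- `T` is strongly closed, hence receptive
  have hTsc : F.StronglyClosed T := by
    refine ⟨hTS, fun Q hQT φ hφ y => ?_⟩
    have h1 : φ y ∈ P := D.sc.2 Q (hQT.trans hTP) φ hφ y
    apply hmemT _ h1
    rw [← map_pow]
    have : y ^ p = 1 := Subtype.ext (by simpa using hTexp y (hQT y.2))
    rw [this, map_one]
  have hrecT : F.IsReceptive T := receptive_of_stronglyClosed p F hF hTsc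
  have hSNT : S ≤ Subgroup.normalizer (T : Set Ω) := le_normalizer_of_stronglyClosed F hTsc
  have hgS : g ∈ S := hPS hgP
  -- `β` restricted to `T`
  have hβmem : autHom β ∈ F.Hom R := (mem_autGroup_iff F hRS β).mp hβ
  have hβP : ∀ t : R, (t : Ω) ∈ P → ((β t : R) : Ω) ∈ P := fun t ht =>
    autGroup_apply_mem_of_stronglyClosed F D.sc hRS β hβ t ht
  obtain ⟨βT, hβTA, hβTapp⟩ := exists_aut_of_hom F ((autHom β).comp (Subgroup.inclusion hTR))
    (restrict_mem F hTR hβmem) (fun t => ⟨hβP _ t.2.1, (β _).2⟩)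
  have hβTapp' : ∀ t : T, ((βT t : T) : Ω) = ((β ⟨t, hTR t.2⟩ : R) : Ω) := fun t => hβTapp t
  have hcomm : ∀ a b : T, a * b = b * a := fun a b => Subtype.ext (hTab a a.2 b b.2)
  set L : Subgroup T := (⁅P, P⁆).subgroupOf T with hL
  have hLcard : Nat.card L = p := by
    rw [hL, Nat.card_congr (Subgroup.subgroupOfEquivOfLe hZT).toEquiv, D.card]
  set τ : MulAut T := T.normalizerMonoidHom ⟨g, hSNT hgS⟩ with hτ
  have hτapp : ∀ t : T, ((τ t : T) : Ω) = g * (t : Ω) * g⁻¹ := fun t => rfl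
  have hτA : τ ∈ F.autGroup T :=
    autInducedBy_le_autGroup F hTS ((mem_autInducedBy_iff S T τ).mpr ⟨g, hgS, hτapp⟩)
  have hτL : ∀ y ∈ L, τ y = y := by
    intro y hy
    apply Subtype.ext
    rw [hτapp, D.central hS g hgS y hy, mul_inv_cancel_right]
  have hτV : ∀ v, τ v * v⁻¹ ∈ L := by
    intro v
    show ((τ v * v⁻¹ : T) : Ω) ∈ ⁅P, P⁆
    have : ((τ v * v⁻¹ : T) : Ω) = ⁅g, (v : Ω)⁆ := by
      rw [commutatorElement_def]
      rfl
    rw [this]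
    exact Subgroup.commutator_mem_commutator hgP (hTP v.2)
  set zT : T := ⟨z, hZT hz⟩ with hzT
  have hzL : zT ∈ L := hz
  have hzT1 : zT ≠ 1 := by
    intro h
    apply hz1
    apply Subtype.ext
    have := congrArg Subtype.val h
    exact this
  have hxval : ((βT zT : T) : Ω) = ((β z : R) : Ω) := by
    rw [hβTapp']
  have hx'val : ((βT⁻¹ zT : T) : Ω) = ((β⁻¹ z : R) : Ω) := by
    have h1 := hβTapp' (βT⁻¹ zT)
    rw [MulAut.apply_inv_self] at h1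
    have h2 : β ⟨((βT⁻¹ zT : T) : Ω), hTR (βT⁻¹ zT).2⟩ = z := Subtype.ext h1.symm
    have h3 : (⟨((βT⁻¹ zT : T) : Ω), hTR (βT⁻¹ zT).2⟩ : R) = β⁻¹ z := by
      rw [← h2, MulAut.inv_apply_self]
    exact congrArg Subtype.val h3
  have h1 : τ (βT zT) ≠ βT zT := by
    intro h
    apply hnc1
    have := congrArg Subtype.val h
    rw [hτapp, hxval] at this
    calc g * ((β z : R) : Ω) = g * ((β z : R) : Ω) * g⁻¹ * g := by group
      _ = ((β z : R) : Ω) * g := by rw [this]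
  have h2 : τ (βT⁻¹ zT) ≠ βT⁻¹ zT := by
    intro h
    apply hnc2
    have := congrArg Subtype.val h
    rw [hτapp, hx'val] at this
    calc g * ((β⁻¹ z : R) : Ω) = g * ((β⁻¹ z : R) : Ω) * g⁻¹ * g := by group
      _ = ((β⁻¹ z : R) : Ω) * g := by rw [this]
  obtain ⟨k, d, hdcl, hdz, hdτ, hτk⟩ :=
    exists_inverting_comm hcomm L hLcard τ βT hτL hτV zT hzL hzT1 h1 h2
  have hdA : d ∈ F.autGroup T := by
    refine (Subgroup.closure_le _).mpr ?_ hdcl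
    rintro a (rfl | rfl)
    · exact hτA
    · exact hβTA
  -- the element `g' = g ^ k`
  set g' : Ω := g ^ k with hg'
  have hg'P : g' ∈ P := P.pow_mem hgP k
  have hg'S : g' ∈ S := hPS hg'P
  have hτkapp : ∀ t : T, (((τ ^ k) t : T) : Ω) = g' * (t : Ω) * g'⁻¹ := by
    intro t
    have h3 : τ ^ k = T.normalizerMonoidHom ((⟨g, hSNT hgS⟩ : Subgroup.normalizer (T : Set Ω)) ^ k) :=
      (map_pow _ _ _).symm
    rw [h3]
    show ((((⟨g, hSNT hgS⟩ : Subgroup.normalizer (T : Set Ω)) ^ k :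
      Subgroup.normalizer (T : Set Ω)) : Ω)) * (t : Ω) *
      ((((⟨g, hSNT hgS⟩ : Subgroup.normalizer (T : Set Ω)) ^ k :
      Subgroup.normalizer (T : Set Ω)) : Ω))⁻¹ = _
    rw [Subgroup.coe_pow]
  have hg'R : g' ∉ R := by
    intro hg'R
    apply hτk
    apply Subtype.ext
    rw [hτkapp, hTab g' ⟨hg'P, hg'R⟩ _ (βT zT).2, mul_inv_cancel_right]
  have hg'p : g' ^ p ≠ 1 := hno g' hg'P hg'R
  have hg'pZ : g' ^ p ∈ ⁅P, P⁆ := D.pow g' hg'P
  -- extension of `d`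
  have hφd : autHom d ∈ F.Hom T := (mem_autGroup_iff F hTS d).mp hdA
  obtain ⟨χ, hχ, hext⟩ := hrecT.2 T (autHom d) hφd (autHom_range d)
  have hTN : T ≤ extender S T (autHom d) := le_extender hTS _ (fun x => hTS (d x).2)
  have hdτapp : ∀ t : T, ((d ((τ ^ k) t) : T) : Ω) = g' * ((d t : T) : Ω) * g'⁻¹ := by
    intro t
    have : d ((τ ^ k) t) = (τ ^ k) (d t) := DFunLike.congr_fun hdτ t
    rw [this, hτkapp]
  have hg'N : g' ∈ extender S T (autHom d) := by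
    apply Subgroup.subset_closure
    refine ⟨hg'S, hSNT hg'S, g', hg'S, fun t ht => ?_⟩
    have e : (⟨g' * (t : Ω) * g'⁻¹, ht⟩ : T) = (τ ^ k) t := Subtype.ext (hτkapp t).symm
    rw [e]
    exact hdτapp t
  set g₂ : Ω := χ ⟨g', hg'N⟩ with hg₂
  have hg₂P : g₂ ∈ P :=
    D.sc.2 (P ⊓ extender S T (autHom d)) inf_le_left
      (χ.comp (Subgroup.inclusion inf_le_right)) (restrict_mem F inf_le_right hχ)
      ⟨g', hg'P, hg'N⟩
  -- `g₂` and `g'` act in the same way on `x`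
  set x : Ω := ((β z : R) : Ω) with hx
  have hxT : x ∈ T := by
    rw [← hxval]
    exact (βT zT).2
  have hconj : g₂ * x * g₂⁻¹ = g' * x * g'⁻¹ := by
    set t : T := d⁻¹ ⟨x, hxT⟩ with ht
    have hdt : ((d t : T) : Ω) = x := by rw [ht, MulAut.apply_inv_self]
    have hmem : g' * (t : Ω) * g'⁻¹ ∈ T := by
      rw [← hτkapp]
      exact ((τ ^ k) t).2
    have e1 : (⟨g' * (t : Ω) * g'⁻¹, hTN hmem⟩ : extender S T (autHom d)) =
        ⟨g', hg'N⟩ * ⟨t, hTN t.2⟩ * ⟨g', hg'N⟩⁻¹ := Subtype.ext rfl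
    have e2 : χ ⟨g' * (t : Ω) * g'⁻¹, hTN hmem⟩ = g₂ * x * g₂⁻¹ := by
      rw [e1, map_mul, map_mul, map_inv, hext t t.2 (hTN t.2)]
      show g₂ * ((d t : T) : Ω) * g₂⁻¹ = _
      rw [hdt]
    have e3 : χ ⟨g' * (t : Ω) * g'⁻¹, hTN hmem⟩ = g' * x * g'⁻¹ := by
      rw [hext _ hmem (hTN hmem)]
      have e : (⟨g' * (t : Ω) * g'⁻¹, hmem⟩ : T) = (τ ^ k) t := Subtype.ext (hτkapp t).symm
      rw [e]
      show ((d ((τ ^ k) t) : T) : Ω) = _
      rw [hdτapp, hdt]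
    rw [← e2, e3]
  set t₁ : Ω := g'⁻¹ * g₂ with ht₁
  have ht₁P : t₁ ∈ P := P.mul_mem (P.inv_mem hg'P) hg₂P
  have ht₁x : t₁ * x = x * t₁ := by
    have h3 : g₂ * x = g' * x * g'⁻¹ * g₂ := by rw [← hconj]; group
    calc t₁ * x = g'⁻¹ * (g₂ * x) := by rw [ht₁]; group
      _ = g'⁻¹ * (g' * x * g'⁻¹ * g₂) := by rw [h3]
      _ = x * t₁ := by rw [ht₁]; group
  have ht₁T : t₁ ∈ T := ⟨ht₁P, hcent t₁ ht₁P ht₁x⟩
  have hg₂eq : g₂ = g' * t₁ := by rw [ht₁]; group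
  -- `d` inverts `L`
  have hdL : ∀ y ∈ L, d y = y⁻¹ := by
    intro y hy
    obtain ⟨j, hj⟩ := exists_pow_eq L hLcard zT y hzL hzT1 hy
    rw [← hj, map_pow, hdz, inv_pow]
  -- the two computations of `g₂ ^ p`
  have hpow1 : g₂ ^ p = (g' ^ p)⁻¹ := by
    have e1 : (⟨g', hg'N⟩ : extender S T (autHom d)) ^ p = ⟨g' ^ p, hTN (hZT hg'pZ)⟩ :=
      Subtype.ext (by rw [Subgroup.coe_pow])
    have : g₂ ^ p = χ ⟨g' ^ p, hTN (hZT hg'pZ)⟩ := by
      rw [hg₂, ← map_pow, e1]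
    rw [this, hext _ (hZT hg'pZ) (hTN (hZT hg'pZ))]
    have h3 := hdL ⟨g' ^ p, hZT hg'pZ⟩ hg'pZ
    have := congrArg Subtype.val h3
    simpa using this
  have hpow2 : g₂ ^ p = g' ^ p := by
    have hc : ⁅t₁, g'⁆ ∈ ⁅P, P⁆ := Subgroup.commutator_mem_commutator ht₁P hg'P
    have hcg : Commute ⁅t₁, g'⁆ g' := (D.central hS g' hg'S _ hc).symm
    have hct : Commute ⁅t₁, g'⁆ t₁ := (D.central hS t₁ (hPS ht₁P) _ hc).symm
    rw [hg₂eq, mul_pow_prime_of_odd hpp hp2 g' t₁ hcg hct (D.pow_eq_one hc), hTexp t₁ ht₁T,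
      mul_one]
  have hsq : (g' ^ p) ^ 2 = 1 := by
    have : g' ^ p = (g' ^ p)⁻¹ := hpow2.symm.trans hpow1
    rw [pow_two]
    nth_rewrite 1 [this]
    exact inv_mul_cancel _
  have hpp' : (g' ^ p) ^ p = 1 := D.pow_eq_one hg'pZ
  have hord2 : orderOf (g' ^ p) ∣ 2 := orderOf_dvd_of_pow_eq_one hsq
  have hordp : orderOf (g' ^ p) ∣ p := orderOf_dvd_of_pow_eq_one hpp'
  have hcop : Nat.Coprime 2 p := (Nat.coprime_primes Nat.prime_two hpp).mpr (Ne.symm hp2)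
  have hord1 : orderOf (g' ^ p) ∣ 1 := by
    have := Nat.dvd_gcd hord2 hordp
    rwa [hcop] at this
  exact hg'p (orderOf_eq_one_iff.mp (Nat.dvd_one.mp hord1))

end Cfsg.Agent.Helper10.GExtra
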