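import Mathlib
import Cfsg.Agent.Helper10.GExtraD
import Cfsg.Agent.Helper13.GExtraOdd
import Cfsg.Agent.Helper13.GExtraTwo
import Cfsg.Agent.Helper26.FusionChainLocal
import Cfsg.Agent.Helper1.PGroup

set_option autoImplicit false

/-! Fusion part of S5233, 4: `Aut_F(R)` preserves `Z = [P, P]` for every essential `R`, and the
final assembly. -/

namespace Cfsg.Agent.Helper10.GExtra

open Cfsg Cfsg.FusionSystem Cfsg.Agent.Helper25 Cfsg.Agent.Helper10.MetaFus
open scoped commutatorElement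

variable {Ω : Type*} [Group Ω] {S : Subgroup Ω}

/-- The automorphism group of an essential subgroup preserves `Z`, if all maps defined on larger
subgroups do. -/
theorem autGroup_le_stabZ [Finite S] {p : ℕ} [Fact p.Prime] (hS : IsPGroup p S)
    {F : FusionSystem S} (hF : F.IsSaturated p) {P : Subgroup Ω} (D : GData p F P)
    (hge : frattini ↥P = commutator ↥P ∧ Nat.card ↥(commutator ↥P) = p)
    (h2 : p = 2 → ¬ ∃ (A : Type) (_ : CommGroup A), (∀ a : A, a ^ 2 = 1) ∧
      Nonempty (↥P ≃* DihedralGroup 4 × A))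
    (hodd : p ≠ 2 → ¬ ∃ (E : Type) (_ : Group E) (A : Type) (_ : CommGroup A),
      Cfsg.IsExtraspecial p E ∧ Nat.card E = p ^ 3 ∧ Monoid.exponent E = p ∧
      (∀ a : A, a ^ p = 1) ∧ Nonempty (↥P ≃* E × A))
    {R : Subgroup Ω} (hR : F.IsEssential p R)
    (hM : ∀ Q : Subgroup Ω, Q ≤ S → Nat.card R < Nat.card Q → ∀ φ ∈ F.Hom Q, ∀ x : Q,
      (x : Ω) ∈ ⁅P, P⁆ ↔ φ x ∈ ⁅P, P⁆) :
    F.autGroup R ≤ stabZ F P R := by
  intro β hβ
  by_contra hβM
  have hpp : p.Prime := Fact.out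
  have hPS : P ≤ S := D.sc.1
  have hSNP : S ≤ Subgroup.normalizer (P : Set Ω) := le_normalizer_of_stronglyClosed F D.sc
  have hRS : R ≤ S := hR.1.1
  have hfinR : Finite R := finite_of_le hRS
  have hfinP : Finite P := finite_of_le hPS
  have hZR : ⁅P, P⁆ ≤ R := commutator_le_of_isEssential hS D hR
  have hβmem : autHom β ∈ F.Hom R := (mem_autGroup_iff F hRS β).mp hβ
  have hβP : ∀ t : R, (t : Ω) ∈ P → ((β t : R) : Ω) ∈ P := fun t ht =>
    autGroup_apply_mem_of_stronglyClosed F D.sc hRS β hβ t ht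
  -- `P` is not contained in `R`
  have hPR : ¬ P ≤ R := by
    intro hPR
    apply hβM
    have := D.finite
    exact ⟨hβ, fun y => commutator_pres hPR (autHom β) (F.injective_of_mem hβmem)
      (fun x hx => hβP x hx) y⟩
  -- a nontrivial element of `Z`
  obtain ⟨z, hz, hz1⟩ : ∃ z : R, (z : Ω) ∈ ⁅P, P⁆ ∧ z ≠ 1 := by
    have hne : ⁅P, P⁆ ≠ ⊥ := by
      intro h
      have := D.card
      rw [h, Subgroup.card_bot] at this
      exact hpp.one_lt.ne this
    obtain ⟨y, hy1⟩ := Subgroup.ne_bot_iff_exists_ne_one.mp hne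
    exact ⟨⟨y, hZR y.2⟩, y.2, fun h => hy1 (Subtype.ext
      (show (y : Ω) = 1 from congrArg Subtype.val h))⟩
  have hβinv : β⁻¹ ∈ F.autGroup R := (F.autGroup R).inv_mem hβ
  have hβinvM : β⁻¹ ∉ stabZ F P R := by
    intro h
    apply hβM
    have := (stabZ F P R).inv_mem h
    rwa [inv_inv] at this
  have hNC : ∀ φ ∈ F.autGroup R, φ ∉ stabZ F P R → ∀ g ∈ P,
      g ∈ Subgroup.normalizer (R : Set Ω) → g ∉ R →
      g * ((φ z : R) : Ω) ≠ ((φ z : R) : Ω) * g := fun φ hφ hφM g hgP hgN hgR hc =>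
    hφM (mem_stabZ_of_commute hS hF D hR hM hφ z hz hz1 (hPS hgP) hgN hgR hc)
  -- `P ⊓ R` is elementary abelian
  have hTab : ∀ a ∈ P ⊓ R, ∀ b ∈ P ⊓ R, a * b = b * a := by
    intro a ha b hb
    by_contra hab
    apply hβM
    have hcZ : ((⁅(⟨a, ha.2⟩ : R), (⟨b, hb.2⟩ : R)⁆ : R) : Ω) ∈ ⁅P, P⁆ :=
      Subgroup.commutator_mem_commutator ha.1 hb.1
    have hc1 : (⁅(⟨a, ha.2⟩ : R), (⟨b, hb.2⟩ : R)⁆ : R) ≠ 1 := by
      intro h
      apply hab
      have h3 := commutatorElement_eq_one_iff_mul_comm.mp h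
      exact congrArg Subtype.val h3
    apply mem_stabZ_of_apply_mem D hZR hβ _ hcZ hc1
    rw [map_commutatorElement]
    exact Subgroup.commutator_mem_commutator (hβP _ ha.1) (hβP _ hb.1)
  have hTexp : ∀ a ∈ P ⊓ R, a ^ p = 1 := by
    intro a ha
    by_contra h
    apply hβM
    have hcZ : (((⟨a, ha.2⟩ : R) ^ p : R) : Ω) ∈ ⁅P, P⁆ := by
      rw [Subgroup.coe_pow]
      exact D.pow a ha.1
    have hc1 : (⟨a, ha.2⟩ : R) ^ p ≠ 1 := by
      intro h'
      apply h
      have := congrArg Subtype.val h'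
      rwa [Subgroup.coe_pow] at this
    apply mem_stabZ_of_apply_mem D hZR hβ _ hcZ hc1
    rw [map_pow, Subgroup.coe_pow]
    exact D.pow _ (hβP _ ha.1)
  -- an element of `N_P(R)` outside `R`
  obtain ⟨g, hgP, hgN, hgR⟩ :=
    exists_mem_normalizer_not_mem p hS hRS hPS (hRS.trans hSNP) hPR
  -- the element `x = β z`
  set x : Ω := ((β z : R) : Ω) with hx
  have hxP : x ∈ P := hβP z (D.le hz)
  have hxR : x ∈ R := (β z).2
  have hxc : ∀ r ∈ R, r * x = x * r := by
    intro r hr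
    have h1 : (β⁻¹ ⟨r, hr⟩) * z = z * (β⁻¹ ⟨r, hr⟩) :=
      Subtype.ext (D.central hS _ (hRS (β⁻¹ ⟨r, hr⟩).2) _ hz)
    have h3 := congrArg β h1
    rw [map_mul, map_mul, MulAut.apply_inv_self] at h3
    exact congrArg Subtype.val h3
  have hgx : g * x ≠ x * g := hNC β hβ hβM g hgP hgN hgR
  -- the centralizer of `x` in `P` lies in `R`
  have hcent : ∀ y ∈ P, y * x = x * y → y ∈ R := by
    have hCR : P ⊓ Subgroup.centralizer {x} ≤ R := by
      by_contra hCR
      have hRNC : R ≤ Subgroup.normalizer ((P ⊓ Subgroup.centralizer {x} : Subgroup Ω) : Set Ω) := by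
        intro r hr
        have hrP : r ∈ Subgroup.normalizer (P : Set Ω) := hSNP (hRS hr)
        rw [Subgroup.mem_normalizer_iff]
        intro y
        have hrx := hxc r hr
        have hiff : y * x = x * y ↔ r * y * r⁻¹ * x = x * (r * y * r⁻¹) := by
          constructor
          · intro h
            calc r * y * r⁻¹ * x = r * y * (r⁻¹ * (x * r) * r⁻¹) := by group
              _ = r * y * (r⁻¹ * (r * x) * r⁻¹) := by rw [hrx]
              _ = r * (y * x) * r⁻¹ := by group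
              _ = r * (x * y) * r⁻¹ := by rw [h]
              _ = (r * x) * y * r⁻¹ := by group
              _ = (x * r) * y * r⁻¹ := by rw [hrx]
              _ = x * (r * y * r⁻¹) := by group
          · intro h
            calc y * x = r⁻¹ * (r * y * r⁻¹ * (r * x)) := by group
              _ = r⁻¹ * (r * y * r⁻¹ * (x * r)) := by rw [hrx]
              _ = r⁻¹ * ((r * y * r⁻¹ * x) * r) := by group
              _ = r⁻¹ * ((x * (r * y * r⁻¹)) * r) := by rw [h]
              _ = r⁻¹ * (x * r) * y := by group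
              _ = r⁻¹ * (r * x) * y := by rw [hrx]
              _ = x * y := by group
        rw [Subgroup.mem_inf, Subgroup.mem_inf, Subgroup.mem_centralizer_singleton_iff,
          Subgroup.mem_centralizer_singleton_iff, ← hiff,
          ← Subgroup.mem_normalizer_iff.mp hrP y]
      obtain ⟨b, hbC, hbN, hbR⟩ :=
        exists_mem_normalizer_not_mem p hS hRS (inf_le_left.trans hPS) hRNC hCR
      exact hNC β hβ hβM b hbC.1 hbN hbR (Subgroup.mem_centralizer_singleton_iff.mp hbC.2)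
    intro y hy hyx
    exact hCR ⟨hy, Subgroup.mem_centralizer_singleton_iff.mpr hyx⟩
  -- the structure of `P`
  have hX : IsPGroup p ↥P := isPGroup_of_le hS hPS
  have hTabX : ∀ a ∈ R.subgroupOf P, ∀ b ∈ R.subgroupOf P, a * b = b * a := fun a ha b hb =>
    Subtype.ext (hTab a ⟨a.2, ha⟩ b ⟨b.2, hb⟩)
  have hTexpX : ∀ a ∈ R.subgroupOf P, a ^ p = 1 := fun a ha =>
    Subtype.ext (by rw [Subgroup.coe_pow]; exact hTexp a ⟨a.2, ha⟩)
  have hcentX : ∀ y : P, y * ⟨x, hxP⟩ = ⟨x, hxP⟩ * y → y ∈ R.subgroupOf P := fun y hy =>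
    hcent y y.2 (congrArg Subtype.val hy)
  by_cases hp2 : p = 2
  · subst hp2
    apply h2 rfl
    exact Cfsg.Agent.Helper13.GExtra.gextra_two hX hge.2 hge.1 (R.subgroupOf P) hTabX hTexpX
      ⟨x, hxP⟩ ⟨g, hgP⟩ hxR hgR (fun h => hgx (congrArg Subtype.val h)) hcentX
  · by_cases hex : ∃ g₁ ∈ P, g₁ ∉ R ∧ g₁ ^ p = 1
    · obtain ⟨g₁, hg₁P, hg₁R, hg₁p⟩ := hex
      apply hodd hp2
      have hg₁x : g₁ * x ≠ x * g₁ := fun h => hg₁R (hcent g₁ hg₁P h)
      exact Cfsg.Agent.Helper13.GExtra.gextra_odd hp2 hX hge.2 hge.1 (R.subgroupOf P) hTabX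
        hTexpX ⟨x, hxP⟩ ⟨g₁, hg₁P⟩ hxR hg₁R
        (Subtype.ext (by rw [Subgroup.coe_pow]; exact hg₁p))
        (fun h => hg₁x (congrArg Subtype.val h)) hcentX
    · push Not at hex
      exact false_of_no_order_p hS hF D hRS hp2 hTab hTexp (fun y hy hyR => hex y hy hyR) hβ z hz
        hz1 hgP hgx (hNC β⁻¹ hβinv hβinvM g hgP hgN hgR) hcent

/-- A four-term chain. -/
def chain4 {G : Type*} [Group G] (A B : Subgroup G) : ℕ → Subgroup G :=
  fun i => if i = 0 then ⊥ else if i = 1 then A else if i = 2 then B else ⊤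

theorem gdata_of_hge [Finite S] {p : ℕ} [Fact p.Prime] (hS : IsPGroup p S)
    {F : FusionSystem S} {P : Subgroup Ω} (hP : F.StronglyClosed P)
    (hge : frattini ↥P = commutator ↥P ∧ Nat.card ↥(commutator ↥P) = p) : GData p F P := by
  have hfinP : Finite P := finite_of_le hP.1
  refine ⟨hP, ?_, ?_⟩
  · rw [← Subgroup.map_subtype_commutator, Subgroup.card_map_of_injective P.subtype_injective]
    exact hge.2
  · intro a ha
    have h1 : (⟨a, ha⟩ : P) ^ p ∈ frattini ↥P :=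
      Cfsg.Agent.Helper1.IsPGroup.pow_mem_frattini (isPGroup_of_le hS hP.1) _
    rw [hge.1] at h1
    rw [← Subgroup.map_subtype_commutator]
    exact ⟨_, h1, by rw [Subgroup.coe_subtype, Subgroup.coe_pow]⟩

/-- A strongly closed generalized extraspecial subgroup outside the list is normal. -/
theorem isNormal_of_gextra [Finite S] (p : ℕ) [Fact p.Prime] (hS : IsPGroup p S)
    (F : FusionSystem S) (hF : F.IsSaturated p) (P : Subgroup Ω) (hP : F.StronglyClosed P)
    (hge : frattini ↥P = commutator ↥P ∧ Nat.card ↥(commutator ↥P) = p)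
    (h2 : p = 2 → ¬ ∃ (A : Type) (_ : CommGroup A), (∀ a : A, a ^ 2 = 1) ∧
      Nonempty (↥P ≃* DihedralGroup 4 × A))
    (hodd : p ≠ 2 → ¬ ∃ (E : Type) (_ : Group E) (A : Type) (_ : CommGroup A),
      Cfsg.IsExtraspecial p E ∧ Nat.card E = p ^ 3 ∧ Monoid.exponent E = p ∧
      (∀ a : A, a ^ p = 1) ∧ Nonempty (↥P ≃* E × A)) : F.IsNormal P := by
  have D : GData p F P := gdata_of_hge hS hP hge
  have hPS : P ≤ S := hP.1
  have hSNP : S ≤ Subgroup.normalizer (P : Set Ω) := le_normalizer_of_stronglyClosed F hP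
  have hfinZ := D.finite
  have hpres : ∀ (Q : Subgroup Ω) (φ : Q →* Ω), φ ∈ F.Hom Q → ∀ x : Q,
      (x : Ω) ∈ ⁅P, P⁆ ↔ φ x ∈ ⁅P, P⁆ := by
    apply hom_pres p hS F hF ⁅P, P⁆ (fun g hg x => D.conj_iff hg x)
    rintro R (rfl | hR) hQ α hα y
    · have hαmem : autHom α ∈ F.Hom R := (mem_autGroup_iff F le_rfl α).mp hα
      exact commutator_pres hPS (autHom α) (F.injective_of_mem hαmem)
        (fun x hx => autGroup_apply_mem_of_stronglyClosed F hP le_rfl α hα x hx) y
    · exact ((autGroup_le_stabZ hS hF D hge h2 hodd hR hQ) hα).2 y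
  apply isNormal_of_alperin p hS F hF P
  rintro R (rfl | hR)
  · exact ⟨hPS, fun α hα => map_autGroup_eq_of_stronglyClosed F hP le_rfl α hα⟩
  refine ⟨?_, fun α hα => map_autGroup_eq_of_stronglyClosed F hP hR.1.1 α hα⟩
  have hRS : R ≤ S := hR.1.1
  have hC : centralizerIn S R ≤ R := hR.1.2 R (isConj_refl F hRS)
  have hOp : OpAutLeInn F p R := opAutLeInn_of_isEssential F p hR
  set A : Subgroup R := (⁅P, P⁆).subgroupOf R with hA
  set B : Subgroup R := P.subgroupOf R with hB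
  have hAB : A ≤ B := fun x hx => D.le hx
  have hN0 : chain4 A B 0 = ⊥ := by simp [chain4]
  have hN1 : chain4 A B 1 = A := by simp [chain4]
  have hN2 : chain4 A B 2 = B := by simp [chain4]
  have hN3 : ∀ i, chain4 A B (i + 3) = ⊤ := fun i => by simp [chain4]
  have hNmono : Monotone (chain4 A B) := by
    apply monotone_nat_of_le_succ
    intro i
    rcases i with _ | _ | _ | i
    · rw [hN0]; exact bot_le
    · rw [show 0 + 1 + 1 = 2 from rfl, show 0 + 1 = 1 from rfl, hN1, hN2]; exact hAB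
    · rw [show 0 + 1 + 1 + 1 = 0 + 3 from rfl, hN3]; exact le_top
    · rw [show i + 1 + 1 + 1 + 1 = (i + 1) + 3 from rfl, hN3]; exact le_top
  refine Cfsg.Agent.Helper26.le_of_stabilizes_chain p hS F hRS hC hOp hPS hSNP (chain4 A B) hN0
    hNmono (hN3 0) ?_ ?_
  · intro β hβ i x hx
    have hβmem : autHom β ∈ F.Hom R := (mem_autGroup_iff F hRS β).mp hβ
    rcases i with _ | _ | _ | i
    · rw [hN0, Subgroup.mem_bot] at hx ⊢
      rw [hx, map_one]
    · rw [show 0 + 1 = 1 from rfl, hN1] at hx ⊢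
      exact (hpres R (autHom β) hβmem x).mp hx
    · rw [show 0 + 1 + 1 = 2 from rfl, hN2] at hx ⊢
      exact autGroup_apply_mem_of_stronglyClosed F hP hRS β hβ x hx
    · rw [show i + 1 + 1 + 1 = i + 3 from rfl, hN3]
      exact Subgroup.mem_top _
  · intro α hα
    rw [mem_autInducedBy_iff] at hα
    obtain ⟨g, hgP, hgα⟩ := hα
    intro i x hx
    have e : ((α x * x⁻¹ : R) : Ω) = ⁅g, (x : Ω)⁆ := by
      show ((α x : R) : Ω) * ((x⁻¹ : R) : Ω) = _
      rw [hgα, commutatorElement_def]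
      rfl
    rcases i with _ | _ | _ | i
    · rw [show 0 + 1 = 1 from rfl, hN1] at hx
      rw [hN0, Subgroup.mem_bot]
      apply Subtype.ext
      rw [e]
      show ⁅g, (x : Ω)⁆ = 1
      rw [commutatorElement_eq_one_iff_mul_comm]
      exact D.central hS g (hPS hgP) _ hx
    · rw [show 0 + 1 + 1 = 2 from rfl, hN2] at hx
      rw [show 0 + 1 = 1 from rfl, hN1]
      show ((α x * x⁻¹ : R) : Ω) ∈ ⁅P, P⁆
      rw [e]
      exact Subgroup.commutator_mem_commutator hgP hx
    · rw [show 0 + 1 + 1 = 2 from rfl, hN2]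
      show ((α x * x⁻¹ : R) : Ω) ∈ P
      rw [e, commutatorElement_def]
      have hxN : (x : Ω) ∈ Subgroup.normalizer (P : Set Ω) := hSNP (hRS x.2)
      have h1 : (x : Ω) * g⁻¹ * (x : Ω)⁻¹ ∈ P :=
        (Subgroup.mem_normalizer_iff.mp hxN _).mp (P.inv_mem hgP)
      have h3 := P.mul_mem hgP h1
      have e2 : g * ((x : Ω) * g⁻¹ * (x : Ω)⁻¹) = g * (x : Ω) * g⁻¹ * (x : Ω)⁻¹ := by group
      rwa [e2] at h3
    · rw [show i + 1 + 1 + 1 = i + 3 from rfl, hN3]
      exact Subgroup.mem_top _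

end Cfsg.Agent.Helper10.GExtra
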