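import Mathlib
import Cfsg.Prelude.Def_ConjugacyFunctors
import Cfsg.Agent.Helper10.KSeq
import Cfsg.Agent.Helper10.SubTransfer

set_option autoImplicit false

/-! # The K-infinity subgroups are isomorphism-invariant `p`-group functors -/

namespace Cfsg.Agent.Helper10

open Cfsg

universe u

section Inj

variable {P G : Type*} [Group P] [Group G] (f : P →* G) (hf : Function.Injective f)
include hf

theorem map_le_iff_inj {A B : Subgroup P} : A.map f ≤ B.map f ↔ A ≤ B :=
  Subgroup.map_le_map_iff_of_injective hf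

theorem map_eq_bot_iff_inj {A : Subgroup P} : A.map f = ⊥ ↔ A = ⊥ :=
  Subgroup.map_eq_bot_iff_of_injective A hf

theorem le_centralizer_map_iff_inj {A B : Subgroup P} :
    A.map f ≤ Subgroup.centralizer ((B.map f : Subgroup G) : Set G) ↔
      A ≤ Subgroup.centralizer (B : Set P) := by
  rw [← Subgroup.commutator_eq_bot_iff_le_centralizer, ← Subgroup.commutator_eq_bot_iff_le_centralizer,
    ← Subgroup.map_commutator, map_eq_bot_iff_inj f hf]

theorem le_normalizer_map_iff_inj {A B : Subgroup P} :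
    A.map f ≤ Subgroup.normalizer ((B.map f : Subgroup G) : Set G) ↔
      A ≤ Subgroup.normalizer (B : Set P) := by
  rw [le_normalizer_iff_conj_mem, le_normalizer_iff_conj_mem]
  constructor
  · intro h a ha b hb
    have := h (f a) (Subgroup.mem_map_of_mem _ ha) (f b) (Subgroup.mem_map_of_mem _ hb)
    obtain ⟨c, hc, hc'⟩ := this
    have : c = a * b * a⁻¹ := hf (by simpa using hc')
    rw [← this]; exact hc
  · rintro h _ ⟨a, ha, rfl⟩ _ ⟨b, hb, rfl⟩
    exact ⟨a * b * a⁻¹, h a ha b hb, by simp⟩

theorem map_inf_centralizer_inj (B : Subgroup P) :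
    (B ⊓ Subgroup.centralizer (B : Set P)).map f =
      B.map f ⊓ Subgroup.centralizer ((B.map f : Subgroup G) : Set G) := by
  apply le_antisymm
  · apply le_inf
    · exact Subgroup.map_mono inf_le_left
    · rw [le_centralizer_map_iff_inj f hf]; exact inf_le_right
  · rintro x ⟨⟨b, hb, rfl⟩, hx⟩
    refine ⟨b, ⟨hb, ?_⟩, rfl⟩
    intro c hc
    have := hx (f c) (Subgroup.mem_map_of_mem _ hc)
    exact hf (by simpa using this)

theorem classTwo_map_iff_inj {B : Subgroup P} :
    B.map f ∈ classTwoSubgroups G ↔ B ∈ classTwoSubgroups P := by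
  show ⁅B.map f, B.map f⁆ ≤ _ ↔ ⁅B, B⁆ ≤ _
  rw [← Subgroup.map_commutator, le_centralizer_map_iff_inj f hf]

theorem upper_map_iff_inj {B R : Subgroup P} :
    B.map f ∈ kUpperStarFamily (R.map f) ↔ B ∈ kUpperStarFamily R := by
  show (_ ∧ _) ↔ (_ ∧ _)
  rw [classTwo_map_iff_inj f hf, ← Subgroup.map_commutator, ← map_inf_centralizer_inj f hf,
    map_le_iff_inj f hf]

theorem lower_map_iff_inj {B R : Subgroup P} :
    B.map f ∈ kLowerStarFamily (R.map f) ↔ B ∈ kLowerStarFamily R := by
  show (_ ∧ _ ∧ _) ↔ (_ ∧ _ ∧ _)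
  rw [classTwo_map_iff_inj f hf, le_normalizer_map_iff_inj f hf]
  refine and_congr_right (fun _ => and_congr_right (fun _ => ?_))
  constructor
  · intro h A hA hAR hBA h1 h2
    have := h (A.map f) ((classTwo_map_iff_inj f hf).2 hA) ((map_le_iff_inj f hf).2 hAR)
      ((le_normalizer_map_iff_inj f hf).2 hBA)
      (by rw [← Subgroup.map_commutator, ← Subgroup.map_commutator, map_eq_bot_iff_inj f hf]; exact h1)
      (by rw [← map_inf_centralizer_inj f hf, ← Subgroup.map_commutator, ← Subgroup.map_commutator,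
            map_eq_bot_iff_inj f hf]; exact h2)
    rw [← Subgroup.map_commutator, ← map_inf_centralizer_inj f hf, map_le_iff_inj f hf] at this
    exact this
  · intro h A' hA' hA'R hBA' h1 h2
    have hA'Q : A' ≤ f.range := le_trans hA'R (Subgroup.map_le_range f R)
    obtain ⟨A, rfl⟩ : ∃ A : Subgroup P, A.map f = A' :=
      ⟨A'.comap f, Subgroup.map_comap_eq_self hA'Q⟩
    rw [← Subgroup.map_commutator, ← map_inf_centralizer_inj f hf, map_le_iff_inj f hf]
    apply h A ((classTwo_map_iff_inj f hf).1 hA') ((map_le_iff_inj f hf).1 hA'R)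
      ((le_normalizer_map_iff_inj f hf).1 hBA')
    · rw [← Subgroup.map_commutator, ← Subgroup.map_commutator, map_eq_bot_iff_inj f hf] at h1
      exact h1
    · rw [← map_inf_centralizer_inj f hf, ← Subgroup.map_commutator, ← Subgroup.map_commutator,
        map_eq_bot_iff_inj f hf] at h2
      exact h2

end Inj

section Equiv

variable {P R : Type*} [Group P] [Group R] (φ : P ≃* R)

theorem exists_map_equiv (B' : Subgroup R) : ∃ B : Subgroup P, B.map φ.toMonoidHom = B' :=
  ⟨B'.comap φ.toMonoidHom, Subgroup.map_comap_eq_self_of_surjective φ.surjective B'⟩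

theorem map_kL_equiv (Q : Subgroup P) : (kL Q).map φ.toMonoidHom = kL (Q.map φ.toMonoidHom) := by
  unfold kL
  rw [(Subgroup.gc_map_comap φ.toMonoidHom).l_sSup]
  apply le_antisymm
  · apply iSup₂_le
    intro B hB
    exact le_sSup ((lower_map_iff_inj φ.toMonoidHom φ.injective).2 hB)
  · apply sSup_le
    intro B' hB'
    obtain ⟨B, rfl⟩ := exists_map_equiv φ B'
    exact le_iSup₂ (f := fun (a : Subgroup P) (_ : a ∈ kLowerStarFamily Q) =>
      Subgroup.map φ.toMonoidHom a) B ((lower_map_iff_inj φ.toMonoidHom φ.injective).1 hB')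

theorem map_kU_equiv (Q : Subgroup P) : (kU Q).map φ.toMonoidHom = kU (Q.map φ.toMonoidHom) := by
  unfold kU
  rw [(Subgroup.gc_map_comap φ.toMonoidHom).l_sSup]
  apply le_antisymm
  · apply iSup₂_le
    intro B hB
    exact le_sSup ((upper_map_iff_inj φ.toMonoidHom φ.injective).2 hB)
  · apply sSup_le
    intro B' hB'
    obtain ⟨B, rfl⟩ := exists_map_equiv φ B'
    exact le_iSup₂ (f := fun (a : Subgroup P) (_ : a ∈ kUpperStarFamily Q) =>
      Subgroup.map φ.toMonoidHom a) B ((upper_map_iff_inj φ.toMonoidHom φ.injective).1 hB')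

theorem map_kSeqOdd_equiv (n : ℕ) : (kSeqOdd P n).map φ.toMonoidHom = kSeqOdd R n := by
  induction n with
  | zero =>
    show (⊤ : Subgroup P).map φ.toMonoidHom = ⊤
    exact Subgroup.map_top_of_surjective _ φ.surjective
  | succ n ih =>
    rw [kSeqOdd_succ, kSeqOdd_succ, map_kU_equiv, map_kL_equiv, ih]

theorem map_kSeqEven_equiv (n : ℕ) : (kSeqEven P n).map φ.toMonoidHom = kSeqEven R n := by
  rw [kSeqEven_eq, kSeqEven_eq, map_kL_equiv, map_kSeqOdd_equiv]

theorem map_kInfLower_equiv {P R : Type u} [Group P] [Group R] (φ : P ≃* R) :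
    (kInfLower P).map φ.toMonoidHom = kInfLower R := by
  unfold kInfLower
  rw [Subgroup.map_iSup]
  simp_rw [map_kSeqEven_equiv]

theorem map_kInfUpper_equiv {P R : Type u} [Group P] [Group R] (φ : P ≃* R) :
    (kInfUpper P).map φ.toMonoidHom = kInfUpper R := by
  unfold kInfUpper
  rw [Subgroup.map_iInf _ φ.injective]
  simp_rw [map_kSeqOdd_equiv]

end Equiv

section CharP

variable {p : ℕ} [Fact p.Prime]

theorem center_le_kInfLower (P : Type u) [Group P] : Subgroup.center P ≤ kInfLower P := by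
  have h := normalAbelian_le_kSeqEven (P := P) (Subgroup.center P) inferInstance 0
  exact h.trans (le_iSup (kSeqEven P) 0)

theorem center_le_kInfUpper (P : Type u) [Group P] : Subgroup.center P ≤ kInfUpper P := by
  unfold kInfUpper
  apply le_iInf
  intro n
  exact normalAbelian_le_kSeqOdd (P := P) (Subgroup.center P) inferInstance n

theorem kInfLower_isCharPFunctor : Cfsg.IsCharPFunctor.{u} p kInfLower := by
  refine ⟨?_, ?_⟩
  · intro Q _ _ hQ hnt h
    have hc : Subgroup.center Q ≠ ⊥ := by
      have := hQ.center_nontrivial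
      exact (Subgroup.nontrivial_iff_ne_bot _).1 this
    apply hc
    rw [eq_bot_iff, ← h]
    exact center_le_kInfLower Q
  · intro Q R _ _ _ _ φ
    exact map_kInfLower_equiv φ

theorem kInfUpper_isCharPFunctor : Cfsg.IsCharPFunctor.{u} p kInfUpper := by
  refine ⟨?_, ?_⟩
  · intro Q _ _ hQ hnt h
    have hc : Subgroup.center Q ≠ ⊥ := by
      have := hQ.center_nontrivial
      exact (Subgroup.nontrivial_iff_ne_bot _).1 this
    apply hc
    rw [eq_bot_iff, ← h]
    exact center_le_kInfUpper Q
  · intro Q R _ _ _ _ φ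
    exact map_kInfUpper_equiv φ

end CharP

end Cfsg.Agent.Helper10
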