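import Mathlib
import Cfsg.Prelude.Def_ConjugacyFunctors
import Cfsg.Agent.Helper10.KSeq
import Cfsg.Agent.Helper10.SubTransfer

set_option autoImplicit false

namespace Cfsg.Agent.Helper10

open Cfsg

universe u

variable {P : Type u} [Group P] (Q : Subgroup P)

theorem classTwo_map_iff {B : Subgroup ↥Q} :
    B.map Q.subtype ∈ classTwoSubgroups P ↔ B ∈ classTwoSubgroups ↥Q := by
  show ⁅B.map Q.subtype, B.map Q.subtype⁆ ≤ _ ↔ ⁅B, B⁆ ≤ _
  rw [← Subgroup.map_commutator, le_centralizer_map_subtype_iff]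

theorem upper_map_iff {B R : Subgroup ↥Q} :
    B.map Q.subtype ∈ kUpperStarFamily (R.map Q.subtype) ↔ B ∈ kUpperStarFamily R := by
  show (_ ∧ _) ↔ (_ ∧ _)
  rw [classTwo_map_iff, ← Subgroup.map_commutator, ← map_subtype_inf_centralizer, map_subtype_le_iff]

theorem lower_map_iff {B R : Subgroup ↥Q} :
    B.map Q.subtype ∈ kLowerStarFamily (R.map Q.subtype) ↔ B ∈ kLowerStarFamily R := by
  show (_ ∧ _ ∧ _) ↔ (_ ∧ _ ∧ _)
  rw [classTwo_map_iff, le_normalizer_map_subtype_iff]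
  refine and_congr_right (fun _ => and_congr_right (fun _ => ?_))
  constructor
  · intro h A hA hAR hBA h1 h2
    have := h (A.map Q.subtype) ((classTwo_map_iff Q).2 hA) ((map_subtype_le_iff Q).2 hAR)
      ((le_normalizer_map_subtype_iff Q).2 hBA)
      (by rw [← Subgroup.map_commutator, ← Subgroup.map_commutator, map_subtype_eq_bot_iff]; exact h1)
      (by rw [← map_subtype_inf_centralizer, ← Subgroup.map_commutator, ← Subgroup.map_commutator,
            map_subtype_eq_bot_iff]; exact h2)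
    rw [← Subgroup.map_commutator, ← map_subtype_inf_centralizer, map_subtype_le_iff] at this
    exact this
  · intro h A' hA' hA'R hBA' h1 h2
    have hA'Q : A' ≤ Q := le_trans hA'R (Subgroup.map_subtype_le R)
    obtain ⟨A, rfl⟩ : ∃ A : Subgroup ↥Q, A.map Q.subtype = A' :=
      ⟨A'.subgroupOf Q, Subgroup.map_subgroupOf_eq_of_le hA'Q⟩
    rw [← Subgroup.map_commutator, ← map_subtype_inf_centralizer, map_subtype_le_iff]
    apply h A ((classTwo_map_iff Q).1 hA') ((map_subtype_le_iff Q).1 hA'R)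
      ((le_normalizer_map_subtype_iff Q).1 hBA')
    · rw [← Subgroup.map_commutator, ← Subgroup.map_commutator, map_subtype_eq_bot_iff] at h1; exact h1
    · rw [← map_subtype_inf_centralizer, ← Subgroup.map_commutator, ← Subgroup.map_commutator,
        map_subtype_eq_bot_iff] at h2; exact h2

/-- relative versions inside `P` -/
def kLQ (R : Subgroup P) : Subgroup P := sSup {B | B ∈ kLowerStarFamily R ∧ B ≤ Q}
def kUQ (R : Subgroup P) : Subgroup P := sSup {B | B ∈ kUpperStarFamily R ∧ B ≤ Q}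

theorem map_kL (R : Subgroup ↥Q) : (kL R).map Q.subtype = kLQ Q (R.map Q.subtype) := by
  unfold kL kLQ
  rw [(Subgroup.gc_map_comap Q.subtype).l_sSup]
  apply le_antisymm
  · apply iSup₂_le
    intro B hB
    exact le_sSup ⟨(lower_map_iff Q).2 hB, Subgroup.map_subtype_le B⟩
  · apply sSup_le
    rintro B' ⟨hB', hB'Q⟩
    obtain ⟨B, rfl⟩ : ∃ B : Subgroup ↥Q, B.map Q.subtype = B' :=
      ⟨B'.subgroupOf Q, Subgroup.map_subgroupOf_eq_of_le hB'Q⟩
    exact le_iSup₂ (f := fun (a : Subgroup ↥Q) (_ : a ∈ kLowerStarFamily R) => Subgroup.map Q.subtype a) B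
      ((lower_map_iff Q).1 hB')

theorem map_kU (R : Subgroup ↥Q) : (kU R).map Q.subtype = kUQ Q (R.map Q.subtype) := by
  unfold kU kUQ
  rw [(Subgroup.gc_map_comap Q.subtype).l_sSup]
  apply le_antisymm
  · apply iSup₂_le
    intro B hB
    exact le_sSup ⟨(upper_map_iff Q).2 hB, Subgroup.map_subtype_le B⟩
  · apply sSup_le
    rintro B' ⟨hB', hB'Q⟩
    obtain ⟨B, rfl⟩ : ∃ B : Subgroup ↥Q, B.map Q.subtype = B' :=
      ⟨B'.subgroupOf Q, Subgroup.map_subgroupOf_eq_of_le hB'Q⟩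
    exact le_iSup₂ (f := fun (a : Subgroup ↥Q) (_ : a ∈ kUpperStarFamily R) => Subgroup.map Q.subtype a) B
      ((upper_map_iff Q).1 hB')

/-- the odd K-sequence of `Q`, computed inside `P` -/
def oddQ : ℕ → Subgroup P
  | 0 => Q
  | n + 1 => kUQ Q (kLQ Q (oddQ n))

def evenQ (n : ℕ) : Subgroup P := kLQ Q (oddQ Q n)

theorem map_kSeqOdd (n : ℕ) : (kSeqOdd ↥Q n).map Q.subtype = oddQ Q n := by
  induction n with
  | zero =>
    show (⊤ : Subgroup ↥Q).map Q.subtype = Q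
    rw [← MonoidHom.range_eq_map, Subgroup.range_subtype]
  | succ n ih =>
    rw [kSeqOdd_succ, map_kU, map_kL, ih]; rfl

theorem map_kSeqEven (n : ℕ) : (kSeqEven ↥Q n).map Q.subtype = evenQ Q n := by
  rw [kSeqEven_eq, map_kL, map_kSeqOdd]; rfl

theorem kLQ_le_kL_of_le {R R' : Subgroup P} (h : R' ≤ R) : kLQ Q R ≤ kL R' := by
  apply sSup_le_sSup
  rintro B ⟨hB, _⟩
  exact kLowerStarFamily_anti h hB

theorem kUQ_le_kU_of_le {R R' : Subgroup P} (h : R' ≤ R) : kUQ Q R ≤ kU R' := by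
  apply sSup_le_sSup
  rintro B ⟨hB, _⟩
  exact kUpperStarFamily_anti h hB

theorem kL_le_kLQ_of_le {R R' : Subgroup P} (h : R' ≤ R) (hQ : kL R ≤ Q) : kL R ≤ kLQ Q R' := by
  apply sSup_le
  intro B hB
  exact le_sSup ⟨kLowerStarFamily_anti h hB, le_trans (le_sSup hB) hQ⟩

theorem kU_le_kUQ_of_le {R R' : Subgroup P} (h : R' ≤ R) (hQ : kU R ≤ Q) : kU R ≤ kUQ Q R' := by
  apply sSup_le
  intro B hB
  exact le_sSup ⟨kUpperStarFamily_anti h hB, le_trans (le_sSup hB) hQ⟩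

variable (hQ : ∀ n : ℕ, kSeqEven P n ≤ Q ∧ kSeqOdd P (n + 1) ≤ Q)
include hQ

theorem oddQ_le_and (n : ℕ) : oddQ Q n ≤ kSeqOdd P n ∧ kSeqEven P n ≤ evenQ Q n := by
  induction n with
  | zero =>
    refine ⟨le_top, ?_⟩
    exact kL_le_kLQ_of_le Q (le_top : oddQ Q 0 ≤ kSeqOdd P 0) (hQ 0).1
  | succ n ih =>
    have h1 : oddQ Q (n + 1) ≤ kSeqOdd P (n + 1) := kUQ_le_kU_of_le Q ih.2
    exact ⟨h1, kL_le_kLQ_of_le Q h1 (hQ (n + 1)).1⟩

theorem odd_succ_le_and (n : ℕ) : kSeqOdd P (n + 1) ≤ oddQ Q n ∧ evenQ Q n ≤ kSeqEven P (n + 1) := by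
  induction n with
  | zero =>
    have h0 : kSeqOdd P 1 ≤ oddQ Q 0 := (hQ 0).2
    exact ⟨h0, kLQ_le_kL_of_le Q h0⟩
  | succ n ih =>
    have h1 : kSeqOdd P (n + 2) ≤ oddQ Q (n + 1) := kU_le_kUQ_of_le Q ih.2 (hQ (n + 1)).2
    exact ⟨h1, kLQ_le_kL_of_le Q h1⟩

theorem kInf_map_eq :
    (kInfLower ↥Q).map Q.subtype = kInfLower P ∧ (kInfUpper ↥Q).map Q.subtype = kInfUpper P := by
  constructor
  · unfold kInfLower
    rw [Subgroup.map_iSup]
    simp_rw [map_kSeqEven]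
    apply le_antisymm
    · apply iSup_le
      intro n
      exact le_trans (odd_succ_le_and Q hQ n).2 (le_iSup (kSeqEven P) (n + 1))
    · apply iSup_le
      intro n
      exact le_trans (oddQ_le_and Q hQ n).2 (le_iSup (evenQ Q) n)
  · unfold kInfUpper
    rw [Subgroup.map_iInf _ Q.subtype_injective]
    simp_rw [map_kSeqOdd]
    apply le_antisymm
    · apply le_iInf
      intro n
      exact le_trans (iInf_le _ n) (oddQ_le_and Q hQ n).1
    · apply le_iInf
      intro n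
      exact le_trans (iInf_le _ (n + 1)) (odd_succ_le_and Q hQ n).1

end Cfsg.Agent.Helper10
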