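import Mathlib
import Cfsg.Prelude.Def_ConjugacyFunctors
import Cfsg.Agent.Helper10.StabSeries
import Cfsg.Agent.Helper10.KSeqSub
import Cfsg.Agent.Helper10.KInfChar
import Cfsg.Agent.Helper10.IndFunctor
import Cfsg.Agent.Helper10.CharP
import Cfsg.Agent.S0093
import Cfsg.Agent.S0121

set_option autoImplicit false
set_option linter.unusedSectionVars false
set_option linter.unusedVariables false

/-! # Normality of the K-infinity subgroups in a `p`-constrained group in which the only elements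
of a Sylow `p`-subgroup acting with `[U, g; 4] ≤ V` on all chief factors below `O_p` lie in `O_p` -/

namespace Cfsg.Agent.Helper10

open Subgroup Cfsg
open scoped commutatorElement

universe u

section Critical

variable {G : Type*} [Group G] [Finite G] {p : ℕ} [Fact p.Prime]

/-- a critical subgroup of a self-centralizing normal `p`-subgroup `T = O_p(G)`, inside `G` -/
theorem exists_critical (T : Subgroup G) [hTn : T.Normal] (hTp : IsPGroup p ↥T)
    (hTmax : ∀ N : Subgroup G, N.Normal → IsPGroup p ↥N → N ≤ T)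
    (hcon : centralizer (T : Set G) ≤ T) :
    ∃ A : Subgroup G, A.Normal ∧ A ≤ T ∧ ⁅A, T⁆ ≤ A ⊓ centralizer (A : Set G) ∧
      T ⊓ centralizer (A : Set G) ≤ A ∧ centralizer (A : Set G) ≤ T := by
  obtain ⟨H, hHc, hH1, hH2, hH3⟩ := Cfsg.Agent.S0093.result (P := ↥T) hTp
  have hAn : (H.map T.subtype).Normal := ConjAct.normal_of_characteristic_of_normal
  have hAT : H.map T.subtype ≤ T := Subgroup.map_subtype_le H
  have htop : (⊤ : Subgroup ↥T).map T.subtype = T := by
    rw [← MonoidHom.range_eq_map, Subgroup.range_subtype]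
  refine ⟨H.map T.subtype, hAn, hAT, ?_, ?_, ?_⟩
  · have h1 := Subgroup.map_mono (f := T.subtype) hH2
    rw [Subgroup.map_commutator, htop, map_subtype_inf_centralizer] at h1
    exact h1
  · rintro x ⟨hxT, hxC⟩
    have hx : (⟨x, hxT⟩ : ↥T) ∈ centralizer (H : Set ↥T) := by
      rw [Subgroup.mem_centralizer_iff]
      intro h hh
      apply Subtype.ext
      have := (Subgroup.mem_centralizer_iff.1 hxC) (h : G) ⟨h, hh, rfl⟩
      exact this
    exact ⟨⟨x, hxT⟩, hH3 hx, rfl⟩
  · haveI := hAn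
    apply hTmax _ inferInstance
    apply isPGroup_of_forall_coprime_eq_one
    rintro ⟨x, hxC⟩ hcop
    have hcop' : (orderOf x).Coprime p := by
      rw [← Subgroup.orderOf_mk x hxC]; exact hcop
    have ha : Nat.Coprime (orderOf (MulAut.conjNormal (H := T) x)) p :=
      Nat.Coprime.coprime_dvd_left (orderOf_map_dvd _ x) hcop'
    have hfix : ∀ h ∈ H, (MulAut.conjNormal (H := T) x) h = h := by
      intro h hh
      apply Subtype.ext
      rw [MulAut.conjNormal_apply]
      have := (Subgroup.mem_centralizer_iff.1 hxC) (h : G) ⟨h, hh, rfl⟩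
      rw [← this, mul_inv_cancel_right]
    have h1 := Cfsg.Agent.S0121.result hTp H hHc hH1 hH2 hH3 _ ha hfix
    have hxT : x ∈ T := by
      apply hcon
      rw [Subgroup.mem_centralizer_iff]
      intro t ht
      have h2 : (MulAut.conjNormal (H := T) x) ⟨t, ht⟩ = ⟨t, ht⟩ := by rw [h1]; rfl
      have h3 := congrArg Subtype.val h2
      rw [MulAut.conjNormal_apply] at h3
      change x * t * x⁻¹ = t at h3
      calc t * x = (x * t * x⁻¹) * x := by rw [h3]
        _ = x * t := by group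
    obtain ⟨k, hk⟩ := (hTp ⟨x, hxT⟩)
    have hk' : x ^ p ^ k = 1 := congrArg Subtype.val hk
    have hdvd : orderOf x ∣ p ^ k := orderOf_dvd_of_pow_eq_one hk'
    have hone : orderOf x = 1 := by
      have h4 : (orderOf x).Coprime (p ^ k) := Nat.Coprime.pow_right k hcop'
      exact Nat.eq_one_of_dvd_coprimes h4 dvd_rfl hdvd
    apply Subtype.ext
    exact orderOf_eq_one_iff.1 hone

/-- a critical subgroup of a normal `p`-subgroup `T`, inside `G` (no constraint hypothesis) -/
theorem exists_critical' (T : Subgroup G) [hTn : T.Normal] (hTp : IsPGroup p ↥T) :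
    ∃ A : Subgroup G, A.Normal ∧ A ≤ T ∧ ⁅A, T⁆ ≤ A ⊓ centralizer (A : Set G) ∧
      T ⊓ centralizer (A : Set G) ≤ A := by
  obtain ⟨H, hHc, hH1, hH2, hH3⟩ := Cfsg.Agent.S0093.result (P := ↥T) hTp
  have hAn : (H.map T.subtype).Normal := ConjAct.normal_of_characteristic_of_normal
  have hAT : H.map T.subtype ≤ T := Subgroup.map_subtype_le H
  have htop : (⊤ : Subgroup ↥T).map T.subtype = T := by
    rw [← MonoidHom.range_eq_map, Subgroup.range_subtype]
  refine ⟨H.map T.subtype, hAn, hAT, ?_, ?_⟩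
  · have h1 := Subgroup.map_mono (f := T.subtype) hH2
    rw [Subgroup.map_commutator, htop, map_subtype_inf_centralizer] at h1
    exact h1
  · rintro x ⟨hxT, hxC⟩
    have hx : (⟨x, hxT⟩ : ↥T) ∈ centralizer (H : Set ↥T) := by
      rw [Subgroup.mem_centralizer_iff]
      intro h hh
      apply Subtype.ext
      have := (Subgroup.mem_centralizer_iff.1 hxC) (h : G) ⟨h, hh, rfl⟩
      exact this
    exact ⟨⟨x, hxT⟩, hH3 hx, rfl⟩

end Critical

section Families

variable {G : Type*} [Group G] (A T S : Subgroup G) [hAn : A.Normal]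
  (hAT : A ≤ T) (hTS : T ≤ S) (hcrit : ⁅A, T⁆ ≤ A ⊓ centralizer (A : Set G))
  (hgood : ∀ g ∈ S, Cfsg.iterCommutator A (Subgroup.zpowers g) 3 = ⊥ →
    Cfsg.iterCommutator (A ⊓ centralizer (A : Set G)) (Subgroup.zpowers g) 2 = ⊥ → g ∈ T)

theorem le_normalizer_of_normal' (K X : Subgroup G) [hX : X.Normal] :
    K ≤ normalizer (X : Set G) := by
  rw [normalizer_eq_top_iff.2 hX]
  exact le_top

theorem commutator_le_right_of_le_normalizer {X C : Subgroup G}
    (h : X ≤ normalizer (C : Set G)) : ⁅X, C⁆ ≤ C := by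
  rw [commutator_comm]
  exact Cfsg.Agent.Lead.commutator_le_of_le_normalizer h

theorem classTwo_triple {C : Subgroup G} (hC : C ∈ classTwoSubgroups G) : ⁅⁅C, C⁆, C⁆ = ⊥ :=
  commutator_eq_bot_iff_le_centralizer.2 hC

theorem bot_commutator (B : Subgroup G) : ⁅(⊥ : Subgroup G), B⁆ = ⊥ := by
  rw [eq_bot_iff]
  exact Subgroup.commutator_le_left _ _

theorem commutator_bot' (B : Subgroup G) : ⁅B, (⊥ : Subgroup G)⁆ = ⊥ := by
  rw [commutator_comm]
  exact bot_commutator B

include hAT hcrit in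
theorem A_classTwo : A ∈ classTwoSubgroups G := by
  show ⁅A, A⁆ ≤ centralizer (A : Set G)
  exact ((commutator_mono le_rfl hAT).trans hcrit).trans inf_le_right

theorem ZA_self_commutator : ⁅A ⊓ centralizer (A : Set G), A ⊓ centralizer (A : Set G)⁆ = ⊥ := by
  rw [commutator_eq_bot_iff_le_centralizer]
  exact inf_le_right.trans (Subgroup.centralizer_le (by exact_mod_cast (inf_le_left : A ⊓ centralizer (A : Set G) ≤ A)))

include hgood in
theorem le_T_of_cubic (B : Subgroup G) (hBS : B ≤ S) (h3 : ⁅⁅⁅A, B⁆, B⁆, B⁆ = ⊥)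
    (h2 : ⁅⁅A ⊓ centralizer (A : Set G), B⁆, B⁆ = ⊥) : B ≤ T := by
  intro b hb
  have hz : Subgroup.zpowers b ≤ B := (Subgroup.zpowers_le).2 hb
  apply hgood b (hBS hb)
  · rw [eq_bot_iff, ← h3]
    exact iterCommutator_mono (le_refl A) hz 3
  · rw [eq_bot_iff, ← h2]
    exact iterCommutator_mono (le_refl _) hz 2

include hAT hTS hcrit hgood in
theorem A_mem_lower (R : Subgroup G) (hRS : R ≤ S) : A ∈ kLowerStarFamily R := by
  refine ⟨A_classTwo A T hAT hcrit, le_normalizer_of_normal' R A, ?_⟩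
  intro C hC hCR hAC _ h2
  have h1 : ⁅A, C⁆ ≤ C := commutator_le_right_of_le_normalizer hAC
  have h3 : ⁅⁅⁅A, C⁆, C⁆, C⁆ = ⊥ := by
    rw [eq_bot_iff, ← classTwo_triple hC]
    exact commutator_mono (commutator_mono h1 le_rfl) le_rfl
  have hCT : C ≤ T := le_T_of_cubic A T S hgood C (hCR.trans hRS) h3 h2
  exact (commutator_mono le_rfl hCT).trans hcrit

include hAT hcrit in
theorem A_mem_upper (R : Subgroup G) (hRT : R ≤ T) : A ∈ kUpperStarFamily R :=
  ⟨A_classTwo A T hAT hcrit, (commutator_mono le_rfl hRT).trans hcrit⟩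

include hgood in
theorem le_T_of_mem_lower (R B : Subgroup G) (hAR : A ≤ R) (hB : B ∈ kLowerStarFamily R)
    (hBS : B ≤ S) : B ≤ T := by
  have hAB : A ≤ normalizer (B : Set G) := hAR.trans hB.2.1
  have h1 : ⁅A, B⁆ ≤ B := commutator_le_right_of_le_normalizer hAB
  have h3 : ⁅⁅⁅A, B⁆, B⁆, B⁆ = ⊥ := by
    rw [eq_bot_iff, ← classTwo_triple hB.1]
    exact commutator_mono (commutator_mono h1 le_rfl) le_rfl
  have hZn : (A ⊓ centralizer (A : Set G)).Normal := Subgroup.normal_inf_normal _ _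
  have hZZ := ZA_self_commutator A
  have hstar := hB.2.2 (A ⊓ centralizer (A : Set G))
    (by
      show ⁅A ⊓ centralizer (A : Set G), A ⊓ centralizer (A : Set G)⁆ ≤ _
      rw [hZZ]; exact bot_le)
    (inf_le_left.trans hAR) (le_normalizer_of_normal' B _)
    (by rw [hZZ]; exact commutator_bot' B)
    (by
      rw [eq_bot_iff, ← hZZ]
      exact commutator_mono (Subgroup.commutator_le_right _ _) le_rfl)
  have h2 : ⁅⁅A ⊓ centralizer (A : Set G), B⁆, B⁆ = ⊥ := by
    rw [commutator_eq_bot_iff_le_centralizer, commutator_comm]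
    exact hstar.trans inf_le_right
  exact le_T_of_cubic A T S hgood B hBS h3 h2

include hgood in
theorem le_T_of_mem_upper (R B : Subgroup G) (hAR : A ≤ R) (hB : B ∈ kUpperStarFamily R)
    (hBS : B ≤ S) : B ≤ T := by
  have h1 : ⁅⁅A, B⁆, B⁆ = ⊥ := by
    rw [commutator_eq_bot_iff_le_centralizer, commutator_comm]
    exact ((commutator_mono le_rfl hAR).trans hB.2).trans inf_le_right
  have h3 : ⁅⁅⁅A, B⁆, B⁆, B⁆ = ⊥ := by
    rw [h1]; exact bot_commutator B
  have h2 : ⁅⁅A ⊓ centralizer (A : Set G), B⁆, B⁆ = ⊥ := by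
    rw [eq_bot_iff, ← h1]
    exact commutator_mono (commutator_mono inf_le_left le_rfl) le_rfl
  exact le_T_of_cubic A T S hgood B hBS h3 h2

theorem oddQ_le (n : ℕ) : oddQ S n ≤ S := by
  cases n with
  | zero => exact le_rfl
  | succ n =>
    show kUQ S _ ≤ S
    apply sSup_le
    rintro B ⟨_, hBS⟩
    exact hBS

include hAT hTS hcrit hgood in
theorem seq_bounds (n : ℕ) :
    A ≤ oddQ S n ∧ A ≤ evenQ S n ∧ evenQ S n ≤ T ∧ oddQ S (n + 1) ≤ T := by
  have hAS : A ≤ S := hAT.trans hTS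
  have hstep : ∀ n, A ≤ oddQ S n → (A ≤ evenQ S n ∧ evenQ S n ≤ T ∧ A ≤ oddQ S (n + 1) ∧
      oddQ S (n + 1) ≤ T) := by
    intro n hn
    have h1 : A ≤ evenQ S n :=
      le_sSup ⟨A_mem_lower A T S hAT hTS hcrit hgood _ (oddQ_le S n), hAS⟩
    have h2 : evenQ S n ≤ T := by
      apply sSup_le
      rintro B ⟨hB, hBS⟩
      exact le_T_of_mem_lower A T S hgood _ B hn hB hBS
    have h3 : A ≤ oddQ S (n + 1) :=
      le_sSup ⟨A_mem_upper A T hAT hcrit _ h2, hAS⟩
    have h4 : oddQ S (n + 1) ≤ T := by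
      apply sSup_le
      rintro B ⟨hB, hBS⟩
      exact le_T_of_mem_upper A T S hgood _ B h1 hB hBS
    exact ⟨h1, h2, h3, h4⟩
  have hall : ∀ n, A ≤ oddQ S n := by
    intro n
    induction n with
    | zero => exact hAS
    | succ n ih => exact (hstep n ih).2.2.1
  obtain ⟨h1, h2, _, h4⟩ := hstep n (hall n)
  exact ⟨hall n, h1, h2, h4⟩

end Families

section Main

variable {G : Type u} [Group G] [Finite G] {p : ℕ} [Fact p.Prime]

/-- **Normality of the K-infinity subgroups.** -/
theorem kInf_normal (S : Sylow p G)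
    (hcon : centralizer ((Cfsg.pCore p G : Subgroup G) : Set G) ≤ Cfsg.pCore p G)
    (hH : ∀ g ∈ (S : Subgroup G), (∀ U V : Subgroup G, Cfsg.IsChiefFactor U V → U ≤ Cfsg.pCore p G →
      Cfsg.iterCommutator U (Subgroup.zpowers g) 4 ≤ V) → g ∈ Cfsg.pCore p G) :
    (Cfsg.inducedFunctor kInfLower (S : Subgroup G)).Normal ∧
      (Cfsg.inducedFunctor kInfUpper (S : Subgroup G)).Normal := by
  have hTp : IsPGroup p ↥(Cfsg.pCore p G) := Cfsg.Agent.Helper14.pCore_isPGroup p
  have hTn : (Cfsg.pCore p G).Normal := Cfsg.Agent.Helper14.pCore_normal p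
  have hTS : Cfsg.pCore p G ≤ (S : Subgroup G) := Cfsg.Agent.Helper14.pCore_le_sylow p S
  obtain ⟨A, hAn, hAT, hcrit, hcent, -⟩ := exists_critical (Cfsg.pCore p G) hTp
    (fun N hN hNp => Cfsg.Agent.Helper14.le_pCore p hN hNp) hcon
  have hgood : ∀ g ∈ (S : Subgroup G), Cfsg.iterCommutator A (Subgroup.zpowers g) 3 = ⊥ →
      Cfsg.iterCommutator (A ⊓ centralizer (A : Set G)) (Subgroup.zpowers g) 2 = ⊥ →
      g ∈ Cfsg.pCore p G := by
    intro g hg h3 h2
    apply hH g hg
    intro U V hUV hUT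
    exact chief_good_of_A_good hTp hAT hcrit hcent _ h3 h2 hUV hUT
  have hb := seq_bounds A (Cfsg.pCore p G) (S : Subgroup G) hAT hTS hcrit hgood
  have hQ : ∀ n : ℕ, kSeqEven ↥(S : Subgroup G) n ≤ (Cfsg.pCore p G).subgroupOf (S : Subgroup G) ∧
      kSeqOdd ↥(S : Subgroup G) (n + 1) ≤ (Cfsg.pCore p G).subgroupOf (S : Subgroup G) := by
    intro n
    constructor
    · show _ ≤ (Cfsg.pCore p G).comap (S : Subgroup G).subtype
      rw [← Subgroup.map_le_iff_le_comap, map_kSeqEven]
      exact (hb n).2.2.1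
    · show _ ≤ (Cfsg.pCore p G).comap (S : Subgroup G).subtype
      rw [← Subgroup.map_le_iff_le_comap, map_kSeqOdd]
      exact (hb n).2.2.2
  obtain ⟨hL, hU⟩ := kInf_map_eq ((Cfsg.pCore p G).subgroupOf (S : Subgroup G)) hQ
  have hRp : IsPGroup p ↥((Cfsg.pCore p G).subgroupOf (S : Subgroup G)) :=
    S.2.to_subgroup _
  have hmap : ((Cfsg.pCore p G).subgroupOf (S : Subgroup G)).map (S : Subgroup G).subtype =
      Cfsg.pCore p G := Subgroup.map_subgroupOf_eq_of_le hTS
  constructor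
  · have hW : Cfsg.IsCharPFunctor.{u} p kInfLower := kInfLower_isCharPFunctor
    have e1 : Cfsg.inducedFunctor kInfLower (S : Subgroup G) =
        Cfsg.inducedFunctor kInfLower (Cfsg.pCore p G) := by
      have h1 := iF_map_subtype hW (S : Subgroup G) hRp
      rw [hmap] at h1
      rw [← h1]
      unfold Cfsg.inducedFunctor
      rw [hL]
    rw [e1]
    exact iF_normal_of_normal hW hTp hTn
  · have hW : Cfsg.IsCharPFunctor.{u} p kInfUpper := kInfUpper_isCharPFunctor
    have e1 : Cfsg.inducedFunctor kInfUpper (S : Subgroup G) =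
        Cfsg.inducedFunctor kInfUpper (Cfsg.pCore p G) := by
      have h1 := iF_map_subtype hW (S : Subgroup G) hRp
      rw [hmap] at h1
      rw [← h1]
      unfold Cfsg.inducedFunctor
      rw [hU]
    rw [e1]
    exact iF_normal_of_normal hW hTp hTn

/-- **Normality of the K-infinity subgroups**, general form: no constraint hypothesis, and the
test elements may also be assumed to act quadratically on `Z(O_p(G))`. -/
theorem kInf_normal' (S : Sylow p G)
    (hH : ∀ g ∈ (S : Subgroup G), (∀ U V : Subgroup G, Cfsg.IsChiefFactor U V → U ≤ Cfsg.pCore p G →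
      Cfsg.iterCommutator U (Subgroup.zpowers g) 4 ≤ V) →
      ⁅⁅Cfsg.pCore p G ⊓ centralizer ((Cfsg.pCore p G : Subgroup G) : Set G), Subgroup.zpowers g⁆,
        Subgroup.zpowers g⁆ = ⊥ → g ∈ Cfsg.pCore p G) :
    (Cfsg.inducedFunctor kInfLower (S : Subgroup G)).Normal ∧
      (Cfsg.inducedFunctor kInfUpper (S : Subgroup G)).Normal := by
  have hTp : IsPGroup p ↥(Cfsg.pCore p G) := Cfsg.Agent.Helper14.pCore_isPGroup p
  have hTn : (Cfsg.pCore p G).Normal := Cfsg.Agent.Helper14.pCore_normal p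
  have hTS : Cfsg.pCore p G ≤ (S : Subgroup G) := Cfsg.Agent.Helper14.pCore_le_sylow p S
  obtain ⟨A, hAn, hAT, hcrit, hcent⟩ := exists_critical' (Cfsg.pCore p G) hTp
  have hZ : Cfsg.pCore p G ⊓ centralizer ((Cfsg.pCore p G : Subgroup G) : Set G) ≤
      A ⊓ centralizer (A : Set G) := by
    have h1 : centralizer ((Cfsg.pCore p G : Subgroup G) : Set G) ≤ centralizer (A : Set G) :=
      Subgroup.centralizer_le (by exact_mod_cast hAT)
    exact le_inf ((inf_le_inf_left _ h1).trans hcent) (inf_le_right.trans h1)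
  have hgood : ∀ g ∈ (S : Subgroup G), Cfsg.iterCommutator A (Subgroup.zpowers g) 3 = ⊥ →
      Cfsg.iterCommutator (A ⊓ centralizer (A : Set G)) (Subgroup.zpowers g) 2 = ⊥ →
      g ∈ Cfsg.pCore p G := by
    intro g hg h3 h2
    apply hH g hg
    · intro U V hUV hUT
      exact chief_good_of_A_good hTp hAT hcrit hcent _ h3 h2 hUV hUT
    · rw [eq_bot_iff, ← h2]
      exact iterCommutator_mono hZ le_rfl 2
  have hb := seq_bounds A (Cfsg.pCore p G) (S : Subgroup G) hAT hTS hcrit hgood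
  have hQ : ∀ n : ℕ, kSeqEven ↥(S : Subgroup G) n ≤ (Cfsg.pCore p G).subgroupOf (S : Subgroup G) ∧
      kSeqOdd ↥(S : Subgroup G) (n + 1) ≤ (Cfsg.pCore p G).subgroupOf (S : Subgroup G) := by
    intro n
    constructor
    · show _ ≤ (Cfsg.pCore p G).comap (S : Subgroup G).subtype
      rw [← Subgroup.map_le_iff_le_comap, map_kSeqEven]
      exact (hb n).2.2.1
    · show _ ≤ (Cfsg.pCore p G).comap (S : Subgroup G).subtype
      rw [← Subgroup.map_le_iff_le_comap, map_kSeqOdd]
      exact (hb n).2.2.2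
  obtain ⟨hL, hU⟩ := kInf_map_eq ((Cfsg.pCore p G).subgroupOf (S : Subgroup G)) hQ
  have hRp : IsPGroup p ↥((Cfsg.pCore p G).subgroupOf (S : Subgroup G)) :=
    S.2.to_subgroup _
  have hmap : ((Cfsg.pCore p G).subgroupOf (S : Subgroup G)).map (S : Subgroup G).subtype =
      Cfsg.pCore p G := Subgroup.map_subgroupOf_eq_of_le hTS
  constructor
  · have hW : Cfsg.IsCharPFunctor.{u} p kInfLower := kInfLower_isCharPFunctor
    have e1 : Cfsg.inducedFunctor kInfLower (S : Subgroup G) =
        Cfsg.inducedFunctor kInfLower (Cfsg.pCore p G) := by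
      have h1 := iF_map_subtype hW (S : Subgroup G) hRp
      rw [hmap] at h1
      rw [← h1]
      unfold Cfsg.inducedFunctor
      rw [hL]
    rw [e1]
    exact iF_normal_of_normal hW hTp hTn
  · have hW : Cfsg.IsCharPFunctor.{u} p kInfUpper := kInfUpper_isCharPFunctor
    have e1 : Cfsg.inducedFunctor kInfUpper (S : Subgroup G) =
        Cfsg.inducedFunctor kInfUpper (Cfsg.pCore p G) := by
      have h1 := iF_map_subtype hW (S : Subgroup G) hRp
      rw [hmap] at h1
      rw [← h1]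
      unfold Cfsg.inducedFunctor
      rw [hU]
    rw [e1]
    exact iF_normal_of_normal hW hTp hTn

end Main

end Cfsg.Agent.Helper10
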