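import Mathlib
import Cfsg.Prelude.Def_ConjugacyFunctors
import Cfsg.Agent.Helper10.FamilyTransfer
import Cfsg.Agent.Helper10.SecFusion2

set_option autoImplicit false
set_option linter.unusedSectionVars false
set_option linter.unusedVariables false

/-! # Control of transfer by a set of isomorphism-invariant functors: transport lemmas -/

namespace Cfsg.Agent.Helper10

open Subgroup Cfsg.Agent.Helper14
open scoped commutatorElement

universe u

section Hom

variable {M X : Type*} [Group M] [Group X]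

/-- the relative target subgroup -/
def ftargetIn (𝓦 : Set (Subgroup X → Subgroup X)) (H T : Subgroup X) : Subgroup X :=
  ⨆ W ∈ 𝓦, T ⊓ ⁅H ⊓ normalizer ((W T : Subgroup X) : Set X), H ⊓ normalizer ((W T : Subgroup X) : Set X)⁆

theorem le_ftarget {𝓦 : Set (Subgroup X → Subgroup X)} {T : Subgroup X}
    {W : Subgroup X → Subgroup X} (hW : W ∈ 𝓦) :
    T ⊓ ⁅normalizer ((W T : Subgroup X) : Set X), normalizer ((W T : Subgroup X) : Set X)⁆ ≤
      ftarget 𝓦 T := by
  unfold ftarget
  exact le_iSup₂ (f := fun (W : Subgroup X → Subgroup X) (_ : W ∈ 𝓦) =>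
    T ⊓ ⁅normalizer ((W T : Subgroup X) : Set X), normalizer ((W T : Subgroup X) : Set X)⁆) W hW

theorem le_ftargetIn {𝓦 : Set (Subgroup X → Subgroup X)} {H T : Subgroup X}
    {W : Subgroup X → Subgroup X} (hW : W ∈ 𝓦) :
    T ⊓ ⁅H ⊓ normalizer ((W T : Subgroup X) : Set X), H ⊓ normalizer ((W T : Subgroup X) : Set X)⁆ ≤
      ftargetIn 𝓦 H T := by
  unfold ftargetIn
  exact le_iSup₂ (f := fun (W : Subgroup X → Subgroup X) (_ : W ∈ 𝓦) =>
    T ⊓ ⁅H ⊓ normalizer ((W T : Subgroup X) : Set X), H ⊓ normalizer ((W T : Subgroup X) : Set X)⁆) W hW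

theorem ftargetIn_le_ftarget (𝓦 : Set (Subgroup X → Subgroup X)) (H T : Subgroup X) :
    ftargetIn 𝓦 H T ≤ ftarget 𝓦 T := by
  unfold ftargetIn
  apply iSup₂_le
  intro W hW
  refine le_trans ?_ (le_ftarget hW)
  exact inf_le_inf_left _ (Subgroup.commutator_mono inf_le_right inf_le_right)

theorem ftarget_le (𝓦 : Set (Subgroup X → Subgroup X)) (T : Subgroup X) : ftarget 𝓦 T ≤ T := by
  unfold ftarget
  exact iSup₂_le (fun _ _ => inf_le_left)

theorem ftarget_le_commutator (𝓦 : Set (Subgroup X → Subgroup X)) (T : Subgroup X) :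
    ftarget 𝓦 T ≤ commutator X := by
  unfold ftarget
  apply iSup₂_le
  intro W _
  rw [_root_.commutator_def]
  exact inf_le_right.trans (Subgroup.commutator_mono le_top le_top)

theorem ftarget_map_le (φ : M →* X) {𝓦M : Set (Subgroup M → Subgroup M)}
    {𝓦X : Set (Subgroup X → Subgroup X)} (T : Subgroup M)
    (hcompat : ∀ W ∈ 𝓦M, ∃ W' ∈ 𝓦X, W' (T.map φ) = (W T).map φ) :
    (ftarget 𝓦M T).map φ ≤ ftargetIn 𝓦X φ.range (T.map φ) := by
  unfold ftarget
  rw [Subgroup.map_iSup]
  apply iSup_le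
  intro W
  rw [Subgroup.map_iSup]
  apply iSup_le
  intro hW
  obtain ⟨W', hW', hWe⟩ := hcompat W hW
  refine le_trans ?_ (le_ftargetIn hW')
  refine le_trans (Subgroup.map_inf_le _ _ _) (inf_le_inf_left _ ?_)
  rw [Subgroup.map_commutator, hWe]
  have h1 : (normalizer ((W T : Subgroup M) : Set M)).map φ ≤
      φ.range ⊓ normalizer (((W T).map φ : Subgroup X) : Set X) :=
    le_inf (Subgroup.map_le_range _ _) (Subgroup.le_normalizer_map φ)
  exact Subgroup.commutator_mono h1 h1

end Hom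

section ClaimT

variable (p : ℕ) (𝓦 : Set (∀ (Q : Type u) [Group Q], Subgroup Q))

/-- transfer is controlled in every Sylow `p`-subgroup of `X` -/
def ClaimT (X : Type u) [Group X] : Prop :=
  ∀ T : Sylow p X, (T : Subgroup X) ⊓ commutator X ≤ ftarget (iFam 𝓦 X) (T : Subgroup X)

variable {p 𝓦} [Fact p.Prime]

theorem claimT_of_controls (h𝓦 : ∀ W ∈ 𝓦, Cfsg.IsCharPFunctor.{u} p W) {X : Type u} [Group X]
    [Finite X] (h : Cfsg.FamilyControlsTransferIn p (iFam 𝓦 X) ⊤) : ClaimT p 𝓦 X := by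
  intro T
  have hidx : ¬ p ∣ (T : Subgroup X).relIndex ⊤ := by
    rw [Subgroup.relIndex_top_right]
    exact T.not_dvd_index
  have h1 := familyControlsTransferIn_sylow (iFam_conj h𝓦 X) h le_top T.2 hidx
  rw [_root_.commutator_def, h1]
  unfold ftarget
  simp only [top_inf_eq]
  exact le_rfl

theorem controls_of_claimT {X : Type u} [Group X] [Finite X] (h : ClaimT p 𝓦 X) :
    Cfsg.FamilyControlsTransferIn p (iFam 𝓦 X) ⊤ := by
  obtain ⟨T⟩ : Nonempty (Sylow p X) := inferInstance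
  refine ⟨(T : Subgroup X), le_top, T.2, ?_, ?_⟩
  · rw [Subgroup.relIndex_top_right]
    exact T.not_dvd_index
  · apply le_antisymm
    · have h1 := h T
      rw [_root_.commutator_def] at h1
      refine h1.trans ?_
      unfold ftarget
      simp only [top_inf_eq]
      exact le_rfl
    · apply iSup₂_le
      intro W _
      exact inf_le_inf_left _ (Subgroup.commutator_mono inf_le_left inf_le_left)

/-- from `ClaimT` for a subgroup `M` to the relative statement in `X` -/
theorem claimT_sub (h𝓦 : ∀ W ∈ 𝓦, Cfsg.IsCharPFunctor.{u} p W) {X : Type u} [Group X] [Finite X]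
    (M : Subgroup X) (h : ClaimT p 𝓦 ↥M) (T : Sylow p ↥M) :
    (T : Subgroup ↥M).map M.subtype ⊓ ⁅M, M⁆ ≤
      ftargetIn (iFam 𝓦 X) M ((T : Subgroup ↥M).map M.subtype) := by
  have h1 := Subgroup.map_mono (f := M.subtype) (h T)
  have h2 := ftarget_map_le (𝓦M := iFam 𝓦 ↥M) (𝓦X := iFam 𝓦 X) M.subtype (T : Subgroup ↥M)
    (by
      rintro _ ⟨W, hW, rfl⟩
      refine ⟨_, ⟨W, hW, rfl⟩, ?_⟩
      exact (iF_map_subtype (h𝓦 W hW) M T.2).symm)
  rw [Subgroup.range_subtype] at h2
  have h3 : ((T : Subgroup ↥M) ⊓ commutator ↥M).map M.subtype =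
      (T : Subgroup ↥M).map M.subtype ⊓ ⁅M, M⁆ := by
    rw [Subgroup.map_inf _ _ _ M.subtype_injective, _root_.commutator_def, Subgroup.map_commutator,
      ← MonoidHom.range_eq_map, Subgroup.range_subtype]
  rw [h3] at h1
  exact h1.trans h2

/-- transport along an isomorphism -/
theorem claimT_of_equiv (h𝓦 : ∀ W ∈ 𝓦, Cfsg.IsCharPFunctor.{u} p W) {Y Z : Type u} [Group Y]
    [Group Z] [Finite Y] [Finite Z] (e : Y ≃* Z) (h : ClaimT p 𝓦 Z) : ClaimT p 𝓦 Y := by
  intro T
  have hes : Function.Surjective e.toMonoidHom := e.surjective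
  have hT' : ((T.mapSurjective hes : Sylow p Z) : Subgroup Z) = (T : Subgroup Y).map e.toMonoidHom :=
    Sylow.coe_mapSurjective _ _
  have h1 := h (T.mapSurjective hes)
  rw [hT'] at h1
  have hTp' : IsPGroup p ↥((T : Subgroup Y).map e.toMonoidHom) := T.2.map _
  have h2 := Subgroup.map_mono (f := e.symm.toMonoidHom) h1
  have h3 := ftarget_map_le (𝓦M := iFam 𝓦 Z) (𝓦X := iFam 𝓦 Y) e.symm.toMonoidHom ((T : Subgroup Y).map e.toMonoidHom)
    (by
      rintro _ ⟨W, hW, rfl⟩
      refine ⟨_, ⟨W, hW, rfl⟩, ?_⟩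
      exact (iF_map_equiv (h𝓦 W hW) e.symm hTp').symm)
  have e1 : ((T : Subgroup Y).map e.toMonoidHom).map e.symm.toMonoidHom = (T : Subgroup Y) := by
    rw [Subgroup.map_map]
    have : e.symm.toMonoidHom.comp e.toMonoidHom = MonoidHom.id Y := by
      ext y; simp
    rw [this, Subgroup.map_id]
  have e2 : ((T : Subgroup Y).map e.toMonoidHom ⊓ commutator Z).map e.symm.toMonoidHom =
      (T : Subgroup Y) ⊓ commutator Y := by
    rw [Subgroup.map_inf _ _ _ e.symm.injective, e1, _root_.commutator_def, _root_.commutator_def,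
      Subgroup.map_commutator, Subgroup.map_top_of_surjective _ e.symm.surjective]
  rw [e2] at h2
  rw [e1] at h3
  exact (h2.trans h3).trans (ftargetIn_le_ftarget _ _ _)

end ClaimT

end Cfsg.Agent.Helper10
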