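import Mathlib
import Cfsg.Agent.Helper10.SecTransfer1
import Cfsg.Agent.Helper10.SecFusion3
import Cfsg.Agent.Helper18.IsolatedTransfer

set_option autoImplicit false
set_option linter.unusedSectionVars false
set_option linter.unusedVariables false

/-! # Control of transfer by a set of isomorphism-invariant functors: the induction -/

namespace Cfsg.Agent.Helper10

open Subgroup Cfsg.Agent.Helper14
open scoped commutatorElement Pointwise

universe u

section General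

variable {X : Type*} [Group X] [Finite X] {p : ℕ} [Fact p.Prime]

/-- the focal subgroup theorem, in the form used here -/
theorem focal_le (P : Sylow p X) (F : Subgroup X)
    (h : ∀ x ∈ (P : Subgroup X), ∀ g : X, g * x * g⁻¹ ∈ (P : Subgroup X) → x * (g * x * g⁻¹)⁻¹ ∈ F) :
    (P : Subgroup X) ⊓ commutator X ≤ F := by
  have hfoc := Subgroup.commutator_inf_eq_focalSubgroup P
  rw [inf_comm] at hfoc
  rw [hfoc, Subgroup.focalSubgroup_def, Subgroup.closure_le]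
  rintro g₀ ⟨hg₀, x, hx, u, rfl⟩
  have hux : u * x * u⁻¹ ∈ (P : Subgroup X) := by
    have h1 : x⁻¹ * ⁅x, u⁆ ∈ (P : Subgroup X) := mul_mem (inv_mem hx) hg₀
    have e : x⁻¹ * ⁅x, u⁆ = (u * x * u⁻¹)⁻¹ := by
      rw [commutatorElement_def]; group
    rw [e] at h1
    simpa using inv_mem h1
  have e : ⁅x, u⁆ = x * (u * x * u⁻¹)⁻¹ := by
    rw [commutatorElement_def]; group
  rw [SetLike.mem_coe, e]
  exact h x hx u hux

theorem comm_mem_of_mem {P M : Subgroup X} (hPM : P ≤ M) {x m : X} (hx : x ∈ P) (hm : m ∈ M)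
    (hmx : m * x * m⁻¹ ∈ P) : x * (m * x * m⁻¹)⁻¹ ∈ P ⊓ ⁅M, M⁆ := by
  refine ⟨P.mul_mem hx (P.inv_mem hmx), ?_⟩
  have e : x * (m * x * m⁻¹)⁻¹ = ⁅x, m⁆ := by
    rw [commutatorElement_def]; group
  rw [e]
  exact Subgroup.commutator_mem_commutator (hPM hx) hm

theorem comm_self_le_st2 (N : Subgroup X) : ⁅N, N⁆ ≤ N := by
  rw [Subgroup.commutator_le]
  intro a ha b hb
  rw [commutatorElement_def]
  exact N.mul_mem (N.mul_mem (N.mul_mem ha hb) (N.inv_mem ha)) (N.inv_mem hb)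

theorem conj_mem_commutator_self {N : Subgroup X} {c d : X} (hc : c ∈ N) (hd : d ∈ ⁅N, N⁆) :
    c * d * c⁻¹ ∈ ⁅N, N⁆ := by
  have h1 : (⁅N, N⁆).map (cj c) = ⁅N, N⁆ := by
    rw [Subgroup.map_commutator, map_cj_eq_self_of_mem hc]
  rw [← h1]
  exact ⟨d, hd, rfl⟩

end General

section Lift

variable {p : ℕ} [Fact p.Prime] {𝓦 : Set (∀ (Q : Type u) [Group Q], Subgroup Q)}

/-- lifting control of transfer through a normal `p'`-subgroup -/
theorem claimT_of_quotient_coprime (h𝓦 : ∀ W ∈ 𝓦, Cfsg.IsCharPFunctor.{u} p W)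
    {X : Type u} [Group X] [Finite X] (Y₀ : Subgroup X) [hYn : Y₀.Normal]
    (hY : (Nat.card ↥Y₀).Coprime p) (h : ClaimT p 𝓦 (X ⧸ Y₀)) : ClaimT p 𝓦 X := by
  intro T
  have hp : p.Prime := Fact.out
  have hsurj := QuotientGroup.mk'_surjective Y₀
  have hT' : ((T.mapSurjective hsurj : Sylow p (X ⧸ Y₀)) : Subgroup (X ⧸ Y₀)) =
      (T : Subgroup X).map (QuotientGroup.mk' Y₀) := Sylow.coe_mapSurjective _ _
  have hdisj : (T : Subgroup X) ⊓ Y₀ = ⊥ := by
    apply (Subgroup.disjoint_of_coprime_natCard _).eq_bot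
    obtain ⟨k, hk⟩ := IsPGroup.iff_card.mp T.2
    rw [hk]
    exact (Nat.Coprime.pow_right k hY).symm
  have hinj : ∀ t ∈ (T : Subgroup X), (QuotientGroup.mk' Y₀) t = 1 → t = 1 := by
    intro t ht h1
    have h2 : t ∈ (T : Subgroup X) ⊓ Y₀ := ⟨ht, (QuotientGroup.eq_one_iff t).1 h1⟩
    rw [hdisj] at h2
    exact h2
  have h1 := h (T.mapSurjective hsurj)
  rw [hT'] at h1
  have key : ftarget (iFam 𝓦 (X ⧸ Y₀)) ((T : Subgroup X).map (QuotientGroup.mk' Y₀)) ≤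
      (ftarget (iFam 𝓦 X) (T : Subgroup X)).map (QuotientGroup.mk' Y₀) := by
    unfold ftarget
    apply iSup₂_le
    rintro _ ⟨W, hW, rfl⟩
    have hV : Cfsg.inducedFunctor W ((T : Subgroup X).map (QuotientGroup.mk' Y₀)) =
        (Cfsg.inducedFunctor W (T : Subgroup X)).map (QuotientGroup.mk' Y₀) :=
      (iF_map_of_injOn (h𝓦 W hW) _ T.2 hinj).symm
    beta_reduce
    rw [hV, normalizer_map_mk_of_coprime Y₀ hY (iF_isPGroup (W := W) T.2), ← Subgroup.map_commutator]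
    rintro _ ⟨⟨t, ht, rfl⟩, ⟨n, hn, hnt⟩⟩
    refine ⟨t, ?_, rfl⟩
    have hWmem : Cfsg.inducedFunctor (G := X) W ∈ iFam 𝓦 X := ⟨W, hW, rfl⟩
    have hgoal : t ∈ (T : Subgroup X) ⊓
        ⁅normalizer ((Cfsg.inducedFunctor W (T : Subgroup X) : Subgroup X) : Set X),
          normalizer ((Cfsg.inducedFunctor W (T : Subgroup X) : Subgroup X) : Set X)⁆ := by
      refine ⟨ht, ?_⟩
      have hTN : (T : Subgroup X) ≤
          normalizer ((Cfsg.inducedFunctor W (T : Subgroup X) : Subgroup X) : Set X) :=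
        Subgroup.le_normalizer.trans (normalizer_le_normalizer_iF (h𝓦 W hW) T.2)
      obtain ⟨y, hy_def⟩ : ∃ y : X, y = n⁻¹ * t := ⟨_, rfl⟩
      have hn_eq : n = t * y⁻¹ := by rw [hy_def]; group
      have hy : y ∈ Y₀ := by
        rw [hy_def, ← QuotientGroup.eq]
        exact hnt
      have hcop : Nat.Coprime (orderOf y) (orderOf t) := by
        have h2 : orderOf y ∣ Nat.card ↥Y₀ := Subgroup.orderOf_dvd_natCard Y₀ hy
        obtain ⟨k, hk⟩ := T.2 ⟨t, ht⟩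
        have hk' : t ^ (p ^ k) = 1 := congrArg Subtype.val hk
        have h3 : orderOf t ∣ p ^ k := orderOf_dvd_of_pow_eq_one hk'
        exact Nat.Coprime.coprime_dvd_left h2 (Nat.Coprime.coprime_dvd_right h3
          (Nat.Coprime.pow_right k hY))
      have hpow : ∀ m : ℕ, t ^ m * (y ^ m)⁻¹ ∈
          ⁅normalizer ((Cfsg.inducedFunctor W (T : Subgroup X) : Subgroup X) : Set X),
            normalizer ((Cfsg.inducedFunctor W (T : Subgroup X) : Subgroup X) : Set X)⁆ := by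
        intro m
        induction m with
        | zero => simp
        | succ m ih =>
          have h4 := conj_mem_commutator_self (hTN ht) ih
          have e : t ^ (m + 1) * (y ^ (m + 1))⁻¹ =
              (t * (t ^ m * (y ^ m)⁻¹) * t⁻¹) * (t * y⁻¹) := by
            rw [pow_succ', pow_succ']; group
          rw [e]
          rw [hn_eq] at hn
          exact Subgroup.mul_mem _ h4 hn
      have h5 := hpow (orderOf y)
      rw [pow_orderOf_eq_one, inv_one, mul_one] at h5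
      obtain ⟨m, hm⟩ := exists_pow_eq_self_of_coprime hcop
      rw [← hm]
      exact Subgroup.pow_mem _ h5 m
    exact le_ftarget hWmem hgoal
  intro t ht
  have h2 : (QuotientGroup.mk' Y₀) t ∈ (T : Subgroup X).map (QuotientGroup.mk' Y₀) ⊓
      commutator (X ⧸ Y₀) := by
    refine ⟨⟨t, ht.1, rfl⟩, ?_⟩
    have h3 : commutator (X ⧸ Y₀) = (commutator X).map (QuotientGroup.mk' Y₀) := by
      rw [_root_.commutator_def, _root_.commutator_def, Subgroup.map_commutator,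
        Subgroup.map_top_of_surjective _ hsurj]
    rw [h3]
    exact ⟨t, ht.2, rfl⟩
  obtain ⟨f, hf, hft⟩ := key (h1 h2)
  have hfT : f ∈ (T : Subgroup X) := ftarget_le _ _ hf
  have h4 : (QuotientGroup.mk' Y₀) (f⁻¹ * t) = 1 := by
    rw [map_mul, map_inv, hft, inv_mul_cancel]
  have h5 := hinj _ ((T : Subgroup X).mul_mem ((T : Subgroup X).inv_mem hfT) ht.1) h4
  have h6 : t = f := (inv_mul_eq_one.1 h5).symm
  rw [h6]; exact hf

end Lift

section PC

variable {p : ℕ} [Fact p.Prime] {𝓦 : Set (∀ (Q : Type u) [Group Q], Subgroup Q)}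
variable {X : Type u} [Group X] [Finite X]

local notation "𝒬" => Cfsg.pCore p X
local notation "π" => QuotientGroup.mk' (Cfsg.pCore p X)

/-- subgroups containing `P` -/
theorem focal_sub_le (h𝓦 : ∀ W ∈ 𝓦, Cfsg.IsCharPFunctor.{u} p W) (P : Sylow p X) (M : Subgroup X)
    (hPM : (P : Subgroup X) ≤ M) (hM : ClaimT p 𝓦 ↥M) :
    (P : Subgroup X) ⊓ ⁅M, M⁆ ≤ ftarget (iFam 𝓦 X) (P : Subgroup X) := by
  have hT : ((P.subtype hPM : Sylow p ↥M) : Subgroup ↥M).map M.subtype = (P : Subgroup X) := by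
    rw [Sylow.coe_subtype, Subgroup.subgroupOf_map_subtype, inf_of_le_left hPM]
  have h1 := claimT_sub h𝓦 M hM (P.subtype hPM)
  rw [hT] at h1
  exact h1.trans (ftargetIn_le_ftarget _ _ _)

/-- when `X = P C_X(O_p(X))`, transfer shows `O_p(X) ∩ X' ≤ P'` -/
theorem pCore_inf_commutator_le_of_PC (P : Sylow p X)
    (hPC : ∀ x : X, ∃ u ∈ (P : Subgroup X), ∃ c ∈ centralizer ((𝒬 : Subgroup X) : Set X), x = u * c) :
    𝒬 ⊓ commutator X ≤ ⁅(P : Subgroup X), (P : Subgroup X)⁆ := by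
  have hp : p.Prime := Fact.out
  have hQP : 𝒬 ≤ (P : Subgroup X) := Cfsg.Agent.Helper14.pCore_le_sylow p P
  intro x hx
  have hxP : x ∈ (P : Subgroup X) := hQP hx.1
  have hV : MonoidHom.transfer (Abelianization.of : ↥(P : Subgroup X) →* Abelianization ↥(P : Subgroup X)) x = 1 :=
    MonoidHom.mem_ker.1 (Abelianization.commutator_subset_ker _ hx.2)
  have key : ∀ (k : ℕ) (g₀ : X) (h : g₀⁻¹ * ((⟨x, hxP⟩ : ↥(P : Subgroup X)) : X) ^ k * g₀ ∈ (P : Subgroup X)),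
      (Abelianization.of : ↥(P : Subgroup X) →* Abelianization ↥(P : Subgroup X))
        ⟨g₀⁻¹ * ((⟨x, hxP⟩ : ↥(P : Subgroup X)) : X) ^ k * g₀, h⟩ =
      (Abelianization.of : ↥(P : Subgroup X) →* Abelianization ↥(P : Subgroup X)) ⟨x, hxP⟩ ^ k := by
    intro k g₀ h
    obtain ⟨u, hu, c, hc, hg⟩ := hPC g₀⁻¹
    have hxk : x ^ k ∈ 𝒬 := Subgroup.pow_mem _ hx.1 k
    have hcx : c * x ^ k * c⁻¹ = x ^ k := by
      have := Subgroup.mem_centralizer_iff.1 hc _ hxk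
      rw [← this]; group
    have hg' : g₀ = (u * c)⁻¹ := by rw [← hg, inv_inv]
    have e : g₀⁻¹ * x ^ k * g₀ = u * x ^ k * u⁻¹ := by
      rw [hg', inv_inv]
      calc u * c * x ^ k * (u * c)⁻¹ = u * (c * x ^ k * c⁻¹) * u⁻¹ := by group
        _ = u * x ^ k * u⁻¹ := by rw [hcx]
    have e2 : (⟨g₀⁻¹ * ((⟨x, hxP⟩ : ↥(P : Subgroup X)) : X) ^ k * g₀, h⟩ : ↥(P : Subgroup X)) =
        ⟨u, hu⟩ * ⟨x, hxP⟩ ^ k * ⟨u, hu⟩⁻¹ := by
      apply Subtype.ext
      simp only [Subgroup.coe_mul, Subgroup.coe_pow, Subgroup.coe_inv]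
      exact e
    rw [e2, map_mul, map_mul, map_pow, map_inv, mul_comm, inv_mul_cancel_left]
  have h1 := Cfsg.Agent.Helper18.transfer_eq_pow_of_fusion
    (Abelianization.of : ↥(P : Subgroup X) →* Abelianization ↥(P : Subgroup X)) ⟨x, hxP⟩ key
  have h1' : (Abelianization.of : ↥(P : Subgroup X) →* Abelianization ↥(P : Subgroup X)) ⟨x, hxP⟩ ^
      (P : Subgroup X).index = 1 := by
    rw [← h1]; exact hV
  obtain ⟨j, hj⟩ := P.2 ⟨x, hxP⟩
  have h2 : (Abelianization.of : ↥(P : Subgroup X) →* Abelianization ↥(P : Subgroup X)) ⟨x, hxP⟩ ^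
      (p ^ j) = 1 := by
    rw [← map_pow, hj, map_one]
  have h3 : orderOf ((Abelianization.of : ↥(P : Subgroup X) →* Abelianization ↥(P : Subgroup X))
      ⟨x, hxP⟩) ∣ Nat.gcd (P : Subgroup X).index (p ^ j) :=
    Nat.dvd_gcd (orderOf_dvd_of_pow_eq_one h1') (orderOf_dvd_of_pow_eq_one h2)
  have hcop : Nat.Coprime (P : Subgroup X).index (p ^ j) := by
    apply Nat.Coprime.pow_right
    rw [Nat.coprime_comm, hp.coprime_iff_not_dvd]
    exact P.not_dvd_index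
  rw [hcop.gcd_eq_one, Nat.dvd_one] at h3
  have h4 : (⟨x, hxP⟩ : ↥(P : Subgroup X)) ∈ commutator ↥(P : Subgroup X) := by
    rw [← Abelianization.ker_of]
    exact MonoidHom.mem_ker.2 (orderOf_eq_one_iff.1 h3)
  have h5 : (commutator ↥(P : Subgroup X)).map (P : Subgroup X).subtype =
      ⁅(P : Subgroup X), (P : Subgroup X)⁆ := by
    rw [_root_.commutator_def, Subgroup.map_commutator, ← MonoidHom.range_eq_map,
      Subgroup.range_subtype]
  rw [← h5]
  exact ⟨⟨x, hxP⟩, h4, rfl⟩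

/-- passing to `X / O_p(X)`: it suffices to control `O_p(X) ∩ X'` -/
theorem claimT_pCore_step (h𝓦 : ∀ W ∈ 𝓦, Cfsg.IsCharPFunctor.{u} p W) (P : Sylow p X)
    (hPQ : (P : Subgroup X) ≠ 𝒬)
    (hsub : ∀ M : Subgroup X, M ≠ ⊤ → ClaimT p 𝓦 ↥M) (hquot : ClaimT p 𝓦 (X ⧸ 𝒬))
    (hQX : 𝒬 ⊓ commutator X ≤ ftarget (iFam 𝓦 X) (P : Subgroup X)) :
    (P : Subgroup X) ⊓ commutator X ≤ ftarget (iFam 𝓦 X) (P : Subgroup X) := by
  have hsurj := QuotientGroup.mk'_surjective 𝒬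
  have hQP : 𝒬 ≤ (P : Subgroup X) := Cfsg.Agent.Helper14.pCore_le_sylow p P
  have hPb : ((P.mapSurjective hsurj : Sylow p (X ⧸ 𝒬)) : Subgroup (X ⧸ 𝒬)) =
      (P : Subgroup X).map π := Sylow.coe_mapSurjective _ _
  have h1 := hquot (P.mapSurjective hsurj)
  rw [hPb] at h1
  have key : ftarget (iFam 𝓦 (X ⧸ 𝒬)) ((P : Subgroup X).map π) ≤
      (ftarget (iFam 𝓦 X) (P : Subgroup X)).map π := by
    unfold ftarget
    apply iSup₂_le
    rintro _ ⟨W, hW, rfl⟩
    beta_reduce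
    have hPM : (P : Subgroup X) ≤ (normalizer ((Cfsg.inducedFunctor W ((P : Subgroup X).map π) :
        Subgroup (X ⧸ 𝒬)) : Set (X ⧸ 𝒬))).comap π := by
      intro x hx
      rw [Subgroup.mem_comap]
      have hPbp : IsPGroup p ↥((P : Subgroup X).map π) := P.2.map _
      exact (Subgroup.le_normalizer.trans (normalizer_le_normalizer_iF (h𝓦 W hW) hPbp)) ⟨x, hx, rfl⟩
    have hMW := focal_sub_le h𝓦 P _ hPM (hsub _ (comap_normalizer_iF_ne_top h𝓦 P hPQ hW))
    have hN : normalizer ((Cfsg.inducedFunctor W ((P : Subgroup X).map π) :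
        Subgroup (X ⧸ 𝒬)) : Set (X ⧸ 𝒬)) =
        ((normalizer ((Cfsg.inducedFunctor W ((P : Subgroup X).map π) :
        Subgroup (X ⧸ 𝒬)) : Set (X ⧸ 𝒬))).comap π).map π :=
      (Subgroup.map_comap_eq_self_of_surjective hsurj _).symm
    rw [hN, ← Subgroup.map_commutator]
    rintro _ ⟨⟨t, ht, rfl⟩, ⟨d, hd, hdt⟩⟩
    refine ⟨d, hMW ⟨?_, hd⟩, hdt⟩
    have h2 : t⁻¹ * d ∈ 𝒬 := by
      rw [← QuotientGroup.eq]
      exact hdt.symm
    have e : d = t * (t⁻¹ * d) := by group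
    rw [e]
    exact (P : Subgroup X).mul_mem ht (hQP h2)
  intro t ht
  have h2 : π t ∈ (P : Subgroup X).map π ⊓ commutator (X ⧸ 𝒬) := by
    refine ⟨⟨t, ht.1, rfl⟩, ?_⟩
    have h3 : commutator (X ⧸ 𝒬) = (commutator X).map π := by
      rw [_root_.commutator_def, _root_.commutator_def, Subgroup.map_commutator,
        Subgroup.map_top_of_surjective _ hsurj]
    rw [h3]
    exact ⟨t, ht.2, rfl⟩
  obtain ⟨f, hf, hft⟩ := key (h1 h2)
  have hq : f⁻¹ * t ∈ 𝒬 ⊓ commutator X := by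
    refine ⟨?_, Subgroup.mul_mem _ (Subgroup.inv_mem _ (ftarget_le_commutator _ _ hf)) ht.2⟩
    exact QuotientGroup.eq.1 hft
  have h4 := hQX hq
  have e : t = f * (f⁻¹ * t) := by group
  rw [e]
  exact Subgroup.mul_mem _ hf h4

/-- the case `X = P C_X(O_p(X))` -/
theorem claimT_PC (h𝓦 : ∀ W ∈ 𝓦, Cfsg.IsCharPFunctor.{u} p W) (P : Sylow p X)
    (hPQ : (P : Subgroup X) ≠ 𝒬)
    (hPC : ∀ x : X, ∃ u ∈ (P : Subgroup X), ∃ c ∈ centralizer ((𝒬 : Subgroup X) : Set X), x = u * c)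
    (hsub : ∀ M : Subgroup X, M ≠ ⊤ → ClaimT p 𝓦 ↥M) (hquot : ClaimT p 𝓦 (X ⧸ 𝒬)) :
    (P : Subgroup X) ⊓ commutator X ≤ ftarget (iFam 𝓦 X) (P : Subgroup X) := by
  have hPtop : (P : Subgroup X) ≠ ⊤ := by
    intro h
    apply hPQ
    rw [h]
    symm
    rw [eq_top_iff]
    apply Cfsg.Agent.Helper14.le_pCore p inferInstance
    rw [← h]; exact P.2
  have hP' : ⁅(P : Subgroup X), (P : Subgroup X)⁆ ≤ ftarget (iFam 𝓦 X) (P : Subgroup X) :=
    (le_inf (comm_self_le_st2 _) le_rfl).trans (focal_sub_le h𝓦 P _ le_rfl (hsub _ hPtop))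
  exact claimT_pCore_step h𝓦 P hPQ hsub hquot
    ((pCore_inf_commutator_le_of_PC P hPC).trans hP')

/-- from `ClaimT` for a subgroup `M` to `FamilyControlsTransferIn … M` -/
theorem controlsT_sub (h𝓦 : ∀ W ∈ 𝓦, Cfsg.IsCharPFunctor.{u} p W) (M : Subgroup X)
    (h : ClaimT p 𝓦 ↥M) : Cfsg.FamilyControlsTransferIn p (iFam 𝓦 X) M := by
  obtain ⟨T⟩ : Nonempty (Sylow p ↥M) := inferInstance
  refine ⟨(T : Subgroup ↥M).map M.subtype, Subgroup.map_subtype_le _, T.2.map _, ?_, ?_⟩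
  · have : ((T : Subgroup ↥M).map M.subtype).relIndex M = (T : Subgroup ↥M).index := by
      rw [Subgroup.relIndex, Subgroup.subgroupOf,
        Subgroup.comap_map_eq_self_of_injective M.subtype_injective]
    rw [this]; exact T.not_dvd_index
  · apply le_antisymm
    · exact claimT_sub h𝓦 M h T
    · apply iSup₂_le
      intro W _
      exact inf_le_inf_left _ (Subgroup.commutator_mono inf_le_left inf_le_left)

/-- the case `O_p(X) = 1`: local-to-global -/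
theorem claimT_of_pCore_bot (h𝓦 : ∀ W ∈ 𝓦, Cfsg.IsCharPFunctor.{u} p W) (hQ : 𝒬 = ⊥)
    (hsub : ∀ M : Subgroup X, M ≠ ⊤ → ClaimT p 𝓦 ↥M) : ClaimT p 𝓦 X := by
  obtain ⟨S⟩ : Nonempty (Sylow p X) := inferInstance
  apply claimT_of_controls h𝓦
  apply familyControlsTransfer_of_extremal S (iFam_conj h𝓦 X)
  intro T hTS hTne _
  apply controlsT_sub h𝓦
  apply hsub
  intro htop
  apply hTne
  have hn : T.Normal := Subgroup.normalizer_eq_top_iff.1 htop
  have := Cfsg.Agent.Helper14.le_pCore p hn (S.2.to_le hTS)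
  rw [hQ] at this
  exact le_bot_iff.1 this

end PC

section Main

variable {p : ℕ} [Fact p.Prime] {𝓦 : Set (∀ (Q : Type u) [Group Q], Subgroup Q)}

/-- the main induction for transfer; the constrained case may use the induction hypothesis -/
theorem claimT_all' (h𝓦 : ∀ W ∈ 𝓦, Cfsg.IsCharPFunctor.{u} p W)
    (𝒞 : ∀ (Y : Type u) [Group Y], Prop)
    (hsub𝒞 : ∀ (Y : Type u) [Group Y], 𝒞 Y → ∀ M : Subgroup Y, 𝒞 ↥M)
    (hquot𝒞 : ∀ (Y : Type u) [Group Y], 𝒞 Y → ∀ (N : Subgroup Y) [N.Normal], 𝒞 (Y ⧸ N))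
    (Hc : ∀ (Y : Type u) [Group Y] [Finite Y], 𝒞 Y →
      centralizer ((Cfsg.pCore p Y : Subgroup Y) : Set Y) ≤ Cfsg.pCore p Y →
      (∀ M : Subgroup Y, M ≠ ⊤ → ClaimT p 𝓦 ↥M) →
      (∀ (N : Subgroup Y) [N.Normal], N ≠ ⊥ → ClaimT p 𝓦 (Y ⧸ N)) → ClaimT p 𝓦 Y) :
    ∀ (n : ℕ) (X : Type u) [Group X] [Finite X], Nat.card X = n → 𝒞 X → ClaimT p 𝓦 X := by
  intro n
  induction n using Nat.strong_induction_on with
  | _ n ih =>
  intro X _ _ hn hX
  have IH : ∀ (Y : Type u) [Group Y] [Finite Y], Nat.card Y < Nat.card X → 𝒞 Y → ClaimT p 𝓦 Y :=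
    fun Y _ _ hlt hY => ih (Nat.card Y) (hn ▸ hlt) Y rfl hY
  have hsub : ∀ M : Subgroup X, M ≠ ⊤ → ClaimT p 𝓦 ↥M :=
    fun M hM => IH _ (card_subgroup_lt_of_ne_top hM) (hsub𝒞 X hX M)
  have hquot : ∀ (N : Subgroup X) [N.Normal], N ≠ ⊥ → ClaimT p 𝓦 (X ⧸ N) :=
    fun N _ hN => IH _ (card_quotient_lt_of_ne_bot hN) (hquot𝒞 X hX N)
  by_cases hO : Cfsg.pPrimeCore p X = ⊥
  swap
  · exact claimT_of_quotient_coprime h𝓦 (Cfsg.pPrimeCore p X)
      (Cfsg.Agent.Helper23.pPrimeCore_card_coprime p X) (hquot _ hO)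
  by_cases hcon : centralizer ((Cfsg.pCore p X : Subgroup X) : Set X) ≤ Cfsg.pCore p X
  · exact Hc X hX hcon hsub hquot
  by_cases hQ : Cfsg.pCore p X = ⊥
  · exact claimT_of_pCore_bot h𝓦 hQ hsub
  intro P
  have hQP : Cfsg.pCore p X ≤ (P : Subgroup X) := Cfsg.Agent.Helper14.pCore_le_sylow p P
  have hCn : (centralizer ((Cfsg.pCore p X : Subgroup X) : Set X)).Normal := inferInstance
  have hKn : (Cfsg.pCore p X ⊔ centralizer ((Cfsg.pCore p X : Subgroup X) : Set X)).Normal :=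
    inferInstance
  by_cases hN : normalizer ((((P : Subgroup X) ⊓
      (Cfsg.pCore p X ⊔ centralizer ((Cfsg.pCore p X : Subgroup X) : Set X)) : Subgroup X)) : Set X) = ⊤
  · exfalso
    apply hcon
    apply centralizer_pCore_le_of_sylow_inf_le P hO
    have hn : ((P : Subgroup X) ⊓
      (Cfsg.pCore p X ⊔ centralizer ((Cfsg.pCore p X : Subgroup X) : Set X))).Normal :=
      Subgroup.normalizer_eq_top_iff.1 hN
    have := Cfsg.Agent.Helper14.le_pCore p hn (P.2.to_le inf_le_left)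
    exact (inf_le_inf_left _ le_sup_right).trans this
  by_cases hPK : (P : Subgroup X) ⊔
      (Cfsg.pCore p X ⊔ centralizer ((Cfsg.pCore p X : Subgroup X) : Set X)) = ⊤
  · have hPQ : (P : Subgroup X) ≠ Cfsg.pCore p X := by
      intro h
      apply hN
      rw [h, inf_of_le_left le_sup_left]
      exact Subgroup.normalizer_eq_top_iff.2 inferInstance
    have hPC : ∀ x : X, ∃ u ∈ (P : Subgroup X),
        ∃ c ∈ centralizer ((Cfsg.pCore p X : Subgroup X) : Set X), x = u * c := by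
      intro x
      have hx : x ∈ (((P : Subgroup X) ⊔ centralizer ((Cfsg.pCore p X : Subgroup X) : Set X) :
          Subgroup X) : Set X) := by
        have h1 : (P : Subgroup X) ⊔ centralizer ((Cfsg.pCore p X : Subgroup X) : Set X) = ⊤ := by
          rw [← hPK, ← sup_assoc, sup_eq_left.2 hQP]
        rw [h1]; exact Subgroup.mem_top x
      rw [Subgroup.mul_normal] at hx
      obtain ⟨u, hu, c, hc, rfl⟩ := Set.mem_mul.1 hx
      exact ⟨u, hu, c, hc, rfl⟩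
    exact claimT_PC h𝓦 P hPQ hPC hsub (hquot _ hQ)
  · have hPN : (P : Subgroup X) ≤ normalizer ((((P : Subgroup X) ⊓
        (Cfsg.pCore p X ⊔ centralizer ((Cfsg.pCore p X : Subgroup X) : Set X)) : Subgroup X)) : Set X) := by
      apply le_normalizer_inf_of_le Subgroup.le_normalizer
      rw [Subgroup.normalizer_eq_top_iff.2 hKn]; exact le_top
    have h1 := focal_sub_le h𝓦 P _ le_sup_left (hsub _ hPK)
    have h2 := focal_sub_le h𝓦 P _ hPN (hsub _ hN)
    apply focal_le P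
    intro x hx g hgx
    have hA : ({x} : Set X) ⊆ (P : Subgroup X) := by
      intro a ha
      rw [Set.mem_singleton_iff] at ha
      rw [ha]; exact hx
    have hgA : lc g ({x} : Set X) ⊆ (P : Subgroup X) := by
      rintro _ ⟨a, ha, rfl⟩
      rw [Set.mem_singleton_iff] at ha
      rw [ha]; exact hgx
    obtain ⟨l, hl, n', hn', hg, hlA⟩ := frattini_fusion P
      (Cfsg.pCore p X ⊔ centralizer ((Cfsg.pCore p X : Subgroup X) : Set X)) {x} g hA hgA
    have hlx : l * x * l⁻¹ ∈ (P : Subgroup X) := hlA ⟨x, rfl, rfl⟩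
    have hnx : n' * (l * x * l⁻¹) * n'⁻¹ ∈ (P : Subgroup X) := by
      have e : n' * (l * x * l⁻¹) * n'⁻¹ = g * x * g⁻¹ := by rw [hg]; group
      rw [e]; exact hgx
    have a1 := h1 (comm_mem_of_mem le_sup_left hx hl hlx)
    have a2 := h2 (comm_mem_of_mem hPN hlx hn' hnx)
    have e : x * (g * x * g⁻¹)⁻¹ =
        (x * (l * x * l⁻¹)⁻¹) * ((l * x * l⁻¹) * (n' * (l * x * l⁻¹) * n'⁻¹)⁻¹) := by
      rw [hg]; group
    rw [e]
    exact Subgroup.mul_mem _ a1 a2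

/-- the main induction for transfer -/
theorem claimT_all (h𝓦 : ∀ W ∈ 𝓦, Cfsg.IsCharPFunctor.{u} p W)
    (𝒞 : ∀ (Y : Type u) [Group Y], Prop)
    (hsub𝒞 : ∀ (Y : Type u) [Group Y], 𝒞 Y → ∀ M : Subgroup Y, 𝒞 ↥M)
    (hquot𝒞 : ∀ (Y : Type u) [Group Y], 𝒞 Y → ∀ (N : Subgroup Y) [N.Normal], 𝒞 (Y ⧸ N))
    (Hc : ∀ (Y : Type u) [Group Y] [Finite Y], 𝒞 Y →
      centralizer ((Cfsg.pCore p Y : Subgroup Y) : Set Y) ≤ Cfsg.pCore p Y → ClaimT p 𝓦 Y) :
    ∀ (n : ℕ) (X : Type u) [Group X] [Finite X], Nat.card X = n → 𝒞 X → ClaimT p 𝓦 X :=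
  claimT_all' h𝓦 𝒞 hsub𝒞 hquot𝒞 (fun Y _ _ hY hcon _ _ => Hc Y hY hcon)

end Main

end Cfsg.Agent.Helper10
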