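import Mathlib
import Cfsg.Prelude.Def_ConjugacyFunctors
import Cfsg.Agent.Helper10.SecTransfer2
import Cfsg.Agent.Helper10.TransferChief
import Cfsg.Agent.Helper10.NormLemmas
import Cfsg.Agent.Helper23.TransferSq
import Cfsg.Agent.Helper23.PSeries

set_option autoImplicit false
set_option linter.unusedSectionVars false
set_option linter.unusedVariables false
set_option linter.style.haveILetI false

/-! # The structure of a minimal failure of control of transfer -/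

namespace Cfsg.Agent.Helper10

open Subgroup Cfsg.Agent.Helper14
open scoped commutatorElement IsMulCommutative

universe u

section Gen

variable {p : ℕ} [Fact p.Prime] {X : Type*} [Group X] [Finite X]

/-- transfer into a Sylow subgroup: if `X` centralizes `O_p(X)` modulo `T'` then `O_p(X) ∩ X' ≤ T'` -/
theorem pCore_inf_commutator_le_of_comm (P : Sylow p X) (T' : Subgroup X)
    (hT'P : T' ≤ (P : Subgroup X)) (hP' : ⁅(P : Subgroup X), (P : Subgroup X)⁆ ≤ T')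
    (hcomm : ∀ q ∈ Cfsg.pCore p X, ∀ g : X, q⁻¹ * (g⁻¹ * q * g) ∈ T') :
    Cfsg.pCore p X ⊓ commutator X ≤ T' := by
  classical
  have hp : p.Prime := Fact.out
  have hQP : Cfsg.pCore p X ≤ (P : Subgroup X) := pCore_le_sylow p P
  intro x hx
  have hxP : x ∈ (P : Subgroup X) := hQP hx.1
  letI := (P : Subgroup X).fintypeQuotientOfFiniteIndex
  have hV : MonoidHom.transfer (Abelianization.of : ↥(P : Subgroup X) →* Abelianization ↥(P : Subgroup X)) x = 1 :=
    MonoidHom.mem_ker.1 (Abelianization.commutator_subset_ker _ hx.2)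
  rw [transfer_eq_prod_conj _ hQP hx.1] at hV
  have hfac : ∀ q : X ⧸ (P : Subgroup X),
      (Abelianization.of : ↥(P : Subgroup X) →* Abelianization ↥(P : Subgroup X))
        ⟨(q.out)⁻¹ * x * q.out, conj_out_mem hQP hx.1 _⟩ =
      Abelianization.of (⟨x, hxP⟩ : ↥(P : Subgroup X)) *
        Abelianization.of (⟨x⁻¹ * ((q.out)⁻¹ * x * q.out), hT'P (hcomm x hx.1 _)⟩ : ↥(P : Subgroup X)) := by
    intro q
    rw [← map_mul]
    congr 1
    apply Subtype.ext
    simp only [Subgroup.coe_mul]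
    group
  rw [Finset.prod_congr rfl (fun q _ => hfac q), Finset.prod_mul_distrib, Finset.prod_const] at hV
  have hK : ∏ q : X ⧸ (P : Subgroup X), (Abelianization.of : ↥(P : Subgroup X) →* Abelianization ↥(P : Subgroup X))
      ⟨x⁻¹ * ((q.out)⁻¹ * x * q.out), hT'P (hcomm x hx.1 _)⟩ ∈
      (T'.subgroupOf (P : Subgroup X)).map Abelianization.of := by
    apply Subgroup.prod_mem
    intro q _
    exact ⟨_, Subgroup.mem_subgroupOf.2 (hcomm x hx.1 _), rfl⟩
  have hpowK : (Abelianization.of (⟨x, hxP⟩ : ↥(P : Subgroup X))) ^ (Finset.univ : Finset (X ⧸ (P : Subgroup X))).card ∈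
      (T'.subgroupOf (P : Subgroup X)).map Abelianization.of := by
    have := Subgroup.inv_mem _ hK
    rwa [← eq_inv_of_mul_eq_one_left hV] at this
  obtain ⟨t, ht, hte⟩ := hpowK
  rw [← map_pow] at hte
  have h1 : t⁻¹ * (⟨x, hxP⟩ : ↥(P : Subgroup X)) ^ (Finset.univ : Finset (X ⧸ (P : Subgroup X))).card ∈
      commutator ↥(P : Subgroup X) := by
    rw [← Abelianization.ker_of]
    apply MonoidHom.mem_ker.2
    rw [map_mul, map_inv, hte, inv_mul_cancel]
  have h2 : ((t⁻¹ * (⟨x, hxP⟩ : ↥(P : Subgroup X)) ^ (Finset.univ : Finset (X ⧸ (P : Subgroup X))).card :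
      ↥(P : Subgroup X)) : X) ∈ T' := by
    apply hP'
    rw [← Subgroup.map_subtype_commutator]
    exact ⟨_, h1, rfl⟩
  have ht' : (t : X) ∈ T' := Subgroup.mem_subgroupOf.1 ht
  have h3 : x ^ (Finset.univ : Finset (X ⧸ (P : Subgroup X))).card ∈ T' := by
    have := T'.mul_mem ht' h2
    simpa using this
  have hcard : (Finset.univ : Finset (X ⧸ (P : Subgroup X))).card = (P : Subgroup X).index := by
    rw [Finset.card_univ, ← Nat.card_eq_fintype_card]
    rfl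
  rw [hcard] at h3
  have hcop : ((P : Subgroup X).index).Coprime (orderOf x) := by
    obtain ⟨j, hj⟩ := P.2 ⟨x, hxP⟩
    have hj' : x ^ (p ^ j) = 1 := by
      have := congrArg Subtype.val hj
      simpa using this
    obtain ⟨i, -, hi⟩ := (Nat.dvd_prime_pow hp).1 (orderOf_dvd_of_pow_eq_one hj')
    rw [hi]
    apply Nat.Coprime.pow_right
    rw [Nat.coprime_comm, hp.coprime_iff_not_dvd]
    exact P.not_dvd_index
  obtain ⟨m, hm⟩ := exists_pow_eq_self_of_coprime hcop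
  rw [← hm]
  exact T'.pow_mem h3 m

end Gen

section Step

variable {p : ℕ} [Fact p.Prime] {𝓦 : Set (∀ (Q : Type u) [Group Q], Subgroup Q)}
variable {X : Type u} [Group X] [Finite X]

/-- one step of the induction for transfer: only the constrained case is left -/
theorem claimT_step (h𝓦 : ∀ W ∈ 𝓦, Cfsg.IsCharPFunctor.{u} p W)
    (hsub : ∀ M : Subgroup X, M ≠ ⊤ → ClaimT p 𝓦 ↥M)
    (hquot : ∀ (N : Subgroup X) [N.Normal], N ≠ ⊥ → ClaimT p 𝓦 (X ⧸ N))
    (hc : centralizer ((Cfsg.pCore p X : Subgroup X) : Set X) ≤ Cfsg.pCore p X → ClaimT p 𝓦 X) :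
    ClaimT p 𝓦 X := by
  by_cases hO : Cfsg.pPrimeCore p X = ⊥
  swap
  · exact claimT_of_quotient_coprime h𝓦 (Cfsg.pPrimeCore p X)
      (Cfsg.Agent.Helper23.pPrimeCore_card_coprime p X) (hquot _ hO)
  by_cases hcon : centralizer ((Cfsg.pCore p X : Subgroup X) : Set X) ≤ Cfsg.pCore p X
  · exact hc hcon
  by_cases hQ : Cfsg.pCore p X = ⊥
  · exact claimT_of_pCore_bot h𝓦 hQ hsub
  intro P
  have hQP : Cfsg.pCore p X ≤ (P : Subgroup X) := Cfsg.Agent.Helper14.pCore_le_sylow p P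
  have hCn : (centralizer ((Cfsg.pCore p X : Subgroup X) : Set X)).Normal := inferInstance
  have hKn : (Cfsg.pCore p X ⊔ centralizer ((Cfsg.pCore p X : Subgroup X) : Set X)).Normal :=
    inferInstance
  by_cases hN : normalizer ((((P : Subgroup X) ⊓
      (Cfsg.pCore p X ⊔ centralizer ((Cfsg.pCore p X : Subgroup X) : Set X)) : Subgroup X)) : Set X) = ⊤
  · exfalso
    apply hcon
    apply centralizer_pCore_le_of_sylow_inf_le P hO
    have hn : ((P : Subgroup X) ⊓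
      (Cfsg.pCore p X ⊔ centralizer ((Cfsg.pCore p X : Subgroup X) : Set X))).Normal :=
      Subgroup.normalizer_eq_top_iff.1 hN
    have := Cfsg.Agent.Helper14.le_pCore p hn (P.2.to_le inf_le_left)
    exact (inf_le_inf_left _ le_sup_right).trans this
  by_cases hPK : (P : Subgroup X) ⊔
      (Cfsg.pCore p X ⊔ centralizer ((Cfsg.pCore p X : Subgroup X) : Set X)) = ⊤
  · have hPQ : (P : Subgroup X) ≠ Cfsg.pCore p X := by
      intro h
      apply hN
      rw [h, inf_of_le_left le_sup_left]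
      exact Subgroup.normalizer_eq_top_iff.2 inferInstance
    have hPC : ∀ x : X, ∃ u ∈ (P : Subgroup X),
        ∃ c ∈ centralizer ((Cfsg.pCore p X : Subgroup X) : Set X), x = u * c := by
      intro x
      have hx : x ∈ (((P : Subgroup X) ⊔ centralizer ((Cfsg.pCore p X : Subgroup X) : Set X) :
          Subgroup X) : Set X) := by
        have h1 : (P : Subgroup X) ⊔ centralizer ((Cfsg.pCore p X : Subgroup X) : Set X) = ⊤ := by
          rw [← hPK, ← sup_assoc, sup_eq_left.2 hQP]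
        rw [h1]; exact Subgroup.mem_top x
      rw [Subgroup.mul_normal] at hx
      obtain ⟨u, hu, c, hc, rfl⟩ := Set.mem_mul.1 hx
      exact ⟨u, hu, c, hc, rfl⟩
    exact claimT_PC h𝓦 P hPQ hPC hsub (hquot _ hQ)
  · have hPN : (P : Subgroup X) ≤ normalizer ((((P : Subgroup X) ⊓
        (Cfsg.pCore p X ⊔ centralizer ((Cfsg.pCore p X : Subgroup X) : Set X)) : Subgroup X)) : Set X) := by
      apply le_normalizer_inf_of_le Subgroup.le_normalizer
      rw [Subgroup.normalizer_eq_top_iff.2 hKn]; exact le_top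
    have h1 := focal_sub_le h𝓦 P _ le_sup_left (hsub _ hPK)
    have h2 := focal_sub_le h𝓦 P _ hPN (hsub _ hN)
    apply focal_le P
    intro x hx g hgx
    have hA : ({x} : Set X) ⊆ (P : Subgroup X) := by
      intro a ha
      rw [Set.mem_singleton_iff] at ha
      rw [ha]; exact hx
    have hgA : lc g ({x} : Set X) ⊆ (P : Subgroup X) := by
      rintro _ ⟨a, ha, rfl⟩
      rw [Set.mem_singleton_iff] at ha
      rw [ha]; exact hgx
    obtain ⟨l, hl, n', hn', hg, hlA⟩ := frattini_fusion P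
      (Cfsg.pCore p X ⊔ centralizer ((Cfsg.pCore p X : Subgroup X) : Set X)) {x} g hA hgA
    have hlx : l * x * l⁻¹ ∈ (P : Subgroup X) := hlA ⟨x, rfl, rfl⟩
    have hnx : n' * (l * x * l⁻¹) * n'⁻¹ ∈ (P : Subgroup X) := by
      have e : n' * (l * x * l⁻¹) * n'⁻¹ = g * x * g⁻¹ := by rw [hg]; group
      rw [e]; exact hgx
    have a1 := h1 (comm_mem_of_mem le_sup_left hx hl hlx)
    have a2 := h2 (comm_mem_of_mem hPN hlx hn' hnx)
    have e : x * (g * x * g⁻¹)⁻¹ =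
        (x * (l * x * l⁻¹)⁻¹) * ((l * x * l⁻¹) * (n' * (l * x * l⁻¹) * n'⁻¹)⁻¹) := by
      rw [hg]; group
    rw [e]
    exact Subgroup.mul_mem _ a1 a2

end Step

section Str

variable {p : ℕ} [Fact p.Prime] {𝓦 : Set (∀ (Q : Type u) [Group Q], Subgroup Q)}
variable {X : Type u} [Group X] [Finite X]

local notation "𝒬" => Cfsg.pCore p X

variable (h𝓦 : ∀ W ∈ 𝓦, Cfsg.IsCharPFunctor.{u} p W) (hne : 𝓦.Nonempty) (P : Sylow p X)
  (hsub : ∀ M : Subgroup X, M ≠ ⊤ → ClaimT p 𝓦 ↥M)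

include h𝓦 hsub in
/-- proper subgroups over `P` -/
theorem mf_focal {H : Subgroup X} (hPH : (P : Subgroup X) ≤ H) (hH : H ≠ ⊤) :
    (P : Subgroup X) ⊓ ⁅H, H⁆ ≤ ftarget (iFam 𝓦 X) (P : Subgroup X) :=
  focal_sub_le h𝓦 P H hPH (hsub H hH)

include h𝓦 hsub in
/-- proper subgroups over `P` normalize `T ∩ O_p(X)` -/
theorem mf_le_normalizer {H : Subgroup X} (hPH : (P : Subgroup X) ≤ H) (hH : H ≠ ⊤) :
    H ≤ normalizer ((ftarget (iFam 𝓦 X) (P : Subgroup X) ⊓ 𝒬 : Subgroup X) : Set X) := by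
  apply le_normalizer_of_commutator_le'
  rw [Subgroup.commutator_le]
  intro y hy h hh
  have hQP : 𝒬 ≤ (P : Subgroup X) := pCore_le_sylow p P
  have hyH : y ∈ H := hPH (hQP hy.2)
  have h1 : ⁅y, h⁆ ∈ 𝒬 := by
    rw [commutatorElement_def]
    have e : y * h * y⁻¹ * h⁻¹ = y * (h * y⁻¹ * h⁻¹) := by group
    rw [e]
    exact Subgroup.mul_mem _ hy.2
      ((inferInstance : (𝒬 : Subgroup X).Normal).conj_mem _ (Subgroup.inv_mem _ hy.2) h)
  exact ⟨mf_focal h𝓦 P hsub hPH hH ⟨hQP h1, Subgroup.commutator_mem_commutator hyH hh⟩, h1⟩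

variable (hfail : ¬ ((P : Subgroup X) ⊓ commutator X ≤ ftarget (iFam 𝓦 X) (P : Subgroup X)))

include h𝓦 hne hfail in
theorem mf_ne_pCore : (P : Subgroup X) ≠ 𝒬 := by
  intro h
  apply hfail
  obtain ⟨W, hW⟩ := hne
  have hPn : (P : Subgroup X).Normal := by rw [h]; infer_instance
  have hN : normalizer ((Cfsg.inducedFunctor W (P : Subgroup X) : Subgroup X) : Set X) = ⊤ := by
    rw [eq_top_iff]
    refine le_trans ?_ (normalizer_le_normalizer_iF (h𝓦 W hW) P.2)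
    rw [Subgroup.normalizer_eq_top_iff.2 hPn]
  refine le_trans ?_ (le_ftarget (𝓦 := iFam 𝓦 X) (W := Cfsg.inducedFunctor W) ⟨W, hW, rfl⟩)
  rw [hN, _root_.commutator_def]

include h𝓦 hne hfail in
theorem mf_ne_top : (P : Subgroup X) ≠ ⊤ := by
  intro h
  apply mf_ne_pCore h𝓦 hne P hfail
  apply le_antisymm
  · apply le_pCore p _ P.2
    rw [h]; infer_instance
  · exact pCore_le_sylow p P

include h𝓦 hne in
theorem mf_commutator_le : ⁅(P : Subgroup X), (P : Subgroup X)⁆ ≤ ftarget (iFam 𝓦 X) (P : Subgroup X) := by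
  obtain ⟨W, hW⟩ := hne
  refine le_trans ?_ (le_ftarget (𝓦 := iFam 𝓦 X) (W := Cfsg.inducedFunctor W) ⟨W, hW, rfl⟩)
  have hPN : (P : Subgroup X) ≤ normalizer ((Cfsg.inducedFunctor W (P : Subgroup X) : Subgroup X) : Set X) :=
    Subgroup.le_normalizer.trans (normalizer_le_normalizer_iF (h𝓦 W hW) P.2)
  exact le_inf (comm_self_le_st2 _) (Subgroup.commutator_mono hPN hPN)

variable (hcon : centralizer ((Cfsg.pCore p X : Subgroup X) : Set X) ≤ Cfsg.pCore p X)

include hcon hfail in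
theorem mf_pCore_ne_bot : 𝒬 ≠ ⊥ := by
  intro h
  apply hfail
  have hcon' : centralizer (((⊥ : Subgroup X) : Subgroup X) : Set X) ≤ ⊥ := by
    rw [← h]; exact hcon
  have htop : ∀ x : X, x = 1 := by
    intro x
    have : x ∈ centralizer (((⊥ : Subgroup X) : Subgroup X) : Set X) := by
      apply Subgroup.mem_centralizer_iff.2
      intro y hy
      have hy1 : y = 1 := Subgroup.mem_bot.1 hy
      rw [hy1]; simp
    exact Subgroup.mem_bot.1 (hcon' this)
  intro x hx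
  rw [htop x]
  exact Subgroup.one_mem _

variable (hquot : ∀ (N : Subgroup X) [N.Normal], N ≠ ⊥ → ClaimT p 𝓦 (X ⧸ N))

include h𝓦 hne hsub hfail hcon hquot in
/-- the failure is visible in `O_p(X)` -/
theorem mf_pCore_fail : ¬ (𝒬 ⊓ commutator X ≤ ftarget (iFam 𝓦 X) (P : Subgroup X)) := fun h =>
  hfail (claimT_pCore_step h𝓦 P (mf_ne_pCore h𝓦 hne P hfail) hsub
    (hquot 𝒬 (mf_pCore_ne_bot P hfail hcon)) h)

include h𝓦 hne hsub hfail hcon hquot in
/-- `M = N(T ∩ O_p(X))` is proper -/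
theorem mf_normalizer_ne_top :
    normalizer ((ftarget (iFam 𝓦 X) (P : Subgroup X) ⊓ 𝒬 : Subgroup X) : Set X) ≠ ⊤ := by
  intro htop
  have hQ₀n : (ftarget (iFam 𝓦 X) (P : Subgroup X) ⊓ 𝒬).Normal := Subgroup.normalizer_eq_top_iff.1 htop
  have hQP : 𝒬 ≤ (P : Subgroup X) := pCore_le_sylow p P
  apply mf_pCore_fail h𝓦 hne P hsub hfail hcon hquot
  have hQn : (𝒬 : Subgroup X).Normal := inferInstance
  have hQbn : ((𝒬 : Subgroup X).map (QuotientGroup.mk' (ftarget (iFam 𝓦 X) (P : Subgroup X) ⊓ 𝒬))).Normal :=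
    hQn.map _ (QuotientGroup.mk'_surjective _)
  have hCn : ((centralizer (((𝒬 : Subgroup X).map
      (QuotientGroup.mk' (ftarget (iFam 𝓦 X) (P : Subgroup X) ⊓ 𝒬)) : Subgroup _) : Set _)).comap
      (QuotientGroup.mk' (ftarget (iFam 𝓦 X) (P : Subgroup X) ⊓ 𝒬))).Normal :=
    Subgroup.Normal.comap (inferInstance : (centralizer (((𝒬 : Subgroup X).map
      (QuotientGroup.mk' (ftarget (iFam 𝓦 X) (P : Subgroup X) ⊓ 𝒬)) : Subgroup _) : Set _)).Normal)
      (QuotientGroup.mk' (ftarget (iFam 𝓦 X) (P : Subgroup X) ⊓ 𝒬))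
  -- membership in `C`
  have hmemC : ∀ g : X, (∀ q ∈ 𝒬, g⁻¹ * q⁻¹ * g * q ∈ ftarget (iFam 𝓦 X) (P : Subgroup X) ⊓ 𝒬) →
      g ∈ (centralizer (((𝒬 : Subgroup X).map
        (QuotientGroup.mk' (ftarget (iFam 𝓦 X) (P : Subgroup X) ⊓ 𝒬)) : Subgroup _) : Set _)).comap
        (QuotientGroup.mk' (ftarget (iFam 𝓦 X) (P : Subgroup X) ⊓ 𝒬)) := by
    intro g hg
    rw [Subgroup.mem_comap]
    apply Subgroup.mem_centralizer_iff.2
    rintro _ ⟨q, hq, rfl⟩
    rw [← map_mul, ← map_mul, QuotientGroup.mk'_apply, QuotientGroup.mk'_apply, QuotientGroup.eq]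
    have e : (q * g)⁻¹ * (g * q) = g⁻¹ * q⁻¹ * g * q := by group
    rw [e]
    exact hg q hq
  have hCmem : ∀ g : X, g ∈ (centralizer (((𝒬 : Subgroup X).map
        (QuotientGroup.mk' (ftarget (iFam 𝓦 X) (P : Subgroup X) ⊓ 𝒬)) : Subgroup _) : Set _)).comap
        (QuotientGroup.mk' (ftarget (iFam 𝓦 X) (P : Subgroup X) ⊓ 𝒬)) →
      ∀ q ∈ 𝒬, g⁻¹ * q⁻¹ * g * q ∈ ftarget (iFam 𝓦 X) (P : Subgroup X) ⊓ 𝒬 := by
    intro g hg q hq
    rw [Subgroup.mem_comap] at hg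
    have h1 := Subgroup.mem_centralizer_iff.1 hg _ ⟨q, hq, rfl⟩
    rw [← map_mul, ← map_mul, QuotientGroup.mk'_apply, QuotientGroup.mk'_apply, QuotientGroup.eq] at h1
    have e : (q * g)⁻¹ * (g * q) = g⁻¹ * q⁻¹ * g * q := by group
    rw [e] at h1
    exact h1
  -- the normalizer of `P` lies in `C`
  have hNC : normalizer ((P : Subgroup X) : Set X) ≤ (centralizer (((𝒬 : Subgroup X).map
        (QuotientGroup.mk' (ftarget (iFam 𝓦 X) (P : Subgroup X) ⊓ 𝒬)) : Subgroup _) : Set _)).comap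
        (QuotientGroup.mk' (ftarget (iFam 𝓦 X) (P : Subgroup X) ⊓ 𝒬)) := by
    intro n hn
    apply hmemC
    intro q hq
    obtain ⟨W, hW⟩ := hne
    have hnN : n ∈ normalizer ((Cfsg.inducedFunctor W (P : Subgroup X) : Subgroup X) : Set X) :=
      normalizer_le_normalizer_iF (h𝓦 W hW) P.2 hn
    have hqN : q ∈ normalizer ((Cfsg.inducedFunctor W (P : Subgroup X) : Subgroup X) : Set X) :=
      normalizer_le_normalizer_iF (h𝓦 W hW) P.2 (Subgroup.le_normalizer (hQP hq))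
    have hinQ : n⁻¹ * q⁻¹ * n * q ∈ 𝒬 := by
      have e : n⁻¹ * q⁻¹ * n * q = (n⁻¹ * q⁻¹ * n⁻¹⁻¹) * q := by group
      rw [e]
      exact Subgroup.mul_mem _ (hQn.conj_mem _ (Subgroup.inv_mem _ hq) _) hq
    refine ⟨?_, hinQ⟩
    apply le_ftarget (𝓦 := iFam 𝓦 X) (W := Cfsg.inducedFunctor W) ⟨W, hW, rfl⟩
    refine ⟨hQP hinQ, ?_⟩
    have e : n⁻¹ * q⁻¹ * n * q = ⁅n⁻¹, q⁻¹⁆ := by
      rw [commutatorElement_def]; group
    rw [e]
    exact Subgroup.commutator_mem_commutator (Subgroup.inv_mem _ hnN) (Subgroup.inv_mem _ hqN)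
  have hPC : (P : Subgroup X) ≤ (centralizer (((𝒬 : Subgroup X).map
        (QuotientGroup.mk' (ftarget (iFam 𝓦 X) (P : Subgroup X) ⊓ 𝒬)) : Subgroup _) : Set _)).comap
        (QuotientGroup.mk' (ftarget (iFam 𝓦 X) (P : Subgroup X) ⊓ 𝒬)) :=
    Subgroup.le_normalizer.trans hNC
  -- Frattini
  have hfr := Sylow.normalizer_sup_eq_top (P.subtype hPC)
  rw [Sylow.coe_subtype, Subgroup.subgroupOf_map_subtype, inf_of_le_left hPC,
    sup_of_le_right hNC] at hfr
  -- now everything centralizes `O_p(X)` modulo `T ∩ O_p(X)`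
  apply pCore_inf_commutator_le_of_comm P _ (ftarget_le _ _) (mf_commutator_le h𝓦 hne P)
  intro q hq g
  have hg : g ∈ (centralizer (((𝒬 : Subgroup X).map
        (QuotientGroup.mk' (ftarget (iFam 𝓦 X) (P : Subgroup X) ⊓ 𝒬)) : Subgroup _) : Set _)).comap
        (QuotientGroup.mk' (ftarget (iFam 𝓦 X) (P : Subgroup X) ⊓ 𝒬)) := by
    rw [hfr]; trivial
  have h1 := hCmem g hg q⁻¹ (Subgroup.inv_mem _ hq)
  rw [inv_inv] at h1
  have h2 := hQ₀n.conj_mem _ h1 q⁻¹
  have e : q⁻¹ * (g⁻¹ * q * g * q⁻¹) * q⁻¹⁻¹ = q⁻¹ * (g⁻¹ * q * g) := by group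
  rw [e] at h2
  exact h2.1

include h𝓦 hne hsub hfail in
/-- `P ≤ M` -/
theorem mf_sylow_le_normalizer :
    (P : Subgroup X) ≤ normalizer ((ftarget (iFam 𝓦 X) (P : Subgroup X) ⊓ 𝒬 : Subgroup X) : Set X) :=
  mf_le_normalizer h𝓦 P hsub le_rfl (mf_ne_top h𝓦 hne P hfail)

include h𝓦 hne hsub hfail hcon hquot in
/-- `O_p(X) ∩ M' ≤ T` -/
theorem mf_inf_commutator_le :
    𝒬 ⊓ ⁅normalizer ((ftarget (iFam 𝓦 X) (P : Subgroup X) ⊓ 𝒬 : Subgroup X) : Set X),
      normalizer ((ftarget (iFam 𝓦 X) (P : Subgroup X) ⊓ 𝒬 : Subgroup X) : Set X)⁆ ≤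
      ftarget (iFam 𝓦 X) (P : Subgroup X) := by
  have hQP : 𝒬 ≤ (P : Subgroup X) := pCore_le_sylow p P
  exact (inf_le_inf_right _ hQP).trans (mf_focal h𝓦 P hsub (mf_sylow_le_normalizer h𝓦 hne P hsub hfail)
    (mf_normalizer_ne_top h𝓦 hne P hsub hfail hcon hquot))

include h𝓦 hne hsub hfail hcon hquot in
/-- a chief factor inside `O_p(X)` on which every element of `P` outside `O_p(X)` has a Jordan block
of size at least `p` -/
theorem mf_chief : ∃ U V : Subgroup X, Cfsg.IsChiefFactor U V ∧ U ≤ 𝒬 ∧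
    ∀ u ∈ (P : Subgroup X), u ∉ 𝒬 →
      ¬ Cfsg.iterCommutator U (Subgroup.zpowers u) (p - 1) ≤ V := by
  classical
  have hQP : 𝒬 ≤ (P : Subgroup X) := pCore_le_sylow p P
  have hPM := mf_sylow_le_normalizer h𝓦 hne P hsub hfail
  have hQM := mf_inf_commutator_le h𝓦 hne P hsub hfail hcon hquot
  have hF2 := mf_pCore_fail h𝓦 hne P hsub hfail hcon hquot
  have hmax : ∀ H : Subgroup X, (P : Subgroup X) ≤ H → H ≠ ⊤ →
      H ≤ normalizer ((ftarget (iFam 𝓦 X) (P : Subgroup X) ⊓ 𝒬 : Subgroup X) : Set X) :=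
    fun H hPH hH => mf_le_normalizer h𝓦 P hsub hPH hH
  obtain ⟨M, hM⟩ : ∃ M : Subgroup X,
      M = normalizer ((ftarget (iFam 𝓦 X) (P : Subgroup X) ⊓ 𝒬 : Subgroup X) : Set X) := ⟨_, rfl⟩
  rw [← hM] at hPM hQM hmax
  have h0 : (fun N : Subgroup X => N.Normal ∧ N ≤ 𝒬 ⊓ commutator X ∧ ¬ N ≤ ⁅M, M⁆)
      (𝒬 ⊓ commutator X) :=
    ⟨inferInstance, le_rfl, fun h => hF2 (le_trans (le_inf inf_le_left h) hQM)⟩
  obtain ⟨U, -, hUmin⟩ := Finite.exists_le_minimal (α := Subgroup X)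
    (p := fun N : Subgroup X => N.Normal ∧ N ≤ 𝒬 ⊓ commutator X ∧ ¬ N ≤ ⁅M, M⁆)
    (a := 𝒬 ⊓ commutator X) h0
  have hUn : U.Normal := hUmin.1.1
  have hUne : U ≠ ⊥ := by
    rintro rfl
    exact hUmin.1.2.2 bot_le
  have h1 : (fun N : Subgroup X => N.Normal ∧ N < U) ⊥ :=
    ⟨inferInstance, bot_lt_iff_ne_bot.2 hUne⟩
  obtain ⟨V, -, hVmax⟩ := Finite.exists_le_maximal (α := Subgroup X)
    (p := fun N : Subgroup X => N.Normal ∧ N < U) (a := ⊥) h1
  have hVn : V.Normal := hVmax.1.1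
  have hVU : V < U := hVmax.1.2
  have hchief : Cfsg.IsChiefFactor U V := by
    refine ⟨hVU, hUn, hVn, ?_⟩
    intro N hN hVN hNU
    by_cases h : N = U
    · exact Or.inr h
    · left
      exact le_antisymm (hVmax.2 ⟨hN, lt_of_le_of_ne hNU h⟩ hVN) hVN
  have hUQ : U ≤ 𝒬 := hUmin.1.2.1.trans inf_le_left
  have hUX' : U ≤ commutator X := hUmin.1.2.1.trans inf_le_right
  have hVM : V ≤ ⁅M, M⁆ := by
    by_contra h
    exact hVU.not_ge (hUmin.2 ⟨hVn, hVU.le.trans hUmin.1.2.1, h⟩ hVU.le)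
  have hUM : U ≤ M := (hUQ.trans hQP).trans hPM
  refine ⟨U, V, hchief, hUQ, ?_⟩
  intro u huP huQ hiter
  apply huQ
  haveI hcomm : IsMulCommutative ↥(Ub U V) := ub_isMulCommutative hchief hUQ
  refine mem_pCore_of_transfer U V (Abelianization.of : ↥M →* Abelianization ↥M) hUM P hPM hmax
    (ub_pow_eq_one hchief hUQ) ?_ ?_ ?_ u huP hiter
  · intro y hy hyM
    exact Cfsg.Agent.Helper23.abelianization_of_eq_one M ⟨y, hyM⟩ (hVM hy)
  · intro x hx
    exact MonoidHom.mem_ker.1 (Abelianization.commutator_subset_ker _ (hUX' hx))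
  · by_contra hall
    push Not at hall
    apply hUmin.1.2.2
    intro x hx
    exact Cfsg.Agent.Helper23.mem_commutator_of_abelianization_of_eq_one M ⟨x, hUM hx⟩ (hall x hx)

end Str

end Cfsg.Agent.Helper10
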