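import Mathlib
import Cfsg.Agent.Helper10.SecTransfer2

set_option autoImplicit false
set_option linter.unusedSectionVars false
set_option linter.unusedVariables false

/-! # Control of transfer by a single functor: criteria in constrained sections -/

namespace Cfsg.Agent.Helper10

open Subgroup Cfsg.Agent.Helper14
open scoped commutatorElement Pointwise

universe u

section One

variable {p : ℕ} [Fact p.Prime] {W : ∀ (Q : Type u) [Group Q], Subgroup Q}

theorem h𝓦_singleton (hW : Cfsg.IsCharPFunctor.{u} p W) :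
    ∀ W' ∈ ({W} : Set (∀ (Q : Type u) [Group Q], Subgroup Q)), Cfsg.IsCharPFunctor.{u} p W' := by
  intro W' hW'
  rw [Set.mem_singleton_iff] at hW'
  rw [hW']; exact hW

theorem ftarget_singleton {Y : Type u} [Group Y] (T : Subgroup Y) :
    ftarget (iFam ({W} : Set (∀ (Q : Type u) [Group Q], Subgroup Q)) Y) T =
      T ⊓ ⁅normalizer ((Cfsg.inducedFunctor W T : Subgroup Y) : Set Y),
        normalizer ((Cfsg.inducedFunctor W T : Subgroup Y) : Set Y)⁆ := by
  apply le_antisymm
  · unfold ftarget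
    apply iSup₂_le
    rintro _ ⟨W', hW', rfl⟩
    rw [Set.mem_singleton_iff] at hW'
    subst hW'
    exact le_rfl
  · exact le_ftarget (𝓦 := iFam ({W} : Set (∀ (Q : Type u) [Group Q], Subgroup Q)) Y)
      (W := Cfsg.inducedFunctor W) ⟨W, rfl, rfl⟩

/-- constrained step: it suffices to control `O_p(Y) ∩ Y'` -/
theorem claimT_constrained_of_pCore (hW : Cfsg.IsCharPFunctor.{u} p W) {Y : Type u} [Group Y]
    [Finite Y]
    (hcon : centralizer ((Cfsg.pCore p Y : Subgroup Y) : Set Y) ≤ Cfsg.pCore p Y)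
    (hQY : ∀ T : Sylow p Y, Cfsg.pCore p Y ⊓ commutator Y ≤
      ⁅normalizer ((Cfsg.inducedFunctor W (T : Subgroup Y) : Subgroup Y) : Set Y),
        normalizer ((Cfsg.inducedFunctor W (T : Subgroup Y) : Subgroup Y) : Set Y)⁆)
    (hsub : ∀ M : Subgroup Y, M ≠ ⊤ →
      ClaimT p ({W} : Set (∀ (Q : Type u) [Group Q], Subgroup Q)) ↥M)
    (hquot : ∀ (N : Subgroup Y) [N.Normal], N ≠ ⊥ →
      ClaimT p ({W} : Set (∀ (Q : Type u) [Group Q], Subgroup Q)) (Y ⧸ N)) :
    ClaimT p ({W} : Set (∀ (Q : Type u) [Group Q], Subgroup Q)) Y := by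
  intro P
  have hQP : Cfsg.pCore p Y ≤ (P : Subgroup Y) := Cfsg.Agent.Helper14.pCore_le_sylow p P
  have hQX : Cfsg.pCore p Y ⊓ commutator Y ≤
      ftarget (iFam ({W} : Set (∀ (Q : Type u) [Group Q], Subgroup Q)) Y) (P : Subgroup Y) := by
    rw [ftarget_singleton]
    exact le_inf (inf_le_left.trans hQP) (hQY P)
  by_cases hQ : Cfsg.pCore p Y = ⊥
  · intro x hx
    have h1 : x ∈ centralizer ((Cfsg.pCore p Y : Subgroup Y) : Set Y) := by
      apply Subgroup.mem_centralizer_iff.2
      intro y hy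
      rw [hQ] at hy
      have : y = 1 := hy
      rw [this, one_mul, mul_one]
    have h2 := hcon h1
    rw [hQ, Subgroup.mem_bot] at h2
    rw [h2]; exact Subgroup.one_mem _
  by_cases hPQ : (P : Subgroup Y) = Cfsg.pCore p Y
  · rw [hPQ] at hQX ⊢
    exact hQX
  · exact claimT_pCore_step (h𝓦_singleton hW) P hPQ hsub (hquot _ hQ) hQX

/-- transport of the hypothesis on `O_p ∩ Y'` along an isomorphism -/
theorem pCore_inf_commutator_le_of_equiv (hW : Cfsg.IsCharPFunctor.{u} p W) {Y Z : Type u} [Group Y]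
    [Group Z] [Finite Y] [Finite Z] (e : Y ≃* Z) (T : Subgroup Y) (hT : IsPGroup p ↥T)
    (h : Cfsg.pCore p Z ⊓ commutator Z ≤
      ⁅normalizer ((Cfsg.inducedFunctor W (T.map e.toMonoidHom) : Subgroup Z) : Set Z),
        normalizer ((Cfsg.inducedFunctor W (T.map e.toMonoidHom) : Subgroup Z) : Set Z)⁆) :
    Cfsg.pCore p Y ⊓ commutator Y ≤
      ⁅normalizer ((Cfsg.inducedFunctor W T : Subgroup Y) : Set Y),
        normalizer ((Cfsg.inducedFunctor W T : Subgroup Y) : Set Y)⁆ := by
  intro x hx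
  have h1 : e.toMonoidHom x ∈ Cfsg.pCore p Z ⊓ commutator Z := by
    refine ⟨?_, ?_⟩
    · rw [← Cfsg.Agent.Helper14.pCore_map_equiv p e]
      exact ⟨x, hx.1, rfl⟩
    · have h3 : commutator Z = (commutator Y).map e.toMonoidHom := by
        rw [_root_.commutator_def, _root_.commutator_def, Subgroup.map_commutator,
          Subgroup.map_top_of_surjective _ e.surjective]
      rw [h3]
      exact ⟨x, hx.2, rfl⟩
  have h2 := h h1
  rw [← iF_map_equiv hW e hT, ← Subgroup.map_equiv_normalizer_eq, ← Subgroup.map_commutator] at h2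
  obtain ⟨y, hy, hye⟩ := h2
  have : y = x := e.injective hye
  rw [← this]; exact hy

/-- from `ClaimT` for `{W}` to `ControlsTransferIn` -/
theorem controlsTransferIn_of_claimT {Y : Type u} [Group Y] [Finite Y]
    (h : ClaimT p ({W} : Set (∀ (Q : Type u) [Group Q], Subgroup Q)) Y) :
    Cfsg.ControlsTransferIn p (Cfsg.inducedFunctor (G := Y) W) ⊤ := by
  obtain ⟨T⟩ : Nonempty (Sylow p Y) := inferInstance
  refine ⟨(T : Subgroup Y), le_top, T.2, ?_, ?_⟩
  · rw [Subgroup.relIndex_top_right]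
    exact T.not_dvd_index
  · apply le_antisymm
    · have h1 := h T
      rw [ftarget_singleton, _root_.commutator_def] at h1
      simp only [top_inf_eq]
      exact h1
    · exact inf_le_inf_left _ (Subgroup.commutator_mono inf_le_left inf_le_left)

end One

end Cfsg.Agent.Helper10
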