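import Mathlib
import Cfsg.Agent.Helper10.KInfNormal
import Cfsg.Agent.Helper10.MinFail
import Cfsg.Agent.Helper10.SecTransfer3

set_option autoImplicit false

/-! # The K-infinity subgroups control transfer for `p ≥ 5` (all Sylow subgroups form) -/

namespace Cfsg.Agent.Helper10

open Subgroup Cfsg

universe u

variable {p : ℕ} [Fact p.Prime]

/-- a functor whose value at a Sylow subgroup is normal under the `[U, g; 4]` criterion controls
transfer for `p ≥ 5` -/
theorem claimT_of_normal_criterion {W : ∀ (Q : Type u) [Group Q], Subgroup Q}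
    (hW : Cfsg.IsCharPFunctor.{u} p W) (hp : 5 ≤ p)
    (hcrit : ∀ (Y : Type u) [Group Y] [Finite Y] (T' : Sylow p Y),
      centralizer ((Cfsg.pCore p Y : Subgroup Y) : Set Y) ≤ Cfsg.pCore p Y →
      (∀ g ∈ (T' : Subgroup Y), (∀ U V : Subgroup Y, Cfsg.IsChiefFactor U V → U ≤ Cfsg.pCore p Y →
        Cfsg.iterCommutator U (Subgroup.zpowers g) 4 ≤ V) → g ∈ Cfsg.pCore p Y) →
      (Cfsg.inducedFunctor W (T' : Subgroup Y)).Normal)
    (G : Type u) [Group G] [Finite G] :
    ClaimT p ({W} : Set (∀ (Q : Type u) [Group Q], Subgroup Q)) G := by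
  classical
  have h𝓦 := h𝓦_singleton hW
  have Hc : ∀ (Y : Type u) [Group Y] [Finite Y], True →
      Subgroup.centralizer ((Cfsg.pCore p Y : Subgroup Y) : Set Y) ≤ Cfsg.pCore p Y →
      (∀ M : Subgroup Y, M ≠ ⊤ →
        ClaimT p ({W} : Set (∀ (Q : Type u) [Group Q], Subgroup Q)) ↥M) →
      (∀ (N : Subgroup Y) [N.Normal], N ≠ ⊥ →
        ClaimT p ({W} : Set (∀ (Q : Type u) [Group Q], Subgroup Q)) (Y ⧸ N)) →
      ClaimT p ({W} : Set (∀ (Q : Type u) [Group Q], Subgroup Q)) Y := by
    intro Y _ _ _ hcent hsub hquot T'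
    by_contra hfail
    by_cases hnorm : (Cfsg.inducedFunctor W (T' : Subgroup Y)).Normal
    · apply hfail
      rw [ftarget_singleton, Subgroup.normalizer_eq_top_iff.2 hnorm, _root_.commutator_def]
    · obtain ⟨U, V, hchief, hUQ, hmf⟩ := mf_chief h𝓦 ⟨W, rfl⟩ T' hsub hfail hcent hquot
      apply hnorm
      refine hcrit Y T' hcent ?_
      intro g hg hall
      by_contra hgQ
      apply hmf g hg hgQ
      have hUn : U.Normal := hchief.2.1
      have hanti := Cfsg.Agent.Helper26.iter_antitone
        (le_normalizer_of_normal (Subgroup.zpowers g) U)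
      exact (hanti (by omega : 4 ≤ p - 1)).trans (hall U V hchief hUQ)
  exact claimT_all' h𝓦 (fun Y _ => True)
    (fun Y _ _ M => trivial) (fun Y _ _ N _ => trivial) Hc (Nat.card G) G rfl trivial

theorem kInfLower_claimT (hp : 5 ≤ p) (G : Type u) [Group G] [Finite G] :
    ClaimT p ({kInfLower} : Set (∀ (Q : Type u) [Group Q], Subgroup Q)) G :=
  claimT_of_normal_criterion kInfLower_isCharPFunctor hp
    (fun Y _ _ T' hcent hH => (kInf_normal T' hcent hH).1) G

theorem kInfUpper_claimT (hp : 5 ≤ p) (G : Type u) [Group G] [Finite G] :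
    ClaimT p ({kInfUpper} : Set (∀ (Q : Type u) [Group Q], Subgroup Q)) G :=
  claimT_of_normal_criterion kInfUpper_isCharPFunctor hp
    (fun Y _ _ T' hcent hH => (kInf_normal T' hcent hH).2) G

/-- focal form for an arbitrary Sylow subgroup -/
theorem kInfLower_focal (hp : 5 ≤ p) {G : Type u} [Group G] [Finite G] (S : Sylow p G) :
    (S : Subgroup G) ⊓ commutator G ≤
      ⁅normalizer ((Cfsg.inducedFunctor kInfLower (S : Subgroup G) : Subgroup G) : Set G),
        normalizer ((Cfsg.inducedFunctor kInfLower (S : Subgroup G) : Subgroup G) : Set G)⁆ := by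
  have h := kInfLower_claimT hp G S
  rw [ftarget_singleton] at h
  exact h.trans inf_le_right

theorem kInfUpper_focal (hp : 5 ≤ p) {G : Type u} [Group G] [Finite G] (S : Sylow p G) :
    (S : Subgroup G) ⊓ commutator G ≤
      ⁅normalizer ((Cfsg.inducedFunctor kInfUpper (S : Subgroup G) : Subgroup G) : Set G),
        normalizer ((Cfsg.inducedFunctor kInfUpper (S : Subgroup G) : Subgroup G) : Set G)⁆ := by
  have h := kInfUpper_claimT hp G S
  rw [ftarget_singleton] at h
  exact h.trans inf_le_right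

end Cfsg.Agent.Helper10
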