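import Mathlib
import Cfsg.Agent.Helper10.KInfTransfer
import Cfsg.Agent.Helper10.IndexP
import Cfsg.Agent.Helper10.ThompsonNPC

set_option autoImplicit false

/-! # Glauberman: for `p ≥ 5`, if `N_G(S)/C_G(S)` is a `p`-group then `G` has a normal subgroup of
index `p` -/

namespace Cfsg.Agent.Helper10

open Subgroup Cfsg

universe u

variable {p : ℕ} [Fact p.Prime]

theorem index_p_main (hp : 5 ≤ p) :
    ∀ (n : ℕ) (G : Type u) [Group G] [Finite G], Nat.card G = n → ∀ S : Sylow p G,
      (S : Subgroup G) ≠ ⊥ →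
      (∀ g ∈ normalizer ((S : Subgroup G) : Set G), (orderOf g).Coprime p →
        g ∈ centralizer ((S : Subgroup G) : Set G)) →
      ∃ N : Subgroup G, N.Normal ∧ N.index = p := by
  intro n
  induction n using Nat.strong_induction_on with
  | _ n ih =>
  intro G _ _ hn S hS hN
  have hW : Cfsg.IsCharPFunctor.{u} p kInfLower := kInfLower_isCharPFunctor
  obtain ⟨K, hK⟩ : ∃ K : Subgroup G, K = Cfsg.inducedFunctor kInfLower (S : Subgroup G) := ⟨_, rfl⟩
  have hKS : K ≤ (S : Subgroup G) := hK ▸ iF_le _
  have hKne : K ≠ ⊥ := hK ▸ iF_ne_bot hW S.2 hS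
  have hSK : (S : Subgroup G) ≤ normalizer (K : Set G) := by
    rw [hK]
    exact Subgroup.le_normalizer.trans (normalizer_le_normalizer_iF hW S.2)
  have hfocal : (S : Subgroup G) ⊓ commutator G ≤ ⁅normalizer (K : Set G), normalizer (K : Set G)⁆ := by
    rw [hK]; exact kInfLower_focal hp S
  by_cases hNtop : normalizer (K : Set G) = ⊤
  · -- `K` is normal
    have hKn : K.Normal := Subgroup.normalizer_eq_top_iff.1 hNtop
    by_cases hSK' : (S : Subgroup G) ≤ K
    · -- `S = K` is normal
      have hSeq : (S : Subgroup G) = K := le_antisymm hSK' hKS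
      have hSn : (S : Subgroup G).Normal := hSeq ▸ hKn
      apply normal_sylow_case S hSn hS
      intro g hg
      apply hN g _ hg
      rw [Subgroup.normalizer_eq_top_iff.2 hSn]
      trivial
    · -- pass to `G ⧸ K`
      have hlt : Nat.card (G ⧸ K) < n := hn ▸ card_quotient_lt_of_ne_bot hKne
      have hsurj := QuotientGroup.mk'_surjective K
      have hSbar : ((S.mapSurjective hsurj : Sylow p (G ⧸ K)) : Subgroup (G ⧸ K)) ≠ ⊥ := by
        rw [Sylow.coe_mapSurjective]
        intro h
        apply hSK'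
        intro x hx
        have h1 : QuotientGroup.mk' K x ∈ (S : Subgroup G).map (QuotientGroup.mk' K) := ⟨x, hx, rfl⟩
        rw [h, Subgroup.mem_bot] at h1
        exact (QuotientGroup.eq_one_iff x).1 h1
      have hNbar : ∀ g ∈ normalizer (((S.mapSurjective hsurj : Sylow p (G ⧸ K)) : Subgroup (G ⧸ K)) : Set (G ⧸ K)),
          (orderOf g).Coprime p →
          g ∈ centralizer (((S.mapSurjective hsurj : Sylow p (G ⧸ K)) : Subgroup (G ⧸ K)) : Set (G ⧸ K)) := by
        intro gb hgb hcop
        obtain ⟨g, rfl, hgcop⟩ := exists_coprime_lift (QuotientGroup.mk' K) hsurj gb hcop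
        rw [Sylow.coe_mapSurjective] at hgb ⊢
        have hgS : g ∈ normalizer ((S : Subgroup G) : Set G) := by
          apply Subgroup.mem_normalizer_fintype
          intro s hs
          have h1 : QuotientGroup.mk' K g * QuotientGroup.mk' K s * (QuotientGroup.mk' K g)⁻¹ ∈
              (S : Subgroup G).map (QuotientGroup.mk' K) :=
            (Subgroup.mem_normalizer_iff.1 hgb _).1 ⟨s, hs, rfl⟩
          obtain ⟨s', hs', hs'e⟩ := h1
          have h2 : s'⁻¹ * (g * s * g⁻¹) ∈ K := by
            rw [← QuotientGroup.eq]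
            rw [QuotientGroup.mk'_apply] at hs'e
            rw [hs'e]
            simp
          have e : g * s * g⁻¹ = s' * (s'⁻¹ * (g * s * g⁻¹)) := by group
          rw [e]
          exact (S : Subgroup G).mul_mem hs' (hKS h2)
        have hgC := hN g hgS hgcop
        rw [Subgroup.mem_centralizer_iff]
        rintro _ ⟨s, hs, rfl⟩
        have h3 := Subgroup.mem_centralizer_iff.1 hgC s hs
        rw [← map_mul, ← map_mul, h3]
      obtain ⟨M, hMn, hMi⟩ := ih _ hlt (G ⧸ K) rfl (S.mapSurjective hsurj) hSbar hNbar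
      exact exists_normal_index_of_surjective (QuotientGroup.mk' K) hsurj ⟨M, hMn, hMi⟩
  · -- the normalizer of `K` is proper
    have hlt : Nat.card ↥(normalizer (K : Set G)) < n := hn ▸ card_subgroup_lt_of_ne_top hNtop
    obtain ⟨L, hL⟩ : ∃ L : Subgroup G, L = normalizer (K : Set G) := ⟨_, rfl⟩
    rw [← hL] at hlt hSK hfocal
    have hS' : ((S.subtype hSK : Sylow p ↥L) : Subgroup ↥L) ≠ ⊥ := by
      rw [Sylow.coe_subtype]
      intro h
      apply hS
      rw [eq_bot_iff]
      intro x hx
      have h1 : (⟨x, hSK hx⟩ : ↥L) ∈ (S : Subgroup G).subgroupOf L := Subgroup.mem_subgroupOf.2 hx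
      rw [h, Subgroup.mem_bot] at h1
      exact Subgroup.mem_bot.2 (congrArg Subtype.val h1)
    have hN' : ∀ g ∈ normalizer (((S.subtype hSK : Sylow p ↥L) : Subgroup ↥L) : Set ↥L),
        (orderOf g).Coprime p →
        g ∈ centralizer (((S.subtype hSK : Sylow p ↥L) : Subgroup ↥L) : Set ↥L) := by
      intro g hg hcop
      rw [Sylow.coe_subtype] at hg ⊢
      have hgS : (g : G) ∈ normalizer ((S : Subgroup G) : Set G) := by
        apply Subgroup.mem_normalizer_fintype
        intro s hs
        have h1 := (Subgroup.mem_normalizer_iff.1 hg ⟨s, hSK hs⟩).1 (Subgroup.mem_subgroupOf.2 hs)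
        exact Subgroup.mem_subgroupOf.1 h1
      have hcop' : (orderOf (g : G)).Coprime p := by
        rw [Subgroup.orderOf_coe]; exact hcop
      have hgC := hN (g : G) hgS hcop'
      rw [Subgroup.mem_centralizer_iff]
      intro s hs
      apply Subtype.ext
      exact Subgroup.mem_centralizer_iff.1 hgC (s : G) (Subgroup.mem_subgroupOf.1 hs)
    have hidx := ih _ hlt ↥L rfl (S.subtype hSK) hS' hN'
    have hnle := sylow_not_le_commutator (S.subtype hSK) hidx
    rw [Sylow.coe_subtype] at hnle
    obtain ⟨s, hs, hsn⟩ := SetLike.not_le_iff_exists.1 hnle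
    have hsS : (s : G) ∈ (S : Subgroup G) := Subgroup.mem_subgroupOf.1 hs
    have hsL : (s : G) ∉ ⁅L, L⁆ := by
      intro h
      rw [← Subgroup.map_subtype_commutator] at h
      obtain ⟨s', hs', hs'e⟩ := h
      have : s' = s := Subtype.ext hs'e
      exact hsn (this ▸ hs')
    have hsG : (s : G) ∉ commutator G := fun h => hsL (hfocal ⟨hsS, h⟩)
    obtain ⟨k, hk⟩ := S.2 ⟨(s : G), hsS⟩
    exact exists_normal_index_p_of_not_mem_commutator (s : G) ⟨k, congrArg Subtype.val hk⟩ hsG

end Cfsg.Agent.Helper10
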