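import Mathlib

/-! Half-transitive automorphism groups (Isaacs–Passman): counting lemmas. -/

namespace Cfsg.Agent.Helper10.HalfTrans

open MulAction

/-- If all orbits have the same size `s`, then `s` divides the cardinality. -/
theorem dvd_card_of_orbit_card {L X : Type*} [Group L] [MulAction L X] [Finite X] (s : ℕ)
    (h : ∀ y : X, Nat.card (orbit L y) = s) : s ∣ Nat.card X := by
  classical
  have e := selfEquivSigmaOrbits L X
  let _ : Fintype (Quotient (orbitRel L X)) := Fintype.ofFinite _
  rw [Nat.card_congr e, Nat.card_sigma]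
  apply Finset.dvd_sum
  intro ω _
  rw [h]

/-- Counting lemma: if `L ≤ H` preserves a finite set `S`, every point stabilizer `H_y` (`y ∈ S`)
lies in `L` and has order `c`, then `|L|` divides `|S| * c`. -/
theorem card_dvd_of_stab {H X : Type*} [Group H] [Finite H] [MulAction H X] (L : Subgroup H)
    (S : Set X) (hfin : S.Finite)
    (hS : ∀ σ ∈ L, ∀ y ∈ S, σ • y ∈ S) (c : ℕ)
    (hc : ∀ y ∈ S, stabilizer H y ≤ L ∧ Nat.card (stabilizer H y) = c) :
    Nat.card L ∣ Nat.card S * c := by
  classical
  rcases S.eq_empty_or_nonempty with hemp | ⟨y0, hy0⟩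
  · subst hemp
    simp
  let A : SubMulAction L X :=
    { carrier := S
      smul_mem' := fun σ y hy => hS σ.1 σ.2 y hy }
  have : Finite A := hfin.to_subtype
  have hcpos : 0 < c := by
    rw [← (hc y0 hy0).2]; exact Nat.card_pos
  have hcdvd : c ∣ Nat.card L := by
    rw [← (hc y0 hy0).2]
    have := Subgroup.card_dvd_of_le (hc y0 hy0).1
    exact this
  have key : ∀ y : A, Nat.card (orbit L y) = Nat.card L / c := by
    intro y
    have h1 := MulAction.index_stabilizer L y
    have h1' := Subgroup.index_mul_card (stabilizer L y)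
    have h2 : Nat.card (stabilizer L y) = c := by
      have hy : (y : X) ∈ S := y.2
      rw [← (hc y hy).2]
      have h3 : stabilizer L y = (stabilizer H (y : X)).subgroupOf L := by
        ext σ
        simp only [mem_stabilizer_iff, Subgroup.mem_subgroupOf]
        constructor
        · intro h
          have := congrArg (Subtype.val) h
          exact this
        · intro h
          apply Subtype.ext
          exact h
      rw [h3]
      exact Nat.card_congr (Subgroup.subgroupOfEquivOfLe (hc y hy).1).toEquiv
    rw [h2, h1, ← Nat.card_coe_set_eq] at h1'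
    rw [← h1', Nat.mul_div_cancel _ hcpos]
  have h4 := dvd_card_of_orbit_card (L := L) (X := A) _ key
  have h5 : Nat.card A = Nat.card S := rfl
  rw [h5] at h4
  obtain ⟨t, ht⟩ := h4
  obtain ⟨u, hu⟩ := hcdvd
  rw [hu, Nat.mul_div_cancel_left _ hcpos] at ht
  rw [hu, ht]
  exact ⟨t, by ring⟩

end Cfsg.Agent.Helper10.HalfTrans
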