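import Mathlib
import Cfsg.Agent.Helper10.HalfTransA

/-! Half-transitive automorphism groups (Isaacs–Passman): the main theorem. -/

namespace Cfsg.Agent.Helper10.HalfTrans

open MulAction
open scoped Pointwise

variable {H N : Type*} [Group H] [Finite H] [Group N] [Finite N] [MulDistribMulAction H N]

/-- Lemma B: if `S ⊆ N \ {1}` has size dividing `|N|` and every `H_y` (`y ∈ S`) stabilizes `S`
then all `H_y`, `y ∈ S`, coincide. -/
theorem stab_eq_of_subset
    (hhalf : ∀ x y : N, x ≠ 1 → y ≠ 1 → Nat.card (stabilizer H x) = Nat.card (stabilizer H y))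
    (S : Set N) (hS1 : ∀ y ∈ S, y ≠ 1) (hdvd : Nat.card S ∣ Nat.card N)
    (hstab : ∀ y ∈ S, ∀ σ : H, σ • y = y → ∀ z ∈ S, σ • z ∈ S) :
    ∀ y ∈ S, ∀ z ∈ S, stabilizer H y = stabilizer H z := by
  classical
  have hSfin : S.Finite := Set.toFinite S
  set L : Subgroup H := stabilizer H S with hL
  have hLmem : ∀ σ : H, σ ∈ L ↔ ∀ ⦃b⦄, b ∈ S → σ • b ∈ S := fun σ => mem_stabilizer_set' hSfin
  have hle : ∀ y ∈ S, stabilizer H y ≤ L := by
    intro y hy σ hσ
    rw [hLmem]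
    intro z hz
    exact hstab y hy σ hσ z hz
  suffices h : ∀ y ∈ S, stabilizer H y = L by
    intro y hy z hz
    rw [h y hy, h z hz]
  intro y0 hy0
  set c := Nat.card (stabilizer H y0) with hc
  have hcpos : 0 < c := Nat.card_pos
  have hcS : ∀ y ∈ S, stabilizer H y ≤ L ∧ Nat.card (stabilizer H y) = c :=
    fun y hy => ⟨hle y hy, hhalf y y0 (hS1 y hy) (hS1 y0 hy0)⟩
  -- |L| ∣ |S| * c
  have h1 := card_dvd_of_stab L S hSfin (fun σ hσ y hy => (hLmem σ).1 hσ hy) c hcS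
  -- |H| ∣ (|N| - 1) * c
  have h2 := card_dvd_of_stab (⊤ : Subgroup H) ({x : N | x ≠ 1}) (Set.toFinite _)
    (fun σ _ y hy => by
      have hy' : y ≠ 1 := hy
      show σ • y ≠ 1
      intro h
      apply hy'
      have := congrArg (fun t => σ⁻¹ • t) h
      simpa using this) c
    (fun y hy => ⟨le_top, hhalf y y0 hy (hS1 y0 hy0)⟩)
  have h3 : Nat.card ({x : N | x ≠ 1}) = Nat.card N - 1 := by
    have : ({x : N | x ≠ 1}) = ({1} : Set N)ᶜ := by ext; simp
    rw [this, Nat.card_coe_set_eq, Set.ncard_compl, Set.ncard_singleton]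
  rw [h3, Subgroup.card_top] at h2
  -- c ∣ |L| ∣ |H|
  have h4 : c ∣ Nat.card L := Subgroup.card_dvd_of_le (hle y0 hy0)
  have h5 : Nat.card L ∣ Nat.card H := Subgroup.card_subgroup_dvd_card L
  obtain ⟨s, hs⟩ := h4
  obtain ⟨t, ht⟩ := h5
  have hs1 : s ∣ Nat.card S := by
    rw [hs, mul_comm c s] at h1
    exact Nat.dvd_of_mul_dvd_mul_right hcpos h1
  have hs2 : s ∣ Nat.card N - 1 := by
    rw [ht, hs, mul_comm c s] at h2
    have : s * c ∣ (Nat.card N - 1) * c := dvd_trans ⟨t, by ring⟩ h2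
    exact Nat.dvd_of_mul_dvd_mul_right hcpos this
  have hs3 : s ∣ Nat.card N := dvd_trans hs1 hdvd
  have hNpos : 0 < Nat.card N := Nat.card_pos
  have hs4 : s = 1 := by
    have : s ∣ Nat.card N - (Nat.card N - 1) := Nat.dvd_sub hs3 hs2
    have h6 : Nat.card N - (Nat.card N - 1) = 1 := by omega
    rw [h6] at this
    exact Nat.dvd_one.mp this
  rw [hs4, mul_one] at hs
  exact Subgroup.eq_of_le_of_card_ge (hle y0 hy0) (by rw [hs])

end Cfsg.Agent.Helper10.HalfTrans
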