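import Mathlib
import Cfsg.Agent.Helper10.HalfTransB

/-! Half-transitive automorphism groups (Isaacs–Passman): `N` is elementary abelian. -/

set_option linter.unusedSectionVars false

namespace Cfsg.Agent.Helper10.HalfTrans

open MulAction
open scoped Pointwise

variable {H N : Type*} [Group H] [Finite H] [Group N] [Finite N] [MulDistribMulAction H N]

theorem stab_eq_of_le
    (hhalf : ∀ x y : N, x ≠ 1 → y ≠ 1 → Nat.card (stabilizer H x) = Nat.card (stabilizer H y))
    {x y : N} (hx : x ≠ 1) (hy : y ≠ 1) (h : stabilizer H x ≤ stabilizer H y) :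
    stabilizer H x = stabilizer H y :=
  Subgroup.eq_of_le_of_card_ge h (by rw [hhalf x y hx hy])

theorem stab_inv (x : N) : stabilizer H x⁻¹ = stabilizer H x := by
  ext σ
  simp [mem_stabilizer_iff, smul_inv']

theorem stab_conj
    (hhalf : ∀ x y : N, x ≠ 1 → y ≠ 1 → Nat.card (stabilizer H x) = Nat.card (stabilizer H y))
    {x : N} (hx : x ≠ 1) (n : N) : stabilizer H x = stabilizer H (n * x * n⁻¹) := by
  have hSeq : conjugatesOf x = orbit (ConjAct N) x := by
    ext y
    rw [ConjAct.mem_orbit_conjAct, isConj_comm]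
    rfl
  apply stab_eq_of_subset hhalf (conjugatesOf x)
  · intro y hy h1
    have hy' : IsConj x y := hy
    rw [h1, isConj_one_left] at hy'
    exact hx hy'
  · rw [hSeq, Nat.card_coe_set_eq, ← MulAction.index_stabilizer]
    have := Subgroup.index_dvd_card (stabilizer (ConjAct N) x)
    have h2 : Nat.card (ConjAct N) = Nat.card N := rfl
    rwa [h2] at this
  · intro y hy σ hσ z hz
    have hy' : IsConj x y := hy
    have hz' : IsConj x z := hz
    have h1 : IsConj y z := hy'.symm.trans hz'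
    have h2 := (MulDistribMulAction.toMonoidHom N σ).map_isConj h1
    simp only [MulDistribMulAction.toMonoidHom_apply, hσ] at h2
    exact hy'.trans h2
  · exact mem_conjugatesOf_self
  · show IsConj x (n * x * n⁻¹)
    exact isConj_iff.mpr ⟨n, rfl⟩

/-- Elements with different stabilizers commute. -/
theorem comm_of_stab_ne
    (hhalf : ∀ x y : N, x ≠ 1 → y ≠ 1 → Nat.card (stabilizer H x) = Nat.card (stabilizer H y))
    {x y : N} (hx : x ≠ 1) (hy : y ≠ 1) (hne : stabilizer H x ≠ stabilizer H y) :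
    x * y = y * x := by
  by_contra hxy
  set z := x * y * x⁻¹ * y⁻¹ with hz
  have hz1 : z ≠ 1 := by
    intro h
    apply hxy
    have : x * y = z * (y * x) := by rw [hz]; group
    rw [this, h, one_mul]
  have hxi : x⁻¹ ≠ 1 := inv_ne_one.mpr hx
  have hyi : y⁻¹ ≠ 1 := inv_ne_one.mpr hy
  have h1 : stabilizer H x ≤ stabilizer H z := by
    intro σ hσ
    have h2 : σ ∈ stabilizer H (y * x⁻¹ * y⁻¹) := by
      rw [← stab_conj hhalf hxi y, stab_inv]; exact hσ
    rw [mem_stabilizer_iff] at hσ h2 ⊢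
    have : z = x * (y * x⁻¹ * y⁻¹) := by rw [hz]; group
    rw [this, smul_mul', hσ, h2]
  have h3 : stabilizer H y ≤ stabilizer H z := by
    intro σ hσ
    have h2 : σ ∈ stabilizer H (x * y * x⁻¹) := by
      rw [← stab_conj hhalf hy x]; exact hσ
    have h4 : σ ∈ stabilizer H y⁻¹ := by rw [stab_inv]; exact hσ
    rw [mem_stabilizer_iff] at h4 h2 ⊢
    rw [hz, smul_mul', h4, h2]
  exact hne ((stab_eq_of_le hhalf hx hz1 h1).trans (stab_eq_of_le hhalf hy hz1 h3).symm)

/-- Given a nontrivial subgroup `K` of `H` acting faithfully, there is an element of `N`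
not fixed by `K`. -/
theorem exists_not_fixed [FaithfulSMul H N] {K : Subgroup H} (hK : K ≠ ⊥) :
    ∃ z : N, ∃ σ ∈ K, σ • z ≠ z := by
  obtain ⟨σ, hσ, hσ1⟩ := (Subgroup.ne_bot_iff_exists_ne_one (H := K)).mp hK |>.imp
    (fun σ h => h) |> fun ⟨σ, h⟩ => (⟨σ.1, σ.2, fun h1 => h (Subtype.ext h1)⟩ : ∃ σ : H, σ ∈ K ∧ σ ≠ 1)
  by_contra hcon
  apply hσ1
  apply FaithfulSMul.eq_of_smul_eq_smul (α := N)
  intro z
  rw [one_smul]
  by_contra h
  exact hcon ⟨z, σ, hσ, h⟩

end Cfsg.Agent.Helper10.HalfTrans
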