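import Mathlib
import Cfsg.Agent.Helper10.HalfTransC

/-! Half-transitive automorphism groups (Isaacs–Passman): `N` is elementary abelian and
the action is irreducible. -/

set_option linter.unusedSectionVars false

namespace Cfsg.Agent.Helper10.HalfTrans

open MulAction
open scoped Pointwise

variable {H N : Type*} [Group H] [Finite H] [Group N] [Finite N] [MulDistribMulAction H N]
  [FaithfulSMul H N]

/-- all stabilizers of nonidentity elements are nontrivial -/
theorem stab_ne_bot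
    (hhalf : ∀ x y : N, x ≠ 1 → y ≠ 1 → Nat.card (stabilizer H x) = Nat.card (stabilizer H y))
    (hns : ∃ x : N, x ≠ 1 ∧ stabilizer H x ≠ ⊥) {y : N} (hy : y ≠ 1) : stabilizer H y ≠ ⊥ := by
  obtain ⟨x, hx, hxs⟩ := hns
  intro h
  apply hxs
  have h1 := hhalf x y hx hy
  rw [h, Subgroup.card_bot] at h1
  exact (Subgroup.card_eq_one).mp h1

/-- for every `x ≠ 1` there is `z ≠ 1` with a different stabilizer, witnessed by `σ`. -/
theorem exists_other
    (hhalf : ∀ x y : N, x ≠ 1 → y ≠ 1 → Nat.card (stabilizer H x) = Nat.card (stabilizer H y))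
    (hns : ∃ x : N, x ≠ 1 ∧ stabilizer H x ≠ ⊥) {x : N} (hx : x ≠ 1) :
    ∃ z : N, ∃ σ ∈ stabilizer H x, σ • z ≠ z :=
  exists_not_fixed (stab_ne_bot hhalf hns hx)

theorem comm_all
    (hhalf : ∀ x y : N, x ≠ 1 → y ≠ 1 → Nat.card (stabilizer H x) = Nat.card (stabilizer H y))
    (hns : ∃ x : N, x ≠ 1 ∧ stabilizer H x ≠ ⊥) (x y : N) : x * y = y * x := by
  by_cases hx : x = 1
  · simp [hx]
  by_cases hy : y = 1
  · simp [hy]
  by_cases hne : stabilizer H x = stabilizer H y
  swap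
  · exact comm_of_stab_ne hhalf hx hy hne
  obtain ⟨z, σ, hσ, hσz⟩ := exists_other hhalf hns hx
  have hz : z ≠ 1 := by
    rintro rfl
    exact hσz (smul_one σ)
  have hσx : σ • x = x := hσ
  have hσy : σ • y = y := by rw [hne] at hσ; exact hσ
  have hzx : stabilizer H x ≠ stabilizer H z := by
    intro h
    rw [h] at hσ
    exact hσz hσ
  have hyz1 : y * z ≠ 1 := by
    intro h
    have : z = y⁻¹ := by rw [← mul_right_inj y, h, mul_inv_cancel]
    apply hσz
    rw [this, smul_inv', hσy]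
  have hyz : stabilizer H x ≠ stabilizer H (y * z) := by
    intro h
    rw [h] at hσ
    have h1 : σ • (y * z) = y * z := hσ
    rw [smul_mul', hσy, mul_right_inj] at h1
    exact hσz h1
  have c1 := comm_of_stab_ne hhalf hx hz hzx
  have c2 := comm_of_stab_ne hhalf hx hyz1 hyz
  have : x * y * z = y * x * z := by
    calc x * y * z = x * (y * z) := by group
      _ = y * z * x := c2
      _ = y * (z * x) := by group
      _ = y * (x * z) := by rw [c1]
      _ = y * x * z := by group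
  exact mul_right_cancel this

theorem pow_orderOf_of_stab_ne
    (hhalf : ∀ x y : N, x ≠ 1 → y ≠ 1 → Nat.card (stabilizer H x) = Nat.card (stabilizer H y))
    (hns : ∃ x : N, x ≠ 1 ∧ stabilizer H x ≠ ⊥)
    {x y : N} (hx : x ≠ 1) (hy : y ≠ 1) (hne : stabilizer H x ≠ stabilizer H y) :
    y ^ orderOf x = 1 := by
  by_contra hym
  set m := orderOf x with hm
  have hcomm : Commute x y := comm_all hhalf hns x y
  have h1 : (x * y) ^ m = y ^ m := by
    rw [hcomm.mul_pow, hm, pow_orderOf_eq_one, one_mul]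
  have hxy : x * y ≠ 1 := by
    intro h
    have : x = y⁻¹ := by rw [← mul_left_inj y, h, inv_mul_cancel]
    apply hne
    rw [this, stab_inv]
  have hpow : ∀ (w : N) (k : ℕ), stabilizer H w ≤ stabilizer H (w ^ k) := by
    intro w k σ hσ
    rw [mem_stabilizer_iff] at hσ ⊢
    rw [smul_pow', hσ]
  have e1 : stabilizer H y = stabilizer H (y ^ m) := stab_eq_of_le hhalf hy hym (hpow y m)
  have e2 : stabilizer H (x * y) = stabilizer H (y ^ m) := by
    have := stab_eq_of_le hhalf hxy (by rw [h1]; exact hym) (hpow (x * y) m)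
    rw [this, h1]
  have e3 : stabilizer H (x * y) = stabilizer H y := e2.trans e1.symm
  apply hne
  symm
  apply stab_eq_of_le hhalf hy hx
  intro σ hσ
  have h2 : σ ∈ stabilizer H (x * y) := by rw [e3]; exact hσ
  rw [mem_stabilizer_iff] at hσ h2 ⊢
  rw [smul_mul', hσ, mul_left_inj] at h2
  exact h2

theorem orderOf_eq_of_stab_ne
    (hhalf : ∀ x y : N, x ≠ 1 → y ≠ 1 → Nat.card (stabilizer H x) = Nat.card (stabilizer H y))
    (hns : ∃ x : N, x ≠ 1 ∧ stabilizer H x ≠ ⊥)
    {x y : N} (hx : x ≠ 1) (hy : y ≠ 1) (hne : stabilizer H x ≠ stabilizer H y) :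
    orderOf x = orderOf y :=
  Nat.dvd_antisymm (orderOf_dvd_of_pow_eq_one (pow_orderOf_of_stab_ne hhalf hns hy hx (Ne.symm hne)))
    (orderOf_dvd_of_pow_eq_one (pow_orderOf_of_stab_ne hhalf hns hx hy hne))

theorem orderOf_eq_all
    (hhalf : ∀ x y : N, x ≠ 1 → y ≠ 1 → Nat.card (stabilizer H x) = Nat.card (stabilizer H y))
    (hns : ∃ x : N, x ≠ 1 ∧ stabilizer H x ≠ ⊥)
    {x y : N} (hx : x ≠ 1) (hy : y ≠ 1) : orderOf x = orderOf y := by
  by_cases hne : stabilizer H x = stabilizer H y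
  swap
  · exact orderOf_eq_of_stab_ne hhalf hns hx hy hne
  obtain ⟨z, σ, hσ, hσz⟩ := exists_other hhalf hns hx
  have hz : z ≠ 1 := by
    rintro rfl
    exact hσz (smul_one σ)
  have hzx : stabilizer H x ≠ stabilizer H z := by
    intro h
    rw [h] at hσ
    exact hσz hσ
  have hzy : stabilizer H y ≠ stabilizer H z := by rw [← hne]; exact hzx
  rw [orderOf_eq_of_stab_ne hhalf hns hx hz hzx, orderOf_eq_of_stab_ne hhalf hns hy hz hzy]

/-- **Isaacs–Passman**: a faithful half-transitive, non-semiregular group of automorphisms acts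
on an elementary abelian group. -/
theorem elemAb
    (hhalf : ∀ x y : N, x ≠ 1 → y ≠ 1 → Nat.card (stabilizer H x) = Nat.card (stabilizer H y))
    (hns : ∃ x : N, x ≠ 1 ∧ stabilizer H x ≠ ⊥) :
    ∃ p : ℕ, p.Prime ∧ (∀ x y : N, x * y = y * x) ∧ ∀ x : N, x ^ p = 1 := by
  obtain ⟨x0, hx0, -⟩ := id hns
  set m := orderOf x0 with hm
  have hm1 : m ≠ 1 := by
    rw [hm, Ne, orderOf_eq_one_iff]; exact hx0
  have hm0 : 0 < m := orderOf_pos x0
  set p := m.minFac with hp
  have hpp : p.Prime := Nat.minFac_prime hm1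
  have hpm : p ∣ m := Nat.minFac_dvd m
  have ho : orderOf (x0 ^ (m / p)) = p := by
    rw [orderOf_pow' x0 (by
      intro h
      have := Nat.div_eq_zero_iff.mp h
      rcases this with h | h
      · exact hpp.ne_zero h
      · exact absurd (Nat.le_of_dvd hm0 hpm) (not_le.mpr h)), ← hm,
      Nat.gcd_eq_right (Nat.div_dvd_of_dvd hpm), Nat.div_div_self hpm hm0.ne']
  have hne1 : x0 ^ (m / p) ≠ 1 := by
    intro h
    rw [h, orderOf_one] at ho
    exact hpp.one_lt.ne ho
  have hmp : m = p := by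
    rw [hm, orderOf_eq_all hhalf hns hx0 hne1, ho]
  refine ⟨p, hpp, comm_all hhalf hns, ?_⟩
  intro x
  by_cases hx : x = 1
  · rw [hx, one_pow]
  rw [← hmp, hm, orderOf_eq_all hhalf hns hx0 hx, pow_orderOf_eq_one]

/-- **Isaacs–Passman**: a faithful half-transitive, non-semiregular group of automorphisms acts
irreducibly. -/
theorem irreducible
    (hhalf : ∀ x y : N, x ≠ 1 → y ≠ 1 → Nat.card (stabilizer H x) = Nat.card (stabilizer H y))
    (hns : ∃ x : N, x ≠ 1 ∧ stabilizer H x ≠ ⊥)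
    (W : Subgroup N) (hW : ∀ σ : H, ∀ w ∈ W, σ • w ∈ W) : W = ⊥ ∨ W = ⊤ := by
  by_contra hcon
  rw [not_or] at hcon
  obtain ⟨hbot, htop⟩ := hcon
  obtain ⟨w0, hw0, hw01⟩ := (Subgroup.ne_bot_iff_exists_ne_one (H := W)).mp hbot |> fun ⟨w, h⟩ =>
    (⟨w.1, w.2, fun h1 => h (Subtype.ext h1)⟩ : ∃ w : N, w ∈ W ∧ w ≠ 1)
  -- key: for x ∉ W, w ∈ W: stab x = stab (x * w)
  have key : ∀ x : N, x ∉ W → ∀ w ∈ W, stabilizer H x = stabilizer H (x * w) := by
    intro x hx w hw
    apply stab_eq_of_subset hhalf ((fun v => x * v) '' (W : Set N))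
    · rintro y ⟨v, hv, rfl⟩ h1
      apply hx
      have : x = v⁻¹ := by
        have h2 : x * v = 1 := h1
        rw [← mul_left_inj v, h2, inv_mul_cancel]
      rw [this]
      exact W.inv_mem hv
    · have h1 : Nat.card ((fun v => x * v) '' (W : Set N) : Set N) = Nat.card W := by
        rw [Nat.card_coe_set_eq, Set.ncard_image_of_injective _ (mul_right_injective x),
          ← Nat.card_coe_set_eq]
        rfl
      rw [h1]
      exact Subgroup.card_subgroup_dvd_card W
    · rintro y ⟨v, hv, rfl⟩ σ hσ z ⟨u, hu, rfl⟩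
      have h1 : x * u = (x * v) * (v⁻¹ * u) := by group
      have h2 : σ • (x * v : N) = x * v := hσ
      show σ • (x * u) ∈ _
      rw [h1, smul_mul', h2]
      refine ⟨v * σ • (v⁻¹ * u), W.mul_mem hv (hW σ _ (W.mul_mem (W.inv_mem hv) hu)), ?_⟩
      simp [mul_assoc]
    · exact ⟨1, W.one_mem, by simp⟩
    · exact ⟨w, hw, rfl⟩
  -- so stab x fixes W pointwise
  have key2 : ∀ x : N, x ∉ W → ∀ w ∈ W, w ≠ 1 → stabilizer H x = stabilizer H w := by
    intro x hx w hw hw1
    have hx1 : x ≠ 1 := fun h => hx (h ▸ W.one_mem)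
    apply stab_eq_of_le hhalf hx1 hw1
    intro σ hσ
    have h2 : σ ∈ stabilizer H (x * w) := by rw [← key x hx w hw]; exact hσ
    rw [mem_stabilizer_iff] at hσ h2 ⊢
    rw [smul_mul', hσ, mul_right_inj] at h2
    exact h2
  obtain ⟨x0, hx0⟩ : ∃ x0 : N, x0 ∉ W := by
    by_contra h
    apply htop
    rw [eq_top_iff]
    intro x _
    by_contra hx
    exact h ⟨x, hx⟩
  -- all stabilizers equal to K
  have hall : ∀ y : N, y ≠ 1 → stabilizer H y = stabilizer H w0 := by
    intro y hy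
    by_cases hyW : y ∈ W
    · rw [← key2 x0 hx0 y hyW hy, key2 x0 hx0 w0 hw0 hw01]
    · exact key2 y hyW w0 hw0 hw01
  obtain ⟨z, σ, hσ, hσz⟩ := exists_other hhalf hns hw01
  have hz : z ≠ 1 := by
    rintro rfl
    exact hσz (smul_one σ)
  rw [← hall z hz] at hσ
  exact hσz hσ

end Cfsg.Agent.Helper10.HalfTrans
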