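import Mathlib
import Cfsg.Agent.Helper15.Iso44Defs

/-!
# S3044 board, piece CQ, core form (helper10): the BAS facts enter as hypotheses.
-/

set_option autoImplicit false

namespace Cfsg.Agent.Helper15.Iso44.CQ

open Cfsg Subgroup

variable {G : Type*} [Group G]

/-- a subgroup normalising `X` normalises `O_p(X)`. -/
theorem normalizer_pCoreOf (p : ℕ) {X Y : Subgroup G} (hYX : Y ≤ normalizer (X : Set G)) :
    Y ≤ normalizer (pCoreOf p X : Set G) := by
  intro y hy
  have hX : X.map (MulAut.conj y).toMonoidHom = X := by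
    have hn := mem_normalizer_iff.mp (hYX hy)
    ext x
    constructor
    · rintro ⟨x', hx', rfl⟩
      exact (hn x').mp hx'
    · intro hx
      refine ⟨y⁻¹ * x * y, ?_, ?_⟩
      · apply (hn _).mpr
        have e : y * (y⁻¹ * x * y) * y⁻¹ = x := by group
        rw [e]; exact hx
      · simp only [MulEquiv.coe_toMonoidHom, MulAut.conj_apply]
        group
  have hT : (pCoreOf p X).map (MulAut.conj y).toMonoidHom = pCoreOf p X := by
    rw [← Cfsg.Agent.Helper14.pCoreOf_map_conj, hX]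
  rw [mem_normalizer_iff]
  intro x
  constructor
  · intro hx
    rw [← hT]
    exact ⟨x, hx, rfl⟩
  · intro hx
    rw [← hT] at hx
    obtain ⟨t, ht, hte⟩ := hx
    simp only [MulEquiv.coe_toMonoidHom, MulAut.conj_apply] at hte
    have : t = x := by
      have := congrArg (fun z => y⁻¹ * z * y) hte
      simpa [mul_assoc] using this
    rwa [← this]

/-- CQ with the BAS facts as hypotheses. -/
theorem core (p : ℕ) (X Y Q O : Subgroup G) (hXY : X ≤ Y) (hXQ : X ≤ normalizer (Q : Set G))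
    (hYX : Y ≤ normalizer (X : Set G)) (hQX : Q ≤ normalizer (X : Set G)) (hQp : IsPGroup p ↥Q)
    (hleO : ∀ T : Subgroup G, IsPGroup p ↥T → T ≤ Y → Y ≤ normalizer (T : Set G) → T ≤ O) :
    ⁅X, Q⁆ ≤ O := by
  have h1 : ⁅X, Q⁆ ≤ X ⊓ Q := by
    rw [Subgroup.commutator_le]
    intro x hx q hq
    rw [commutatorElement_def]
    refine Subgroup.mem_inf.mpr ⟨?_, ?_⟩
    · have hn := (mem_normalizer_iff.mp (hQX hq)) x⁻¹
      have : x * q * x⁻¹ * q⁻¹ = x * (q * x⁻¹ * q⁻¹) := by group
      rw [this]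
      exact X.mul_mem hx (hn.mp (X.inv_mem hx))
    · have hn := (mem_normalizer_iff.mp (hXQ hx)) q
      exact Q.mul_mem (hn.mp hq) (Q.inv_mem hq)
  have hXX : X ≤ normalizer ((X ⊓ Q : Subgroup G) : Set G) := by
    intro x hx
    rw [mem_normalizer_iff]
    intro z
    have hnX := (mem_normalizer_iff.mp (le_normalizer hx)) z
    have hnQ := (mem_normalizer_iff.mp (hXQ hx)) z
    rw [Subgroup.mem_inf, Subgroup.mem_inf, hnX, hnQ]
  have h2 : X ⊓ Q ≤ pCoreOf p X :=
    Cfsg.Agent.Helper14.le_pCoreOf p inf_le_left hXX (hQp.to_le inf_le_right)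
  have h3 : pCoreOf p X ≤ O :=
    hleO _ (Cfsg.Agent.Helper14.pCoreOf_isPGroup p X) ((Cfsg.Agent.Helper14.pCoreOf_le p X).trans hXY)
      (normalizer_pCoreOf p hYX)
  exact h1.trans (h2.trans h3)

end Cfsg.Agent.Helper15.Iso44.CQ
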