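import Mathlib
import Cfsg.Agent.Helper15.Iso44Defs
import Cfsg.Agent.Helper15.Iso44Bas
import Cfsg.Agent.Helper10.Iso44CQcore

/-!
# S3044 board, piece CQ (helper10): `X ≤ L ∩ Y` normalised by `Y` and `Q_L` ⇒ `[X, Q_L] ≤ O`.
-/

set_option autoImplicit false

namespace Cfsg.Agent.Helper15.Iso44

open Cfsg Subgroup

variable {G : Type*} [Group G] [Finite G] {p : ℕ} [Fact p.Prime] {S : Sylow p G} {P : Subgroup G}

theorem comm_QL_le_O (X : Subgroup G) (hXY : X ≤ Ysub p P) (hXL : X ≤ Lsub p S P)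
    (hYX : Ysub p P ≤ normalizer (X : Set G)) (hQX : QLsub p S P ≤ normalizer (X : Set G)) :
    ⁅X, QLsub p S P⁆ ≤ Osub p P :=
  CQ.core p X (Ysub p P) (QLsub p S P) (Osub p P) hXY (hXL.trans L_le_normalizer_QL) hYX hQX
    QL_isPGroup (fun _ hT hTY hYT => le_O hT hTY hYT)

end Cfsg.Agent.Helper15.Iso44
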