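import Mathlib
import Cfsg.Agent.Helper15.Iso44Defs
import Cfsg.Agent.Helper15.Iso44Bas
import Cfsg.Agent.Helper25.Iso44INV
import Cfsg.Agent.Helper19.Iso44CY
import Cfsg.Agent.Helper10.Iso44CQ

/-!
# S3044 board, piece NOSPLIT (helper10): `Y/O` perfect cannot split as a commuting product of two
`S`-invariant normal subgroups, neither central modulo `O`.
-/

set_option autoImplicit false

namespace Cfsg.Agent.Helper15.Iso44

open Cfsg Subgroup
open scoped commutatorElement

variable {G : Type*} [Group G] [Finite G] {p : ℕ} [Fact p.Prime] {S : Sylow p G} {P : Subgroup G}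

namespace NOSPLIT

/-- if `X ≤ L` then `[X, Y] ≤ O` (CQ + CY). -/
theorem of_le_L (h : Ctx p S P) (X : Subgroup G) (hXY : X ≤ Ysub p P)
    (hSX : (S : Subgroup G) ≤ normalizer (X : Set G)) (hYX : Ysub p P ≤ normalizer (X : Set G))
    (hXL : X ≤ Lsub p S P) : ⁅X, Ysub p P⁆ ≤ Osub p P :=
  comm_Y_le_of_comm_QL h X hXY hYX
    (comm_QL_le_O X hXY hXL hYX ((QL_le_S (S := S) (P := P)).trans hSX))

end NOSPLIT

theorem no_split (h : Ctx p S P) (hB : ⁅Ysub p P, Ysub p P⁆ = Ysub p P)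
    (X₁ X₂ : Subgroup G) (h1Y : X₁ ≤ Ysub p P) (h2Y : X₂ ≤ Ysub p P)
    (hO1 : Osub p P ≤ X₁) (hO2 : Osub p P ≤ X₂)
    (hS1 : (S : Subgroup G) ≤ normalizer (X₁ : Set G))
    (hS2 : (S : Subgroup G) ≤ normalizer (X₂ : Set G))
    (hY1 : Ysub p P ≤ normalizer (X₁ : Set G)) (hY2 : Ysub p P ≤ normalizer (X₂ : Set G))
    (hc : ⁅X₁, X₂⁆ ≤ Osub p P) (hsup : Ysub p P ≤ X₁ ⊔ X₂)
    (hn1 : ¬ ⁅X₁, Ysub p P⁆ ≤ Osub p P) (hn2 : ¬ ⁅X₂, Ysub p P⁆ ≤ Osub p P) : False := by
  classical
  rcases inv_dich h X₁ hS1 with hD1 | hL1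
  swap
  · exact hn1 (NOSPLIT.of_le_L h X₁ h1Y hS1 hY1 hL1)
  rcases inv_dich h X₂ hS2 with hD2 | hL2
  swap
  · exact hn2 (NOSPLIT.of_le_L h X₂ h2Y hS2 hY2 hL2)
  -- `D ≤ X₁ ⊓ X₂`
  let π := QuotientGroup.mk' (Osub p P)
  set Zh : Subgroup G :=
    Ysub p P ⊓ (centralizer (((Ysub p P).map π : Subgroup (G ⧸ Osub p P)) : Set (G ⧸ Osub p P))).comap π
    with hZh
  have hYmapN : ((Ysub p P).map π).Normal :=
    (Y_normal (p := p) (P := P)).map π (QuotientGroup.mk'_surjective _)
  have hZn : Zh.Normal := by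
    rw [hZh]
    exact Subgroup.normal_inf_normal _ _
  -- membership criterion
  have hmemO : ∀ a b : G, ⁅a, b⁆ ∈ Osub p P → π a * π b = π b * π a := by
    intro a b hab
    have : π ⁅a, b⁆ = 1 := (QuotientGroup.eq_one_iff _).mpr hab
    rw [map_commutatorElement, commutatorElement_eq_one_iff_mul_comm] at this
    exact this
  have hOmem : ∀ a b : G, π a * π b = π b * π a → ⁅a, b⁆ ∈ Osub p P := by
    intro a b hab
    have : π ⁅a, b⁆ = 1 := by
      rw [map_commutatorElement, commutatorElement_eq_one_iff_mul_comm]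
      exact hab
    exact (QuotientGroup.eq_one_iff _).mp this
  -- `D ≤ Zh`
  have hDZ : Dsub p P ≤ Zh := by
    intro d hd
    rw [hZh]
    refine Subgroup.mem_inf.mpr ⟨D_le_Y hd, ?_⟩
    rw [Subgroup.mem_comap, Subgroup.mem_centralizer_iff]
    -- the centralizer of `π d` contains the images of `X₁` and `X₂`
    have hcen : X₁ ⊔ X₂ ≤ (centralizer ({π d} : Set (G ⧸ Osub p P))).comap π := by
      apply sup_le
      · intro x hx
        rw [Subgroup.mem_comap, Subgroup.mem_centralizer_iff]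
        intro z hz
        rw [Set.mem_singleton_iff] at hz
        rw [hz]
        -- `[x, d] ∈ [X₁, X₂] ≤ O`
        exact hmemO d x (hc (by
          rw [Subgroup.commutator_comm]
          exact Subgroup.commutator_mem_commutator (hD2 hd) hx))
      · intro x hx
        rw [Subgroup.mem_comap, Subgroup.mem_centralizer_iff]
        intro z hz
        rw [Set.mem_singleton_iff] at hz
        rw [hz]
        exact hmemO d x (hc (Subgroup.commutator_mem_commutator (hD1 hd) hx))
    intro z hz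
    obtain ⟨y, hy, rfl⟩ := Subgroup.mem_map.mp hz
    have := hcen (hsup hy)
    rw [Subgroup.mem_comap, Subgroup.mem_centralizer_iff] at this
    exact (this (π d) (Set.mem_singleton _)).symm
  rcases normal_le_Y h Zh hZn inf_le_left with hZY | hZL
  · -- `Zh = Y`: then `[Y, Y] ≤ O`
    have hYY : ⁅Ysub p P, Ysub p P⁆ ≤ Osub p P := by
      rw [Subgroup.commutator_le]
      intro a ha b hb
      have haZ : a ∈ Zh := by rw [hZY]; exact ha
      rw [hZh] at haZ
      have h2 := (Subgroup.mem_inf.mp haZ).2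
      rw [Subgroup.mem_comap, Subgroup.mem_centralizer_iff] at h2
      exact hOmem a b (h2 (π b) (Subgroup.mem_map_of_mem π hb)).symm
    rw [hB] at hYY
    apply hn1
    have : ⁅X₁, Ysub p P⁆ ≤ Ysub p P := Subgroup.commutator_le_right X₁ (Ysub p P)
    exact this.trans hYY
  · exact D_not_le_L h (hDZ.trans (hZL.trans YL_le_L))

end Cfsg.Agent.Helper15.Iso44
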