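import Mathlib
import Cfsg.Agent.Helper18.K2P.Defs
import Cfsg.Agent.Helper18.K2P.Defs2
import Cfsg.Agent.Helper18.K2P.QB
import Cfsg.Agent.Helper18.K2P.RACT
import Cfsg.Agent.Helper18.K2P.STAB
import Cfsg.Agent.Helper18.K2P.OMEGA
import Cfsg.Agent.Helper18.K2P.PERM
import Cfsg.Agent.Helper1.K2PPAIRF
import Cfsg.Agent.Helper18.K2P.BASIS
import Cfsg.Agent.Helper8.K2PROT

set_option autoImplicit false
set_option linter.unusedSectionVars false
set_option linter.unusedVariables false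

/-! # K2P (S5692, `k = 2`, hyperbolic blocks), chapter A: the trick (A-TRICK), helper10 -/

namespace Cfsg.Agent.K2P

open Matrix Cfsg.Agent.OC2P Cfsg.Agent.Helper28.Sg Cfsg.Agent.Helper28.Spin
  Cfsg.Agent.Helper12.OrthGen Cfsg.Agent.K2M

variable {F : Type*} [Field F] [Fintype F] {t : ℕ} {Q : QuadraticForm F (Fin t × Fin 2 → F)}
  {q : QuadraticForm F (Fin 2 → F)} {e f : Fin 2 → F} {M : Subgroup (OG Q)}

/-- the hyperbolic basis read backwards -/
theorem A.TRICK.aux_symm (bp : BP Q q e f) : BP Q q f e :=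
  { sum := bp.sum, ndQ := bp.ndQ, ndq := bp.ndq, qe := bp.qf, qf := bp.qe,
    ef := by rw [QuadraticMap.polar_comm]; exact bp.ef }

theorem A.TRICK.aux_siegF_symm (h : SiegF Q q f e M) : SiegF Q q e f M := by
  obtain ⟨i, u, w, hu, hue, hw0, hwi, hw⟩ := h
  exact ⟨i, u, w, hu, hue.symm, hw0, hwi, hw⟩

/-- a block rotation in the coordinates of the hyperbolic pair -/
theorem A.TRICK.aux_rot (bp : BP Q q e f) {g : OG Q} {i : Fin t} {ν : F}
    (hg : ∀ x, mt Q g *ᵥ x = x + binj i (rotV q e f ν (bproj i x) - bproj i x))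
    (x : Fin t × Fin 2 → F) :
    mt Q g *ᵥ x = x + ((ν - 1) * B Q x (binj i f)) • binj i e
      + ((ν⁻¹ - 1) * B Q x (binj i e)) • binj i f := by
  rw [hg x, QB.B_binj_right bp.toBM0, QB.B_binj_right bp.toBM0]
  obtain ⟨y, hy⟩ : ∃ y, y = bproj i x := ⟨_, rfl⟩
  rw [← hy]
  have hyb := BASIS.eq bp y
  obtain ⟨α, hα⟩ : ∃ α, α = QuadraticMap.polar ⇑q y f := ⟨_, rfl⟩
  obtain ⟨β, hβ⟩ : ∃ β, β = QuadraticMap.polar ⇑q y e := ⟨_, rfl⟩
  rw [← hα, ← hβ] at hyb ⊢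
  have e1 : rotV q e f ν y = (ν * α) • e + (ν⁻¹ * β) • f := by
    unfold rotV
    rw [← hα, ← hβ]
  have e2 : rotV q e f ν y - y = ((ν - 1) * α) • e + ((ν⁻¹ - 1) * β) • f := by
    rw [e1]
    calc (ν * α) • e + (ν⁻¹ * β) • f - y
        = (ν * α) • e + (ν⁻¹ * β) • f - (α • e + β • f) := by rw [← hyb]
      _ = ((ν - 1) * α) • e + ((ν⁻¹ - 1) * β) • f := by module
  rw [e2, QB.binj_add, QB.binj_smul, QB.binj_smul, add_assoc]

/-- the core: `m e_i = c • e'_j` forces `m f_i = c⁻¹ • f'_j`, unless there is a frame Siegel element -/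
theorem A.TRICK.aux_core {e' f' : Fin 2 → F} (bp : BP Q q e f) (bp' : BP Q q e' f') (ht : 3 ≤ t)
    (hq : 7 ≤ Fintype.card F) (hM : HasMO M) (hS : ¬ SiegF Q q e' f' M) {m : OG Q} (hm : m ∈ M)
    {i j : Fin t} {c : F} (hc : c ≠ 0) (h : mt Q m *ᵥ binj i e = c • binj j e') :
    mt Q m *ᵥ binj i f = c⁻¹ • binj j f' := by
  classical
  have bm := bp.toBM0
  have bm' := bp'.toBM0
  obtain ⟨p, hp⟩ : ∃ p, p = binj j e' := ⟨_, rfl⟩
  obtain ⟨p', hp'⟩ : ∃ p', p' = binj j f' := ⟨_, rfl⟩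
  obtain ⟨b', hb'⟩ : ∃ b', b' = mt Q m *ᵥ binj i f := ⟨_, rfl⟩
  rw [← hp] at h
  rw [← hb', ← hp']
  have hQp : Q p = 0 := by rw [hp, QB.Q_binj bm', bp'.qe]
  have hQp' : Q p' = 0 := by rw [hp', QB.Q_binj bm', bp'.qf]
  have hBpp' : B Q p p' = 1 := by rw [hp, hp', QB.B_binj_left bm', bproj_binj]; exact bp'.ef
  have hBpp : B Q p p = 0 := B_self_of_singular Q hQp
  have hQb' : Q b' = 0 := by rw [hb', Q_isom, QB.Q_binj bm, bp.qf]
  have hBab : B Q (binj i e) (binj i f) = 1 := by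
    rw [QB.B_binj_left bm, bproj_binj]; exact bp.ef
  have hcL : c * B Q b' p = 1 := by
    have h1 := B_isom (Q := Q) m (binj i e) (binj i f)
    rw [h, ← hb', hBab] at h1
    have h2 : B Q (c • p) b' = c * B Q p b' := by
      show QuadraticMap.polar ⇑Q (c • p) b' = _
      rw [QuadraticMap.polar_smul_left]; rfl
    rw [h2] at h1
    rw [B_comm]; exact h1
  -- the rotation parameter
  obtain ⟨x, hx0, hx1, hxm1, -, -⟩ := PAIRF.exists_avoid hq (0 : F) 1 (-1) 0 0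
  obtain ⟨ν, hν⟩ : ∃ ν : F, ν = x * x := ⟨_, rfl⟩
  have hν0 : ν ≠ 0 := by rw [hν]; exact mul_ne_zero hx0 hx0
  have hν1 : ν ≠ 1 := by
    rw [hν]
    intro h1
    rcases mul_self_eq_one_iff.mp h1 with h2 | h2
    · exact hx1 h2
    · exact hxm1 h2
  have hνsq : IsSquare ν := ⟨x, hν⟩
  have hνsq' : IsSquare ν⁻¹ := ⟨x⁻¹, by rw [hν, mul_inv]⟩
  obtain ⟨ι, hι⟩ : ∃ ι : F, ι = ν⁻¹ := ⟨_, rfl⟩
  have hνι : ν * ι = 1 := by rw [hι]; exact mul_inv_cancel₀ hν0
  have hι1 : ι - 1 ≠ 0 := by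
    intro h1
    apply hν1
    have : ι = 1 := sub_eq_zero.mp h1
    rw [this, mul_one] at hνι
    exact hνι
  obtain ⟨g, hgM, hg⟩ := ROT.one bp ht hM i hν0 hνsq
  obtain ⟨g2, hg2M, hg2⟩ := ROT.one bp' ht hM j (inv_ne_zero hν0) hνsq'
  have hg' := A.TRICK.aux_rot bp hg
  have hg2' := A.TRICK.aux_rot bp' hg2
  rw [inv_inv, ← hι, ← hp, ← hp'] at hg2'
  rw [← hι] at hg'
  -- the element
  have hx0M : g2 * (m * g * m⁻¹) ∈ M :=
    M.mul_mem hg2M (M.mul_mem (M.mul_mem hm hgM) (M.inv_mem hm))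
  -- the Siegel parameter
  obtain ⟨w, hw⟩ : ∃ w, w = (ι - 1) • (c • b' - p') := ⟨_, rfl⟩
  have hBpw : B Q p w = 0 := by
    rw [hw]
    show QuadraticMap.polar ⇑Q p ((ι - 1) • (c • b' - p')) = 0
    rw [QuadraticMap.polar_smul_right, QuadraticMap.polar_sub_right, QuadraticMap.polar_smul_right]
    have e1 : QuadraticMap.polar ⇑Q p b' = B Q b' p := B_comm Q p b'
    have e2 : QuadraticMap.polar ⇑Q p p' = 1 := hBpp'
    rw [e1, e2, smul_eq_mul, smul_eq_mul, hcL, sub_self, mul_zero]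
  have hQ1 : Q (c • b' - p') = -(c * B Q b' p') := by
    have e0 : c • b' - p' = c • b' + -p' := sub_eq_add_neg _ _
    rw [e0, QuadraticMap.map_add ⇑Q, QuadraticMap.map_neg, QuadraticMap.map_smul, hQb', hQp',
      QuadraticMap.polar_neg_right, QuadraticMap.polar_smul_left]
    simp only [smul_eq_mul, mul_zero, zero_add]
  have hQw : Q w = -((ι - 1) ^ 2 * c * B Q b' p') := by
    rw [hw, QuadraticMap.map_smul, hQ1]
    simp only [smul_eq_mul]
    ring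
  have hBwv : ∀ v, B Q w v = (ι - 1) * (c * B Q b' v - B Q p' v) := by
    intro v
    rw [hw]
    show QuadraticMap.polar ⇑Q ((ι - 1) • (c • b' - p')) v = _
    rw [QuadraticMap.polar_smul_left, QuadraticMap.polar_sub_left, QuadraticMap.polar_smul_left]
    rfl
  -- the two elements agree
  have heq : g2 * (m * g * m⁻¹) = siegO Q p w hQp hBpw := by
    apply O_ext
    intro v
    rw [siegO_mulVec, hBwv, hQw]
    -- the conjugated rotation
    have F1 : mt Q (m * g * m⁻¹) *ᵥ v = v + ((ν - 1) * B Q b' v * c) • p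
        + ((ι - 1) * (c * B Q p v)) • b' := by
      rw [mt_mul_mulVec, mt_mul_mulVec, hg', Matrix.mulVec_add, Matrix.mulVec_add,
        Matrix.mulVec_smul, Matrix.mulVec_smul, mt_mulVec_inv, h, ← hb']
      have e1 : B Q (mt Q m⁻¹ *ᵥ v) (binj i f) = B Q b' v := by
        rw [← B_isom (Q := Q) m, mt_mulVec_inv, ← hb', B_comm]
      have e2 : B Q (mt Q m⁻¹ *ᵥ v) (binj i e) = c * B Q p v := by
        rw [← B_isom (Q := Q) m, mt_mulVec_inv, h]
        show QuadraticMap.polar ⇑Q v (c • p) = _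
        rw [QuadraticMap.polar_smul_right, QuadraticMap.polar_comm]; rfl
      rw [e1, e2, smul_smul]
    rw [mt_mul_mulVec, F1, hg2']
    have e3 : B Q (v + ((ν - 1) * B Q b' v * c) • p + ((ι - 1) * (c * B Q p v)) • b') p' =
        B Q p' v + ((ν - 1) * B Q b' v * c) + ((ι - 1) * (c * B Q p v)) * B Q b' p' := by
      show QuadraticMap.polar ⇑Q _ p' = _
      rw [QuadraticMap.polar_add_left, QuadraticMap.polar_add_left, QuadraticMap.polar_smul_left,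
        QuadraticMap.polar_smul_left]
      have e31 : QuadraticMap.polar ⇑Q p p' = 1 := hBpp'
      have e32 : QuadraticMap.polar ⇑Q v p' = B Q p' v := B_comm Q v p'
      rw [e31, e32, smul_eq_mul, smul_eq_mul, mul_one]
    have e4 : B Q (v + ((ν - 1) * B Q b' v * c) • p + ((ι - 1) * (c * B Q p v)) • b') p =
        B Q p v + ((ι - 1) * (c * B Q p v)) * B Q b' p := by
      show QuadraticMap.polar ⇑Q _ p = _
      rw [QuadraticMap.polar_add_left, QuadraticMap.polar_add_left, QuadraticMap.polar_smul_left,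
        QuadraticMap.polar_smul_left]
      have e41 : QuadraticMap.polar ⇑Q p p = 0 := hBpp
      have e42 : QuadraticMap.polar ⇑Q v p = B Q p v := B_comm Q v p
      rw [e41, e42, smul_eq_mul, smul_eq_mul, mul_zero, add_zero]
    rw [e3, e4]
    obtain ⟨A, hA⟩ : ∃ A, A = B Q b' v := ⟨_, rfl⟩
    obtain ⟨P, hP⟩ : ∃ P, P = B Q p v := ⟨_, rfl⟩
    obtain ⟨P', hP'⟩ : ∃ P', P' = B Q p' v := ⟨_, rfl⟩
    obtain ⟨K, hK⟩ : ∃ K, K = B Q b' p' := ⟨_, rfl⟩
    obtain ⟨L, hL⟩ : ∃ L, L = B Q b' p := ⟨_, rfl⟩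
    rw [← hA, ← hP, ← hP', ← hK, ← hL]
    rw [← hL] at hcL
    -- coefficients
    have c1 : (ν - 1) * A * c + (ι - 1) * (P' + (ν - 1) * A * c + (ι - 1) * (c * P) * K) =
        -((ι - 1) * (c * A - P')) - (-((ι - 1) ^ 2 * c * K) * P) := by
      linear_combination (A * c) * hνι
    have c2 : (ν - 1) * (P + (ι - 1) * (c * P) * L) = -(P * (ι - 1)) := by
      linear_combination ((ν - 1) * (ι - 1) * P) * hcL + P * hνι
    have lhs : v + ((ν - 1) * A * c) • p + ((ι - 1) * (c * P)) • b'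
        + ((ι - 1) * (P' + (ν - 1) * A * c + (ι - 1) * (c * P) * K)) • p
        + ((ν - 1) * (P + (ι - 1) * (c * P) * L)) • p' =
        v + ((ν - 1) * A * c + (ι - 1) * (P' + (ν - 1) * A * c + (ι - 1) * (c * P) * K)) • p
        + ((ν - 1) * (P + (ι - 1) * (c * P) * L)) • p' + ((ι - 1) * (c * P)) • b' := by
      module
    rw [lhs, c1, c2, hw]
    module
  -- conclusion
  have hwRad : w ∈ Rad M p hQp := ⟨hBpw, by rw [← heq]; exact hx0M⟩
  -- the `D_j`-component of `w` is a multiple of `p`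
  obtain ⟨s, hs⟩ : ∃ s : F, binj j (bproj j w) = s • p := by
    have h1 := BASIS.eq bp' (bproj j w)
    have h2 : QuadraticMap.polar ⇑q (bproj j w) e' = 0 := by
      have := QB.B_binj_left bm' j e' w
      rw [← hp, hBpw] at this
      rw [QuadraticMap.polar_comm]; exact this.symm
    rw [h2, zero_smul, add_zero] at h1
    refine ⟨QuadraticMap.polar ⇑q (bproj j w) f', ?_⟩
    rw [hp, ← QB.binj_smul, ← h1]
  have hw2 : w - s • p ∈ Rad M p hQp := (Rad M p hQp).sub_mem hwRad (smul_self_mem_Rad hQp s)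
  have hw2j : bproj j (w - s • p) = 0 := by
    rw [← hs, QB.bproj_sub, bproj_binj, sub_self]
  have hw20 : w - s • p = 0 := by
    by_contra hne
    apply hS
    have hQp2 : Q (binj j e') = 0 := by rw [← hp]; exact hQp
    refine ⟨j, e', w - s • p, hQp2, Or.inl rfl, hne, hw2j, ?_⟩
    have : Rad M (binj j e') hQp2 = Rad M p hQp := by
      subst hp; rfl
    rw [this]; exact hw2
  -- so `c • b' = p' + s' • p`, and singularity kills `s'`
  have h3 : c • b' = p' + ((ι - 1)⁻¹ * s) • p := by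
    have h4 : (ι - 1) • (c • b' - p') = s • p := by rw [← hw]; exact sub_eq_zero.mp hw20
    have h5 : c • b' - p' = ((ι - 1)⁻¹ * s) • p := by
      rw [← smul_smul, ← h4, smul_smul, inv_mul_cancel₀ hι1, one_smul]
    rw [← h5]; abel
  have h6 : (ι - 1)⁻¹ * s = 0 := by
    have h7 : Q (c • b') = 0 := by rw [QuadraticMap.map_smul, hQb', smul_zero]
    rw [h3, QuadraticMap.map_add ⇑Q, QuadraticMap.map_smul, hQp, hQp',
      QuadraticMap.polar_smul_right] at h7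
    have e5 : QuadraticMap.polar ⇑Q p' p = 1 := by rw [QuadraticMap.polar_comm]; exact hBpp'
    rw [e5] at h7
    simpa using h7
  rw [h6, zero_smul, add_zero] at h3
  rw [← h3, smul_smul, inv_mul_cancel₀ hc, one_smul]

/-- the image of a block under `m`, from the images of the two frame vectors -/
theorem A.TRICK.aux_fin (bp : BP Q q e f) {m : OG Q} {i j : Fin t} {z₁ z₂ : Fin 2 → F}
    (h1 : mt Q m *ᵥ binj i e = binj j z₁) (h2 : mt Q m *ᵥ binj i f = binj j z₂) (y : Fin 2 → F) :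
    ∃ y' : Fin 2 → F, mt Q m *ᵥ binj i y = binj j y' := by
  refine ⟨(QuadraticMap.polar ⇑q y f) • z₁ + (QuadraticMap.polar ⇑q y e) • z₂, ?_⟩
  have h0 : mt Q m *ᵥ binj i y = mt Q m *ᵥ binj i ((QuadraticMap.polar ⇑q y f) • e +
      (QuadraticMap.polar ⇑q y e) • f) := congrArg (fun z => mt Q m *ᵥ binj i z) (BASIS.eq bp y)
  rw [h0, QB.binj_add, QB.binj_smul, QB.binj_smul, Matrix.mulVec_add, Matrix.mulVec_smul,
    Matrix.mulVec_smul, h1, h2, QB.binj_add, QB.binj_smul, QB.binj_smul]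

/-- the two frame vectors, from one of them -/
theorem A.TRICK.aux_two {e' f' : Fin 2 → F} (bp : BP Q q e f) (bp' : BP Q q e' f') (ht : 3 ≤ t)
    (hq : 7 ≤ Fintype.card F) (hM : HasMO M) (hS : ¬ SiegF Q q e' f' M) {m : OG Q} (hm : m ∈ M)
    {i j : Fin t} {c₁ c₂ : F} (hc₁ : c₁ ≠ 0) (hc₂ : c₂ ≠ 0)
    (h : mt Q m *ᵥ binj i (c₁ • e) = binj j (c₂ • e')) :
    (∃ z₁, mt Q m *ᵥ binj i e = binj j z₁) ∧ (∃ z₂, mt Q m *ᵥ binj i f = binj j z₂) := by
  have h1 : mt Q m *ᵥ binj i e = (c₁⁻¹ * c₂) • binj j e' := by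
    rw [QB.binj_smul, QB.binj_smul, Matrix.mulVec_smul] at h
    rw [← smul_smul, ← h, smul_smul, inv_mul_cancel₀ hc₁, one_smul]
  have hc : c₁⁻¹ * c₂ ≠ 0 := mul_ne_zero (inv_ne_zero hc₁) hc₂
  have h2 := A.TRICK.aux_core bp bp' ht hq hM hS hm hc h1
  constructor
  · exact ⟨(c₁⁻¹ * c₂) • e', by rw [h1, QB.binj_smul]⟩
  · exact ⟨(c₁⁻¹ * c₂)⁻¹ • f', by rw [h2, QB.binj_smul]⟩

theorem A.TRICK (bp : BP Q q e f) (ht : 3 ≤ t) (hq : 7 ≤ Fintype.card F) (hM : HasMO M)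
    (hS : ¬ SiegF Q q e f M) {m : OG Q} (hm : m ∈ M) {i j : Fin t} {u u' : Fin 2 → F} (hu0 : u ≠ 0)
    (hqu : q u = 0) (h : mt Q m *ᵥ binj i u = binj j u') :
    ∀ y : Fin 2 → F, ∃ y' : Fin 2 → F, mt Q m *ᵥ binj i y = binj j y' := by
  have bm := bp.toBM0
  have bps := A.TRICK.aux_symm bp
  have hS' : ¬ SiegF Q q f e M := fun hc => hS (A.TRICK.aux_siegF_symm hc)
  -- `u'` is singular and nonzero
  have hqu' : q u' = 0 := by
    rw [← QB.Q_binj bm j u', ← h, Q_isom, QB.Q_binj bm, hqu]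
  have hu'0 : u' ≠ 0 := by
    intro h0
    apply hu0
    rw [h0, QB.binj_zero] at h
    have h1 := mt_inv_mulVec (Q := Q) m (binj i u)
    rw [h, Matrix.mulVec_zero] at h1
    exact QB.binj_eq_zero.mp h1.symm
  rcases BASIS.sing bp hqu with ⟨c₁, rfl⟩ | ⟨c₁, rfl⟩ <;>
  rcases BASIS.sing bp hqu' with ⟨c₂, rfl⟩ | ⟨c₂, rfl⟩
  all_goals
    have hc₁ : c₁ ≠ 0 := by
      intro h0; apply hu0; rw [h0, zero_smul]
    have hc₂ : c₂ ≠ 0 := by
      intro h0; apply hu'0; rw [h0, zero_smul]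
  · obtain ⟨⟨z₁, h1⟩, ⟨z₂, h2⟩⟩ := A.TRICK.aux_two bp bp ht hq hM hS hm hc₁ hc₂ h
    exact A.TRICK.aux_fin bp h1 h2
  · obtain ⟨⟨z₁, h1⟩, ⟨z₂, h2⟩⟩ := A.TRICK.aux_two bp bps ht hq hM hS' hm hc₁ hc₂ h
    exact A.TRICK.aux_fin bp h1 h2
  · obtain ⟨⟨z₁, h1⟩, ⟨z₂, h2⟩⟩ := A.TRICK.aux_two bps bp ht hq hM hS hm hc₁ hc₂ h
    exact A.TRICK.aux_fin bp h2 h1
  · obtain ⟨⟨z₁, h1⟩, ⟨z₂, h2⟩⟩ := A.TRICK.aux_two bps bps ht hq hM hS' hm hc₁ hc₂ h
    exact A.TRICK.aux_fin bp h2 h1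

end Cfsg.Agent.K2P
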