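import Mathlib
import Cfsg.Agent.S4479
import Cfsg.Agent.S4480
import Cfsg.Agent.Helper8.KleinBlock2
set_option autoImplicit false

/-! Piece BLK of the S3278 drive: Brauer's principal 2-block for a Klein four Sylow 2-subgroup gives
`|G| < 18 |C(J)|` or `|G| = 3 |C(J)|` when `C(J) = C(P)`. -/

namespace Cfsg.Agent.Helper10.K4C

open Cfsg Cfsg.Agent.Helper24 Cfsg.Agent.Helper5

variable {G : Type*} [Group G] [Finite G]

/-- pure arithmetic for the case `ε = -1` -/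
theorem arith_neg (g c x₁ x₂ x₃ : ℕ) (hc : 0 < c) (h2 : 3 ≤ x₂) (h3 : 3 ≤ x₃)
    (hrel : x₁ + 1 = x₂ + x₃)
    (hform : (g : ℚ) = 8 * (((x₁ : ℚ) * x₂ * x₃) / (((x₁ : ℚ) + (1 : ℤ)) * ((x₂ : ℚ) + (-1 : ℤ)) * ((x₃ : ℚ) + (-1 : ℤ)))) *
      (c : ℚ) ^ 3 / (c : ℚ) ^ 2) : g < 18 * c := by
  have hcq : (0 : ℚ) < c := by exact_mod_cast hc
  have h2q : (3 : ℚ) ≤ x₂ := by exact_mod_cast h2
  have h3q : (3 : ℚ) ≤ x₃ := by exact_mod_cast h3
  have hrelq : (x₁ : ℚ) + 1 = x₂ + x₃ := by exact_mod_cast hrel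
  have hd1 : (0 : ℚ) < (x₁ : ℚ) + 1 := by linarith
  have hd2 : (0 : ℚ) < (x₂ : ℚ) - 1 := by linarith
  have hd3 : (0 : ℚ) < (x₃ : ℚ) - 1 := by linarith
  have hform' : (g : ℚ) * (((x₁ : ℚ) + 1) * ((x₂ : ℚ) - 1) * ((x₃ : ℚ) - 1)) =
      8 * ((x₁ : ℚ) * x₂ * x₃) * c := by
    rw [hform]
    push_cast
    have e2 : (x₂ : ℚ) + -1 = x₂ - 1 := by ring
    have e3 : (x₃ : ℚ) + -1 = x₃ - 1 := by ring
    rw [e2, e3]
    have hA := hd1.ne'
    have hB := hd2.ne'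
    have hC := hd3.ne'
    have hcc := hcq.ne'
    field_simp
  by_contra hcon
  push Not at hcon
  have hge : (18 : ℚ) * c ≤ g := by exact_mod_cast hcon
  have hx1 : (x₁ : ℚ) = x₂ + x₃ - 1 := by linarith
  rw [hx1] at hform'
  have hpos : (0 : ℚ) < ((x₂ : ℚ) + x₃ - 1 + 1) * ((x₂ : ℚ) - 1) * ((x₃ : ℚ) - 1) :=
    mul_pos (mul_pos (by linarith) hd2) hd3
  have h18 : (18 : ℚ) * c * (((x₂ : ℚ) + x₃ - 1 + 1) * ((x₂ : ℚ) - 1) * ((x₃ : ℚ) - 1)) ≤
      8 * (((x₂ : ℚ) + x₃ - 1) * x₂ * x₃) * c := by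
    rw [← hform']
    exact mul_le_mul_of_nonneg_right hge hpos.le
  -- divide by c
  have h18' : (18 : ℚ) * (((x₂ : ℚ) + x₃) * ((x₂ : ℚ) - 1) * ((x₃ : ℚ) - 1)) ≤
      8 * (((x₂ : ℚ) + x₃ - 1) * x₂ * x₃) := by
    have : (18 : ℚ) * (((x₂ : ℚ) + x₃) * ((x₂ : ℚ) - 1) * ((x₃ : ℚ) - 1)) * c ≤
        8 * (((x₂ : ℚ) + x₃ - 1) * x₂ * x₃) * c := by
      have e : ((x₂ : ℚ) + x₃ - 1 + 1) = (x₂ : ℚ) + x₃ := by ring
      rw [e] at h18
      linarith
    exact le_of_mul_le_mul_right this hcq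
  -- contradiction: 9 (a+b)(a-1)(b-1) > 4 (a+b-1) a b for a, b ≥ 3
  have ha : (0 : ℚ) ≤ (x₂ : ℚ) - 3 := by linarith
  have hb : (0 : ℚ) ≤ (x₃ : ℚ) - 3 := by linarith
  nlinarith [mul_nonneg ha hb, mul_nonneg (mul_nonneg ha hb) ha, mul_nonneg (mul_nonneg ha hb) hb,
    mul_nonneg ha ha, mul_nonneg hb hb, mul_nonneg (mul_nonneg ha ha) hb,
    mul_nonneg (mul_nonneg hb hb) ha]

/-- pure arithmetic for the case `ε = 1` -/
theorem arith_pos (g c m q : ℕ) (hc : 0 < c) (hq : (4 : ℤ) ∣ (q : ℤ) + 1)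
    (h1 : 4 * c = m * c * (q + 1)) (h2 : 8 * g = m ^ 3 * c * (q ^ 3 - q)) : g = 3 * c := by
  have h4 : 4 = m * (q + 1) := by
    have : c * 4 = c * (m * (q + 1)) := by linarith
    exact Nat.eq_of_mul_eq_mul_left hc this
  have hq4 : 4 ≤ q + 1 := by
    obtain ⟨k, hk⟩ := hq
    omega
  have hm : m = 1 := by
    rcases Nat.lt_or_ge m 2 with h | h
    · interval_cases m
      · omega
      · rfl
    · nlinarith
  subst hm
  have hq3 : q = 3 := by omega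
  subst hq3
  norm_num at h2
  omega

omit [Finite G] in
/-- a simple group does not have order 4 -/
theorem card_ne_four [IsSimpleGroup G] : Nat.card G ≠ 4 := by
  intro hG4
  have hp2 : Fact (Nat.Prime 2) := ⟨Nat.prime_two⟩
  have hmc : IsMulCommutative G :=
    IsPGroup.isMulCommutative_of_card_eq_prime_sq (p := 2) (by rw [hG4]; norm_num)
  have hcomm : ∀ a b : G, a * b = b * a := fun a b => hmc.is_comm.comm a b
  let _ : CommGroup G := { ‹Group G› with mul_comm := hcomm }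
  have hp := IsSimpleGroup.prime_card (α := G)
  rw [hG4] at hp
  exact absurd hp (by norm_num)

/-- BLK: the order bound from Brauer's principal 2-block theory. -/
theorem card_bound [IsSimpleGroup G] (P : Sylow 2 G) (hK : IsKleinFour ↥(P : Subgroup G))
    (hone : ∀ u v : G, orderOf u = 2 → orderOf v = 2 → IsConj u v)
    (J : G) (hJ : J ∈ (P : Subgroup G)) (hJ2 : orderOf J = 2)
    (hc : Nat.card (Subgroup.centralizer ({J} : Set G)) =
      Nat.card (Subgroup.centralizer ((P : Subgroup G) : Set G))) :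
    Nat.card G < 18 * Nat.card (Subgroup.centralizer ({J} : Set G)) ∨
      Nat.card G = 3 * Nat.card (Subgroup.centralizer ({J} : Set G)) := by
  classical
  have hp2 : Fact (Nat.Prime 2) := ⟨Nat.prime_two⟩
  have : Fintype G := Fintype.ofFinite _
  have : Fintype (IrrCharacter G) := Fintype.ofFinite _
  obtain ⟨M, hM⟩ := exists_isPModular 2 Nat.prime_two
  -- the order of G
  have hcardP : Nat.card (P : Subgroup G) = 4 := IsKleinFour.card_four
  have hG : Nat.card G = 4 * (P : Subgroup G).index := by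
    rw [← hcardP]; exact ((P : Subgroup G).card_mul_index).symm
  have hg₀ : Odd (P : Subgroup G).index := by
    rw [← Nat.not_even_iff_odd, even_iff_two_dvd]
    exact P.not_dvd_index
  have hnc : ¬ ∃ N : Subgroup G, N.Normal ∧ Nat.card N = (P : Subgroup G).index := by
    rintro ⟨N, hN, hNc⟩
    rcases hN.eq_bot_or_eq_top with h | h
    · rw [h, Subgroup.card_bot] at hNc
      rw [← hNc] at hG
      exact card_ne_four hG
    · rw [h, Subgroup.card_top, hG] at hNc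
      have := hg₀.pos
      omega
  obtain ⟨ζ₂, ζ₃, ζ₄, ε, hε, h2ne, h3ne, h23, h24, h34, hB, hvals, hd2, hd3, hd4, hrel⟩ :=
    Cfsg.Agent.Helper8.KleinB.klein_principal_block hM P hK hone
  obtain ⟨hv2, hv3, hv4⟩ := hvals J hJ2
  have h4ne : (ζ₄ : G → ℂ) ≠ (fun _ => 1) := by
    intro h
    rw [h] at hv4
    norm_num at hv4
  have hcpos : 0 < Nat.card (Subgroup.centralizer ({J} : Set G)) := Nat.card_pos
  -- relation between the degrees
  have hrel1 := hrel 1 (by rw [orderOf_one]; exact odd_one)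
  rw [irrDeg_spec, irrDeg_spec, irrDeg_spec, ← Cfsg.Agent.Helper5.CC.charDegree_eq_irrDeg,
    ← Cfsg.Agent.Helper5.CC.charDegree_eq_irrDeg, ← Cfsg.Agent.Helper5.CC.charDegree_eq_irrDeg] at hrel1
  rcases hε with rfl | rfl
  · -- ε = 1 : S4480
    right
    obtain ⟨m, hm1, hm2⟩ := Cfsg.Agent.S4480.result M hM _ hg₀ hG hnc P J hJ hJ2 ζ₂ ζ₃ ζ₄ 1 1 (-1) hB
      ⟨h2ne, h3ne, h4ne, h23, h24, h34⟩ ⟨Or.inl rfl, Or.inl rfl, Or.inr rfl⟩
      ⟨by rw [hv2]; norm_num, by rw [hv3], by rw [hv4]; norm_num⟩ (by norm_num) rfl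
    rw [← hc] at hm1 hm2
    exact arith_pos _ _ m _ hcpos hd4 hm1 hm2
  · -- ε = -1 : S4479
    left
    have hform := Cfsg.Agent.S4479.result M hM _ hg₀ hG hnc P J hJ hJ2 ζ₂ ζ₃ ζ₄ 1 (-1) (-1) hB
      ⟨h2ne, h3ne, h4ne, h23, h24, h34⟩ ⟨Or.inl rfl, Or.inr rfl, Or.inr rfl⟩
      ⟨by rw [hv2]; norm_num, by rw [hv3], by rw [hv4]; norm_num⟩
    rw [← hc] at hform
    have hx2 : 3 ≤ charDegree (ζ₃ : G → ℂ) := by
      obtain ⟨k, hk⟩ := hd3
      omega
    have hx3 : 3 ≤ charDegree (ζ₄ : G → ℂ) := by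
      obtain ⟨k, hk⟩ := hd4
      omega
    have hrelN : charDegree (ζ₂ : G → ℂ) + 1 = charDegree (ζ₃ : G → ℂ) + charDegree (ζ₄ : G → ℂ) := by
      have : ((charDegree (ζ₂ : G → ℂ) + 1 : ℕ) : ℂ) =
          ((charDegree (ζ₃ : G → ℂ) + charDegree (ζ₄ : G → ℂ) : ℕ) : ℂ) := by
        push_cast
        push_cast at hrel1
        linear_combination hrel1
      exact_mod_cast this
    exact arith_neg _ _ _ _ _ hcpos hx2 hx3 hrelN hform

end Cfsg.Agent.Helper10.K4C
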