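import Mathlib
set_option autoImplicit false

/-! Pieces LOCA, LOCB of the S3278 drive (fallback copies by the driver). -/

namespace Cfsg.Agent.Helper10.K4C

variable {G : Type*} [Group G] [Finite G]

omit [Finite G] in
/-- LOCA: the normal Klein-four Sylow 2-subgroup of `C(x)` contains every 2-element of `C(x)`. -/
theorem mem_of_pow_two (x : G) (S₀ : Subgroup G)
    (hle : S₀ ≤ Subgroup.centralizer ({x} : Set G)) (hK : IsKleinFour ↥S₀)
    (hodd : ¬ 2 ∣ S₀.relIndex (Subgroup.centralizer ({x} : Set G)))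
    (hn : (S₀.subgroupOf (Subgroup.centralizer ({x} : Set G))).Normal)
    (u : G) (hu : u ∈ Subgroup.centralizer ({x} : Set G)) (k : ℕ) (huk : u ^ (2 ^ k) = 1) :
    u ∈ S₀ := by
  have _ := hle
  have _ := hK
  have hN : (S₀.subgroupOf (Subgroup.centralizer ({x} : Set G))).Normal := hn
  have h1 : (QuotientGroup.mk (⟨u, hu⟩ : ↥(Subgroup.centralizer ({x} : Set G))) :
      ↥(Subgroup.centralizer ({x} : Set G)) ⧸ S₀.subgroupOf (Subgroup.centralizer ({x} : Set G))) ^ (2 ^ k) = 1 := by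
    rw [← QuotientGroup.mk_pow]
    have : (⟨u, hu⟩ : ↥(Subgroup.centralizer ({x} : Set G))) ^ (2 ^ k) = 1 := Subtype.ext (by simpa using huk)
    rw [this, QuotientGroup.mk_one]
  have h2 := orderOf_dvd_of_pow_eq_one h1
  have h3 := orderOf_dvd_natCard (QuotientGroup.mk (⟨u, hu⟩ : ↥(Subgroup.centralizer ({x} : Set G))) :
      ↥(Subgroup.centralizer ({x} : Set G)) ⧸ S₀.subgroupOf (Subgroup.centralizer ({x} : Set G)))
  have h4 : Nat.card (↥(Subgroup.centralizer ({x} : Set G)) ⧸ S₀.subgroupOf (Subgroup.centralizer ({x} : Set G))) =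
      S₀.relIndex (Subgroup.centralizer ({x} : Set G)) := rfl
  rw [h4] at h3
  have hcop : Nat.Coprime (2 ^ k) (S₀.relIndex (Subgroup.centralizer ({x} : Set G))) :=
    Nat.Coprime.pow_left k ((Nat.Prime.coprime_iff_not_dvd Nat.prime_two).mpr hodd)
  have h5 := Nat.eq_one_of_dvd_coprimes hcop h2 h3
  have h6 := orderOf_eq_one_iff.mp h5
  have h7 := (QuotientGroup.eq_one_iff _).mp h6
  exact Subgroup.mem_subgroupOf.mp h7

/-- LOCB: at most three involutions in `C(x)`. -/
theorem card_involutions_le (x : G) (S₀ : Subgroup G)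
    (hK : IsKleinFour ↥S₀)
    (hmem : ∀ u ∈ Subgroup.centralizer ({x} : Set G), ∀ k : ℕ, u ^ (2 ^ k) = 1 → u ∈ S₀) :
    Nat.card {u : ↥(Subgroup.centralizer ({x} : Set G)) // orderOf u = 2} ≤ 3 := by
  have hsq : ∀ u : {u : ↥(Subgroup.centralizer ({x} : Set G)) // orderOf u = 2},
      ((u.1 : ↥(Subgroup.centralizer ({x} : Set G))) : G) ^ (2 ^ 1) = 1 := by
    intro u
    have h := pow_orderOf_eq_one u.1
    rw [u.2] at h
    have := congrArg Subtype.val h
    simpa using this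
  have hne : ∀ u : {u : ↥(Subgroup.centralizer ({x} : Set G)) // orderOf u = 2},
      (⟨((u.1 : ↥(Subgroup.centralizer ({x} : Set G))) : G), hmem _ u.1.2 1 (hsq u)⟩ : ↥S₀) ≠ 1 := by
    intro u h
    have h1 : ((u.1 : ↥(Subgroup.centralizer ({x} : Set G))) : G) = 1 := congrArg Subtype.val h
    have h2 : u.1 = 1 := Subtype.ext h1
    have h3 := u.2
    rw [h2, orderOf_one] at h3
    omega
  let f : {u : ↥(Subgroup.centralizer ({x} : Set G)) // orderOf u = 2} → {s : ↥S₀ // s ≠ 1} :=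
    fun u => ⟨⟨((u.1 : ↥(Subgroup.centralizer ({x} : Set G))) : G), hmem _ u.1.2 1 (hsq u)⟩, hne u⟩
  have hf : Function.Injective f := by
    intro u v huv
    have h1 : ((u.1 : ↥(Subgroup.centralizer ({x} : Set G))) : G) =
        ((v.1 : ↥(Subgroup.centralizer ({x} : Set G))) : G) :=
      congrArg (fun s : {s : ↥S₀ // s ≠ 1} => ((s.1 : ↥S₀) : G)) huv
    exact Subtype.ext (Subtype.ext h1)
  have hfin : Finite ↥S₀ := inferInstance
  have hcard : Nat.card {s : ↥S₀ // s ≠ 1} = 3 := by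
    classical
    have h1 : Nat.card (Option {s : ↥S₀ // s ≠ 1}) = Nat.card ↥S₀ :=
      Nat.card_congr (Equiv.optionSubtypeNe (1 : ↥S₀))
    have h4 : Nat.card ↥S₀ = 4 := IsKleinFour.card_four
    rw [Finite.card_option, h4] at h1
    omega
  calc Nat.card {u : ↥(Subgroup.centralizer ({x} : Set G)) // orderOf u = 2}
      ≤ Nat.card {s : ↥S₀ // s ≠ 1} := Nat.card_le_card_of_injective f hf
    _ = 3 := hcard

end Cfsg.Agent.Helper10.K4C
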