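import Mathlib
import Cfsg.Prelude.Def_ConjugacyFunctors
import Cfsg.Agent.Helper10.KMax

set_option autoImplicit false

namespace Cfsg.Agent.Helper10

open Cfsg

universe u

variable {P : Type u} [Group P] [Finite P] {p : ℕ} [Fact p.Prime] (hP : IsPGroup p P)
include hP

theorem centralizer_kL_le (Q : Subgroup P) : Subgroup.centralizer ((kL Q : Subgroup P) : Set P) ≤ kL Q := by
  have hbot : (⊥ : Subgroup P) ∈ kLowerStarFamily Q :=
    normalAbelian_mem_lower ⊥ inferInstance Q
  obtain ⟨B, _, hB⟩ := (Set.toFinite (kLowerStarFamily Q)).exists_le_maximal hbot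
  have h1 : Subgroup.centralizer (B : Set P) ≤ B :=
    centralizer_le_of_maximal_lower hP Q B hB.prop (fun C hC hBC => hB.eq_of_ge hC hBC)
  have h2 : B ≤ kL Q := le_sSup hB.prop
  exact le_trans (Subgroup.centralizer_le h2) (le_trans h1 h2)

theorem centralizer_kU_le (Q : Subgroup P) : Subgroup.centralizer ((kU Q : Subgroup P) : Set P) ≤ kU Q := by
  have hbot : (⊥ : Subgroup P) ∈ kUpperStarFamily Q :=
    normalAbelian_mem_upper ⊥ inferInstance Q
  obtain ⟨B, _, hB⟩ := (Set.toFinite (kUpperStarFamily Q)).exists_le_maximal hbot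
  have h1 : Subgroup.centralizer (B : Set P) ≤ B :=
    centralizer_le_of_maximal_upper hP Q B hB.prop (fun C hC hBC => hB.eq_of_ge hC hBC)
  have h2 : B ≤ kU Q := le_sSup hB.prop
  exact le_trans (Subgroup.centralizer_le h2) (le_trans h1 h2)

theorem centralizer_kInfLower_le : Subgroup.centralizer ((kInfLower P : Subgroup P) : Set P) ≤ kInfLower P := by
  obtain ⟨n, hn⟩ := kSeq_eventually (P := P)
  rw [← (hn n le_rfl).1, kSeqEven_eq]
  exact centralizer_kL_le hP _

theorem centralizer_kInfUpper_le : Subgroup.centralizer ((kInfUpper P : Subgroup P) : Set P) ≤ kInfUpper P := by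
  obtain ⟨n, hn⟩ := kSeq_eventually (P := P)
  rw [← (hn (n + 1) (Nat.le_succ n)).2, kSeqOdd_succ]
  exact centralizer_kU_le hP _

end Cfsg.Agent.Helper10
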