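import Mathlib
import Cfsg.Agent.Helper26.ZJ
import Cfsg.Agent.Helper10.SecClass

set_option autoImplicit false
set_option linter.unusedSectionVars false
set_option linter.unusedVariables false
set_option linter.style.haveILetI false

/-! # `p`-stability of all sections, in a quotient-free form usable inside the group

`SecStab p G`: every group isomorphic to a section of `G` satisfies the quotient-free stability
hypothesis `StabHyp`.  `lemP` and `lemP2` bring it back to subgroups of `G`. -/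

namespace Cfsg.Agent.Helper10

open Subgroup Cfsg Cfsg.Agent.Helper26
open scoped commutatorElement

universe u

theorem StabHyp.of_equiv {p : ℕ} {Y Z : Type*} [Group Y] [Group Z] (h : StabHyp p Y) (e : Y ≃* Z) :
    StabHyp p Z := by
  intro P hPn hPp
  obtain ⟨L, hLn, hCL, hLpow, hLq⟩ := h (P.comap e.toMonoidHom) (hPn.comap _)
    (hPp.comap_of_injective e.toMonoidHom e.injective)
  have hmc : (P.comap e.toMonoidHom).map e.toMonoidHom = P :=
    Subgroup.map_comap_eq_self_of_surjective e.surjective P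
  refine ⟨L.map e.toMonoidHom, hLn.map _ e.surjective, ?_, ?_, ?_⟩
  · intro c hc
    refine ⟨e.symm c, hCL ?_, by simp⟩
    rw [mem_centralizer_iff]
    intro y hy
    have hy' : e y ∈ P := hy
    have := (mem_centralizer_iff.1 hc) (e y) hy'
    apply e.injective
    rw [map_mul, map_mul, e.apply_symm_apply]
    exact this
  · rintro _ ⟨x, hx, rfl⟩
    obtain ⟨k, hk⟩ := hLpow x hx
    refine ⟨k, ?_⟩
    rw [mem_centralizer_iff] at hk ⊢
    intro z hz
    have hz' : e.symm z ∈ P.comap e.toMonoidHom := by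
      show e (e.symm z) ∈ P
      rw [e.apply_symm_apply]; exact hz
    have := hk (e.symm z) hz'
    have h2 := congrArg e this
    rw [map_mul, map_mul, e.apply_symm_apply, map_pow] at h2
    exact h2
  · intro a ha
    refine ⟨e.symm a, hLq (e.symm a) ?_, by simp⟩
    have hz : (zpowers (e.symm a)).map e.toMonoidHom = zpowers a := by
      rw [MonoidHom.map_zpowers]
      simp
    have h1 : (⁅⁅P.comap e.toMonoidHom, zpowers (e.symm a)⁆, zpowers (e.symm a)⁆).map e.toMonoidHom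
        = ⊥ := by
      rw [Subgroup.map_commutator, Subgroup.map_commutator, hmc, hz, ha]
    exact (Subgroup.map_eq_bot_iff_of_injective _ e.injective).1 h1

/-- every group isomorphic to a section of `G` satisfies `StabHyp` -/
def SecStab (p : ℕ) (G : Type u) [Group G] : Prop :=
  ∀ (Z : Type u) [Group Z], IsSec G Z → StabHyp p Z

theorem IsSec.trans {G X Y : Type u} [Group G] [Group X] [Group Y] (h1 : IsSec G X)
    (h2 : IsSec X Y) : IsSec G Y := by
  obtain ⟨K, f, hf⟩ := h2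
  exact (h1.subgroup K).of_surjective f hf

theorem SecStab.of_isSec {p : ℕ} {G X : Type u} [Group G] [Group X] (h : SecStab p G)
    (hX : IsSec G X) : SecStab p X :=
  fun Z _ hZ => h Z (hX.trans hZ)

theorem le_normalizer_of_conj_mem {G : Type*} [Group G] {H X : Subgroup G}
    (h : ∀ g ∈ H, ∀ x ∈ X, g * x * g⁻¹ ∈ X) : H ≤ normalizer (X : Set G) := by
  intro g hg
  rw [mem_normalizer_iff]
  intro x
  constructor
  · exact h g hg x
  · intro hx
    have := h g⁻¹ (H.inv_mem hg) _ hx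
    have e : g⁻¹ * (g * x * g⁻¹) * g⁻¹⁻¹ = x := by group
    rwa [e] at this

section LemP

variable {p : ℕ} [Fact p.Prime] {G : Type u} [Group G]

/-- **Lemma P**: stability on a normal `p`-section `X / Y` of a subgroup `K`. -/
theorem lemP (hS : SecStab p G) (K X Y : Subgroup G) (hYX : Y ≤ X) (hXK : X ≤ K)
    (hKX : K ≤ normalizer (X : Set G)) (hKY : K ≤ normalizer (Y : Set G)) (hXp : IsPGroup p ↥X) :
    ∃ O : Subgroup G, O ≤ K ∧ K ≤ normalizer (O : Set G) ∧
      (∀ o ∈ O, ∃ k : ℕ, ∀ x ∈ X, ⁅x, o ^ (p ^ k)⁆ ∈ Y) ∧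
      ∀ g ∈ K, ⁅⁅X, zpowers g⁆, zpowers g⁆ ≤ Y → g ∈ O := by
  haveI hn : (Y.subgroupOf K).Normal :=
    (Subgroup.normal_subgroupOf_iff_le_normalizer (hYX.trans hXK)).2 hKY
  haveI hXn : (X.subgroupOf K).Normal :=
    (Subgroup.normal_subgroupOf_iff_le_normalizer hXK).2 hKX
  set π := QuotientGroup.mk' (Y.subgroupOf K) with hπ
  have hsurj : Function.Surjective π := QuotientGroup.mk'_surjective _
  have hQ : StabHyp p (↥K ⧸ Y.subgroupOf K) := hS _ (isSec_section K Y)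
  obtain ⟨L, hLn, hCL, hLpow, hLq⟩ := hQ ((X.subgroupOf K).map π) (hXn.map π hsurj)
    ((hXp.comap_subtype).map π)
  haveI := hLn
  have hcn : (L.comap π).Normal := inferInstance
  refine ⟨(L.comap π).map K.subtype, Subgroup.map_subtype_le _, ?_, ?_, ?_⟩
  · apply le_normalizer_of_conj_mem
    rintro g hg _ ⟨y, hy, rfl⟩
    refine ⟨⟨g, hg⟩ * y * ⟨g, hg⟩⁻¹, hcn.conj_mem y hy _, ?_⟩
    simp
  · rintro _ ⟨o, ho, rfl⟩
    have ho' : π o ∈ L := ho
    obtain ⟨k, hk⟩ := hLpow _ ho'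
    refine ⟨k, ?_⟩
    intro x hx
    have hxK : x ∈ K := hXK hx
    have hxP : π ⟨x, hxK⟩ ∈ (X.subgroupOf K).map π :=
      Subgroup.mem_map_of_mem _ (Subgroup.mem_subgroupOf.2 hx)
    have h1 := (mem_centralizer_iff.1 hk) _ hxP
    have h2 : π (⁅(⟨x, hxK⟩ : ↥K), o ^ (p ^ k)⁆) = 1 := by
      rw [commutatorElement_def, map_mul, map_mul, map_mul, map_inv, map_inv, map_pow, h1]
      group
    have h3 : ⁅(⟨x, hxK⟩ : ↥K), o ^ (p ^ k)⁆ ∈ Y.subgroupOf K := by
      rw [← QuotientGroup.eq_one_iff]; exact h2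
    have h4 := Subgroup.mem_subgroupOf.1 h3
    simpa [commutatorElement_def] using h4
  · intro g hg hquad
    refine ⟨⟨g, hg⟩, ?_, rfl⟩
    show π ⟨g, hg⟩ ∈ L
    apply hLq
    have hz : zpowers (π ⟨g, hg⟩) = (zpowers (⟨g, hg⟩ : ↥K)).map π := by
      rw [MonoidHom.map_zpowers]
    rw [hz, ← Subgroup.map_commutator, ← Subgroup.map_commutator, Subgroup.map_eq_bot_iff,
      QuotientGroup.ker_mk']
    have hmz : (zpowers (⟨g, hg⟩ : ↥K)).map K.subtype = zpowers g := by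
      rw [MonoidHom.map_zpowers]; rfl
    have hmX : (X.subgroupOf K).map K.subtype = X := Subgroup.map_subgroupOf_eq_of_le hXK
    intro y hy
    rw [Subgroup.mem_subgroupOf]
    apply hquad
    have : (y : G) ∈ (⁅⁅X.subgroupOf K, zpowers (⟨g, hg⟩ : ↥K)⁆,
        zpowers (⟨g, hg⟩ : ↥K)⁆).map K.subtype := ⟨y, hy, rfl⟩
    rwa [Subgroup.map_commutator, Subgroup.map_commutator, hmX, hmz] at this

end LemP

section LemP2

variable {G : Type*} [Group G]

theorem commutatorElement_mul_right' (x c d : G) : ⁅x, c * d⁆ = ⁅x, c⁆ * (c * ⁅x, d⁆ * c⁻¹) := by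
  simp only [commutatorElement_def]; group

theorem commutatorElement_mul_left' (a b y : G) : ⁅a * b, y⁆ = a * ⁅b, y⁆ * a⁻¹ * ⁅a, y⁆ := by
  simp only [commutatorElement_def]; group

/-- elements centralizing `X` modulo `Y` are closed under powers -/
theorem comm_pow_mem {X Y : Subgroup G} {c : G} (hcY : c ∈ normalizer (Y : Set G))
    (h : ∀ x ∈ X, ⁅x, c⁆ ∈ Y) (n : ℕ) : ∀ x ∈ X, ⁅x, c ^ n⁆ ∈ Y := by
  induction n with
  | zero =>
    intro x _
    rw [pow_zero, commutatorElement_one_right]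
    exact Y.one_mem
  | succ n ih =>
    intro x hx
    rw [pow_succ', commutatorElement_mul_right']
    exact Y.mul_mem (h x hx) ((mem_normalizer_iff.1 hcY _).1 (ih x hx))

/-- a stability-group element acts as a `p`-element -/
theorem pow_card_mem_centralizer {p m : ℕ} {X Y : Subgroup G} (hYX : Y ≤ X)
    (hcard : ∀ w ∈ Y, w ^ (p ^ m) = 1) {c : G} (hcX : ∀ x ∈ X, ⁅x, c⁆ ∈ Y)
    (hcY : ∀ y ∈ Y, y * c = c * y) : c ^ (p ^ m) ∈ centralizer (X : Set G) := by
  rw [mem_centralizer_iff]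
  intro x hx
  set w := ⁅x, c⁆ with hw
  have hwY : w ∈ Y := hcX x hx
  have hwc : w * c = c * w := hcY w hwY
  have h1 : x * c * x⁻¹ = w * c := by rw [hw, commutatorElement_def]; group
  have h2 : ∀ n : ℕ, x * c ^ n * x⁻¹ = w ^ n * c ^ n := by
    intro n
    have h3 : x * c ^ n * x⁻¹ = (x * c * x⁻¹) ^ n := (conj_pow (a := x) (b := c) (i := n)).symm
    rw [h3, h1, (show Commute w c from hwc).mul_pow]
  have h4 := h2 (p ^ m)
  rw [hcard w hwY, one_mul] at h4
  calc x * c ^ p ^ m = (x * c ^ p ^ m * x⁻¹) * x := by group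
    _ = c ^ p ^ m * x := by rw [h4]

end LemP2

section LemP2'

variable {p : ℕ} [Fact p.Prime] {G : Type u} [Group G] [Finite G]

/-- **Lemma P2**: two quadratic layers. -/
theorem lemP2 (hS : SecStab p G) (K X Y : Subgroup G) (hYX : Y ≤ X) (hXK : X ≤ K)
    (hKX : K ≤ normalizer (X : Set G)) (hKY : K ≤ normalizer (Y : Set G)) (hXp : IsPGroup p ↥X) :
    ∃ O : Subgroup G, O ≤ K ∧ K ≤ normalizer (O : Set G) ∧
      (∀ o ∈ O, ∃ k : ℕ, o ^ (p ^ k) ∈ centralizer (X : Set G)) ∧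
      ∀ g ∈ K, ⁅⁅X, zpowers g⁆, zpowers g⁆ ≤ Y → ⁅⁅Y, zpowers g⁆, zpowers g⁆ = ⊥ → g ∈ O := by
  obtain ⟨O₁, hO₁K, hKO₁, hpow₁, hq₁⟩ := lemP hS K X Y hYX hXK hKX hKY hXp
  have hbn : K ≤ normalizer (((⊥ : Subgroup G) : Subgroup G) : Set G) := by
    rw [normalizer_eq_top_iff.2 (inferInstance : (⊥ : Subgroup G).Normal)]; exact le_top
  obtain ⟨O₂, hO₂K, hKO₂, hpow₂, hq₂⟩ := lemP hS K Y ⊥ bot_le (hYX.trans hXK) hKY hbn
    (hXp.to_le hYX)
  obtain ⟨m, hm⟩ := IsPGroup.iff_card.1 hXp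
  have hcardY : ∀ w ∈ Y, w ^ (p ^ m) = 1 := by
    intro w hw
    have h1 : (⟨w, hYX hw⟩ : ↥X) ^ (p ^ m) = 1 := by
      rw [← hm]; exact pow_card_eq_one'
    exact congrArg Subtype.val h1
  refine ⟨O₁ ⊓ O₂, inf_le_left.trans hO₁K, ?_, ?_, ?_⟩
  · intro g hg
    have h1 := hKO₁ hg
    have h2 := hKO₂ hg
    rw [mem_normalizer_iff] at h1 h2 ⊢
    intro x
    rw [mem_inf, mem_inf, ← h1 x, ← h2 x]
  · rintro o ⟨ho₁, ho₂⟩
    obtain ⟨k₁, hk₁⟩ := hpow₁ o ho₁
    obtain ⟨k₂, hk₂⟩ := hpow₂ o ho₂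
    have hoK : o ∈ K := hO₁K ho₁
    refine ⟨k₁ + k₂ + m, ?_⟩
    have e1 : o ^ (p ^ (k₁ + k₂)) = (o ^ (p ^ k₁)) ^ (p ^ k₂) := by
      rw [← pow_mul, pow_add]
    have e2 : o ^ (p ^ (k₁ + k₂)) = (o ^ (p ^ k₂)) ^ (p ^ k₁) := by
      rw [← pow_mul, pow_add, mul_comm]
    have hc1 : ∀ x ∈ X, ⁅x, o ^ (p ^ (k₁ + k₂))⁆ ∈ Y := by
      rw [e1]
      exact comm_pow_mem (hKY (K.pow_mem hoK _)) hk₁ _
    have hc2 : ∀ y ∈ Y, y * o ^ (p ^ (k₁ + k₂)) = o ^ (p ^ (k₁ + k₂)) * y := by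
      intro y hy
      have h3 : o ^ (p ^ k₂) ∈ centralizer ({y} : Set G) := by
        rw [mem_centralizer_iff]
        intro z hz
        rw [Set.mem_singleton_iff] at hz
        subst hz
        have := hk₂ z hy
        rw [mem_bot, commutatorElement_eq_one_iff_mul_comm] at this
        exact this
      have h4 := (centralizer ({y} : Set G)).pow_mem h3 (p ^ k₁)
      rw [← e2] at h4
      exact (mem_centralizer_iff.1 h4) y rfl
    have h5 := pow_card_mem_centralizer hYX hcardY hc1 hc2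
    rw [← pow_mul, ← pow_add] at h5
    exact h5
  · intro g hg h1 h2
    exact ⟨hq₁ g hg h1, hq₂ g hg (by rw [h2])⟩

end LemP2'

end Cfsg.Agent.Helper10
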