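import Mathlib
import Cfsg.Agent.Helper10.KInfStab1
import Cfsg.Agent.Helper10.KInfNormal
import Cfsg.Agent.Helper14.Asym8

set_option autoImplicit false
set_option linter.unusedSectionVars false
set_option linter.unusedVariables false
set_option linter.style.haveILetI false

/-! # The subgroup `A_B` and the endgame lemma for the lower star family -/

namespace Cfsg.Agent.Helper10

open Subgroup Cfsg Cfsg.Agent.Helper26
open scoped commutatorElement

universe u

section AB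

variable {G : Type*} [Group G] (A B : Subgroup G)

/-- `A_B`: the elements `a` of the class-two group `A` with `[a, A]` centralized by `B`. -/
def abSub (hA2 : ⁅A, A⁆ ≤ centralizer (A : Set G)) : Subgroup G where
  carrier := {a | a ∈ A ∧ ∀ y ∈ A, ⁅a, y⁆ ∈ centralizer (B : Set G)}
  one_mem' := ⟨A.one_mem, fun y _ => by
    rw [commutatorElement_one_left]; exact Subgroup.one_mem _⟩
  mul_mem' := by
    rintro a a' ⟨ha, h1⟩ ⟨ha', h2⟩
    refine ⟨A.mul_mem ha ha', fun y hy => ?_⟩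
    rw [commutatorElement_mul_left']
    have hc : ⁅a', y⁆ ∈ centralizer (A : Set G) := hA2 (commutator_mem_commutator ha' hy)
    have e : a * ⁅a', y⁆ * a⁻¹ = ⁅a', y⁆ := by
      have := (mem_centralizer_iff.1 hc) a ha
      rw [this]; group
    rw [e]
    exact Subgroup.mul_mem _ (h2 y hy) (h1 y hy)
  inv_mem' := by
    rintro a ⟨ha, h1⟩
    refine ⟨A.inv_mem ha, fun y hy => ?_⟩
    have hc : ⁅a, y⁆ ∈ centralizer (A : Set G) := hA2 (commutator_mem_commutator ha hy)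
    have e : ⁅a⁻¹, y⁆ = ⁅a, y⁆⁻¹ := by
      have e1 : ⁅a⁻¹, y⁆ = a⁻¹ * ⁅a, y⁆⁻¹ * a := by
        simp only [commutatorElement_def]; group
      have hc' := (centralizer (A : Set G)).inv_mem hc
      have := (mem_centralizer_iff.1 hc') a ha
      rw [e1, mul_assoc, ← this]; group
    rw [e]
    exact Subgroup.inv_mem _ (h1 y hy)

variable {A B} (hA2 : ⁅A, A⁆ ≤ centralizer (A : Set G))

theorem mem_abSub {a : G} :
    a ∈ abSub A B hA2 ↔ a ∈ A ∧ ∀ y ∈ A, ⁅a, y⁆ ∈ centralizer (B : Set G) := Iff.rfl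

theorem abSub_le : abSub A B hA2 ≤ A := fun a ha => ha.1

theorem commutatorElement_conj_left (g a y : G) :
    ⁅g * a * g⁻¹, y⁆ = g * ⁅a, g⁻¹ * y * g⁆ * g⁻¹ := by
  simp only [commutatorElement_def]; group

/-- elements normalizing `A` and commuting with the relevant commutators normalize `A_B` -/
theorem abSub_conj_mem {g : G} (hgA : g ∈ normalizer (A : Set G))
    (hg : ∀ a ∈ abSub A B hA2, ∀ y ∈ A, g * ⁅a, y⁆ = ⁅a, y⁆ * g) :
    ∀ a ∈ abSub A B hA2, g * a * g⁻¹ ∈ abSub A B hA2 := by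
  intro a ha
  refine ⟨(mem_normalizer_iff.1 hgA a).1 ha.1, fun y hy => ?_⟩
  have hy' : g⁻¹ * y * g ∈ A := by
    have := (mem_normalizer_iff.1 (Subgroup.inv_mem _ hgA) y).1 hy
    simpa using this
  rw [commutatorElement_conj_left, hg a ha _ hy', mul_inv_cancel_right]
  exact ha.2 _ hy'

theorem le_normalizer_abSub {H : Subgroup G} (hHA : H ≤ normalizer (A : Set G))
    (hH : ∀ g ∈ H, ∀ a ∈ abSub A B hA2, ∀ y ∈ A, g * ⁅a, y⁆ = ⁅a, y⁆ * g) :
    H ≤ normalizer (abSub A B hA2 : Set G) :=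
  le_normalizer_of_conj_mem fun g hg => abSub_conj_mem hA2 (hHA hg) (hH g hg)

theorem B_le_normalizer_abSub (hBA : B ≤ normalizer (A : Set G)) :
    B ≤ normalizer (abSub A B hA2 : Set G) :=
  le_normalizer_abSub hA2 hBA fun g hg a ha y hy => (mem_centralizer_iff.1 (ha.2 y hy)) g hg

theorem A_le_normalizer_abSub : A ≤ normalizer (abSub A B hA2 : Set G) :=
  le_normalizer_abSub hA2 le_normalizer fun g hg a ha y hy =>
    (mem_centralizer_iff.1 (hA2 (commutator_mem_commutator ha.1 hy))) g hg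

theorem centralizer_le_normalizer_abSub {L : Subgroup G} (hLA : L ≤ normalizer (A : Set G))
    (hL : L ≤ centralizer ((A ⊓ centralizer (A : Set G) : Subgroup G) : Set G)) :
    L ≤ normalizer (abSub A B hA2 : Set G) :=
  le_normalizer_abSub hA2 hLA fun g hg a ha y hy => by
    have h1 : ⁅a, y⁆ ∈ A ⊓ centralizer (A : Set G) :=
      ⟨by rw [commutatorElement_def]
          exact A.mul_mem (A.mul_mem (A.mul_mem ha.1 hy) (A.inv_mem ha.1)) (A.inv_mem hy),
        hA2 (commutator_mem_commutator ha.1 hy)⟩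
    exact ((mem_centralizer_iff.1 (hL hg)) _ h1).symm

theorem commutator_abSub_le : ⁅abSub A B hA2, abSub A B hA2⁆ ≤ centralizer (B : Set G) := by
  rw [Subgroup.commutator_le]
  intro a ha a' ha'
  exact ha.2 a' ha'.1

/-- `Z(B) ∩ A ≤ A_B` -/
theorem center_inf_le_abSub [hAn : A.Normal] (hAB : A ≤ normalizer (B : Set G)) :
    (B ⊓ centralizer (B : Set G)) ⊓ A ≤ abSub A B hA2 := by
  rintro z ⟨⟨hzB, hzC⟩, hzA⟩
  refine ⟨hzA, fun y hy => ?_⟩
  rw [mem_centralizer_iff]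
  intro b hb
  -- `⁅b, y⁆ ∈ A ⊓ B`
  have hbyB : ⁅b, y⁆ ∈ B := by
    rw [commutatorElement_def]
    have : y * b⁻¹ * y⁻¹ ∈ B := (mem_normalizer_iff.1 (hAB hy) _).1 (B.inv_mem hb)
    have e : b * y * b⁻¹ * y⁻¹ = b * (y * b⁻¹ * y⁻¹) := by group
    rw [e]; exact B.mul_mem hb this
  have hbyA : ⁅b, y⁆ ∈ A := by
    rw [commutatorElement_def]
    have : b * y * b⁻¹ ∈ A := hAn.conj_mem y hy b
    exact A.mul_mem this (A.inv_mem hy)
  have hzy : ⁅z, y⁆ ∈ centralizer (A : Set G) := hA2 (commutator_mem_commutator hzA hy)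
  have h1 : b * z = z * b := ((mem_centralizer_iff.1 hzC) b hb)
  have h2 : ⁅z, ⁅b, y⁆⁆ = 1 := by
    rw [commutatorElement_eq_one_iff_mul_comm]
    exact ((mem_centralizer_iff.1 hzC) _ hbyB).symm
  have h3 : ⁅b, y⁆ * ⁅z, y⁆ = ⁅z, y⁆ * ⁅b, y⁆ := (mem_centralizer_iff.1 hzy) _ hbyA
  -- `b ⁅z, y⁆ b⁻¹ = ⁅z, b y b⁻¹⁆ = ⁅z, ⁅b, y⁆ y⁆ = ⁅z, y⁆`
  have h4 : b * ⁅z, y⁆ * b⁻¹ = ⁅b * z * b⁻¹, b * y * b⁻¹⁆ := by
    simp only [commutatorElement_def]; group
  have h5 : b * z * b⁻¹ = z := by rw [h1]; group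
  have h6 : b * y * b⁻¹ = ⁅b, y⁆ * y := by rw [commutatorElement_def]; group
  have h7 : ⁅z, ⁅b, y⁆ * y⁆ = ⁅z, y⁆ := by
    rw [commutatorElement_mul_right', h2, one_mul, h3]; group
  have h8 : b * ⁅z, y⁆ * b⁻¹ = ⁅z, y⁆ := by rw [h4, h5, h6, h7]
  calc b * ⁅z, y⁆ = (b * ⁅z, y⁆ * b⁻¹) * b := by group
    _ = ⁅z, y⁆ * b := by rw [h8]

end AB

section Endgame

variable {p : ℕ} [Fact p.Prime] {G : Type*} [Group G] [Finite G]

theorem isPGroup_of_pow_mem {O T : Subgroup G} (hT : IsPGroup p ↥T)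
    (h : ∀ o ∈ O, ∃ k : ℕ, o ^ (p ^ k) ∈ T) : IsPGroup p ↥O := by
  rintro ⟨o, ho⟩
  obtain ⟨k, hk⟩ := h o ho
  obtain ⟨j, hj⟩ := hT ⟨_, hk⟩
  refine ⟨k + j, Subtype.ext ?_⟩
  have := congrArg Subtype.val hj
  simp only [SubmonoidClass.coe_pow, OneMemClass.coe_one] at this ⊢
  rw [pow_add, pow_mul]
  exact this

/-- **Endgame**: if `M ⊴ G` acts on its `p`-residual-like subgroup `L` trivially modulo `O_p(G)`,
then every `p`-subgroup of `M` lies in `O_p(G)`. -/
theorem le_pCore_of_central_residual (M L B : Subgroup G) [hMn : M.Normal] (hLM : L ≤ M)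
    (hML : M ≤ normalizer (L : Set G)) (hpow : ∀ m ∈ M, ∃ k : ℕ, m ^ (p ^ k) ∈ L)
    (hcomm : ⁅L, M⁆ ≤ Cfsg.pCore p G) (hBM : B ≤ M) (hBp : IsPGroup p ↥B) :
    B ≤ Cfsg.pCore p G := by
  have hp : p.Prime := Fact.out
  haveI hLn : (L.subgroupOf M).Normal :=
    (Subgroup.normal_subgroupOf_iff_le_normalizer hLM).2 hML
  haveI hTn : ((Cfsg.pCore p G).subgroupOf M).Normal := by
    haveI : (Cfsg.pCore p G).Normal := Cfsg.Agent.Helper14.pCore_normal p
    exact Subgroup.Normal.subgroupOf inferInstance M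
  have hTp : IsPGroup p ↥((Cfsg.pCore p G).subgroupOf M) :=
    (Cfsg.Agent.Helper14.pCore_isPGroup p).comap_subtype
  have hQp : IsPGroup p (↥M ⧸ L.subgroupOf M) := by
    intro x
    induction x using QuotientGroup.induction_on with
    | H m =>
      obtain ⟨k, hk⟩ := hpow m m.2
      refine ⟨k, ?_⟩
      rw [← QuotientGroup.mk_pow, QuotientGroup.eq_one_iff, Subgroup.mem_subgroupOf]
      simpa using hk
  obtain ⟨P, hP⟩ := (hBp.comap_subtype (H := B) (K := M) ).exists_le_sylow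
  have hTP : (Cfsg.pCore p G).subgroupOf M ≤ (P : Subgroup ↥M) := hTp.le_sylow_of_normal P
  have hLP : L.subgroupOf M ≤ normalizer ((P : Subgroup ↥M) : Set ↥M) := by
    apply le_normalizer_of_conj_mem
    intro l hl x hx
    have h1 : ⁅l, x⁆ ∈ (Cfsg.pCore p G).subgroupOf M := by
      rw [Subgroup.mem_subgroupOf]
      apply hcomm
      have : ((⁅l, x⁆ : ↥M) : G) = ⁅(l : G), (x : G)⁆ := by
        simp [commutatorElement_def]
      rw [this]
      exact commutator_mem_commutator (Subgroup.mem_subgroupOf.1 hl) x.2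
    have e : l * x * l⁻¹ = ⁅l, x⁆ * x := by rw [commutatorElement_def]; group
    rw [e]
    exact (P : Subgroup ↥M).mul_mem (hTP h1) hx
  have hsup : L.subgroupOf M ⊔ (P : Subgroup ↥M) = ⊤ := by
    rw [← Subgroup.index_eq_one]
    have h1 : (L.subgroupOf M ⊔ (P : Subgroup ↥M)).index ∣ (L.subgroupOf M).index :=
      Subgroup.index_dvd_of_le le_sup_left
    have h2 : (L.subgroupOf M ⊔ (P : Subgroup ↥M)).index ∣ (P : Subgroup ↥M).index :=
      Subgroup.index_dvd_of_le le_sup_right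
    obtain ⟨k, hk⟩ := IsPGroup.iff_card.1 hQp
    have h3 : (L.subgroupOf M).index = p ^ k := by
      rw [Subgroup.index_eq_card]; exact hk
    have h4 : ((L.subgroupOf M ⊔ (P : Subgroup ↥M)).index).Coprime p := by
      apply Nat.Coprime.coprime_dvd_left h2
      exact ((Nat.Prime.coprime_iff_not_dvd hp).mpr P.not_dvd_index).symm
    rw [h3] at h1
    exact Nat.Coprime.eq_one_of_dvd (Nat.Coprime.pow_right k h4) h1
  have hPn : ((P : Subgroup ↥M)).Normal := by
    rw [← normalizer_eq_top_iff, eq_top_iff, ← hsup]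
    exact sup_le hLP le_normalizer
  haveI hPc : ((P : Subgroup ↥M)).Characteristic := Sylow.characteristic_of_normal P hPn
  have hPG : ((P : Subgroup ↥M).map M.subtype).Normal :=
    ConjAct.normal_of_characteristic_of_normal
  have hPle : (P : Subgroup ↥M).map M.subtype ≤ Cfsg.pCore p G :=
    Cfsg.Agent.Helper14.le_pCore p hPG (P.2.map _)
  intro b hb
  apply hPle
  exact ⟨⟨b, hBM hb⟩, hP (Subgroup.mem_subgroupOf.2 hb), rfl⟩

end Endgame

end Cfsg.Agent.Helper10
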