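import Mathlib
import Cfsg.Agent.Helper10.KInfStab2
import Cfsg.Agent.Helper14.Kieler

set_option autoImplicit false
set_option linter.unusedSectionVars false
set_option linter.unusedVariables false
set_option linter.style.haveILetI false

/-! # Normality of the K-infinity subgroups in constrained groups all of whose sections are
`p`-stable -/

namespace Cfsg.Agent.Helper10

open Subgroup Cfsg Cfsg.Agent.Helper26
open scoped commutatorElement

universe u

theorem closure_normal_of_conj_invariant {G : Type*} [Group G] {s : Set G}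
    (h : ∀ x ∈ s, ∀ g : G, g * x * g⁻¹ ∈ s) : (closure s).Normal := by
  constructor
  intro n hn g
  induction hn using Subgroup.closure_induction with
  | mem x hx => exact subset_closure (h x hx g)
  | one => simp
  | mul x y _ _ hx hy =>
    have e : g * (x * y) * g⁻¹ = (g * x * g⁻¹) * (g * y * g⁻¹) := by group
    rw [e]; exact mul_mem hx hy
  | inv x _ hx =>
    have e : g * x⁻¹ * g⁻¹ = (g * x * g⁻¹)⁻¹ := by group
    rw [e]; exact inv_mem hx

section Bounds

variable {p : ℕ} [Fact p.Prime] {G : Type u} [Group G] [Finite G] (hS : SecStab p G)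
  (A : Subgroup G) [hAn : A.Normal] (hAT : A ≤ Cfsg.pCore p G)
  (hcrit : ⁅A, Cfsg.pCore p G⁆ ≤ A ⊓ centralizer (A : Set G))
  (hCA : centralizer (A : Set G) ≤ Cfsg.pCore p G)

theorem top_le_normalizer_of_normal (X : Subgroup G) (hX : X.Normal) :
    (⊤ : Subgroup G) ≤ normalizer (X : Set G) := by
  rw [normalizer_eq_top_iff.2 hX]

include hS hAT hCA in
/-- a subgroup acting quadratically on `A` lies in `O_p(G)` -/
theorem quad_le_pCore (D : Subgroup G) (hD : ⁅⁅A, D⁆, D⁆ = ⊥) : D ≤ Cfsg.pCore p G := by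
  have hTp : IsPGroup p ↥(Cfsg.pCore p G) := Cfsg.Agent.Helper14.pCore_isPGroup p
  obtain ⟨O, -, hOn, hOpow, hOq⟩ := lemP hS ⊤ A ⊥ bot_le le_top
    (top_le_normalizer_of_normal A hAn) (top_le_normalizer_of_normal ⊥ inferInstance)
    (hTp.to_le hAT)
  have hOnormal : O.Normal := normalizer_eq_top_iff.1 (top_le_iff.1 hOn)
  have hOp : IsPGroup p ↥O := by
    apply isPGroup_of_pow_mem hTp
    intro o ho
    obtain ⟨k, hk⟩ := hOpow o ho
    refine ⟨k, hCA ?_⟩
    rw [mem_centralizer_iff]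
    intro x hx
    have := hk x hx
    rw [mem_bot, commutatorElement_eq_one_iff_mul_comm] at this
    exact this
  have hOT : O ≤ Cfsg.pCore p G := Cfsg.Agent.Helper14.le_pCore p hOnormal hOp
  intro d hd
  apply hOT
  apply hOq d (mem_top d)
  rw [← hD]
  exact commutator_mono (commutator_mono le_rfl (zpowers_le.2 hd)) (zpowers_le.2 hd)

include hS hAT hCA in
/-- a subgroup acting quadratically on `A / Z(A)` and on `Z(A)` lies in `O_p(G)` -/
theorem twoLayer_le_pCore (C : Subgroup G)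
    (h1 : ⁅⁅A, C⁆, C⁆ ≤ A ⊓ centralizer (A : Set G))
    (h2 : ⁅⁅A ⊓ centralizer (A : Set G), C⁆, C⁆ = ⊥) : C ≤ Cfsg.pCore p G := by
  have hTp : IsPGroup p ↥(Cfsg.pCore p G) := Cfsg.Agent.Helper14.pCore_isPGroup p
  have hZn : (A ⊓ centralizer (A : Set G)).Normal := Subgroup.normal_inf_normal _ _
  obtain ⟨O, -, hOn, hOpow, hOq⟩ := lemP2 hS ⊤ A (A ⊓ centralizer (A : Set G)) inf_le_left le_top
    (top_le_normalizer_of_normal A hAn) (top_le_normalizer_of_normal _ hZn) (hTp.to_le hAT)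
  have hOnormal : O.Normal := normalizer_eq_top_iff.1 (top_le_iff.1 hOn)
  have hOp : IsPGroup p ↥O := by
    apply isPGroup_of_pow_mem hTp
    intro o ho
    obtain ⟨k, hk⟩ := hOpow o ho
    exact ⟨k, hCA hk⟩
  have hOT : O ≤ Cfsg.pCore p G := Cfsg.Agent.Helper14.le_pCore p hOnormal hOp
  intro c hc
  apply hOT
  apply hOq c (mem_top c)
  · refine le_trans ?_ h1
    exact commutator_mono (commutator_mono le_rfl (zpowers_le.2 hc)) (zpowers_le.2 hc)
  · rw [eq_bot_iff, ← h2]
    exact commutator_mono (commutator_mono le_rfl (zpowers_le.2 hc)) (zpowers_le.2 hc)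

include hS hAT hCA in
/-- (I) -/
theorem testI_le_pCore (C : Subgroup G) (hC : C ∈ classTwoSubgroups G)
    (hAC : A ≤ normalizer (C : Set G)) (h1 : ⁅A, ⁅C, C⁆⁆ = ⊥)
    (h2 : ⁅⁅A ⊓ centralizer (A : Set G), C⁆, C⁆ = ⊥) : C ≤ Cfsg.pCore p G := by
  apply twoLayer_le_pCore hS A hAT hCA C _ h2
  have h3 : ⁅A, C⁆ ≤ C := commutator_le_right_of_le_normalizer hAC
  have h4 : ⁅⁅A, C⁆, C⁆ ≤ ⁅C, C⁆ := commutator_mono h3 le_rfl
  have h5 : ⁅⁅A, C⁆, C⁆ ≤ A :=
    (commutator_mono (Subgroup.commutator_le_left A C) le_rfl).trans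
      (Subgroup.commutator_le_left A C)
  have h6 : ⁅C, C⁆ ≤ centralizer (A : Set G) := by
    rw [← commutator_eq_bot_iff_le_centralizer, commutator_comm]
    exact h1
  exact le_inf h5 (h4.trans h6)

include hS hAT hCA in
/-- (III) -/
theorem upper_le_pCore (R B : Subgroup G) (hAR : A ≤ R) (hB : B ∈ kUpperStarFamily R) :
    B ≤ Cfsg.pCore p G := by
  apply quad_le_pCore hS A hAT hCA
  rw [commutator_eq_bot_iff_le_centralizer, commutator_comm]
  exact ((commutator_mono le_rfl hAR).trans hB.2).trans inf_le_right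

include hS hAT hcrit hCA in
/-- (II) -/
theorem lower_le_pCore (R B : Subgroup G) (hAR : A ≤ R) (hB : B ∈ kLowerStarFamily R)
    (hBp : IsPGroup p ↥B) : B ≤ Cfsg.pCore p G := by
  have hp : p.Prime := Fact.out
  haveI hTn : (Cfsg.pCore p G).Normal := Cfsg.Agent.Helper14.pCore_normal p
  have hTp : IsPGroup p ↥(Cfsg.pCore p G) := Cfsg.Agent.Helper14.pCore_isPGroup p
  have hAcl : A ∈ classTwoSubgroups G := A_classTwo A (Cfsg.pCore p G) hAT hcrit
  have hA2 : ⁅A, A⁆ ≤ centralizer (A : Set G) := hAcl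
  haveI hZn : (A ⊓ centralizer (A : Set G)).Normal := Subgroup.normal_inf_normal _ _
  have hAB : A ≤ normalizer (B : Set G) := hAR.trans hB.2.1
  have hBA : B ≤ normalizer (A : Set G) := le_normalizer_of_normal' B A
  have hZZ := ZA_self_commutator A
  -- Step 0: `B` acts quadratically on `Z(A)`
  have hstarZ := hB.2.2 (A ⊓ centralizer (A : Set G))
    (by
      show ⁅A ⊓ centralizer (A : Set G), A ⊓ centralizer (A : Set G)⁆ ≤ _
      rw [hZZ]; exact bot_le)
    (inf_le_left.trans hAR) (le_normalizer_of_normal' B _)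
    (by rw [hZZ]; exact commutator_bot' B)
    (by
      rw [eq_bot_iff, ← hZZ]
      exact commutator_mono (Subgroup.commutator_le_right _ _) le_rfl)
  have h2 : ⁅⁅A ⊓ centralizer (A : Set G), B⁆, B⁆ = ⊥ := by
    rw [commutator_eq_bot_iff_le_centralizer, commutator_comm]
    exact hstarZ.trans inf_le_right
  -- Step 1: the normal closure of `B` acts on `Z(A)` as a `p`-group
  obtain ⟨OZ, -, hOZn, hOZpow, hOZq⟩ := lemP hS ⊤ (A ⊓ centralizer (A : Set G)) ⊥ bot_le le_top
    (top_le_normalizer_of_normal _ hZn) (top_le_normalizer_of_normal ⊥ inferInstance)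
    (hTp.to_le (inf_le_left.trans hAT))
  haveI hOZnormal : OZ.Normal := normalizer_eq_top_iff.1 (top_le_iff.1 hOZn)
  have hBOZ : B ≤ OZ := by
    intro b hb
    apply hOZq b (mem_top b)
    rw [← h2]
    exact commutator_mono (commutator_mono le_rfl (zpowers_le.2 hb)) (zpowers_le.2 hb)
  set M := normalClosure (B : Set G) with hM
  have hBM : B ≤ M := le_normalClosure
  have hMOZ : M ≤ OZ := normalClosure_le_normal hBOZ
  haveI hMn : M.Normal := normalClosure_normal
  set L := closure {x : G | x ∈ M ∧ (orderOf x).Coprime p} with hL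
  have hLM : L ≤ M := (closure_le _).2 fun x hx => hx.1
  haveI hLn : L.Normal := by
    apply closure_normal_of_conj_invariant
    rintro x ⟨hxM, hxo⟩ g
    refine ⟨hMn.conj_mem x hxM g, ?_⟩
    have : orderOf (g * x * g⁻¹) = orderOf x := by
      have := orderOf_injective (MulAut.conj g).toMonoidHom (MulAut.conj g).injective x
      simpa using this
    show (orderOf (g * x * g⁻¹)).Coprime p
    rw [this]; exact hxo
  have hLZ : L ≤ centralizer ((A ⊓ centralizer (A : Set G) : Subgroup G) : Set G) := by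
    rw [hL, closure_le]
    rintro x ⟨hxM, hxo⟩
    obtain ⟨k, hk⟩ := hOZpow x (hMOZ hxM)
    have h3 : x ^ (p ^ k) ∈ centralizer ((A ⊓ centralizer (A : Set G) : Subgroup G) : Set G) := by
      rw [mem_centralizer_iff]
      intro z hz
      have := hk z hz
      rw [mem_bot, commutatorElement_eq_one_iff_mul_comm] at this
      exact this
    have hxo' : (orderOf x).Coprime p := hxo
    obtain ⟨m, hm⟩ := exists_pow_eq_self_of_coprime (x := x) (n := p ^ k)
      (Nat.Coprime.pow_left k hxo'.symm)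
    rw [SetLike.mem_coe, ← hm]
    exact Subgroup.pow_mem _ h3 m
  have hLpow : ∀ m ∈ M, ∃ k : ℕ, m ^ (p ^ k) ∈ L := by
    intro m hm
    obtain ⟨e, n', hn', heq⟩ := Nat.exists_eq_pow_mul_and_not_dvd (orderOf_pos m).ne' p hp.ne_one
    refine ⟨e, subset_closure ⟨M.pow_mem hm _, ?_⟩⟩
    have h3 : orderOf (m ^ (p ^ e)) = n' := by
      rw [orderOf_pow_of_dvd (pow_ne_zero e hp.ne_zero) (Dvd.intro _ heq.symm), heq,
        Nat.mul_div_cancel_left _ (pow_pos hp.pos e)]
    show (orderOf (m ^ (p ^ e))).Coprime p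
    rw [h3]
    exact ((Nat.Prime.coprime_iff_not_dvd hp).2 hn').symm
  -- Step 2: `Z(B) ≤ O_p(G)`
  have hZB : B ⊓ centralizer (B : Set G) ≤ Cfsg.pCore p G := by
    apply quad_le_pCore hS A hAT hCA
    rw [eq_bot_iff]
    have h3 : ⁅A, B ⊓ centralizer (B : Set G)⁆ ≤ B :=
      (commutator_mono le_rfl inf_le_left).trans (commutator_le_right_of_le_normalizer hAB)
    have h4 : ⁅B, B ⊓ centralizer (B : Set G)⁆ = ⊥ := by
      rw [commutator_comm, commutator_eq_bot_iff_le_centralizer]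
      exact inf_le_right
    rw [← h4]
    exact commutator_mono h3 le_rfl
  -- Step 3: the subgroup `A_B`
  set AB := abSub A B hA2 with hABdef
  have hABle : AB ≤ A := abSub_le hA2
  have hABcl : AB ∈ classTwoSubgroups G := by
    show ⁅AB, AB⁆ ≤ centralizer (AB : Set G)
    exact ((commutator_mono hABle hABle).trans hA2).trans
      (Subgroup.centralizer_le (by exact_mod_cast hABle))
  have hBAB : B ≤ normalizer (AB : Set G) := B_le_normalizer_abSub hA2 hBA
  have hc1 : ⁅B, ⁅AB, AB⁆⁆ = ⊥ := by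
    rw [commutator_comm, commutator_eq_bot_iff_le_centralizer]
    exact commutator_abSub_le hA2
  have hc2 : ⁅⁅B ⊓ centralizer (B : Set G), AB⁆, AB⁆ = ⊥ := by
    have h3 : ⁅B ⊓ centralizer (B : Set G), AB⁆ ≤ A ⊓ centralizer (A : Set G) := by
      rw [commutator_comm]
      exact (commutator_mono hABle hZB).trans hcrit
    have h4 : ⁅A ⊓ centralizer (A : Set G), A⁆ = ⊥ := by
      rw [commutator_eq_bot_iff_le_centralizer]; exact inf_le_right
    rw [eq_bot_iff, ← h4]
    exact commutator_mono h3 hABle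
  have hstar := hB.2.2 AB hABcl (hABle.trans hAR) hBAB hc1 hc2
  have hq2 : ⁅⁅AB, B⁆, B⁆ = ⊥ := by
    rw [commutator_eq_bot_iff_le_centralizer, commutator_comm]
    exact hstar.trans inf_le_right
  have hq1 : ⁅⁅A, B⁆, B⁆ ≤ AB := by
    have h3 : ⁅A, B⁆ ≤ B := commutator_le_right_of_le_normalizer hAB
    have h4 : ⁅⁅A, B⁆, B⁆ ≤ ⁅B, B⁆ := commutator_mono h3 le_rfl
    have h5 : ⁅⁅A, B⁆, B⁆ ≤ A :=
      (commutator_mono (Subgroup.commutator_le_left A B) le_rfl).trans
        (Subgroup.commutator_le_left A B)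
    have h6 : ⁅B, B⁆ ≤ B := by
      rw [Subgroup.commutator_le]
      intro x hx y hy
      rw [commutatorElement_def]
      exact B.mul_mem (B.mul_mem (B.mul_mem hx hy) (B.inv_mem hx)) (B.inv_mem hy)
    have h7 : ⁅B, B⁆ ≤ centralizer (B : Set G) := hB.1
    exact (le_inf (le_inf (h4.trans h6) (h4.trans h7)) h5).trans
      (center_inf_le_abSub hA2 hAB)
  -- Step 4: stability in `H = A L B`
  set H := A ⊔ L ⊔ B with hH
  have hAH : A ≤ H := le_sup_left.trans le_sup_left
  have hLH : L ≤ H := le_sup_right.trans le_sup_left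
  have hBH : B ≤ H := le_sup_right
  have hHA : H ≤ normalizer (A : Set G) := le_normalizer_of_normal' H A
  have hHAB : H ≤ normalizer (AB : Set G) :=
    sup_le (sup_le (A_le_normalizer_abSub hA2)
      (centralizer_le_normalizer_abSub hA2 (le_normalizer_of_normal' L A) hLZ)) hBAB
  obtain ⟨O, hOH, hHO, hOpow, hOq⟩ := lemP2 hS H A AB hABle hAH hHA hHAB (hTp.to_le hAT)
  have hBO : B ≤ O := by
    intro b hb
    apply hOq b (hBH hb)
    · refine le_trans ?_ hq1
      exact commutator_mono (commutator_mono le_rfl (zpowers_le.2 hb)) (zpowers_le.2 hb)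
    · rw [eq_bot_iff, ← hq2]
      exact commutator_mono (commutator_mono le_rfl (zpowers_le.2 hb)) (zpowers_le.2 hb)
  -- Step 5: `[B, L] ≤ O_p(G)`
  have hL₀p : IsPGroup p ↥(O ⊓ L) := by
    apply isPGroup_of_pow_mem hTp
    intro o ho
    obtain ⟨k, hk⟩ := hOpow o ho.1
    exact ⟨k, hCA hk⟩
  have hLL₀ : L ≤ normalizer ((O ⊓ L : Subgroup G) : Set G) := by
    intro l hl
    have h3 := hHO (hLH hl)
    have h4 : l ∈ normalizer (L : Set G) := le_normalizer hl
    rw [mem_normalizer_iff] at h3 h4 ⊢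
    intro x
    rw [mem_inf, mem_inf, ← h3 x, ← h4 x]
  have hL₀T : O ⊓ L ≤ Cfsg.pCore p G := by
    have h3 : O ⊓ L ≤ Cfsg.pCoreOf p L := Cfsg.Agent.Helper14.le_pCoreOf p inf_le_right hLL₀ hL₀p
    have h4 : Cfsg.pCoreOf p L ≤ Cfsg.pCoreOf p (⊤ : Subgroup G) :=
      Cfsg.Agent.Helper14.pCoreOf_le_pCoreOf_of_normal le_top (top_le_normalizer_of_normal L hLn)
    rw [Cfsg.Agent.Helper14.pCoreOf_top] at h4
    exact h3.trans h4
  have hBL : ⁅L, B⁆ ≤ Cfsg.pCore p G := by
    rw [Subgroup.commutator_le]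
    intro l hl b hb
    apply hL₀T
    constructor
    · have h3 : l * b * l⁻¹ ∈ O := (mem_normalizer_iff.1 (hHO (hLH hl)) b).1 (hBO hb)
      have e : ⁅l, b⁆ = (l * b * l⁻¹) * b⁻¹ := by rw [commutatorElement_def]
      rw [e]
      exact O.mul_mem h3 (O.inv_mem (hBO hb))
    · have h3 : b * l⁻¹ * b⁻¹ ∈ L := hLn.conj_mem _ (L.inv_mem hl) b
      have e : ⁅l, b⁆ = l * (b * l⁻¹ * b⁻¹) := by rw [commutatorElement_def]; group
      rw [e]
      exact L.mul_mem hl h3
  have hBc : B ≤ centMod L (Cfsg.pCore p G) := le_centMod_iff.2 hBL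
  have hMc : M ≤ centMod L (Cfsg.pCore p G) := normalClosure_le_normal hBc
  have hML : ⁅L, M⁆ ≤ Cfsg.pCore p G := le_centMod_iff.1 hMc
  -- Step 6: the endgame
  exact le_pCore_of_central_residual M L B hLM (le_normalizer_of_normal' M L) hLpow hML hBM hBp

end Bounds

section SeqBounds

variable {G : Type*} [Group G] (A T S : Subgroup G) [hAn : A.Normal]
  (hAT : A ≤ T) (hTS : T ≤ S) (hcrit : ⁅A, T⁆ ≤ A ⊓ centralizer (A : Set G))
  (hI : ∀ C : Subgroup G, C ∈ classTwoSubgroups G → C ≤ S → A ≤ normalizer (C : Set G) →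
    ⁅A, ⁅C, C⁆⁆ = ⊥ → ⁅⁅A ⊓ centralizer (A : Set G), C⁆, C⁆ = ⊥ → C ≤ T)
  (hII : ∀ R B : Subgroup G, A ≤ R → B ∈ kLowerStarFamily R → B ≤ S → B ≤ T)
  (hIII : ∀ R B : Subgroup G, A ≤ R → B ∈ kUpperStarFamily R → B ≤ S → B ≤ T)

include hAT hTS hcrit hI in
theorem A_mem_lower_gen (R : Subgroup G) (hRS : R ≤ S) : A ∈ kLowerStarFamily R := by
  refine ⟨A_classTwo A T hAT hcrit, le_normalizer_of_normal' R A, ?_⟩
  intro C hC hCR hAC h1 h2
  have hCT : C ≤ T := hI C hC (hCR.trans hRS) hAC h1 h2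
  exact (commutator_mono le_rfl hCT).trans hcrit

include hAT hTS hcrit hI hII hIII in
theorem seq_bounds_gen (n : ℕ) :
    A ≤ oddQ S n ∧ A ≤ evenQ S n ∧ evenQ S n ≤ T ∧ oddQ S (n + 1) ≤ T := by
  have hAS : A ≤ S := hAT.trans hTS
  have hstep : ∀ n, A ≤ oddQ S n → (A ≤ evenQ S n ∧ evenQ S n ≤ T ∧ A ≤ oddQ S (n + 1) ∧
      oddQ S (n + 1) ≤ T) := by
    intro n hn
    have h1 : A ≤ evenQ S n :=
      le_sSup ⟨A_mem_lower_gen A T S hAT hTS hcrit hI _ (oddQ_le S n), hAS⟩
    have h2 : evenQ S n ≤ T := by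
      apply sSup_le
      rintro B ⟨hB, hBS⟩
      exact hII _ B hn hB hBS
    have h3 : A ≤ oddQ S (n + 1) :=
      le_sSup ⟨A_mem_upper A T hAT hcrit _ h2, hAS⟩
    have h4 : oddQ S (n + 1) ≤ T := by
      apply sSup_le
      rintro B ⟨hB, hBS⟩
      exact hIII _ B h1 hB hBS
    exact ⟨h1, h2, h3, h4⟩
  have hall : ∀ n, A ≤ oddQ S n := by
    intro n
    induction n with
    | zero => exact hAS
    | succ n ih => exact (hstep n ih).2.2.1
  obtain ⟨h1, h2, _, h4⟩ := hstep n (hall n)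
  exact ⟨hall n, h1, h2, h4⟩

end SeqBounds

section Main

variable {G : Type u} [Group G] [Finite G] {p : ℕ} [Fact p.Prime]

/-- normality of the K-infinity subgroups from the bounds on the K-sequence -/
theorem kInf_normal_of_bounds (S : Sylow p G)
    (hb : ∀ n : ℕ, evenQ (S : Subgroup G) n ≤ Cfsg.pCore p G ∧
      oddQ (S : Subgroup G) (n + 1) ≤ Cfsg.pCore p G) :
    (Cfsg.inducedFunctor kInfLower (S : Subgroup G)).Normal ∧
      (Cfsg.inducedFunctor kInfUpper (S : Subgroup G)).Normal := by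
  have hTp : IsPGroup p ↥(Cfsg.pCore p G) := Cfsg.Agent.Helper14.pCore_isPGroup p
  have hTn : (Cfsg.pCore p G).Normal := Cfsg.Agent.Helper14.pCore_normal p
  have hTS : Cfsg.pCore p G ≤ (S : Subgroup G) := Cfsg.Agent.Helper14.pCore_le_sylow p S
  have hQ : ∀ n : ℕ, kSeqEven ↥(S : Subgroup G) n ≤ (Cfsg.pCore p G).subgroupOf (S : Subgroup G) ∧
      kSeqOdd ↥(S : Subgroup G) (n + 1) ≤ (Cfsg.pCore p G).subgroupOf (S : Subgroup G) := by
    intro n
    constructor
    · show _ ≤ (Cfsg.pCore p G).comap (S : Subgroup G).subtype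
      rw [← Subgroup.map_le_iff_le_comap, map_kSeqEven]
      exact (hb n).1
    · show _ ≤ (Cfsg.pCore p G).comap (S : Subgroup G).subtype
      rw [← Subgroup.map_le_iff_le_comap, map_kSeqOdd]
      exact (hb n).2
  obtain ⟨hL, hU⟩ := kInf_map_eq ((Cfsg.pCore p G).subgroupOf (S : Subgroup G)) hQ
  have hRp : IsPGroup p ↥((Cfsg.pCore p G).subgroupOf (S : Subgroup G)) :=
    S.2.to_subgroup _
  have hmap : ((Cfsg.pCore p G).subgroupOf (S : Subgroup G)).map (S : Subgroup G).subtype =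
      Cfsg.pCore p G := Subgroup.map_subgroupOf_eq_of_le hTS
  constructor
  · have hW : Cfsg.IsCharPFunctor.{u} p kInfLower := kInfLower_isCharPFunctor
    have e1 : Cfsg.inducedFunctor kInfLower (S : Subgroup G) =
        Cfsg.inducedFunctor kInfLower (Cfsg.pCore p G) := by
      have h1 := iF_map_subtype hW (S : Subgroup G) hRp
      rw [hmap] at h1
      rw [← h1]
      unfold Cfsg.inducedFunctor
      rw [hL]
    rw [e1]
    exact iF_normal_of_normal hW hTp hTn
  · have hW : Cfsg.IsCharPFunctor.{u} p kInfUpper := kInfUpper_isCharPFunctor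
    have e1 : Cfsg.inducedFunctor kInfUpper (S : Subgroup G) =
        Cfsg.inducedFunctor kInfUpper (Cfsg.pCore p G) := by
      have h1 := iF_map_subtype hW (S : Subgroup G) hRp
      rw [hmap] at h1
      rw [← h1]
      unfold Cfsg.inducedFunctor
      rw [hU]
    rw [e1]
    exact iF_normal_of_normal hW hTp hTn

/-- **Normality of the K-infinity subgroups** in a constrained group all of whose sections are
`p`-stable. -/
theorem kInf_normal_of_secStab (hS : SecStab p G) (S : Sylow p G)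
    (hcon : centralizer ((Cfsg.pCore p G : Subgroup G) : Set G) ≤ Cfsg.pCore p G) :
    (Cfsg.inducedFunctor kInfLower (S : Subgroup G)).Normal ∧
      (Cfsg.inducedFunctor kInfUpper (S : Subgroup G)).Normal := by
  have hTp : IsPGroup p ↥(Cfsg.pCore p G) := Cfsg.Agent.Helper14.pCore_isPGroup p
  have hTn : (Cfsg.pCore p G).Normal := Cfsg.Agent.Helper14.pCore_normal p
  have hTS : Cfsg.pCore p G ≤ (S : Subgroup G) := Cfsg.Agent.Helper14.pCore_le_sylow p S
  obtain ⟨A, hAn, hAT, hcrit, hcent, hCA⟩ := exists_critical (Cfsg.pCore p G) hTp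
    (fun N hN hNp => Cfsg.Agent.Helper14.le_pCore p hN hNp) hcon
  apply kInf_normal_of_bounds S
  intro n
  have hb := seq_bounds_gen A (Cfsg.pCore p G) (S : Subgroup G) hAT hTS hcrit
    (fun C hC _ hAC h1 h2 => testI_le_pCore hS A hAT hCA C hC hAC h1 h2)
    (fun R B hAR hB hBS => lower_le_pCore hS A hAT hcrit hCA R B hAR hB (S.2.to_le hBS))
    (fun R B hAR hB _ => upper_le_pCore hS A hAT hCA R B hAR hB) n
  exact ⟨hb.2.2.1, hb.2.2.2⟩

end Main

end Cfsg.Agent.Helper10
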