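import Mathlib
import Cfsg.Agent.Helper10.KInfStab3
import Cfsg.Agent.Helper15.ZJStrongly
import Cfsg.Agent.S1969

set_option autoImplicit false
set_option linter.unusedSectionVars false
set_option linter.unusedVariables false
set_option linter.style.haveILetI false

/-! # Control of strong fusion by a functor that is normal in the constrained groups with
`p`-stable sections -/

namespace Cfsg.Agent.Helper10

open Subgroup Cfsg Cfsg.Agent.Helper26
open scoped commutatorElement

universe u

variable {p : ℕ} [Fact p.Prime]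

/-- `p`-stability (normalizer form) of all sections `K / R` gives `SecStab` -/
theorem secStab_of_sections {G : Type u} [Group G]
    (hst : ∀ (K R : Subgroup G) [hR : (R.subgroupOf K).Normal],
      Cfsg.IsNormalizerPStable p (↥K ⧸ R.subgroupOf K)) : SecStab p G := by
  intro Z _ hZ
  obtain ⟨K, R, hR, ⟨e⟩⟩ := hZ.exists_equiv
  exact StabHyp.of_equiv (Cfsg.Agent.Helper15.stabHyp_of_isNormalizerPStable (hst K R)) e.symm

/-- a functor that is normal in all constrained groups with `p`-stable sections controls strong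
fusion in every group with `p`-stable sections -/
theorem controls_of_secStab_normal (W : ∀ (Q : Type u) [Group Q], Subgroup Q)
    (hW : Cfsg.IsCharPFunctor.{u} p W)
    (hnorm : ∀ (Y : Type u) [Group Y] [Finite Y], SecStab p Y →
      centralizer ((Cfsg.pCore p Y : Subgroup Y) : Set Y) ≤ Cfsg.pCore p Y →
      ∀ T : Sylow p Y, (Cfsg.inducedFunctor W (T : Subgroup Y)).Normal)
    {G : Type u} [Group G] [Finite G] (hS : SecStab p G) (S : Sylow p G) :
    Cfsg.ControlsStrongFusion p (Cfsg.inducedFunctor W (S : Subgroup G)) := by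
  classical
  have h𝓦 : ∀ W' ∈ ({W} : Set (∀ (Q : Type u) [Group Q], Subgroup Q)),
      Cfsg.IsCharPFunctor.{u} p W' := by
    intro W' hW'
    rw [Set.mem_singleton_iff] at hW'
    rw [hW']; exact hW
  have Hc : ∀ (Y : Type u) [Group Y] [Finite Y], SecStab p Y →
      Subgroup.centralizer ((Cfsg.pCore p Y : Subgroup Y) : Set Y) ≤ Cfsg.pCore p Y →
      Claim p ({W} : Set (∀ (Q : Type u) [Group Q], Subgroup Q)) Y := by
    intro Y _ _ hY hcent
    intro T A g hA hgA
    have hn := hnorm Y hY hcent T
    refine ⟨g, FChain.single (W := Cfsg.inducedFunctor W)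
      ⟨W, rfl, rfl⟩ ⟨Subgroup.mem_top g, ?_⟩ hA hgA, fun _ _ => rfl⟩
    rw [Subgroup.normalizer_eq_top_iff.2 hn]
    exact Subgroup.mem_top g
  have h2 := claim_all h𝓦 (fun Y _ => SecStab p Y)
    (fun Y _ hY M => hY.of_isSec (IsSec.refl.subgroup M))
    (fun Y _ hY N _ => hY.of_isSec (IsSec.refl.quotient N)) Hc
    (Nat.card G) G rfl hS
  refine ⟨S, iF_le _, ?_⟩
  intro A hA
  refine ⟨hA, ?_⟩
  intro g hgA
  obtain ⟨z, hz, hzA⟩ := h2 S A g hA hgA
  refine ⟨z, ?_, fun a ha => (hzA a ha).symm⟩
  have key : ∀ z' : G, FChain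
      (iFam ({W} : Set (∀ (Q : Type u) [Group Q], Subgroup Q)) G) ⊤
      (S : Subgroup G) A z' →
      z' ∈ Subgroup.normalizer ((Cfsg.inducedFunctor W (S : Subgroup G) : Subgroup G) : Set G) := by
    intro z' hch
    induction hch with
    | nil _ => exact Subgroup.one_mem _
    | step z'' m W' _ hW' hm _ ih =>
      obtain ⟨W'', hW'', rfl⟩ := hW'
      rw [Set.mem_singleton_iff] at hW''
      subst hW''
      exact Subgroup.mul_mem _ hm.2 ih
  exact key z hz

theorem kInfLower_controls {G : Type u} [Group G] [Finite G] (hS : SecStab p G) (S : Sylow p G) :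
    Cfsg.ControlsStrongFusion p (Cfsg.inducedFunctor kInfLower (S : Subgroup G)) :=
  controls_of_secStab_normal kInfLower kInfLower_isCharPFunctor
    (fun Y _ _ hY hc T => (kInf_normal_of_secStab hY T hc).1) hS S

theorem kInfUpper_controls {G : Type u} [Group G] [Finite G] (hS : SecStab p G) (S : Sylow p G) :
    Cfsg.ControlsStrongFusion p (Cfsg.inducedFunctor kInfUpper (S : Subgroup G)) :=
  controls_of_secStab_normal kInfUpper kInfUpper_isCharPFunctor
    (fun Y _ _ hY hc T => (kInf_normal_of_secStab hY T hc).2) hS S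

end Cfsg.Agent.Helper10
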