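import Mathlib
import Cfsg.Prelude.Def_ConjugacyFunctors
import Cfsg.Agent.Helper10.Fusion

set_option autoImplicit false

/-! # Reduction of a failure of weak closure (of a subset of `Z(S)` stabilized by `N_G(W(S))`) to the
normalizer of a well-placed subgroup: set version -/

namespace Cfsg.Agent.Helper10

open Cfsg Cfsg.Agent.Helper14

variable {G : Type*} [Group G] [Finite G] {p : ℕ} [Fact p.Prime]

theorem wc_reduce_set (S : Sylow p G) (W : Subgroup G → Subgroup G)
    (hW : Cfsg.IsConjugacyFunctor p W)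
    (hWZ : ∀ P : Subgroup G, IsPGroup p ↥P → P ⊓ Subgroup.centralizer ((P : Subgroup G) : Set G) ≤ W P)
    (A : Set G)
    (hAZ : A ⊆ (((S : Subgroup G) ⊓ Subgroup.centralizer ((S : Subgroup G) : Set G) : Subgroup G) : Set G))
    (hAN : ∀ n ∈ Subgroup.normalizer ((W (S : Subgroup G) : Subgroup G) : Set G), rc n A = A)
    (hfail : ∃ g : G, rc g A ⊆ ((S : Subgroup G) : Set G) ∧ rc g A ≠ A) :
    ∃ T : Subgroup G, T ≤ (S : Subgroup G) ∧ A ⊆ (T : Set G) ∧
      (∀ n ∈ Subgroup.normalizer ((W ((S : Subgroup G) ⊓ Subgroup.normalizer ((T : Subgroup G) : Set G)) :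
        Subgroup G) : Set G), rc n A = A) ∧
      ¬ p ∣ ((S : Subgroup G) ⊓ Subgroup.normalizer ((T : Subgroup G) : Set G)).relIndex
        (Subgroup.normalizer ((T : Subgroup G) : Set G)) ∧
      ∃ g ∈ Subgroup.normalizer ((T : Subgroup G) : Set G), rc g A ≠ A := by
  classical
  -- the family of candidates
  let 𝒞 : Set (Subgroup G) := {T | Cfsg.IsWellPlaced p W (S : Subgroup G) T ∧ A ⊆ (T : Set G) ∧
    ∃ g ∈ Subgroup.normalizer ((T : Subgroup G) : Set G), rc g A ≠ A}
  have hAS : A ⊆ ((S : Subgroup G) : Set G) := fun a ha => (hAZ ha).1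
  have hAC : A ⊆ ((Subgroup.centralizer ((S : Subgroup G) : Set G) : Subgroup G) : Set G) :=
    fun a ha => (hAZ ha).2
  -- 𝒞 is nonempty
  have hne : 𝒞.Nonempty := by
    obtain ⟨g, hgS, hgA⟩ := hfail
    obtain ⟨l, hl, hlp⟩ := exists_dec_of_extremal_set S
      {T : Subgroup G | Cfsg.IsWellPlaced p W (S : Subgroup G) T} (fun U hU => hU.1)
      (wellPlaced_family_hyp S hW) A g hAS hgS
    have key : ∀ (l : List (Subgroup G × G)) (B : Set G),
        Dec {T : Subgroup G | Cfsg.IsWellPlaced p W (S : Subgroup G) T} B l →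
        rc (lprod l) B ≠ B →
        ∃ T : Subgroup G, Cfsg.IsWellPlaced p W (S : Subgroup G) T ∧
          ∃ x ∈ Subgroup.normalizer ((T : Subgroup G) : Set G), B ⊆ (T : Set G) ∧ rc x B ≠ B := by
      intro l
      induction l with
      | nil =>
        intro B _ hne
        rw [lprod_nil, rc_one] at hne
        exact absurd rfl hne
      | cons b l ih =>
        obtain ⟨T, x⟩ := b
        intro B hd hne
        by_cases hx : rc x B = B
        · apply ih B
          · have := hd.2.2.2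
            rwa [hx] at this
          · rw [lprod_cons, rc_mul, hx] at hne
            exact hne
        · exact ⟨T, hd.1, x, hd.2.1, hd.2.2.1, hx⟩
    have hne' : rc (lprod l) A ≠ A := by
      rw [hlp]; exact hgA
    obtain ⟨T, hTwp, x, hx, hAT, hxA⟩ := key l A hl hne'
    exact ⟨T, hTwp, hAT, x, hx, hxA⟩
  -- maximal member
  obtain ⟨T, hT𝒞, hTmax⟩ := Set.exists_max_image 𝒞
    (fun T => Nat.card ↥((S : Subgroup G) ⊓ Subgroup.normalizer ((T : Subgroup G) : Set G) : Subgroup G))
    (Set.toFinite 𝒞) hne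
  obtain ⟨hTwp, hAT, g, hg, hgA⟩ := hT𝒞
  have hRp : IsPGroup p ↥((S : Subgroup G) ⊓ Subgroup.normalizer ((T : Subgroup G) : Set G) : Subgroup G) :=
    S.2.to_le inf_le_left
  have hTR : T ≤ (S : Subgroup G) ⊓ Subgroup.normalizer ((T : Subgroup G) : Set G) :=
    le_inf hTwp.1 Subgroup.le_normalizer
  have hACR : A ⊆ ((Subgroup.centralizer (((S : Subgroup G) ⊓ Subgroup.normalizer ((T : Subgroup G) : Set G) :
      Subgroup G) : Set G) : Subgroup G) : Set G) := fun a ha =>
    (Subgroup.centralizer_le (by intro b hb; exact hb.1)) (hAC ha)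
  refine ⟨T, hTwp.1, hAT, ?_, hTwp.2 0, g, hg, hgA⟩
  by_cases hRS : (S : Subgroup G) ⊓ Subgroup.normalizer ((T : Subgroup G) : Set G) = (S : Subgroup G)
  · rw [hRS]; exact hAN
  · by_contra hcon
    push Not at hcon
    obtain ⟨y, hy, hyA⟩ := hcon
    have hT1wp := isWellPlaced_shift hW S.2 hTwp
    have hT1eq : Cfsg.functorTower W (S : Subgroup G) T 1 =
        W ((S : Subgroup G) ⊓ Subgroup.normalizer ((T : Subgroup G) : Set G)) := rfl
    have hAT1 : A ⊆ ((Cfsg.functorTower W (S : Subgroup G) T 1 : Subgroup G) : Set G) := by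
      rw [hT1eq]
      intro a ha
      exact (hWZ _ hRp) ⟨hTR (hAT ha), hACR ha⟩
    have hyT1 : y ∈ Subgroup.normalizer ((Cfsg.functorTower W (S : Subgroup G) T 1 : Subgroup G) : Set G) := by
      rw [hT1eq]; exact hy
    have hmem : Cfsg.functorTower W (S : Subgroup G) T 1 ∈ 𝒞 := ⟨hT1wp, hAT1, y, hyT1, hyA⟩
    have hmax := hTmax _ hmem
    have hlt : (S : Subgroup G) ⊓ Subgroup.normalizer ((T : Subgroup G) : Set G) < (S : Subgroup G) :=
      lt_of_le_of_ne inf_le_left hRS
    have hgrow := Cfsg.Agent.Helper11.lt_inf_normalizer (S : Subgroup G) _ S.2 hlt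
    have hle1 : (S : Subgroup G) ⊓ Subgroup.normalizer (((S : Subgroup G) ⊓ Subgroup.normalizer ((T : Subgroup G) : Set G) : Subgroup G) : Set G) ≤
        (S : Subgroup G) ⊓ Subgroup.normalizer ((Cfsg.functorTower W (S : Subgroup G) T 1 : Subgroup G) : Set G) := by
      rw [hT1eq]
      exact inf_le_inf_left _ (normalizer_le_normalizer_functor hW hRp)
    have hlt2 := hgrow.trans_le hle1
    have hcard : Nat.card ↥((S : Subgroup G) ⊓ Subgroup.normalizer ((T : Subgroup G) : Set G) : Subgroup G) <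
        Nat.card ↥((S : Subgroup G) ⊓ Subgroup.normalizer ((Cfsg.functorTower W (S : Subgroup G) T 1 : Subgroup G) : Set G) : Subgroup G) := by
      by_contra hc
      push Not at hc
      exact hlt2.ne (Subgroup.eq_of_le_of_card_ge hlt2.le hc)
    omega

end Cfsg.Agent.Helper10
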