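import Mathlib
import Cfsg.Prelude.Def_ConjugacyFunctors
import Cfsg.Agent.Helper10.WCReduce

set_option autoImplicit false

/-! # The reduction lemma for weak closure, relative to a subgroup `H` of `G` -/

namespace Cfsg.Agent.Helper10

open Cfsg Cfsg.Agent.Helper14 Subgroup

variable {G : Type*} [Group G]

/-- restriction of a conjugacy functor to a subgroup -/
def resFunctor (W : Subgroup G → Subgroup G) (H : Subgroup G) : Subgroup ↥H → Subgroup ↥H :=
  fun P => (W (P.map H.subtype)).subgroupOf H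

theorem rc_preimage (H : Subgroup G) (g : ↥H) (A : Set G) :
    rc g (H.subtype ⁻¹' A) = H.subtype ⁻¹' (rc (g : G) A) := by
  ext y
  rw [mem_rc, Set.mem_preimage, Set.mem_preimage, mem_rc]
  rfl

theorem preimage_subtype_injOn (H : Subgroup G) {B C : Set G} (hB : B ⊆ (H : Set G))
    (hC : C ⊆ (H : Set G)) (h : H.subtype ⁻¹' B = H.subtype ⁻¹' C) : B = C := by
  ext x
  constructor
  · intro hx
    have : (⟨x, hB hx⟩ : ↥H) ∈ H.subtype ⁻¹' B := hx
    rw [h] at this
    exact this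
  · intro hx
    have : (⟨x, hC hx⟩ : ↥H) ∈ H.subtype ⁻¹' C := hx
    rw [← h] at this
    exact this

theorem rc_subset_of_mem {H : Subgroup G} {g : G} (hg : g ∈ H) {A : Set G} (hA : A ⊆ (H : Set G)) :
    rc g A ⊆ (H : Set G) := by
  intro y hy
  rw [mem_rc] at hy
  have h1 := hA hy
  have e : y = g⁻¹ * (g * y * g⁻¹) * g := by group
  rw [e]
  exact H.mul_mem (H.mul_mem (H.inv_mem hg) h1) hg

variable {p : ℕ} [Fact p.Prime]

theorem map_resFunctor {W : Subgroup G → Subgroup G} (hW : Cfsg.IsConjugacyFunctor p W)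
    (H : Subgroup G) {P : Subgroup ↥H} (hP : IsPGroup p ↥P) :
    (resFunctor W H P).map H.subtype = W (P.map H.subtype) := by
  unfold resFunctor
  apply Subgroup.map_subgroupOf_eq_of_le
  exact ((hW _ (hP.map H.subtype)).1).trans (Subgroup.map_subtype_le P)

theorem normalizer_resFunctor {W : Subgroup G → Subgroup G} (hW : Cfsg.IsConjugacyFunctor p W)
    (H : Subgroup G) {P : Subgroup ↥H} (hP : IsPGroup p ↥P) :
    normalizer ((resFunctor W H P : Subgroup ↥H) : Set ↥H) =
      (normalizer ((W (P.map H.subtype) : Subgroup G) : Set G)).subgroupOf H := by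
  unfold resFunctor
  rw [Subgroup.subgroupOf_normalizer_eq]
  exact ((hW _ (hP.map H.subtype)).1).trans (Subgroup.map_subtype_le P)

theorem map_cj_subtype (H : Subgroup G) (P : Subgroup ↥H) (g : ↥H) :
    (P.map (cj g)).map H.subtype = (P.map H.subtype).map (cj (g : G)) := by
  rw [Subgroup.map_map, Subgroup.map_map]
  rfl

theorem resFunctor_isConj {W : Subgroup G → Subgroup G} (hW : Cfsg.IsConjugacyFunctor p W)
    (H : Subgroup G) : Cfsg.IsConjugacyFunctor p (resFunctor W H) := by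
  intro P hP
  have hP' : IsPGroup p ↥(P.map H.subtype) := hP.map H.subtype
  obtain ⟨h1, h2, h3⟩ := hW _ hP'
  refine ⟨?_, ?_, ?_⟩
  · rw [← Subgroup.map_le_map_iff_of_injective H.subtype_injective, map_resFunctor hW H hP]
    exact h1
  · intro hne
    have hne' : P.map H.subtype ≠ ⊥ := by
      rw [Ne, Subgroup.map_eq_bot_iff_of_injective _ H.subtype_injective]
      exact hne
    have := h2 hne'
    intro hb
    apply this
    rw [← map_resFunctor hW H hP, hb, Subgroup.map_bot]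
  · intro g
    apply Subgroup.map_injective H.subtype_injective
    have hPg : IsPGroup p ↥(P.map (MulAut.conj g).toMonoidHom) := hP.map _
    rw [map_resFunctor hW H hPg]
    change W ((P.map (cj g)).map H.subtype) = ((resFunctor W H P).map (cj g)).map H.subtype
    rw [map_cj_subtype, map_cj_subtype, map_resFunctor hW H hP]
    exact h3 (g : G)

theorem resFunctor_center_le {W : Subgroup G → Subgroup G} (hW : Cfsg.IsConjugacyFunctor p W)
    (hWZ : ∀ P : Subgroup G, IsPGroup p ↥P → P ⊓ centralizer ((P : Subgroup G) : Set G) ≤ W P)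
    (H : Subgroup G) (P : Subgroup ↥H) (hP : IsPGroup p ↥P) :
    P ⊓ centralizer ((P : Subgroup ↥H) : Set ↥H) ≤ resFunctor W H P := by
  rw [← Subgroup.map_le_map_iff_of_injective H.subtype_injective, map_resFunctor hW H hP,
    map_subtype_inf_centralizer]
  exact hWZ _ (hP.map H.subtype)

variable [Finite G]

/-- **Relative reduction lemma.** -/
theorem wc_reduce_rel (W : Subgroup G → Subgroup G) (hW : Cfsg.IsConjugacyFunctor p W)
    (hWZ : ∀ P : Subgroup G, IsPGroup p ↥P → P ⊓ centralizer ((P : Subgroup G) : Set G) ≤ W P)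
    (H T : Subgroup G) (hTH : T ≤ H) (hTp : IsPGroup p ↥T) (hTi : ¬ p ∣ T.relIndex H)
    (A : Set G) (hAZ : A ⊆ ((T ⊓ centralizer (T : Set G) : Subgroup G) : Set G))
    (hAN : ∀ n ∈ H ⊓ normalizer ((W T : Subgroup G) : Set G), rc n A = A)
    (hfail : ∃ h ∈ H, rc h A ⊆ (T : Set G) ∧ rc h A ≠ A) :
    ∃ U : Subgroup G, U ≤ T ∧ A ⊆ (U : Set G) ∧
      (∀ n ∈ H ⊓ normalizer ((W (T ⊓ normalizer (U : Set G)) : Subgroup G) : Set G), rc n A = A) ∧
      ¬ p ∣ (T ⊓ normalizer (U : Set G)).relIndex (H ⊓ normalizer (U : Set G)) ∧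
      ∃ h ∈ H ⊓ normalizer (U : Set G), rc h A ≠ A := by
  have hAT : A ⊆ (T : Set G) := fun a ha => (hAZ ha).1
  have hAH : A ⊆ (H : Set G) := fun a ha => hTH (hAT ha)
  have hTp' : IsPGroup p ↥(T.subgroupOf H) := hTp.comap_subtype
  obtain ⟨S', hS'⟩ : ∃ S' : Sylow p ↥H, (S' : Subgroup ↥H) = T.subgroupOf H :=
    ⟨hTp'.toSylow hTi, rfl⟩
  have hS'map : (S' : Subgroup ↥H).map H.subtype = T := by
    rw [hS']; exact Subgroup.map_subgroupOf_eq_of_le hTH
  have hW' := resFunctor_isConj hW H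
  have hWZ' := resFunctor_center_le hW hWZ H
  have hAZ' : H.subtype ⁻¹' A ⊆ (((S' : Subgroup ↥H) ⊓ centralizer ((S' : Subgroup ↥H) : Set ↥H) :
      Subgroup ↥H) : Set ↥H) := by
    intro x hx
    have hx' : (x : G) ∈ T ⊓ centralizer (T : Set G) := hAZ hx
    refine ⟨?_, Subgroup.mem_centralizer_iff.2 ?_⟩
    · rw [hS']; exact Subgroup.mem_subgroupOf.2 hx'.1
    · intro t ht
      rw [SetLike.mem_coe, hS'] at ht
      apply Subtype.ext
      exact Subgroup.mem_centralizer_iff.1 hx'.2 (t : G) (Subgroup.mem_subgroupOf.1 ht)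
  have hAN' : ∀ n ∈ normalizer ((resFunctor W H (S' : Subgroup ↥H) : Subgroup ↥H) : Set ↥H),
      rc n (H.subtype ⁻¹' A) = H.subtype ⁻¹' A := by
    intro n hn
    rw [normalizer_resFunctor hW H S'.2, hS'map] at hn
    rw [rc_preimage, hAN (n : G) ⟨n.2, Subgroup.mem_subgroupOf.1 hn⟩]
  have hfail' : ∃ g : ↥H, rc g (H.subtype ⁻¹' A) ⊆ ((S' : Subgroup ↥H) : Set ↥H) ∧
      rc g (H.subtype ⁻¹' A) ≠ H.subtype ⁻¹' A := by
    obtain ⟨h, hh, h1, h2⟩ := hfail
    refine ⟨⟨h, hh⟩, ?_, ?_⟩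
    · rw [rc_preimage]
      intro x hx
      rw [SetLike.mem_coe, hS']
      exact Subgroup.mem_subgroupOf.2 (h1 hx)
    · rw [rc_preimage]
      intro heq
      exact h2 (preimage_subtype_injOn H (rc_subset_of_mem hh hAH) hAH heq)
  obtain ⟨T'', hT''S, hAT'', hN'', hidx, g', hg', hg'A⟩ :=
    wc_reduce_set S' (resFunctor W H) hW' hWZ' (H.subtype ⁻¹' A) hAZ' hAN' hfail'
  have hUH : T''.map H.subtype ≤ H := Subgroup.map_subtype_le T''
  have hnorm : normalizer ((T'' : Subgroup ↥H) : Set ↥H) =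
      (normalizer ((T''.map H.subtype : Subgroup G) : Set G)).subgroupOf H := by
    rw [Subgroup.subgroupOf_normalizer_eq hUH]
    have e : (T''.map H.subtype).subgroupOf H = T'' :=
      Subgroup.comap_map_eq_self_of_injective H.subtype_injective T''
    rw [e]
  have hinf : (S' : Subgroup ↥H) ⊓ normalizer ((T'' : Subgroup ↥H) : Set ↥H) =
      (T ⊓ normalizer ((T''.map H.subtype : Subgroup G) : Set G)).subgroupOf H := by
    rw [hS', hnorm]
    rfl
  have hinfmap : ((S' : Subgroup ↥H) ⊓ normalizer ((T'' : Subgroup ↥H) : Set ↥H)).map H.subtype =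
      T ⊓ normalizer ((T''.map H.subtype : Subgroup G) : Set G) := by
    rw [hinf]
    exact Subgroup.map_subgroupOf_eq_of_le (inf_le_left.trans hTH)
  refine ⟨T''.map H.subtype, ?_, ?_, ?_, ?_, ?_⟩
  · rw [← hS'map]; exact Subgroup.map_mono hT''S
  · intro a ha
    exact ⟨⟨a, hAH ha⟩, hAT'' (show (⟨a, hAH ha⟩ : ↥H) ∈ H.subtype ⁻¹' A from ha), rfl⟩
  · rintro n ⟨hnH, hnN⟩
    have hRp : IsPGroup p ↥((S' : Subgroup ↥H) ⊓ normalizer ((T'' : Subgroup ↥H) : Set ↥H) : Subgroup ↥H) :=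
      S'.2.to_le inf_le_left
    have hn' : (⟨n, hnH⟩ : ↥H) ∈ normalizer ((resFunctor W H
        ((S' : Subgroup ↥H) ⊓ normalizer ((T'' : Subgroup ↥H) : Set ↥H)) : Subgroup ↥H) : Set ↥H) := by
      rw [normalizer_resFunctor hW H hRp, hinfmap]
      exact Subgroup.mem_subgroupOf.2 hnN
    have h1 := hN'' _ hn'
    rw [rc_preimage] at h1
    exact preimage_subtype_injOn H (rc_subset_of_mem hnH hAH) hAH h1
  · intro hdvd
    apply hidx
    rw [hinf, hnorm]
    rw [← Subgroup.inf_subgroupOf_left (normalizer ((T''.map H.subtype : Subgroup G) : Set G)) H,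
      Subgroup.relIndex_subgroupOf inf_le_left]
    exact hdvd
  · refine ⟨(g' : G), ⟨g'.2, ?_⟩, ?_⟩
    · rw [hnorm] at hg'
      exact Subgroup.mem_subgroupOf.1 hg'
    · intro heq
      apply hg'A
      rw [rc_preimage, heq]

end Cfsg.Agent.Helper10
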