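import Mathlib
import Cfsg.Prelude.Def_ConjugacyFunctors
import Cfsg.Agent.Helper10.WCRelative
import Cfsg.Agent.Helper14.PReduced4
import Cfsg.Agent.Helper14.Amalgam6
import Cfsg.Agent.Helper14.Amalgam5
import Cfsg.Agent.Helper14.BasicProp2

/-!
# Weak closure of `p`-th powers of central elements (quadratic local hypothesis)

Relative induction for Glauberman's theorem on weak closure of elements of `℧¹(Z(S))`.
-/

set_option autoImplicit false
set_option linter.unusedSectionVars false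
set_option linter.unusedVariables false

namespace Cfsg.Agent.Helper10

open Cfsg Cfsg.Agent.Helper14 Subgroup
open scoped commutatorElement

variable {G : Type*} [Group G]

theorem rc_eq_iff_mem_normalizer {g : G} {A : Set G} : rc g A = A ↔ g ∈ normalizer A := by
  rw [Subgroup.mem_set_normalizer_iff]
  constructor
  · intro h y
    rw [← mem_rc, h]
  · intro h
    ext y
    rw [mem_rc]; exact (h y).symm

/-- the subgroup generated by `p`-th powers of elements of `K` -/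
def pw (p : ℕ) (K : Subgroup G) : Subgroup G :=
  Subgroup.closure ((fun z : G => z ^ p) '' (K : Set G))

theorem pw_mono (p : ℕ) {K L : Subgroup G} (h : K ≤ L) : pw p K ≤ pw p L :=
  Subgroup.closure_mono (Set.image_mono h)

theorem pw_le (p : ℕ) (K : Subgroup G) : pw p K ≤ K := by
  unfold pw
  rw [Subgroup.closure_le]
  rintro _ ⟨z, hz, rfl⟩
  exact K.pow_mem hz p

theorem le_normalizer_pw (p : ℕ) {H K : Subgroup G} (h : H ≤ normalizer (K : Set G)) :
    H ≤ normalizer ((pw p K : Subgroup G) : Set G) := by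
  apply le_normalizer_of_map_cj_le
  intro g hg
  unfold pw
  rw [MonoidHom.map_closure, Subgroup.closure_le]
  rintro _ ⟨_, ⟨z, hz, rfl⟩, rfl⟩
  apply Subgroup.subset_closure
  refine ⟨cj g z, ?_, ?_⟩
  · have := mem_normalizer_iff_map_cj.1 (h hg)
    rw [← this]
    exact ⟨z, hz, rfl⟩
  · simp only [map_pow]

theorem le_normalizer_inf_centralizer' {H V : Subgroup G} (h : H ≤ normalizer (V : Set G)) :
    H ≤ normalizer ((H ⊓ centralizer (V : Set G) : Subgroup G) : Set G) := by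
  intro g hg
  rw [mem_normalizer_iff_map_cj, map_cj_inf, map_cj_eq_self_of_mem hg, map_cj_centralizer,
    mem_normalizer_iff_map_cj.1 (h hg)]

theorem le_normalizer_self_inf_centralizer {H Q : Subgroup G} (h : H ≤ normalizer (Q : Set G)) :
    H ≤ normalizer ((Q ⊓ centralizer (Q : Set G) : Subgroup G) : Set G) := by
  intro g hg
  rw [mem_normalizer_iff_map_cj, map_cj_inf, map_cj_centralizer,
    mem_normalizer_iff_map_cj.1 (h hg)]

theorem inf_centralizer_le_normalizer_set {A : Set G} {H V : Subgroup G} (hAV : A ⊆ (V : Set G)) :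
    H ⊓ centralizer (V : Set G) ≤ normalizer A := by
  intro c hc
  have hcV := Subgroup.mem_centralizer_iff.1 hc.2
  rw [Subgroup.mem_set_normalizer_iff]
  intro y
  constructor
  · intro hy
    have := hcV y (hAV hy)
    have e : c * y * c⁻¹ = y := by rw [← this]; group
    rwa [e]
  · intro hy
    have := hcV _ (hAV hy)
    have e : c * y * c⁻¹ = y := by
      have h2 : c * y * c⁻¹ * c = c * (c * y * c⁻¹) := this
      have h3 : c * y = c * (c * y * c⁻¹) := by rw [← h2]; group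
      exact (mul_left_cancel h3).symm
    rwa [e] at hy

theorem isSylowIn_of_relIndex {p : ℕ} [Fact p.Prime] {T H : Subgroup G} (hTH : T ≤ H)
    (hTp : IsPGroup p ↥T) (hTi : ¬ p ∣ T.relIndex H) : IsSylowIn p T H := by
  have hTp' : IsPGroup p ↥(T.subgroupOf H) := hTp.comap_subtype
  have h2 : ¬ p ∣ (T.subgroupOf H).index := hTi
  have h3 := isSylowIn_of_sylow (hTp'.toSylow h2)
  rw [IsPGroup.toSylow_coe, map_subtype_subgroupOf hTH] at h3
  exact h3

/-- **Frattini core lemma** (relative form). -/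
theorem core_frat_rel [Finite G] {p : ℕ} [Fact p.Prime] {H T M C : Subgroup G}
    (hT : IsSylowIn p T H)
    (hmax : ∀ H₂ : Subgroup G, T ≤ H₂ → H₂ ≤ H → ¬ H ≤ H₂ → H₂ ≤ M) (hM : ¬ H ≤ M)
    (hCH : C ≤ H) (hHC : H ≤ normalizer (C : Set G)) (hCM : C ≤ M) :
    T ⊓ C ≤ pCoreOf p H := by
  have hsyl : IsSylowIn p (T ⊓ C) C := sylow_inf_isSylowIn hT hCH hHC
  have hfr := frattini_ambient hCH hHC hsyl
  have hTN : T ≤ H ⊓ normalizer ((T ⊓ C : Subgroup G) : Set G) := by
    refine le_inf hT.1 ?_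
    intro t ht
    rw [mem_normalizer_iff_map_cj, map_cj_inf, map_cj_eq_self_of_mem ht,
      mem_normalizer_iff_map_cj.1 (hHC (hT.1 ht))]
  by_cases hN : H ≤ normalizer ((T ⊓ C : Subgroup G) : Set G)
  · exact le_pCoreOf p (inf_le_left.trans hT.1) hN (hT.2.1.to_le inf_le_left)
  · exfalso
    apply hM
    have h1 := hmax _ hTN inf_le_left (fun h => hN (h.trans inf_le_right))
    exact hfr.trans (sup_le hCM h1)

theorem exists_pow_not_mem {p : ℕ} {Q : Subgroup G} {g : G} (hg : ∃ k : ℕ, g ^ (p ^ k) = 1)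
    (hgQ : g ∉ Q) : ∃ j : ℕ, g ^ (p ^ j) ∉ Q ∧ (g ^ (p ^ j)) ^ p ∈ Q := by
  classical
  have hex : ∃ k : ℕ, g ^ (p ^ k) ∈ Q := by
    obtain ⟨k, hk⟩ := hg
    exact ⟨k, by rw [hk]; exact Q.one_mem⟩
  have h0 : Nat.find hex ≠ 0 := by
    intro h0
    have := Nat.find_spec hex
    rw [h0, pow_zero, pow_one] at this
    exact hgQ this
  obtain ⟨j, hj⟩ := Nat.exists_eq_succ_of_ne_zero h0
  refine ⟨j, ?_, ?_⟩
  · exact Nat.find_min hex (by rw [hj]; exact Nat.lt_succ_self j)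
  · have := Nat.find_spec hex
    rw [hj, Nat.succ_eq_add_one, pow_succ, pow_mul] at this
    exact this

/-- an element acting quadratically on an abelian normal subgroup `Z`, whose `p`-th power
centralizes `Z`, centralizes the `p`-th powers of `Z`. -/
theorem centralizes_pw_of_quadratic {p : ℕ} {Z : Subgroup G} {g : G}
    (hZab : ∀ a ∈ Z, ∀ b ∈ Z, a * b = b * a) (hgZ : g ∈ normalizer (Z : Set G))
    (hgp : g ^ p ∈ centralizer (Z : Set G))
    (hquad : ⁅⁅Z, zpowers g⁆, zpowers g⁆ = ⊥) : g ∈ centralizer ((pw p Z : Subgroup G) : Set G) := by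
  unfold pw
  rw [Subgroup.centralizer_closure, Subgroup.mem_centralizer_iff]
  rintro _ ⟨v, hv, rfl⟩
  have hv' : v ∈ Z := hv
  -- y = v⁻¹ g v g⁻¹
  have hgv : g * v * g⁻¹ ∈ Z := (Subgroup.mem_normalizer_iff.1 hgZ v).1 hv'
  have hyZ : v⁻¹ * (g * v * g⁻¹) ∈ Z := Z.mul_mem (Z.inv_mem hv') hgv
  have hyc : v⁻¹ * (g * v * g⁻¹) ∈ ⁅Z, zpowers g⁆ := by
    have : ⁅v⁻¹, g⁆ ∈ ⁅Z, zpowers g⁆ :=
      Subgroup.commutator_mem_commutator (Z.inv_mem hv') (Subgroup.mem_zpowers g)
    rw [commutatorElement_def] at this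
    have e : v⁻¹ * g * v⁻¹⁻¹ * g⁻¹ = v⁻¹ * (g * v * g⁻¹) := by group
    rwa [e] at this
  have hyg : Commute (v⁻¹ * (g * v * g⁻¹)) g := by
    have : ⁅v⁻¹ * (g * v * g⁻¹), g⁆ ∈ ⁅⁅Z, zpowers g⁆, zpowers g⁆ :=
      Subgroup.commutator_mem_commutator hyc (Subgroup.mem_zpowers g)
    rw [hquad, Subgroup.mem_bot] at this
    exact commutatorElement_eq_one_iff_commute.1 this
  obtain ⟨y, hy⟩ : ∃ y, y = v⁻¹ * (g * v * g⁻¹) := ⟨_, rfl⟩
  rw [← hy] at hyZ hyg
  have hgvy : g * v * g⁻¹ = v * y := by rw [hy]; group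
  have hiter : ∀ j : ℕ, g ^ j * v * (g ^ j)⁻¹ = v * y ^ j := by
    intro j
    induction j with
    | zero => simp
    | succ j ih =>
      have e1 : g ^ (j + 1) * v * (g ^ (j + 1))⁻¹ = g * (g ^ j * v * (g ^ j)⁻¹) * g⁻¹ := by
        rw [pow_succ']; group
      have e2 : g * (y ^ j) * g⁻¹ = y ^ j := by
        have := (hyg.pow_left j).eq
        rw [mul_inv_eq_iff_eq_mul]; exact this.symm
      rw [e1, ih]
      have e3 : g * (v * y ^ j) * g⁻¹ = (g * v * g⁻¹) * (g * (y ^ j) * g⁻¹) := by group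
      rw [e3, e2, hgvy, pow_succ', mul_assoc]
  have hyp : y ^ p = 1 := by
    have h1 := hiter p
    have h2 : g ^ p * v * (g ^ p)⁻¹ = v := by
      have := Subgroup.mem_centralizer_iff.1 hgp v hv'
      rw [mul_inv_eq_iff_eq_mul]; exact this.symm
    rw [h2] at h1
    exact (mul_eq_left.1 h1.symm)
  have hvy : Commute v y := hZab v hv' y hyZ
  have hfin : g * v ^ p * g⁻¹ = v ^ p := by
    have e : g * v ^ p * g⁻¹ = (g * v * g⁻¹) ^ p := by
      rw [conj_pow]
    rw [e, hgvy, hvy.mul_pow, hyp, mul_one]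
  show v ^ p * g = g * v ^ p
  have e4 : g * v ^ p = (g * v ^ p * g⁻¹) * g := by group
  rw [e4, hfin]

/-- **Quadratic core lemma**: the minimal configuration is contradictory. -/
theorem quad_core [Finite G] {p : ℕ} [Fact p.Prime] {H T : Subgroup G} (hT : IsSylowIn p T H)
    (A : Set G)
    (hA : A ⊆ ((pw p (T ⊓ centralizer (T : Set G)) : Subgroup G) : Set G))
    (hAQ : A ⊆ ((pCoreOf p H : Subgroup G) : Set G))
    (hmax : ∀ H₂ : Subgroup G, T ≤ H₂ → H₂ ≤ H → ¬ H ≤ H₂ → H₂ ≤ normalizer A)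
    (hM : ¬ H ≤ normalizer A)
    {g : G} (hgT : g ∈ T) (hgQ : g ∉ pCoreOf p H)
    (hquad : ⁅⁅pCoreOf p H ⊓ centralizer ((pCoreOf p H : Subgroup G) : Set G), zpowers g⁆,
      zpowers g⁆ = ⊥) : False := by
  have hQH : pCoreOf p H ≤ H := pCoreOf_le p H
  have hHQ : H ≤ normalizer ((pCoreOf p H : Subgroup G) : Set G) := le_normalizer_pCoreOf p H
  have hQT : pCoreOf p H ≤ T := pCoreOf_le_of_isSylowIn hT
  -- step 1: `T ∩ C_H(Q) ≤ Q`
  have h1 : T ⊓ (H ⊓ centralizer ((pCoreOf p H : Subgroup G) : Set G)) ≤ pCoreOf p H :=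
    core_frat_rel hT hmax hM inf_le_left (le_normalizer_inf_centralizer' hHQ)
      (inf_centralizer_le_normalizer_set hAQ)
  have hZT : T ⊓ centralizer (T : Set G) ≤
      pCoreOf p H ⊓ centralizer ((pCoreOf p H : Subgroup G) : Set G) := by
    intro z hz
    have hzc : z ∈ centralizer ((pCoreOf p H : Subgroup G) : Set G) :=
      Subgroup.centralizer_le (by exact_mod_cast hQT) hz.2
    exact ⟨h1 ⟨hz.1, hT.1 hz.1, hzc⟩, hzc⟩
  have hAV : A ⊆ ((pw p (pCoreOf p H ⊓ centralizer ((pCoreOf p H : Subgroup G) : Set G)) :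
      Subgroup G) : Set G) := fun a ha => pw_mono p hZT (hA ha)
  have hHZ := le_normalizer_self_inf_centralizer hHQ
  have hHV := le_normalizer_pw p hHZ
  have h2 : T ⊓ (H ⊓ centralizer ((pw p (pCoreOf p H ⊓
      centralizer ((pCoreOf p H : Subgroup G) : Set G)) : Subgroup G) : Set G)) ≤ pCoreOf p H :=
    core_frat_rel hT hmax hM inf_le_left (le_normalizer_inf_centralizer' hHV)
      (inf_centralizer_le_normalizer_set hAV)
  -- step 2: the element `g'`
  have hgpow : ∃ k : ℕ, g ^ (p ^ k) = 1 := by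
    obtain ⟨k, hk⟩ := hT.2.1 ⟨g, hgT⟩
    exact ⟨k, by simpa using congrArg Subtype.val hk⟩
  obtain ⟨j, hj1, hj2⟩ := exists_pow_not_mem hgpow hgQ
  apply hj1
  apply h2
  refine ⟨T.pow_mem hgT _, hT.1 (T.pow_mem hgT _), ?_⟩
  apply centralizes_pw_of_quadratic
  · intro a ha b hb
    exact Subgroup.mem_centralizer_iff.1 hb.2 a ha.1
  · exact hHZ (hT.1 (T.pow_mem hgT _))
  · rw [Subgroup.mem_centralizer_iff]
    intro z hz
    exact (Subgroup.mem_centralizer_iff.1 hz.2 _ hj2).symm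
  · rw [eq_bot_iff, ← hquad]
    have : zpowers (g ^ p ^ j) ≤ zpowers g := by
      rw [Subgroup.zpowers_le]; exact Subgroup.pow_mem _ (Subgroup.mem_zpowers g) _
    exact Subgroup.commutator_mono (Subgroup.commutator_mono le_rfl this) this

theorem card_lt_of_le_of_not_le [Finite G] {H₁ H : Subgroup G} (h : H₁ ≤ H) (hn : ¬ H ≤ H₁) :
    Nat.card ↥H₁ < Nat.card ↥H := by
  refine lt_of_le_of_ne (Subgroup.card_le_of_le h) ?_
  intro e
  exact hn (le_of_eq (Subgroup.eq_of_le_of_card_ge h e.ge).symm)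

theorem not_dvd_relIndex_of_le {p : ℕ} [Fact p.Prime] {T H₂ H : Subgroup G} (hTH₂ : T ≤ H₂)
    (hH₂H : H₂ ≤ H) (hTi : ¬ p ∣ T.relIndex H) : ¬ p ∣ T.relIndex H₂ := by
  intro hd
  apply hTi
  rw [← Subgroup.relIndex_mul_relIndex T H₂ H hTH₂ hH₂H]
  exact Dvd.dvd.mul_right hd _

theorem rc_subset_of_mem_normalizer {U : Subgroup G} {k : G} (hk : k ∈ normalizer (U : Set G))
    {A : Set G} (hAU : A ⊆ (U : Set G)) : rc k A ⊆ (U : Set G) := by
  intro y hy
  rw [mem_rc] at hy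
  exact (Subgroup.mem_normalizer_iff.1 hk y).2 (hAU hy)

/-- **Weak closure of `p`-th powers of central elements**, relative form, by induction on `|H|`. -/
theorem wc_quad_rel [Finite G] {p : ℕ} [Fact p.Prime] (W : Subgroup G → Subgroup G)
    (hW : Cfsg.IsConjugacyFunctor p W)
    (hWZ : ∀ P : Subgroup G, IsPGroup p ↥P → P ⊓ centralizer ((P : Subgroup G) : Set G) ≤ W P)
    (hloc : ∀ (H T : Subgroup G), T ≤ H → IsPGroup p ↥T → ¬ p ∣ (T).relIndex (H) →
      ¬ H ≤ Subgroup.normalizer ((W T : Subgroup G) : Set G) →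
      ∃ g : G, g ∈ T ∧ g ∉ Cfsg.pCoreOf p H ∧
        ⁅⁅Cfsg.pCoreOf p H ⊓ Subgroup.centralizer ((Cfsg.pCoreOf p H : Subgroup G) : Set G),
          Subgroup.zpowers g⁆, Subgroup.zpowers g⁆ = ⊥) :
    ∀ n : ℕ, ∀ H T : Subgroup G, Nat.card ↥H = n → T ≤ H → IsPGroup p ↥T → ¬ p ∣ T.relIndex H →
      ∀ A : Set G, A ⊆ ((pw p (T ⊓ centralizer (T : Set G)) : Subgroup G) : Set G) →
      (∀ m ∈ H ⊓ normalizer ((W T : Subgroup G) : Set G), rc m A = A) →
      ∀ h ∈ H, rc h A ⊆ (T : Set G) → rc h A = A := by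
  intro n
  induction n using Nat.strong_induction_on with
  | _ n ih =>
  intro H T hcard hTH hTp hTi A hA hAN h hh hsub
  by_contra hne
  have hAZ : A ⊆ ((T ⊓ centralizer (T : Set G) : Subgroup G) : Set G) :=
    fun a ha => pw_le p _ (hA ha)
  obtain ⟨U, hUT, hAU, hAN₁, hTi₁, h₁, hh₁, hne₁⟩ :=
    wc_reduce_rel W hW hWZ H T hTH hTp hTi A hAZ hAN ⟨h, hh, hsub, hne⟩
  by_cases hHU : H ≤ normalizer (U : Set G)
  · -- the core case
    have hT : IsSylowIn p T H := isSylowIn_of_relIndex hTH hTp hTi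
    have hUQ : U ≤ pCoreOf p H := le_pCoreOf p (hUT.trans hTH) hHU (hTp.to_le hUT)
    have hNW : ¬ H ≤ normalizer ((W T : Subgroup G) : Set G) :=
      fun hle => hne (hAN h ⟨hh, hle hh⟩)
    obtain ⟨g, hgT, hgQ, hquad⟩ := hloc H T hTH hTp hTi hNW
    refine quad_core hT A hA (fun a ha => hUQ (hAU ha)) ?_ ?_ hgT hgQ hquad
    · intro H₂ hTH₂ hH₂H hnle k hk
      rw [← rc_eq_iff_mem_normalizer]
      have hlt : Nat.card ↥H₂ < n := by
        rw [← hcard]; exact card_lt_of_le_of_not_le hH₂H hnle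
      exact ih _ hlt H₂ T rfl hTH₂ hTp (not_dvd_relIndex_of_le hTH₂ hH₂H hTi) A hA
        (fun m hm => hAN m ⟨hH₂H hm.1, hm.2⟩) k hk
        ((rc_subset_of_mem_normalizer (hHU (hH₂H hk)) hAU).trans (by exact_mod_cast hUT))
    · exact fun hle => hne (rc_eq_iff_mem_normalizer.2 (hle hh))
  · -- descent to `N_H(U)`
    have hlt : Nat.card ↥(H ⊓ normalizer (U : Set G)) < n := by
      rw [← hcard]
      exact card_lt_of_le_of_not_le inf_le_left (fun hle => hHU (hle.trans inf_le_right))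
    apply hne₁
    have hZle : T ⊓ centralizer (T : Set G) ≤
        (T ⊓ normalizer (U : Set G)) ⊓
          centralizer ((T ⊓ normalizer (U : Set G) : Subgroup G) : Set G) := by
      intro z hz
      refine ⟨⟨hz.1, ?_⟩, ?_⟩
      · apply Subgroup.centralizer_le_normalizer
        exact Subgroup.centralizer_le (by exact_mod_cast hUT) hz.2
      · exact Subgroup.centralizer_le (by
          intro t ht; exact ht.1) hz.2
    refine ih _ hlt (H ⊓ normalizer (U : Set G)) (T ⊓ normalizer (U : Set G)) rfl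
      (inf_le_inf_right _ hTH) (hTp.to_le inf_le_left) hTi₁ A
      (fun a ha => pw_mono p hZle (hA ha)) (fun m hm => hAN₁ m ⟨hm.1.1, hm.2⟩) h₁ hh₁ ?_
    intro y hy
    have hyU := rc_subset_of_mem_normalizer hh₁.2 hAU hy
    exact ⟨hUT hyU, Subgroup.le_normalizer hyU⟩

end Cfsg.Agent.Helper10
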