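import Mathlib
import Cfsg.Prelude.Def_Classical
import Cfsg.Prelude.Def_ClassicalGeometry
import Cfsg.Prelude.Def_Characters
import Cfsg.Prelude.Def_LieExceptional
import Cfsg.Agent.Helper8.MatBNDefs
import Cfsg.Agent.Helper23.S2546MONALG
import Cfsg.Agent.Helper23.S2546BNAXA
import Cfsg.Agent.Helper23.S2546BNAXB
import Cfsg.Agent.Helper23.S2546BNAXC
import Cfsg.Agent.Helper23.S2546SPLIT
import Cfsg.Agent.Helper23.S2546OPP
import Cfsg.Agent.Helper25.S2546PGRP
import Cfsg.Agent.Helper25.S2546GFINC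

set_option autoImplicit false
open scoped Matrix

/-!
# `MatBN.DataC`: the generic matrix (B,N)-pair layer WITHOUT a matrix-level longest element

(helper10, for S2548.)  For the orthogonal groups of type `D_m`, `m` odd, the longest element of the
Weyl group does not act on the natural module as the order-reversing permutation, so helper8's
`MatBN.Data` (field `mon_n₀ : Mon (ρ n₀) Fin.revPerm`) cannot be instantiated.  `DataC` is `Data` minus
the three `n₀` fields; the theorems below are verbatim copies of the `Data` versions (helper23's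
BNAXA/BNAXB/BNAXC/SPLIT/OPP, helper25's PGRP), and `DataC.exists_steinberg` takes the longest
element abstractly.
-/

namespace Cfsg.Agent.MatBN

open OPP MONALG BNAXB SPLIT

variable {K : Type*} [Field K] {n : ℕ}

/-- the data for a matrix (B,N)-pair of rank `m` -/
structure DataC (G : Type*) [Group G] (K : Type*) [Field K] (n m : ℕ) where
  /-- the matrix representation -/
  ρ : G →* Matrix (Fin n) (Fin n) K
  ρ_inj : Function.Injective ρ
  /-- lifts of the simple reflections -/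
  s : Fin m → G
  /-- the permutations of the simple reflections -/
  τ : Fin m → Equiv.Perm (Fin n)
  /-- the simple root sets -/
  X : Fin m → Set G
  mon_s : ∀ j, Mon (ρ (s j)) (τ j)
  τ_sq : ∀ j, τ j * τ j = 1
  τ_inj : Function.Injective τ
  X_uni : ∀ j, ∀ x ∈ X j, IsUni (ρ x)
  Y_low : ∀ j, ∀ x ∈ X j, IsLow (ρ (s j * x * (s j)⁻¹))
  X_ne : ∀ j, ∃ x ∈ X j, x ≠ 1
  ha : ∀ j, ∀ b : G, IsTri (ρ b) → ∃ x ∈ X j, IsTri (ρ (s j * (b * x⁻¹) * (s j)⁻¹))
  hd : ∀ j, ∀ x ∈ X j, x ≠ 1 →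
    ∃ b₁ : G, IsTri (ρ b₁) ∧ ∃ x' ∈ X j, s j * x = b₁ * (s j * x' * (s j)⁻¹)
  he : ∀ j, ∀ (g : G) (π : Equiv.Perm (Fin n)), Mon (ρ g) π →
    (∀ x ∈ X j, IsTri (ρ (g⁻¹ * x * g))) ∨ (∀ x ∈ X j, IsTri (ρ (g⁻¹ * (s j * x * (s j)⁻¹) * g)))
  gen : ∀ g : G, g ∈ Subgroup.closure ({b : G | IsTri (ρ b)} ∪ Set.range s)
  diag : ∀ b : G, IsTri (ρ b) → ∃ t : G, ρ t = Matrix.diagonal (fun i => ρ b i i)



namespace DataC

variable {G : Type*} [Group G] {m : ℕ} (D : DataC G K n m)

theorem ρ_mul_inv (g : G) : D.ρ g * D.ρ g⁻¹ = 1 := by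
  rw [← map_mul, mul_inv_cancel, map_one]

/-- the Borel subgroup: elements with upper triangular matrix -/
def borel : Subgroup G where
  carrier := {g | IsTri (D.ρ g)}
  mul_mem' := by
    intro a b ha hb
    show IsTri (D.ρ (a * b))
    rw [map_mul]
    exact IsTri.mul ha hb
  one_mem' := by
    show IsTri (D.ρ 1)
    rw [map_one]
    exact IsTri.one
  inv_mem' := by
    intro a ha
    exact IsTri.of_mul_eq_one ha (D.ρ_mul_inv a)

theorem mem_borel {g : G} : g ∈ D.borel ↔ IsTri (D.ρ g) := Iff.rfl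

/-- the torus: elements with diagonal matrix -/
def torus : Subgroup G where
  carrier := {g | IsDg (D.ρ g)}
  mul_mem' := by
    intro a b ha hb
    show IsDg (D.ρ (a * b))
    rw [map_mul]
    intro i k hik
    rw [Matrix.mul_apply]
    apply Finset.sum_eq_zero
    intro j _
    by_cases h1 : i = j
    · subst h1
      rw [hb i k hik, mul_zero]
    · rw [ha i j h1, zero_mul]
  one_mem' := by
    show IsDg (D.ρ 1)
    rw [map_one]
    intro i k hik
    exact Matrix.one_apply_ne hik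
  inv_mem' := by
    intro a ha
    show IsDg (D.ρ a⁻¹)
    have h1 : IsTri (D.ρ a) := fun i k hki => ha i k hki.ne'
    have h2 : IsTri (D.ρ a⁻¹) := IsTri.of_mul_eq_one h1 (D.ρ_mul_inv a)
    have h3 : IsTri (D.ρ a).transpose := fun i k hki => by
      rw [Matrix.transpose_apply]
      exact ha k i hki.ne
    have h4 : (D.ρ a).transpose * (D.ρ a⁻¹).transpose = 1 := by
      rw [← Matrix.transpose_mul, ← map_mul, inv_mul_cancel, map_one, Matrix.transpose_one]
    have h5 : IsTri (D.ρ a⁻¹).transpose := IsTri.of_mul_eq_one h3 h4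
    intro i k hik
    rcases lt_or_gt_of_ne hik with h | h
    · have := h5 k i h
      rwa [Matrix.transpose_apply] at this
    · exact h2 i k h

theorem mem_torus {g : G} : g ∈ D.torus ↔ IsDg (D.ρ g) := Iff.rfl

/-- the unipotent radical: elements with upper unitriangular matrix -/
def uni : Subgroup G where
  carrier := {g | IsUni (D.ρ g)}
  mul_mem' := by
    intro a b ha hb
    show IsUni (D.ρ (a * b))
    rw [map_mul]
    refine ⟨IsTri.mul ha.1 hb.1, fun i => ?_⟩
    rw [Matrix.mul_apply, Finset.sum_eq_single i]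
    · rw [ha.2, hb.2, mul_one]
    · intro j _ hji
      rcases lt_or_gt_of_ne hji with h | h
      · rw [ha.1 i j h, zero_mul]
      · rw [hb.1 j i h, mul_zero]
    · intro h
      exact absurd (Finset.mem_univ i) h
  one_mem' := by
    show IsUni (D.ρ 1)
    rw [map_one]
    exact ⟨IsTri.one, fun i => Matrix.one_apply_eq i⟩
  inv_mem' := by
    intro a ha
    show IsUni (D.ρ a⁻¹)
    have h2 : IsTri (D.ρ a⁻¹) := IsTri.of_mul_eq_one ha.1 (D.ρ_mul_inv a)
    refine ⟨h2, fun i => ?_⟩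
    have h3 := congrFun (congrFun (D.ρ_mul_inv a) i) i
    rw [Matrix.mul_apply, Matrix.one_apply_eq, Finset.sum_eq_single i] at h3
    · rwa [ha.2, one_mul] at h3
    · intro j _ hji
      rcases lt_or_gt_of_ne hji with h | h
      · rw [ha.1 i j h, zero_mul]
      · rw [h2 j i h, mul_zero]
    · intro h
      exact absurd (Finset.mem_univ i) h

theorem mem_uni {g : G} : g ∈ D.uni ↔ IsUni (D.ρ g) := Iff.rfl

/-- the distinguished generators -/
def Sset : Set G := Set.range D.s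

/-- the group `N`: generated by the lifts of the simple reflections and the torus -/
def Nsub : Subgroup G := Subgroup.closure D.Sset ⊔ D.torus

end DataC

section DataCSec

variable {G : Type*} [Group G] {m : ℕ} (D : DataC G K n m)

namespace BNAXAC

/-- the subgroup of the elements with monomial matrix -/
def monSub : Subgroup G where
  carrier := {g | ∃ π : Equiv.Perm (Fin n), Mon (D.ρ g) π}
  mul_mem' := by
    rintro a b ⟨π, hπ⟩ ⟨ρ', hρ⟩
    refine ⟨π * ρ', ?_⟩
    rw [map_mul]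
    exact Mon.mul hπ hρ
  one_mem' := by
    refine ⟨1, ?_⟩
    rw [map_one]
    exact Mon.one
  inv_mem' := by
    rintro a ⟨π, hπ⟩
    exact ⟨π⁻¹, Mon.of_mul_eq_one hπ (D.ρ_mul_inv a)⟩

theorem torus_le_monSub : D.torus ≤ monSub D := by
  intro t ht
  exact ⟨1, IsDg.mon ht (D.ρ_mul_inv t)⟩

theorem Nsub_le_monSub : D.Nsub ≤ monSub D := by
  unfold DataC.Nsub
  apply sup_le
  · rw [Subgroup.closure_le]
    rintro _ ⟨j, rfl⟩
    exact ⟨D.τ j, D.mon_s j⟩
  · exact torus_le_monSub D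

end BNAXAC

open BNAXAC

theorem DataC.exists_mon_of_mem_Nsub {g : G} (hg : g ∈ D.Nsub) :
    ∃ π : Equiv.Perm (Fin n), Mon (D.ρ g) π :=
  Nsub_le_monSub D hg

theorem DataC.torus_le_borel : D.torus ≤ D.borel := by
  intro t ht a c hca
  exact ht a c hca.ne'

theorem DataC.borel_inf_Nsub : D.borel ⊓ D.Nsub = D.torus := by
  apply le_antisymm
  · rintro g ⟨hb, hn⟩
    obtain ⟨π, hπ⟩ := D.exists_mon_of_mem_Nsub hn
    have h1 : π = 1 := Mon.eq_one_of_isTri hπ hb
    rw [h1] at hπ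
    exact Mon.isDg hπ
  · apply le_inf (D.torus_le_borel)
    unfold DataC.Nsub
    exact le_sup_right

theorem DataC.conj_torus_mem {g t : G} (hg : g ∈ D.Nsub) (ht : t ∈ D.torus) :
    g * t * g⁻¹ ∈ D.torus := by
  obtain ⟨π, hπ⟩ := D.exists_mon_of_mem_Nsub hg
  show IsDg (D.ρ (g * t * g⁻¹))
  rw [map_mul, map_mul]
  intro a c hac
  by_contra h0
  have h1 := (Mon.conj_apply_ne_zero_iff (A := D.ρ t) hπ (D.ρ_mul_inv g) a c).mp h0
  apply h1
  apply ht
  intro h
  exact hac (π⁻¹.injective h)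

theorem DataC.sq_mem (j : Fin m) : D.s j * D.s j ∈ D.torus := by
  show IsDg (D.ρ (D.s j * D.s j))
  rw [map_mul]
  have h := Mon.mul (D.mon_s j) (D.mon_s j)
  rw [D.τ_sq j] at h
  exact Mon.isDg h

theorem DataC.s_inj {j j' : Fin m} (h : (D.s j)⁻¹ * D.s j' ∈ D.borel) : j = j' := by
  have h1 : Mon (D.ρ ((D.s j)⁻¹ * D.s j')) ((D.τ j)⁻¹ * D.τ j') := by
    rw [map_mul]
    exact Mon.mul (Mon.of_mul_eq_one (D.mon_s j) (D.ρ_mul_inv _)) (D.mon_s j')
  have h2 : (D.τ j)⁻¹ * D.τ j' = 1 := Mon.eq_one_of_isTri h1 h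
  apply D.τ_inj
  rw [inv_mul_eq_one] at h2
  exact h2

end DataCSec

section DataCSec

variable {G : Type*} [Group G] {m : ℕ} (D : DataC G K n m)

theorem DataC.uni_le_borel : D.uni ≤ D.borel := by
  intro u hu
  exact hu.1

theorem DataC.conj_uni_mem {b u : G} (hb : b ∈ D.borel) (hu : u ∈ D.uni) : b * u * b⁻¹ ∈ D.uni := by
  have hbi : b⁻¹ ∈ D.borel := D.borel.inv_mem hb
  have hbu : b * u ∈ D.borel := D.borel.mul_mem hb (D.uni_le_borel hu)
  refine ⟨D.borel.mul_mem hbu hbi, fun a => ?_⟩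
  have h1 : IsTri (D.ρ (b * u)) := hbu
  rw [map_mul, mul_apply_diag h1 hbi, map_mul, mul_apply_diag hb hu.1, hu.2, mul_one,
    ← mul_apply_diag hb hbi, D.ρ_mul_inv, Matrix.one_apply_eq]

theorem DataC.borel_eq_mul {b : G} (hb : b ∈ D.borel) : ∃ u ∈ D.uni, ∃ h ∈ D.torus, b = u * h := by
  obtain ⟨t, ht⟩ := D.diag b hb
  have htT : t ∈ D.torus := by
    show IsDg (D.ρ t)
    rw [ht]
    exact isDg_diagonal _
  have htB : t ∈ D.borel := by
    intro a c hca
    exact htT a c hca.ne'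
  have htiB : t⁻¹ ∈ D.borel := D.borel.inv_mem htB
  refine ⟨b * t⁻¹, ⟨D.borel.mul_mem hb htiB, fun a => ?_⟩, t, htT, ?_⟩
  · have h1 : D.ρ t a a * D.ρ t⁻¹ a a = 1 := by
      rw [← mul_apply_diag htB htiB, D.ρ_mul_inv, Matrix.one_apply_eq]
    rw [map_mul, mul_apply_diag hb htiB]
    rw [ht, Matrix.diagonal_apply_eq] at h1
    exact h1
  · rw [inv_mul_cancel_right]

theorem DataC.uni_inf_torus : D.uni ⊓ D.torus = ⊥ := by
  rw [eq_bot_iff]
  rintro g ⟨hu, ht⟩
  rw [Subgroup.mem_bot]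
  apply D.ρ_inj
  rw [map_one]
  ext a c
  by_cases hac : a = c
  · subst hac
    rw [hu.2, Matrix.one_apply_eq]
  · rw [ht a c hac, Matrix.one_apply_ne hac]

end DataCSec

section DataCSec

variable {G : Type*} [Group G] {m : ℕ} (D : DataC G K n m)

theorem DataC.exists_conj_not_mem (j : Fin m) :
    ∃ x ∈ D.uni, D.s j * x * (D.s j)⁻¹ ∉ D.borel := by
  obtain ⟨x, hxX, hx1⟩ := D.X_ne j
  refine ⟨x, D.X_uni j x hxX, ?_⟩
  intro hb
  have hlow : IsLow (D.ρ (D.s j * x * (D.s j)⁻¹)) := D.Y_low j x hxX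
  have h1 : D.ρ (D.s j * x * (D.s j)⁻¹) = 1 := eq_one_of_isTri_of_isLow hb hlow
  have h2 : D.s j * x * (D.s j)⁻¹ = 1 := by
    apply D.ρ_inj
    rw [h1, map_one]
  apply hx1
  have h3 : x = (D.s j)⁻¹ * (D.s j * x * (D.s j)⁻¹) * D.s j := by group
  rw [h3, h2, mul_one, inv_mul_cancel]

end DataCSec

section DataCSec

variable {G : Type*} [Group G] {m : ℕ} (D : DataC G K n m)

theorem DataC.mul_mem_union (j : Fin m) {g b : G} (hg : g ∈ D.Nsub) (hb : b ∈ D.borel) :
    D.s j * b * g ∈ DoubleCoset.doubleCoset (D.s j * g) (D.borel : Set G) D.borel ∪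
      DoubleCoset.doubleCoset g (D.borel : Set G) D.borel := by
  apply mul_mem_union_of_root' D.borel D.Nsub (D.s j) (D.X j) _ _ _ g hg b hb
  · intro b hb
    exact D.ha j b hb
  · intro x hx hx1
    obtain ⟨b₁, hb₁, x', hx', e⟩ := D.hd j x hx hx1
    exact ⟨b₁, hb₁, x', hx', e⟩
  · intro g hg
    obtain ⟨π, hπ⟩ := D.exists_mon_of_mem_Nsub hg
    exact D.he j g π hπ

theorem DataC.conj_ne (j : Fin m) :
    (fun b : G => D.s j * b * D.s j) '' (D.borel : Set G) ≠ (D.borel : Set G) := by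
  intro h
  have hss : D.s j * D.s j ∈ D.borel := D.torus_le_borel (D.sq_mem j)
  have key : ∀ x ∈ D.borel, D.s j * x * (D.s j)⁻¹ ∈ D.borel := by
    intro x hx
    have h1 : D.s j * x * D.s j ∈ (D.borel : Set G) := by
      rw [← h]
      exact ⟨x, hx, rfl⟩
    have h2 := Subgroup.mul_mem _ h1 (Subgroup.inv_mem _ hss)
    have e : D.s j * x * D.s j * (D.s j * D.s j)⁻¹ = D.s j * x * (D.s j)⁻¹ := by group
    rwa [e] at h2
  obtain ⟨x, hx, hnot⟩ := D.exists_conj_not_mem j
  exact hnot (key x (D.uni_le_borel hx))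

end DataCSec

section DataCSec

variable {G : Type*} [Group G] {m : ℕ} (D : DataC G K n m)

theorem DataC.exists_bnPair :
    ∃ P : Cfsg.BNPair G, P.B = D.borel ∧ P.N = D.Nsub ∧ P.S = D.Sset := by
  have hSN : D.Sset ⊆ (D.Nsub : Set G) := by
    intro s hs
    unfold DataC.Nsub
    exact (le_sup_left : Subgroup.closure D.Sset ≤ _) (Subgroup.subset_closure hs)
  refine ⟨{
    B := D.borel
    N := D.Nsub
    S := D.Sset
    sup_eq_top := ?_
    conj_mem := ?_
    subset := hSN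
    sq_mem := ?_
    inj := ?_
    closure_sup := ?_
    mul_mem_union := ?_
    conj_ne := ?_ }, rfl, rfl, rfl⟩
  · rw [eq_top_iff]
    intro g _
    have hg := D.gen g
    have hle : Subgroup.closure ({b : G | IsTri (D.ρ b)} ∪ Set.range D.s) ≤ D.borel ⊔ D.Nsub := by
      rw [Subgroup.closure_le]
      rintro x (hx | hx)
      · exact (le_sup_left : D.borel ≤ _) hx
      · exact (le_sup_right : D.Nsub ≤ D.borel ⊔ D.Nsub) (hSN hx)
    exact hle hg
  · intro g hg t ht
    rw [D.borel_inf_Nsub] at ht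
    exact D.torus_le_borel (D.conj_torus_mem hg ht)
  · rintro _ ⟨j, rfl⟩
    exact D.torus_le_borel (D.sq_mem j)
  · rintro _ ⟨j, rfl⟩ _ ⟨j', rfl⟩ h
    rw [D.s_inj h]
  · rw [D.borel_inf_Nsub]
    rfl
  · rintro _ ⟨j, rfl⟩ g hg b hb
    exact D.mul_mem_union j hg hb
  · rintro _ ⟨j, rfl⟩
    exact D.conj_ne j

end DataCSec

section DataCSec

variable {G : Type*} [Group G] {m : ℕ} (D : DataC G K n m)

theorem DataC.finite {G : Type*} [Group G] {m : ℕ} (D : DataC G K n m) [Finite K] : Finite G :=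
  Finite.of_injective D.ρ D.ρ_inj

theorem DataC.isPGroup_uni (p : ℕ) [Fact p.Prime] [CharP K p] : IsPGroup p D.uni := by
  intro u
  refine ⟨n, ?_⟩
  apply Subtype.ext
  rw [Subgroup.coe_pow, Subgroup.coe_one]
  apply D.ρ_inj
  rw [map_pow, map_one]
  exact PGRP.pow_eq_one p _ u.2

theorem DataC.not_dvd_card_torus [Finite K] (p : ℕ) [Fact p.Prime] [CharP K p] :
    ¬ p ∣ Nat.card D.torus := by
  have : Finite G := D.finite
  intro hdvd
  obtain ⟨t, ht⟩ := exists_prime_orderOf_dvd_card' (G := D.torus) p hdvd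
  have htp : (t : G) ^ p = 1 := by
    have := pow_orderOf_eq_one t
    rw [ht] at this
    have h' := congrArg Subtype.val this
    rw [Subgroup.coe_pow, Subgroup.coe_one] at h'
    exact h'
  have hdg : IsDg (D.ρ t) := t.2
  have hdiag : D.ρ t = Matrix.diagonal (fun i => D.ρ t i i) := by
    ext i j
    by_cases hij : i = j
    · subst hij
      rw [Matrix.diagonal_apply_eq]
    · rw [Matrix.diagonal_apply_ne _ hij, hdg i j hij]
  have hpow : (D.ρ t) ^ p = 1 := by rw [← map_pow, htp, map_one]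
  have hentries : ∀ i, D.ρ t i i = 1 := by
    intro i
    rw [hdiag, Matrix.diagonal_pow] at hpow
    have h1 := congrFun (congrFun hpow i) i
    rw [Matrix.diagonal_apply_eq, Matrix.one_apply_eq] at h1
    have h1' : (D.ρ t i i) ^ p = 1 := h1
    have h2 : (D.ρ t i i - 1) ^ p = 0 := by
      rw [sub_pow_char, h1', one_pow, sub_self]
    exact sub_eq_zero.mp (pow_eq_zero_iff (Fact.out : p.Prime).ne_zero |>.mp h2)
  have hone : D.ρ t = 1 := by
    rw [hdiag, ← Matrix.diagonal_one]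
    congr 1
    funext i
    exact hentries i
  have ht1 : (t : G) = 1 := D.ρ_inj (by rw [hone, map_one])
  have : t = 1 := Subtype.ext ht1
  rw [this, orderOf_one] at ht
  exact (Fact.out : p.Prime).one_lt.ne' ht.symm

end DataCSec

/-- forget the longest element -/
def Data.toC {G : Type*} [Group G] {m : ℕ} (D : Data G K n m) : DataC G K n m where
  ρ := D.ρ
  ρ_inj := D.ρ_inj
  s := D.s
  τ := D.τ
  X := D.X
  mon_s := D.mon_s
  τ_sq := D.τ_sq
  τ_inj := D.τ_inj
  X_uni := D.X_uni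
  Y_low := D.Y_low
  X_ne := D.X_ne
  ha := D.ha
  hd := D.hd
  he := D.he
  gen := D.gen
  diag := D.diag

/-- the Steinberg character from a `DataC` and an abstract longest element -/
theorem DataC.exists_steinberg {G : Type*} [Group G] {m : ℕ} (D : DataC G K n m) [Finite K] (p : ℕ)
    [Fact p.Prime] [CharP K p] (n₀ : G) (hn₀ : n₀ ∈ Subgroup.closure (Set.range D.s))
    (hdesc : ∀ j : Fin m, ∃ x ∈ D.borel, ∃ b₁ ∈ D.borel, ∃ y : G,
      D.s j * x = b₁ * y ∧ n₀ * y⁻¹ * n₀⁻¹ ∈ D.borel)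
    (hopp : ∀ x ∈ D.uni, n₀⁻¹ * x * n₀ ∈ D.borel → x = 1) :
    ∃ χ : G ⧸ Subgroup.center G → ℂ, Cfsg.IsIrrCharacter (G ⧸ Subgroup.center G) χ ∧
      ∀ Q : Sylow p (G ⧸ Subgroup.center G), χ 1 = Nat.card Q ∧
        ∀ x : G ⧸ Subgroup.center G, x ∈ Q → x ≠ 1 → χ x = 0 := by
  have : Finite G := D.finite
  obtain ⟨P, hB, hN, hS⟩ := D.exists_bnPair
  have hH : P.B ⊓ P.N = D.torus := by rw [hB, hN]; exact D.borel_inf_Nsub
  apply exists_steinberg_of_split p P D.uni
  · rw [hB]; exact D.uni_le_borel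
  · intro b hb u hu
    rw [hB] at hb
    exact D.conj_uni_mem hb hu
  · intro b hb
    rw [hB] at hb
    rw [hH]
    exact D.borel_eq_mul hb
  · rw [hH]; exact D.uni_inf_torus
  · exact D.isPGroup_uni p
  · rw [hH]; exact D.not_dvd_card_torus p
  · intro s hs
    rw [hS] at hs
    obtain ⟨j, rfl⟩ := hs
    rw [hB]
    exact D.exists_conj_not_mem j
  · show n₀ ∈ P.N
    rw [hN]
    unfold DataC.Nsub DataC.Sset
    exact (le_sup_left : Subgroup.closure (Set.range D.s) ≤ _) hn₀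
  · intro s hs
    rw [hS] at hs
    obtain ⟨j, rfl⟩ := hs
    rw [hB]
    exact hdesc j
  · intro x hx h
    rw [hB] at h
    exact hopp x hx h

end Cfsg.Agent.MatBN
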