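import Mathlib
import Cfsg.Agent.Helper10.MetaFusC
import Cfsg.Agent.Helper10.BlkSmallA
import Cfsg.Agent.Helper23.PGroup

set_option autoImplicit false

/-! Fusion-theoretic glue for S5234, part 2: `Ω₁(P) ∩ Z(P)` is strongly closed. -/

namespace Cfsg.Agent.Helper10.MetaFus

open Cfsg Cfsg.FusionSystem Cfsg.Agent.Helper25 Cfsg.Agent.Helper26
open scoped commutatorElement

variable {Ω : Type*} [Group Ω] {S : Subgroup Ω}

/-- `Q₁ = V ∩ Z(P)` is receptive. -/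
theorem central_receptive [Finite S] (p : ℕ) (F : FusionSystem S) (hF : F.IsSaturated p)
    {P V Q₁ : Subgroup Ω} (hP : F.StronglyClosed P) (hV : F.StronglyClosed V) (hVP : V ≤ P)
    (hQ₁ : Q₁ = V ⊓ Subgroup.centralizer (P : Set Ω)) : F.IsReceptive Q₁ := by
  have hPS := hP.1
  have hQ₁V : Q₁ ≤ V := hQ₁ ▸ inf_le_left
  have hQ₁C : Q₁ ≤ Subgroup.centralizer (P : Set Ω) := hQ₁ ▸ inf_le_right
  have hQ₁P : Q₁ ≤ P := hQ₁V.trans hVP
  have hQ₁S : Q₁ ≤ S := hQ₁P.trans hPS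
  have : Finite P := finite_of_le hPS
  have : Finite Q₁ := finite_of_le hQ₁S
  obtain ⟨X, ⟨θ, hθ, hθr⟩, -, hrec⟩ := hF Q₁ hQ₁S
  have hcomm : ∀ g ∈ P, ∀ x ∈ Q₁, g * x = x * g := fun g hg x hx =>
    Subgroup.mem_centralizer_iff.mp (hQ₁C hx) g hg
  obtain ⟨χ, hχ, hχext⟩ := exists_extension F hrec θ hθ hθr hQ₁P hPS
    (by
      intro g hg
      apply Subgroup.centralizer_le_normalizer
      rw [Subgroup.mem_centralizer_iff]
      intro x hx
      exact (hcomm g hg x hx).symm)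
    (by
      intro g hg
      refine ⟨1, S.one_mem, fun x hx => ?_⟩
      have : (⟨g * (x : Ω) * g⁻¹, hx⟩ : Q₁) = x := by
        apply Subtype.ext
        show g * (x : Ω) * g⁻¹ = x
        rw [hcomm g hg x x.2, mul_inv_cancel_right]
      rw [this]
      simp)
  have hχP : ∀ y : P, χ y ∈ P := fun y => hP.2 P le_rfl χ hχ y
  have hinj : Function.Injective (χ.codRestrict P hχP) := by
    intro a b hab
    exact F.injective_of_mem hχ (congrArg Subtype.val hab)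
  have hsurj : Function.Surjective (χ.codRestrict P hχP) :=
    Finite.injective_iff_surjective.mp hinj
  have hXle : X ≤ Q₁ := by
    have hmem : ∀ z, z ∈ V → z ∈ Subgroup.centralizer (P : Set Ω) → z ∈ Q₁ := by
      intro z h1 h2
      rw [hQ₁]
      exact ⟨h1, h2⟩
    rw [← hθr]
    rintro _ ⟨x, rfl⟩
    apply hmem _ (hV.2 Q₁ hQ₁V θ hθ x)
    rw [Subgroup.mem_centralizer_iff]
    intro y hy
    obtain ⟨y', hy'⟩ := hsurj ⟨y, hy⟩
    have hy'' : χ y' = y := congrArg Subtype.val hy'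
    have hx' : θ x = χ ⟨x, hQ₁P x.2⟩ := (hχext x x.2).symm
    rw [hx', ← hy'', ← map_mul, ← map_mul]
    congr 1
    apply Subtype.ext
    exact hcomm y' y'.2 x x.2
  have hcard : Nat.card X = Nat.card Q₁ := by
    rw [← hθr]
    exact (Nat.card_congr (MonoidHom.ofInjective (F.injective_of_mem hθ)).toEquiv).symm
  have : X = Q₁ := Subgroup.eq_of_le_of_card_ge hXle hcard.ge
  exact this ▸ hrec

/-- For a strongly closed `P` (`p` odd) whose elements of order `p` form a commutative subgroup `V`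
of order `p²`, the subgroup `V ∩ Z(P)` is strongly closed. -/
theorem stronglyClosed_inf_centralizer [Finite S] (p : ℕ) [Fact p.Prime] (hp : p ≠ 2)
    (hS : IsPGroup p S) (F : FusionSystem S) (hF : F.IsSaturated p)
    {P V : Subgroup Ω} (hP : F.StronglyClosed P) (hV : F.StronglyClosed V) (hVP : V ≤ P)
    (hVmem : ∀ x ∈ P, x ^ p = 1 → x ∈ V) (hVcard : Nat.card V = p ^ 2)
    (hVcomm : ∀ a ∈ V, ∀ b ∈ V, a * b = b * a) :
    F.StronglyClosed (V ⊓ Subgroup.centralizer (P : Set Ω)) ∧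
      ⁅V, P⁆ ≤ V ⊓ Subgroup.centralizer (P : Set Ω) := by
  classical
  have hpp : p.Prime := Fact.out
  have hPS := hP.1
  have hVS := hV.1
  have hSV : S ≤ Subgroup.normalizer (V : Set Ω) := le_normalizer_of_stronglyClosed F hV
  by_cases hc : V ≤ Subgroup.centralizer (P : Set Ω)
  · rw [inf_eq_left.mpr hc]
    refine ⟨hV, ?_⟩
    rw [Subgroup.commutator_eq_bot_iff_le_centralizer.mpr hc]
    exact bot_le
  obtain ⟨Q₁, hQ₁⟩ : ∃ Q₁, Q₁ = V ⊓ Subgroup.centralizer (P : Set Ω) := ⟨_, rfl⟩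
  rw [← hQ₁]
  have hQ₁V : Q₁ ≤ V := hQ₁ ▸ inf_le_left
  have hQ₁C : Q₁ ≤ Subgroup.centralizer (P : Set Ω) := hQ₁ ▸ inf_le_right
  have hQ₁S : Q₁ ≤ S := hQ₁V.trans hVS
  have : Finite P := finite_of_le hPS
  have : Finite V := finite_of_le hVS
  have : Finite Q₁ := finite_of_le hQ₁S
  have hPp : IsPGroup p P := isPGroup_of_le hS hPS
  have hKn : (V.subgroupOf P).Normal :=
    (Subgroup.normal_subgroupOf_iff_le_normalizer hVP).mpr (hPS.trans hSV)
  have hKne : V.subgroupOf P ≠ ⊥ := by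
    intro h
    rw [Subgroup.subgroupOf_eq_bot] at h
    have hV0 : V = ⊥ := by
      have := disjoint_iff.mp h
      rwa [inf_eq_left.mpr hVP] at this
    rw [hV0, Subgroup.card_bot] at hVcard
    have := hpp.one_lt
    have h2 : 1 < p ^ 2 := Nat.one_lt_pow (by norm_num) this
    omega
  obtain ⟨b, hbK, hbZ, hb1⟩ :=
    Cfsg.Agent.Helper23.exists_mem_inf_center_ne_one hPp (V.subgroupOf P) hKne
  have hbQ₁ : (b : Ω) ∈ Q₁ := by
    have hmem : ∀ z, z ∈ V → z ∈ Subgroup.centralizer (P : Set Ω) → z ∈ Q₁ := by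
      intro z h1 h2
      rw [hQ₁]
      exact ⟨h1, h2⟩
    apply hmem _ (Subgroup.mem_subgroupOf.mp hbK)
    rw [Subgroup.mem_centralizer_iff]
    intro g hg
    have := Subgroup.mem_center_iff.mp hbZ ⟨g, hg⟩
    exact congrArg Subtype.val this
  have hb1' : (b : Ω) ≠ 1 := fun h => hb1 (Subtype.ext h)
  have hQ₁card : Nat.card Q₁ = p := by
    have hdvd : Nat.card Q₁ ∣ p ^ 2 := hVcard ▸ Subgroup.card_dvd_of_le hQ₁V
    obtain ⟨i, hi, hQi⟩ := (Nat.dvd_prime_pow hpp).mp hdvd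
    interval_cases i
    · exfalso
      rw [pow_zero] at hQi
      have : Q₁ = ⊥ := Subgroup.eq_bot_of_card_eq _ hQi
      rw [this] at hbQ₁
      exact hb1' (Subgroup.mem_bot.mp hbQ₁)
    · simpa using hQi
    · exfalso
      have : Q₁ = V := Subgroup.eq_of_le_of_card_ge hQ₁V (by rw [hQi, hVcard])
      apply hc
      rw [← this]
      exact hQ₁C
  have hNn : (Q₁.subgroupOf P).Normal := by
    refine ⟨fun n hn g => ?_⟩
    have : g * n * g⁻¹ = n := by
      apply Subtype.ext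
      show (g : Ω) * n * (g : Ω)⁻¹ = n
      have := Subgroup.mem_centralizer_iff.mp (hQ₁C (Subgroup.mem_subgroupOf.mp hn)) g g.2
      rw [this, mul_inv_cancel_right]
    rw [this]
    exact hn
  have hV3 : ∀ v ∈ V, ∀ g ∈ P, g * v * g⁻¹ * v⁻¹ ∈ Q₁ := by
    intro v hv g hg
    have hEcard : Nat.card (V.subgroupOf P) = p ^ 2 := by
      rw [← hVcard]
      exact Nat.card_congr (Subgroup.subgroupOfEquivOfLe hVP).toEquiv
    have hNcard : Nat.card (Q₁.subgroupOf P) = p := by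
      rw [← hQ₁card]
      exact Nat.card_congr (Subgroup.subgroupOfEquivOfLe (hQ₁V.trans hVP)).toEquiv
    have hNE : Q₁.subgroupOf P ≤ V.subgroupOf P := fun x hx =>
      Subgroup.mem_subgroupOf.mpr (hQ₁V (Subgroup.mem_subgroupOf.mp hx))
    have hvK : (⟨v, hVP hv⟩ : P)⁻¹ ∈ V.subgroupOf P :=
      (V.subgroupOf P).inv_mem (Subgroup.mem_subgroupOf.mpr hv)
    have h := Cfsg.Agent.Helper10.Blk.comm_mem_of_normal_sq hPp (V.subgroupOf P)
      (Q₁.subgroupOf P) hNE hEcard hNcard ((⟨v, hVP hv⟩ : P)⁻¹) hvK ((⟨g, hg⟩ : P)⁻¹)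
    have h' := Subgroup.mem_subgroupOf.mp ((Q₁.subgroupOf P).inv_mem h)
    have e : g * v * g⁻¹ * v⁻¹ = (((((⟨v, hVP hv⟩ : P)⁻¹)⁻¹ * ((⟨g, hg⟩ : P)⁻¹)⁻¹ *
        (⟨v, hVP hv⟩ : P)⁻¹ * (⟨g, hg⟩ : P)⁻¹)⁻¹ : P) : Ω) := by
      simp [mul_assoc]
    rw [e]
    exact h'
  refine ⟨?_, ?_⟩
  swap
  · rw [Subgroup.commutator_le]
    intro v hv g hg
    have := hV3 v hv g hg
    -- ⁅v, g⁆ = v g v⁻¹ g⁻¹ = (g v g⁻¹ v⁻¹)⁻¹
    have e : ⁅v, g⁆ = (g * v * g⁻¹ * v⁻¹)⁻¹ := by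
      rw [commutatorElement_def]
      group
    rw [e]
    exact Q₁.inv_mem this
  have hrecQ₁ : F.IsReceptive Q₁ := central_receptive p F hF hP hV hVP hQ₁
  have hrecV : F.IsReceptive V := receptive_of_stronglyClosed p F hF hV
  refine ⟨hQ₁S, fun R hR φ hφ x => ?_⟩
  have : Finite R := finite_of_le (hR.trans hQ₁S)
  have hRdvd : Nat.card R ∣ p := hQ₁card ▸ Subgroup.card_dvd_of_le hR
  rcases (Nat.dvd_prime hpp).mp hRdvd with h1 | h1
  · have hx : x = 1 := by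
      have : Subsingleton R := (Nat.card_eq_one_iff_unique.mp h1).1
      exact Subsingleton.elim _ _
    rw [hx, map_one]
    exact Q₁.one_mem
  have hRQ : Q₁ = R := (Subgroup.eq_of_le_of_card_ge hR (by rw [h1, hQ₁card])).symm
  subst hRQ
  by_contra hx
  have hφV : ∀ y : Q₁, φ y ∈ V := fun y => hV.2 Q₁ hQ₁V φ hφ y
  obtain ⟨ψ, hψ, hψinv, hψr⟩ := exists_inv_mem F hφ rfl
  have hYV : φ.range ≤ V := by
    rintro _ ⟨y, rfl⟩
    exact hφV y
  obtain ⟨χ, hχ, hχext⟩ := exists_extension F hrecQ₁ ψ hψ hψr hYV hVS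
    (by
      intro g hg
      apply Subgroup.centralizer_le_normalizer
      rw [Subgroup.mem_centralizer_iff]
      intro y hy
      exact hVcomm y (hYV hy) g hg)
    (by
      intro g hg
      refine ⟨1, S.one_mem, fun y hy => ?_⟩
      have : (⟨g * (y : Ω) * g⁻¹, hy⟩ : φ.range) = y := by
        apply Subtype.ext
        show g * (y : Ω) * g⁻¹ = y
        rw [hVcomm g hg y (hYV y.2), mul_inv_cancel_right]
      rw [this]
      simp)
  obtain ⟨α, hαF, hα⟩ := exists_aut_of_hom F χ hχ (fun y => hV.2 V le_rfl χ hχ y)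
  have hαφ : ∀ y : Q₁, α ⟨φ y, hφV y⟩ = ⟨y, hQ₁V y.2⟩ := by
    intro y
    apply Subtype.ext
    rw [hα]
    have h2 := hχext (φ y) ⟨y, rfl⟩
    have h3 := hψinv y ⟨y, rfl⟩
    exact h2.trans h3
  -- a transvection coming from P
  obtain ⟨v₀, hv₀V, hv₀⟩ := SetLike.not_le_iff_exists.mp hc
  rw [Subgroup.mem_centralizer_iff] at hv₀
  push Not at hv₀
  obtain ⟨g₀, hg₀P, hg₀⟩ := hv₀
  have hg₀S := hPS hg₀P
  have hconjV : ∀ y : V, conjHom V g₀ y ∈ V := by
    intro y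
    show g₀ * (y : Ω) * g₀⁻¹ ∈ V
    exact (Subgroup.mem_normalizer_iff.mp (hSV hg₀S) y).mp y.2
  obtain ⟨τ, hτF, hτ⟩ := exists_aut_of_hom F (conjHom V g₀) (F.conj_mem hVS hg₀S) hconjV
  have hτ' : ∀ y : V, ((τ y : V) : Ω) = g₀ * y * g₀⁻¹ := fun y => hτ y
  set L := Q₁.subgroupOf V with hLdef
  have hLcard : Nat.card L = p := by
    rw [← hQ₁card]
    exact Nat.card_congr (Subgroup.subgroupOfEquivOfLe hQ₁V).toEquiv
  have hVc : ∀ a b : V, a * b = b * a := fun a b => Subtype.ext (hVcomm a a.2 b b.2)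
  obtain ⟨ω, hωcl, hω⟩ := exists_inv_mem_closure hVc hVcard L hLcard τ α⁻¹
    (by
      intro u hu
      apply Subtype.ext
      rw [hτ']
      have := Subgroup.mem_centralizer_iff.mp (hQ₁C (Subgroup.mem_subgroupOf.mp hu)) g₀ hg₀P
      rw [this, mul_inv_cancel_right])
    (by
      intro v
      rw [hLdef, Subgroup.mem_subgroupOf]
      have := hV3 v v.2 g₀ hg₀P
      have e : ((τ v * v⁻¹ : V) : Ω) = g₀ * v * g₀⁻¹ * (v : Ω)⁻¹ := by
        rw [Subgroup.coe_mul, hτ', Subgroup.coe_inv]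
      rw [e]
      exact this)
    (by
      intro h
      have h2 := hτ' ⟨v₀, hv₀V⟩
      rw [h] at h2
      have h3 : v₀ = g₀ * v₀ * g₀⁻¹ := h2
      apply hg₀
      calc g₀ * v₀ = g₀ * v₀ * g₀⁻¹ * g₀ := by group
        _ = v₀ * g₀ := by rw [← h3])
    ⟨(x : Ω), hQ₁V x.2⟩ (Subgroup.mem_subgroupOf.mpr x.2)
    (by
      have : α⁻¹ ⟨(x : Ω), hQ₁V x.2⟩ = ⟨φ x, hφV x⟩ := by
        rw [← hαφ x]
        simp
      rw [this, hLdef, Subgroup.mem_subgroupOf]
      exact hx)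
  have hωF : ω ∈ F.autGroup V := by
    refine (Subgroup.closure_le _).mpr ?_ hωcl
    rintro _ (rfl | rfl)
    · exact hτF
    · exact (F.autGroup V).inv_mem hαF
  obtain ⟨χ₂, hχ₂, hχ₂ext⟩ := exists_extension F hrecV (autHom ω)
    ((mem_autGroup_iff F hVS ω).mp hωF) (autHom_range ω) hVP hPS (hPS.trans hSV)
    (by
      intro g hg
      refine ⟨g, hPS hg, fun y hy => ?_⟩
      show (((ω ⟨g * (y : Ω) * g⁻¹, hy⟩ : V)) : Ω) = g * ((ω y : V) : Ω) * g⁻¹
      rw [hω, hω]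
      simp [mul_assoc])
  obtain ⟨σ, -, hσ⟩ := exists_aut_of_hom F χ₂ hχ₂ (fun y => hP.2 P le_rfl χ₂ hχ₂ y)
  have hcen := le_center_of_inverting hp hPp (V.subgroupOf P)
    (by
      intro y hy
      rw [Subgroup.mem_subgroupOf]
      apply hVmem _ y.2
      have := congrArg Subtype.val hy
      simpa using this)
    σ
    (by
      intro v hv
      apply Subtype.ext
      rw [hσ]
      have hvV : (v : Ω) ∈ V := Subgroup.mem_subgroupOf.mp hv
      have h2 := hχ₂ext (v : Ω) hvV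
      calc χ₂ v = autHom ω ⟨v, hvV⟩ := h2
        _ = ((ω ⟨v, hvV⟩ : V) : Ω) := rfl
        _ = ((v⁻¹ : P) : Ω) := by rw [hω]; rfl)
  apply hc
  intro v hv
  rw [Subgroup.mem_centralizer_iff]
  intro g hg
  have hvK : (⟨v, hVP hv⟩ : P) ∈ V.subgroupOf P := Subgroup.mem_subgroupOf.mpr hv
  have := Subgroup.mem_center_iff.mp (hcen hvK) ⟨g, hg⟩
  exact congrArg Subtype.val this

end Cfsg.Agent.Helper10.MetaFus
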