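import Mathlib
import Cfsg.Agent.Helper10.MetaFusD
import Cfsg.Agent.Helper1.Metacyclic

set_option autoImplicit false

/-! S5234: a strongly closed metacyclic subgroup is normal in a saturated fusion system (`p` odd). -/

namespace Cfsg.Agent.Helper10.MetaFus

open Cfsg Cfsg.FusionSystem Cfsg.Agent.Helper25 Cfsg.Agent.Helper26
open scoped commutatorElement

variable {Ω : Type*} [Group Ω] {S : Subgroup Ω}

theorem isNormal_of_three [Finite S] (p : ℕ) [Fact p.Prime] (hS : IsPGroup p S)
    (F : FusionSystem S) (hF : F.IsSaturated p) (hp : p ≠ 2) (P : Subgroup Ω)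
    (hP : F.StronglyClosed P) (A : Subgroup Ω) (hA : F.StronglyClosed A)
    (hV : F.StronglyClosed (omegaOne p P)) (hAV : A ≤ omegaOne p P) (h1 : ⁅A, P⁆ ≤ ⊥)
    (h2 : ⁅omegaOne p P, P⁆ ≤ A) : F.IsNormal P := by
  rw [isNormal_iff_omega_chain p hS F hF hp P hP]
  refine ⟨2, ![⊥, A, omegaOne p P], rfl, rfl, ?_, ?_, ?_⟩
  · intro i j hij
    fin_cases i <;> fin_cases j <;>
      first
        | exact bot_le
        | exact le_rfl
        | exact hAV
        | exact absurd hij (by decide)
  · intro i
    fin_cases i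
    exacts [bot_sc F, hA, hV]
  · intro i
    fin_cases i
    exacts [h1, h2]

theorem metacyclic_isNormal [Finite S] (p : ℕ) [Fact p.Prime] (hS : IsPGroup p S)
    (F : FusionSystem S) (hF : F.IsSaturated p) (P : Subgroup Ω) (hP : F.StronglyClosed P)
    (hp : p ≠ 2) (hm : Cfsg.IsMetacyclic ↥P) : F.IsNormal P := by
  have hpp : p.Prime := Fact.out
  have hPS := hP.1
  have : Finite P := finite_of_le hPS
  have hPp : IsPGroup p P := isPGroup_of_le hS hPS
  have hVP : omegaOne p P ≤ P := omegaOne_le p P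
  have hVmem : ∀ x ∈ P, x ^ p = 1 → x ∈ omegaOne p P :=
    fun x hx h => Subgroup.subset_closure ⟨hx, h⟩
  have hcyccomm : IsCyclic P → ∀ a b : P, a * b = b * a := by
    intro hcyc a b
    let _ := IsCyclic.commGroup (α := P)
    exact mul_comm a b
  have hK : ∃ K : Subgroup P, (∀ x : P, x ∈ K ↔ x ^ p = 1) ∧
      (¬ IsCyclic P → Nat.card K = p ^ 2) := by
    by_cases hcyc : IsCyclic P
    · have hcomm := hcyccomm hcyc
      refine ⟨{ carrier := {x | x ^ p = 1}
                mul_mem' := ?_
                one_mem' := one_pow p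
                inv_mem' := ?_ }, fun x => Iff.rfl, fun h => absurd hcyc h⟩
      · intro a b ha hb
        simp only [Set.mem_ofPred_eq] at *
        rw [(show Commute a b from hcomm a b).mul_pow, ha, hb, one_mul]
      · intro a ha
        simp only [Set.mem_ofPred_eq] at *
        rw [inv_pow, ha, inv_one]
    · obtain ⟨K, hK1, hK2⟩ := Cfsg.Agent.Helper1.Metacyclic.metacyclic_omega hp hPp hm hcyc
      exact ⟨K, hK1, fun _ => hK2⟩
  obtain ⟨K, hK1, hK2⟩ := hK
  have hVeq : omegaOne p P = K.map P.subtype := by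
    apply le_antisymm
    · unfold omegaOne
      rw [Subgroup.closure_le]
      rintro x ⟨hxP, hxp⟩
      exact ⟨⟨x, hxP⟩, (hK1 _).mpr (Subtype.ext (by simpa using hxp)), rfl⟩
    · rintro _ ⟨k, hk, rfl⟩
      apply hVmem _ k.2
      have := congrArg Subtype.val ((hK1 k).mp hk)
      simpa using this
  have hVexp : ∀ v ∈ omegaOne p P, v ^ p = 1 := by
    intro v hv
    rw [hVeq] at hv
    obtain ⟨k, hk, rfl⟩ := hv
    have := congrArg Subtype.val ((hK1 k).mp hk)
    simpa using this
  have hVsc : F.StronglyClosed (omegaOne p P) := by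
    refine ⟨hVP.trans hPS, fun R hR φ hφ x => ?_⟩
    apply hVmem _ (hP.2 R (hR.trans hVP) φ hφ x)
    rw [← map_pow]
    have : x ^ p = 1 := Subtype.ext (by simpa using hVexp x (hR x.2))
    rw [this, map_one]
  by_cases hcyc : IsCyclic P
  · have hcomm := hcyccomm hcyc
    have hc : omegaOne p P ≤ Subgroup.centralizer (P : Set Ω) := by
      intro v hv
      rw [Subgroup.mem_centralizer_iff]
      intro g hg
      exact congrArg Subtype.val (hcomm ⟨g, hg⟩ ⟨v, hVP hv⟩)
    apply isNormal_of_three p hS F hF hp P hP (omegaOne p P) hVsc hVsc le_rfl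
    · rw [Subgroup.commutator_eq_bot_iff_le_centralizer.mpr hc]
    · rw [Subgroup.commutator_eq_bot_iff_le_centralizer.mpr hc]
      exact bot_le
  · have hKcard := hK2 hcyc
    have hVcard : Nat.card (omegaOne p P) = p ^ 2 := by
      rw [hVeq, Subgroup.card_map_of_injective P.subtype_injective, hKcard]
    have hVcomm : ∀ a ∈ omegaOne p P, ∀ b ∈ omegaOne p P, a * b = b * a := by
      have hfin : Finite (omegaOne p P) := finite_of_le (hVP.trans hPS)
      have hmc : IsMulCommutative (omegaOne p P) :=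
        IsPGroup.isMulCommutative_of_card_eq_prime_sq hVcard
      intro a ha b hb
      exact congrArg Subtype.val (hmc.is_comm.comm ⟨a, ha⟩ ⟨b, hb⟩)
    obtain ⟨hsc, hcomm⟩ :=
      stronglyClosed_inf_centralizer p hp hS F hF hP hVsc hVP hVmem hVcard hVcomm
    apply isNormal_of_three p hS F hF hp P hP _ hsc hVsc inf_le_left ?_ hcomm
    rw [Subgroup.commutator_eq_bot_iff_le_centralizer.mpr inf_le_right]

end Cfsg.Agent.Helper10.MetaFus
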