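import Mathlib
import Cfsg.Agent.Helper26.Meta2C

set_option autoImplicit false

/-! Group-theoretic preliminaries for strongly closed metacyclic `2`-subgroups: comparison of
elements in cyclic `p`-groups, and self-centralizing nonabelian subgroups of metacyclic
`p`-groups. -/

namespace Cfsg.Agent.Helper10.MetaTwo

universe u

/-- In a finite cyclic group, an element whose order divides the order of `v` is a power of
`v`. -/
theorem mem_zpowers_of_orderOf_dvd {C : Type*} [Group C] [Finite C] [IsCyclic C] (u v : C)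
    (h : orderOf u ∣ orderOf v) : u ∈ Subgroup.zpowers v := by
  classical
  letI := Fintype.ofFinite C
  have hpos : 0 < orderOf v := orderOf_pos v
  have h1 := IsCyclic.card_pow_eq_one_le (α := C) hpos
  have hsub : (Finset.univ.filter fun a : C => a ∈ Subgroup.zpowers v) ⊆
      Finset.univ.filter fun a : C => a ^ orderOf v = 1 := by
    intro x hx
    rw [Finset.mem_filter] at hx ⊢
    obtain ⟨k, rfl⟩ := Subgroup.mem_zpowers_iff.mp hx.2
    refine ⟨Finset.mem_univ _, ?_⟩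
    rw [← zpow_natCast, ← zpow_mul, mul_comm, zpow_mul, zpow_natCast, pow_orderOf_eq_one,
      one_zpow]
  have hcard : (Finset.univ.filter fun a : C => a ∈ Subgroup.zpowers v).card = orderOf v := by
    rw [← Fintype.card_subtype, ← Nat.card_eq_fintype_card]
    exact Nat.card_zpowers v
  have heq := Finset.eq_of_subset_of_card_le hsub (by rw [hcard]; exact h1)
  have hu : u ∈ Finset.univ.filter fun a : C => a ^ orderOf v = 1 := by
    rw [Finset.mem_filter]
    exact ⟨Finset.mem_univ _, orderOf_dvd_iff_pow_eq_one.mp h⟩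
  rw [← heq, Finset.mem_filter] at hu
  exact hu.2

/-- Any two elements of a finite cyclic `p`-group are comparable. -/
theorem mem_zpowers_or {C : Type*} [Group C] [Finite C] [IsCyclic C] {p : ℕ} [Fact p.Prime]
    (hC : IsPGroup p C) (u v : C) : u ∈ Subgroup.zpowers v ∨ v ∈ Subgroup.zpowers u := by
  obtain ⟨a, ha⟩ := (IsPGroup.iff_orderOf.mp hC) u
  obtain ⟨b, hb⟩ := (IsPGroup.iff_orderOf.mp hC) v
  rcases le_total a b with h | h
  · left
    apply mem_zpowers_of_orderOf_dvd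
    rw [ha, hb]
    exact pow_dvd_pow p h
  · right
    apply mem_zpowers_of_orderOf_dvd
    rw [ha, hb]
    exact pow_dvd_pow p h

/-- A nonabelian subgroup of a finite metacyclic `p`-group contains its centralizer. -/
theorem centralizer_le_of_metacyclic {X : Type*} [Group X] [Finite X] {p : ℕ} [Fact p.Prime]
    (hX : IsPGroup p X) (hm : Cfsg.IsMetacyclic X) (B : Subgroup X)
    (hB : ∃ x ∈ B, ∃ y ∈ B, x * y ≠ y * x) : Subgroup.centralizer (B : Set X) ≤ B := by
  obtain ⟨M, hMn, hMc, hQc⟩ := hm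
  haveI := hMn
  have hMp : IsPGroup p M := hX.to_subgroup M
  have hQp : IsPGroup p (X ⧸ M) := hX.to_quotient M
  -- comparison in the quotient
  have hquo : ∀ x y : X, (∃ j : ℤ, (x ^ j)⁻¹ * y ∈ M) ∨ (∃ j : ℤ, (y ^ j)⁻¹ * x ∈ M) := by
    have key : ∀ x y : X, (QuotientGroup.mk y : X ⧸ M) ∈
        Subgroup.zpowers (QuotientGroup.mk x : X ⧸ M) → ∃ j : ℤ, (x ^ j)⁻¹ * y ∈ M := by
      intro x y h
      obtain ⟨j, hj⟩ := Subgroup.mem_zpowers_iff.mp h
      refine ⟨j, ?_⟩
      rw [← QuotientGroup.eq_one_iff, QuotientGroup.mk_mul, QuotientGroup.mk_inv,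
        QuotientGroup.mk_zpow, hj, inv_mul_cancel]
    intro x y
    rcases mem_zpowers_or hQp (QuotientGroup.mk y : X ⧸ M) (QuotientGroup.mk x) with h | h
    · exact Or.inl (key x y h)
    · exact Or.inr (key y x h)
  -- comparison in `M`
  have hsub : ∀ m₁ ∈ M, ∀ m₂ ∈ M, (∃ k : ℤ, m₂ ^ k = m₁) ∨ (∃ k : ℤ, m₁ ^ k = m₂) := by
    have key : ∀ a b : M, a ∈ Subgroup.zpowers b → ∃ k : ℤ, (b : X) ^ k = a := by
      intro a b h
      obtain ⟨k, hk⟩ := Subgroup.mem_zpowers_iff.mp h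
      exact ⟨k, by have := congrArg Subtype.val hk; simpa using this⟩
    intro m₁ h₁ m₂ h₂
    rcases mem_zpowers_or hMp (⟨m₁, h₁⟩ : M) ⟨m₂, h₂⟩ with h | h
    · exact Or.inl (key _ _ h)
    · exact Or.inr (key _ _ h)
  have hMcomm : ∀ m₁ ∈ M, ∀ m₂ ∈ M, m₁ * m₂ = m₂ * m₁ := by
    intro m₁ h₁ m₂ h₂
    rcases hsub m₁ h₁ m₂ h₂ with ⟨k, rfl⟩ | ⟨k, rfl⟩
    · exact ((Commute.refl m₂).zpow_left k).eq
    · exact ((Commute.refl m₁).zpow_right k).eq
  -- a noncommuting pair with one member in `M`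
  obtain ⟨x, hx, y, hy, hxy⟩ := hB
  obtain ⟨a, b, haB, haM, hbB, hab⟩ : ∃ a b : X, a ∈ B ∧ a ∈ M ∧ b ∈ B ∧ a * b ≠ b * a := by
    rcases hquo x y with ⟨j, hj⟩ | ⟨j, hj⟩
    · refine ⟨(x ^ j)⁻¹ * y, x, B.mul_mem (B.inv_mem (B.zpow_mem hx j)) hy, hj, hx, ?_⟩
      intro h
      apply hxy
      calc x * y = x ^ j * (x * ((x ^ j)⁻¹ * y)) := by group
        _ = x ^ j * ((x ^ j)⁻¹ * y * x) := by rw [h]
        _ = y * x := by group
    · refine ⟨(y ^ j)⁻¹ * x, y, B.mul_mem (B.inv_mem (B.zpow_mem hy j)) hx, hj, hy, ?_⟩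
      intro h
      apply hxy
      symm
      calc y * x = y ^ j * (y * ((y ^ j)⁻¹ * x)) := by group
        _ = y ^ j * ((y ^ j)⁻¹ * x * y) := by rw [h]
        _ = x * y := by group
  intro c hc
  rw [Subgroup.mem_centralizer_iff] at hc
  rcases hquo c b with ⟨j, hj⟩ | ⟨j, hj⟩
  · exfalso
    apply hab
    have hac : a * c ^ j = c ^ j * a :=
      ((show Commute a c from hc a haB).zpow_right j).eq
    have ham := hMcomm a haM _ hj
    calc a * b = a * c ^ j * ((c ^ j)⁻¹ * b) := by group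
      _ = c ^ j * (a * ((c ^ j)⁻¹ * b)) := by rw [hac]; group
      _ = c ^ j * ((c ^ j)⁻¹ * b * a) := by rw [ham]
      _ = b * a := by group
  · have hbc : b * c = c * b := hc b hbB
    have hmb : (b ^ j)⁻¹ * c * b = b * ((b ^ j)⁻¹ * c) := by
      calc (b ^ j)⁻¹ * c * b = (b ^ j)⁻¹ * (c * b) := by group
        _ = (b ^ j)⁻¹ * (b * c) := by rw [hbc]
        _ = b * ((b ^ j)⁻¹ * c) := by group
    rcases hsub a haM _ hj with ⟨k, hk⟩ | ⟨k, hk⟩
    · exfalso
      apply hab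
      rw [← hk]
      exact ((show Commute ((b ^ j)⁻¹ * c) b from hmb).zpow_left k).eq
    · have h1 : (b ^ j)⁻¹ * c ∈ B := hk ▸ B.zpow_mem haB k
      have h2 := B.mul_mem (B.zpow_mem hbB j) h1
      rwa [mul_inv_cancel_left] at h2

/-- A finite metacyclic `2`-group with a nonabelian subgroup of order `8` is dihedral,
semidihedral or generalized quaternion. -/
theorem cases_of_nonabelian_eight {X : Type u} [Group X] [Finite X] (hX : IsPGroup 2 X)
    (hm : Cfsg.IsMetacyclic X) (B : Subgroup X) (hB : Nat.card B = 8)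
    (hBna : ∃ x ∈ B, ∃ y ∈ B, x * y ≠ y * x) :
    (∃ m : ℕ, Nonempty (X ≃* DihedralGroup m)) ∨ Cfsg.IsQuasiDihedral X ∨
      (∃ m : ℕ, Nonempty (X ≃* QuaternionGroup m)) := by
  haveI : Fact (Nat.Prime 2) := ⟨Nat.prime_two⟩
  obtain ⟨n, hn⟩ := IsPGroup.iff_card.mp hX
  have hC := centralizer_le_of_metacyclic hX hm B hBna
  have hB' : Nat.card B = 2 ^ 3 := by rw [hB]; norm_num
  have hna : ¬ IsMulCommutative B := by
    intro hcomm
    obtain ⟨x, hx, y, hy, hxy⟩ := hBna
    have := hcomm.is_comm.comm (⟨x, hx⟩ : B) ⟨y, hy⟩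
    exact hxy (congrArg Subtype.val this)
  have hclass := Cfsg.Agent.S4143.result n hn B hB' hna hC
  have hn3 : 3 ≤ n := by
    have hdvd : Nat.card B ∣ Nat.card X := Subgroup.card_subgroup_dvd_card B
    rw [hB', hn] at hdvd
    exact (Nat.pow_dvd_pow_iff_le_right (by norm_num)).mp hdvd
  exact Cfsg.Agent.Helper26.Meta2.maxClass_cases n hn3 hn hclass

end Cfsg.Agent.Helper10.MetaTwo
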