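import Mathlib
import Cfsg.Agent.Helper10.MetaTwoA
import Cfsg.Agent.Helper10.MetaTwoB
import Cfsg.Agent.Helper26.Meta2D

set_option autoImplicit false

/-! A strongly closed metacyclic `2`-subgroup outside the dihedral / semidihedral / quaternion
list lies in every essential subgroup of a saturated fusion system. -/

namespace Cfsg.Agent.Helper10.MetaTwo

open Cfsg Cfsg.FusionSystem Cfsg.Agent.Helper25 Cfsg.Agent.Helper26.Meta2

variable {Ω : Type*} [Group Ω]

/-- The metacyclic computation inside an ambient group. -/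
theorem comm_sq_ambient {P E : Subgroup Ω} (hm : Cfsg.IsMetacyclic ↥P) [Finite E] (hEP : E ≤ P)
    (hEab : ∀ x ∈ E, ∀ y ∈ E, x * y = y * x) (n : ℕ) (hn : 2 ≤ n) (hcard : Nat.card E = 4 ^ n)
    (hexp : ∀ x : E, x ^ (2 ^ n) = 1) {g : Ω} (hgP : g ∈ P)
    (hgN : g ∈ Subgroup.normalizer (E : Set Ω)) (hg2 : g * g ∈ E) :
    ∀ x ∈ E, ∃ y ∈ E, g * x * g⁻¹ * x⁻¹ = y * y := by
  intro x hx
  obtain ⟨T, hT⟩ : ∃ T, T = E ⊔ Subgroup.zpowers g := ⟨_, rfl⟩
  have hET : E ≤ T := hT ▸ le_sup_left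
  have hgT : g ∈ T := hT ▸ (le_sup_right : Subgroup.zpowers g ≤ _) (Subgroup.mem_zpowers g)
  have hTP : T ≤ P := by
    rw [hT]
    exact sup_le hEP ((Subgroup.zpowers_le).mpr hgP)
  have hTm : Cfsg.IsMetacyclic ↥T :=
    isMetacyclic_of_injective (Subgroup.inclusion hTP) (Subgroup.inclusion_injective hTP) hm
  have hfin : Finite (E.subgroupOf T) :=
    Finite.of_equiv _ (Subgroup.subgroupOfEquivOfLe hET).symm.toEquiv
  have hN1 : ∀ x ∈ E, g * x * g⁻¹ ∈ E :=
    fun x hx => (Subgroup.mem_normalizer_iff.mp hgN x).mp hx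
  have key := comm_sq_of_metacyclic hTm (E.subgroupOf T)
    (fun a ha b hb => Subtype.ext (hEab a.1 (Subgroup.mem_subgroupOf.mp ha) b.1
      (Subgroup.mem_subgroupOf.mp hb))) n hn
    (by rw [Nat.card_congr (Subgroup.subgroupOfEquivOfLe hET).toEquiv, hcard])
    (fun a ha => by
      apply Subtype.ext
      have := congrArg Subtype.val (hexp ⟨a.1, Subgroup.mem_subgroupOf.mp ha⟩)
      simpa using this)
    ⟨g, hgT⟩
    (fun a ha => Subgroup.mem_subgroupOf.mpr (by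
      simpa using hN1 a.1 (Subgroup.mem_subgroupOf.mp ha)))
    (Subgroup.mem_subgroupOf.mpr (by simpa using hg2))
    (fun t => by
      have ht : (t : Ω) ∈ E ⊔ Subgroup.zpowers g := hT ▸ t.2
      rcases mem_or_of_mem_sup hgN hg2 ht with h | ⟨e', he', h⟩
      · exact Or.inl (Subgroup.mem_subgroupOf.mpr h)
      · exact Or.inr ⟨⟨e', hET he'⟩, Subgroup.mem_subgroupOf.mpr he', Subtype.ext h⟩)
  obtain ⟨y, hy, hxy⟩ := key ⟨x, hET hx⟩ (Subgroup.mem_subgroupOf.mpr hx)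
  refine ⟨y.1, Subgroup.mem_subgroupOf.mp hy, ?_⟩
  have := congrArg Subtype.val hxy
  simpa using this

/-- The order of `E⟨g⟩` when `g` normalizes `E`, `g² ∈ E` and `g ∉ E`. -/
theorem card_sup_zpowers {E : Subgroup Ω} [Finite E] {g : Ω}
    (hgN : g ∈ Subgroup.normalizer (E : Set Ω)) (hg2 : g * g ∈ E) (hgE : g ∉ E) :
    Nat.card ↥(E ⊔ Subgroup.zpowers g) = 2 * Nat.card E := by
  have hset : ((E ⊔ Subgroup.zpowers g : Subgroup Ω) : Set Ω) =
      (E : Set Ω) ∪ (fun e => g * e) '' (E : Set Ω) := by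
    ext t
    constructor
    · intro ht
      rcases mem_or_of_mem_sup hgN hg2 ht with h | ⟨e, he, rfl⟩
      · exact Or.inl h
      · exact Or.inr ⟨e, he, rfl⟩
    · rintro (h | ⟨e, he, rfl⟩)
      · exact (le_sup_left : E ≤ E ⊔ Subgroup.zpowers g) h
      · exact Subgroup.mul_mem _
          ((le_sup_right : Subgroup.zpowers g ≤ E ⊔ Subgroup.zpowers g) (Subgroup.mem_zpowers g))
          ((le_sup_left : E ≤ E ⊔ Subgroup.zpowers g) he)
  have hdisj : Disjoint (E : Set Ω) ((fun e => g * e) '' (E : Set Ω)) := by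
    rw [Set.disjoint_left]
    rintro t ht ⟨e, he, rfl⟩
    apply hgE
    have := E.mul_mem ht (E.inv_mem he)
    rwa [mul_inv_cancel_right] at this
  have hfin : (E : Set Ω).Finite := Set.finite_coe_iff.mp (inferInstance : Finite E)
  have hE : Set.ncard (E : Set Ω) = Nat.card E := (Nat.card_coe_set_eq (E : Set Ω)).symm
  calc Nat.card ↥(E ⊔ Subgroup.zpowers g)
      = Set.ncard ((E ⊔ Subgroup.zpowers g : Subgroup Ω) : Set Ω) :=
        Nat.card_coe_set_eq ((E ⊔ Subgroup.zpowers g : Subgroup Ω) : Set Ω)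
    _ = Set.ncard ((E : Set Ω) ∪ (fun e => g * e) '' (E : Set Ω)) := by rw [hset]
    _ = Set.ncard (E : Set Ω) + Set.ncard ((fun e => g * e) '' (E : Set Ω)) :=
        Set.ncard_union_eq hdisj hfin (hfin.image _)
    _ = Set.ncard (E : Set Ω) + Set.ncard (E : Set Ω) := by
        rw [Set.ncard_image_of_injective _ (mul_right_injective g)]
    _ = 2 * Nat.card E := by rw [hE]; ring

variable {S : Subgroup Ω}

/-- The core of the argument: no element of `N_P(R) ∖ R` squares into `R`. -/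
theorem false_of_not_mem [Finite S] (hS : IsPGroup 2 S) (F : FusionSystem S) {P : Subgroup Ω}
    (hP : F.StronglyClosed P) (hm : Cfsg.IsMetacyclic ↥P)
    (hlist : ¬ ((∃ m : ℕ, Nonempty (↥P ≃* DihedralGroup m)) ∨ Cfsg.IsQuasiDihedral ↥P ∨
      (∃ m : ℕ, Nonempty (↥P ≃* QuaternionGroup m))))
    {R : Subgroup Ω} (hRS : R ≤ S) (hC : centralizerIn S R ≤ R) (hOp : OpAutLeInn F 2 R)
    {g : Ω} (hgP : g ∈ P) (hgN : g ∈ Subgroup.normalizer (R : Set Ω)) (hgR : g ∉ R)
    (hg2 : g * g ∈ R) : False := by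
  have : Fact (Nat.Prime 2) := ⟨Nat.prime_two⟩
  have hPS : P ≤ S := hP.1
  have hSNP : S ≤ Subgroup.normalizer (P : Set Ω) := le_normalizer_of_stronglyClosed F hP
  have hgS : g ∈ S := hPS hgP
  have hfinR : Finite R := finite_of_le hRS
  have hfinP : Finite P := finite_of_le hPS
  have hRp : IsPGroup 2 R := isPGroup_of_le hS hRS
  have hPp : IsPGroup 2 P := isPGroup_of_le hS hPS
  obtain ⟨T, hT⟩ : ∃ T, T = P ⊓ R := ⟨_, rfl⟩
  have hTP : T ≤ P := hT ▸ inf_le_left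
  have hTR : T ≤ R := hT ▸ inf_le_right
  have hfinT : Finite T := finite_of_le (hTR.trans hRS)
  obtain ⟨α, hαdef⟩ : ∃ α, α = R.normalizerMonoidHom ⟨g, hgN⟩ := ⟨_, rfl⟩
  have hαx : ∀ x : R, ((α x : R) : Ω) = g * x * g⁻¹ := fun x => by rw [hαdef]; rfl
  have hαA : α ∈ F.autGroup R := by
    apply autInducedBy_le_autGroup F hRS
    rw [mem_autInducedBy_iff]
    exact ⟨g, hgS, hαx⟩
  have hαI : α ∉ Inn R := fun h =>
    hgR (mem_of_normalizerMonoidHom_mem_inn hRS hC ⟨g, hgN⟩ hgS (hαdef ▸ h))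
  have hmemTR : ∀ x : R, x ∈ T.subgroupOf R ↔ (x : Ω) ∈ P := by
    intro x
    rw [Subgroup.mem_subgroupOf, hT, Subgroup.mem_inf]
    exact ⟨fun h => h.1, fun h => ⟨h, x.2⟩⟩
  have hTinv : ∀ β ∈ F.autGroup R, ∀ x ∈ T.subgroupOf R, β x ∈ T.subgroupOf R := by
    intro β hβ x hx
    rw [hmemTR] at hx ⊢
    exact autGroup_apply_mem_of_stronglyClosed F hP hRS β hβ x hx
  have hα2 : ∀ x : R, α x * x⁻¹ ∈ T.subgroupOf R := by
    intro x
    rw [hmemTR]
    show ((α x : R) : Ω) * ((x⁻¹ : R) : Ω) ∈ P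
    rw [hαx, Subgroup.coe_inv]
    have hxN : (x : Ω) ∈ Subgroup.normalizer (P : Set Ω) := hSNP (hRS x.2)
    have h1 : (x : Ω) * g⁻¹ * (x : Ω)⁻¹ ∈ P :=
      (Subgroup.mem_normalizer_iff.mp hxN _).mp (P.inv_mem hgP)
    have h2 := P.mul_mem hgP h1
    have e : g * ((x : Ω) * g⁻¹ * (x : Ω)⁻¹) = g * (x : Ω) * g⁻¹ * (x : Ω)⁻¹ := by group
    rwa [e] at h2
  have hgNT : g ∈ Subgroup.normalizer (T : Set Ω) := by
    rw [Subgroup.mem_normalizer_iff]
    intro h
    rw [hT, Subgroup.mem_inf, Subgroup.mem_inf,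
      ← Subgroup.mem_normalizer_iff.mp (hSNP hgS) h, ← Subgroup.mem_normalizer_iff.mp hgN h]
  have hg2T : g * g ∈ T := hT ▸ Subgroup.mem_inf.mpr ⟨P.mul_mem hgP hgP, hg2⟩
  have hgT : g ∉ T := fun h => hgR (hTR h)
  -- `g` does not centralize `T`
  have hfact : ∃ t ∈ T, g * t ≠ t * g := by
    by_contra hcon
    push Not at hcon
    apply hαI
    refine mem_inn_of_stabilizes_three 2 F hRp hOp (T.subgroupOf R) hTinv hαA ?_ hα2
    intro x hx
    apply Subtype.ext
    rw [hαx, hcon x (Subgroup.mem_subgroupOf.mp hx)]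
    group
  by_cases h2 : IsPGroup 2 (MulAut ↥T)
  · apply hαI
    have e₀ : ↥(T.subgroupOf R) ≃* ↥T := Subgroup.subgroupOfEquivOfLe hTR
    have h2' : IsPGroup 2 (MulAut ↥(T.subgroupOf R)) := h2.of_equiv (MulAut.congr e₀.symm)
    exact mem_inn_of_aut_isPGroup 2 F hRp hOp (T.subgroupOf R) hTinv h2' hαA hα2
  · have hT2 : IsPGroup 2 T := isPGroup_of_le hS (hTR.trans hRS)
    have hTm : Cfsg.IsMetacyclic ↥T :=
      isMetacyclic_of_injective (Subgroup.inclusion hTP) (Subgroup.inclusion_injective hTP) hm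
    have hfinish : ∀ B : Subgroup Ω, B ≤ P → Nat.card B = 8 →
        (∃ x ∈ B, ∃ y ∈ B, x * y ≠ y * x) → False := by
      rintro B hBP hBcard ⟨x, hx, y, hy, hxy⟩
      apply hlist
      apply cases_of_nonabelian_eight hPp hm (B.subgroupOf P)
      · rw [Nat.card_congr (Subgroup.subgroupOfEquivOfLe hBP).toEquiv, hBcard]
      · exact ⟨⟨x, hBP hx⟩, Subgroup.mem_subgroupOf.mpr hx, ⟨y, hBP hy⟩,
          Subgroup.mem_subgroupOf.mpr hy, fun h => hxy (congrArg Subtype.val h)⟩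
    rcases Cfsg.Agent.S1896.result hT2 hTm h2 with ⟨⟨e⟩⟩ | ⟨n, ⟨e⟩⟩
    · apply hfinish T hTP
      · rw [Nat.card_congr e.toEquiv, Nat.card_eq_fintype_card, QuaternionGroup.card]
      · refine ⟨(e.symm (QuaternionGroup.a 1) : T), (e.symm _).2,
          (e.symm (QuaternionGroup.xa 0) : T), (e.symm _).2, ?_⟩
        intro h
        have h1 : e.symm (QuaternionGroup.a 1) * e.symm (QuaternionGroup.xa 0) =
            e.symm (QuaternionGroup.xa 0) * e.symm (QuaternionGroup.a 1) := Subtype.ext h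
        rw [← map_mul, ← map_mul] at h1
        have h3 := e.symm.injective h1
        revert h3
        decide
    · obtain ⟨hab, hcard, hexp⟩ := homocyclic_facts n e
      have hTab : ∀ x ∈ T, ∀ y ∈ T, x * y = y * x := fun x hx y hy =>
        congrArg Subtype.val (hab ⟨x, hx⟩ ⟨y, hy⟩)
      obtain ⟨t, htT, hgt⟩ := hfact
      rcases Nat.lt_or_ge n 2 with hn | hn
      · interval_cases n
        · rw [pow_zero] at hcard
          have hbot : T = ⊥ := Subgroup.card_eq_one.mp hcard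
          rw [hbot, Subgroup.mem_bot] at htT
          apply hgt
          rw [htT, mul_one, one_mul]
        · rw [pow_one] at hcard
          apply hfinish (T ⊔ Subgroup.zpowers g) (sup_le hTP (Subgroup.zpowers_le.mpr hgP))
          · rw [card_sup_zpowers hgNT hg2T hgT, hcard]
          · exact ⟨g, (le_sup_right : Subgroup.zpowers g ≤ T ⊔ Subgroup.zpowers g)
              (Subgroup.mem_zpowers g), t, (le_sup_left : T ≤ T ⊔ Subgroup.zpowers g) htT, hgt⟩
      · apply hαI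
        have key := comm_sq_ambient hm hTP hTab n hn hcard hexp hgP hgNT hg2T
        refine mem_inn_of_comm_sq F hRp hOp (T.subgroupOf R) hTinv ?_ n ?_ hαA hα2 ?_
        · intro x hx y hy
          exact Subtype.ext (hTab _ (Subgroup.mem_subgroupOf.mp hx) _
            (Subgroup.mem_subgroupOf.mp hy))
        · intro x hx
          apply Subtype.ext
          have := congrArg Subtype.val (hexp ⟨(x : Ω), Subgroup.mem_subgroupOf.mp hx⟩)
          simpa using this
        · intro x hx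
          obtain ⟨y, hyT, hy⟩ := key (x : Ω) (Subgroup.mem_subgroupOf.mp hx)
          refine ⟨⟨y, hTR hyT⟩, Subgroup.mem_subgroupOf.mpr hyT, Subtype.ext ?_⟩
          show ((α x : R) : Ω) * ((x⁻¹ : R) : Ω) = y * y
          rw [hαx, Subgroup.coe_inv]
          exact hy

/-- A strongly closed metacyclic `2`-subgroup outside the list lies in every essential
subgroup. -/
theorem le_of_isEssential [Finite S] (hS : IsPGroup 2 S) (F : FusionSystem S) {P : Subgroup Ω}
    (hP : F.StronglyClosed P) (hm : Cfsg.IsMetacyclic ↥P)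
    (hlist : ¬ ((∃ m : ℕ, Nonempty (↥P ≃* DihedralGroup m)) ∨ Cfsg.IsQuasiDihedral ↥P ∨
      (∃ m : ℕ, Nonempty (↥P ≃* QuaternionGroup m))))
    {R : Subgroup Ω} (hR : F.IsEssential 2 R) : P ≤ R := by
  have : Fact (Nat.Prime 2) := ⟨Nat.prime_two⟩
  have hPS : P ≤ S := hP.1
  have hSNP : S ≤ Subgroup.normalizer (P : Set Ω) := le_normalizer_of_stronglyClosed F hP
  have hRS : R ≤ S := hR.1.1
  have hC : centralizerIn S R ≤ R := hR.1.2 R (isConj_refl F hRS)
  have hOp : OpAutLeInn F 2 R := opAutLeInn_of_isEssential F 2 hR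
  have claim : ∀ g₀ ∈ P, g₀ ∈ Subgroup.normalizer (R : Set Ω) → g₀ ∈ R := by
    intro g₀ hg₀P hg₀N
    by_contra hg₀R
    have hex : ∃ k : ℕ, g₀ ^ (2 ^ k) ∈ R := by
      obtain ⟨k, hk⟩ := hS ⟨g₀, hPS hg₀P⟩
      refine ⟨k, ?_⟩
      have h1 : g₀ ^ (2 ^ k) = 1 := by
        have := congrArg Subtype.val hk
        simpa using this
      rw [h1]
      exact R.one_mem
    classical
    obtain ⟨k₀, hk₀def⟩ : ∃ k₀, k₀ = Nat.find hex := ⟨_, rfl⟩
    have hk₀ : g₀ ^ (2 ^ k₀) ∈ R := hk₀def ▸ Nat.find_spec hex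
    have hk₀pos : k₀ ≠ 0 := by
      intro h0
      rw [h0, pow_zero, pow_one] at hk₀
      exact hg₀R hk₀
    obtain ⟨k₁, hk₁⟩ : ∃ k₁, k₀ = k₁ + 1 := ⟨k₀ - 1, by omega⟩
    have hmin : g₀ ^ (2 ^ k₁) ∉ R := Nat.find_min hex (by omega : k₁ < Nat.find hex)
    apply false_of_not_mem hS F hP hm hlist hRS hC hOp (P.pow_mem hg₀P (2 ^ k₁))
      (Subgroup.pow_mem _ hg₀N _) hmin
    rw [← pow_two, ← pow_mul, ← pow_succ, ← hk₁]
    exact hk₀
  refine le_of_autInducedBy_le_inn 2 hS hPS hSNP hRS hC ?_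
  intro α hα
  rw [mem_autInducedBy_iff] at hα
  obtain ⟨g₀, hg₀P, hg₀⟩ := hα
  have hg₀N : g₀ ∈ Subgroup.normalizer (R : Set Ω) := by
    rw [Subgroup.mem_normalizer_iff]
    intro h
    constructor
    · intro hh
      rw [← hg₀ ⟨h, hh⟩]
      exact (α ⟨h, hh⟩).2
    · intro hh
      have h1 := hg₀ (α.symm ⟨g₀ * h * g₀⁻¹, hh⟩)
      rw [MulEquiv.apply_symm_apply] at h1
      have h2 : h = ((α.symm ⟨g₀ * h * g₀⁻¹, hh⟩ : R) : Ω) :=
        mul_left_cancel (mul_right_cancel h1)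
      rw [h2]
      exact (α.symm _).2
  have hg₀R := claim g₀ hg₀P hg₀N
  refine ⟨⟨g₀, hg₀R⟩, ?_⟩
  apply MulEquiv.ext
  intro x
  apply Subtype.ext
  rw [hg₀ x]
  rfl

end Cfsg.Agent.Helper10.MetaTwo
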