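import Cfsg.Agent.Helper29.OC2K.Defs
import Cfsg.Agent.Helper29.OC2K.STAB
import Cfsg.Agent.Helper29.OC2K.BLK
import Cfsg.Agent.Helper29.OC2K.CMP1
import Cfsg.Agent.Helper29.OC2K.CMP2
import Cfsg.Agent.Helper29.OC2K.STEP0
import Cfsg.Agent.Helper29.OC2K.REFLMEM
import Cfsg.Agent.Helper29.OC2K.SIEGMEM
import Cfsg.Agent.Helper29.OC2K.GEOC
import Cfsg.Agent.Helper27.OC2KQ2GEO

set_option autoImplicit false
set_option linter.unusedSectionVars false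
set_option linter.unusedVariables false

/-! # S5694 CHAR2, `q = 2`, route 2 (helper10): Lemma A -/

namespace Cfsg.Agent.OC2K

open Matrix Cfsg.Agent.Helper28.Sg Cfsg.Agent.Helper28.Spin Cfsg.Agent.Helper12.OrthGen
  Cfsg.Agent.S2614 Cfsg.Agent.S5683P Cfsg.Agent.Helper28.NDM

variable {F : Type*} [Field F] {t k : ℕ} {ι : Type} [Fintype ι] [DecidableEq ι] {Q : QuadraticForm F (ι → F)} [QHyp Q] {D : Fin t → Submodule F (ι → F)}
  {M : Subgroup (OGq Q)}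

theorem Q2.LEMA.main [Fintype F] (h2 : (2 : F) = 0) (hD : HD Q k D) (hHM : HS D ≤ M) {c : Fin t}
    {a w : ι → F} (ha : a ∈ D c) (hQa : Q a ≠ 0) (hQw : Q w ≠ 0) (hw : ¬ Pure D w)
    (hmem : reflO (Q) a hQa * reflO (Q) w hQw ∈ M) : G1 M D := by
  classical
  -- a nonsingular component of `w`
  obtain ⟨c', hc'⟩ : ∃ c', Q (cmp D c' w) ≠ 0 := by
    by_contra hcon
    push Not at hcon
    apply hQw
    rw [CMP2.Q_sum hD w]
    exact Finset.sum_eq_zero (fun c _ => hcon c)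
  have hx : cmp D c' w ∈ D c' := CMP1.mem hD c' w
  obtain ⟨u, hu, hu0, hQu, hux⟩ := Q2.GEO.sing_perp h2 hD hx hc'
  obtain ⟨y, hy, huy, hyx⟩ := Q2.GEO.partner hD hu hu0 hQu hx hc'
  -- the block Siegel element
  have hhHS : siegO (Q) u y hQu huy ∈ HS D := SIEGMEM.mem hD hu hy hQu huy
  obtain ⟨h, hh⟩ : ∃ h : OGq Q, h = siegO (Q) u y hQu huy := ⟨_, rfl⟩
  have hhM : h ∈ M := by rw [hh]; exact hHM hhHS
  have huw : B (Q) u w = 0 := by rw [← CMP2.B_left hD hu w]; exact hux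
  have hyw : B (Q) y w = 1 := by rw [← CMP2.B_left hD hy w]; exact hyx
  have hhw : mt (Q) h *ᵥ w = w + (-1 : F) • u := by
    rw [hh, siegO_mulVec, huw, hyw, zero_smul, mul_zero, zero_smul, add_zero, sub_zero, one_smul,
      neg_one_smul, sub_eq_add_neg]
  have hha : mt (Q) h *ᵥ a ∈ D c := by
    rw [hh]
    exact SIEGMEM.block hD hu hy hQu huy c a ha
  have hQha : Q (mt (Q) h *ᵥ a) ≠ 0 := by rw [Q_isom]; exact hQa
  have hQhw : Q (mt (Q) h *ᵥ w) ≠ 0 := by rw [Q_isom]; exact hQw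
  -- `r_{ha} r_{hw} ∈ M`
  have h1 : reflO (Q) (mt (Q) h *ᵥ a) hQha * reflO (Q) (mt (Q) h *ᵥ w) hQhw ∈ M := by
    rw [reflO_conj (Q) h a hQa hQha, reflO_conj (Q) h w hQw hQhw]
    have e : h * reflO (Q) a hQa * h⁻¹ * (h * reflO (Q) w hQw * h⁻¹) =
        h * (reflO (Q) a hQa * reflO (Q) w hQw) * h⁻¹ := by group
    rw [e]
    exact M.mul_mem (M.mul_mem hhM hmem) (M.inv_mem hhM)
  -- `r_a r_{ha} ∈ HS D`
  have h2' : reflO (Q) a hQa * reflO (Q) (mt (Q) h *ᵥ a) hQha ∈ M :=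
    hHM (REFLMEM.mem hD ha hha hQa hQha (Q_isom h a).symm)
  -- `r_w r_{hw} ∈ M`
  have h3 : reflO (Q) w hQw * reflO (Q) (mt (Q) h *ᵥ w) hQhw ∈ M := by
    have e : reflO (Q) w hQw * reflO (Q) (mt (Q) h *ᵥ w) hQhw =
        (reflO (Q) a hQa * reflO (Q) w hQw)⁻¹ *
          (reflO (Q) a hQa * reflO (Q) (mt (Q) h *ᵥ a) hQha) *
          (reflO (Q) (mt (Q) h *ᵥ a) hQha * reflO (Q) (mt (Q) h *ᵥ w) hQhw) := by
      rw [_root_.mul_inv_rev, reflO_inv, reflO_inv]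
      have e1 : reflO (Q) w hQw * reflO (Q) a hQa *
          (reflO (Q) a hQa * reflO (Q) (mt (Q) h *ᵥ a) hQha) *
          (reflO (Q) (mt (Q) h *ᵥ a) hQha * reflO (Q) (mt (Q) h *ᵥ w) hQhw) =
          reflO (Q) w hQw * (reflO (Q) a hQa * reflO (Q) a hQa) *
          (reflO (Q) (mt (Q) h *ᵥ a) hQha * reflO (Q) (mt (Q) h *ᵥ a) hQha) *
          reflO (Q) (mt (Q) h *ᵥ w) hQhw := by group
      rw [e1, reflO_mul_self, reflO_mul_self, mul_one, mul_one]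
    rw [e]
    exact M.mul_mem (M.mul_mem (M.inv_mem hmem) h2') h1
  -- turn it into a Siegel element
  have hQw' : Q (w + (-1 : F) • u) ≠ 0 := by rw [← hhw]; exact hQhw
  have h4 : reflO (Q) (mt (Q) h *ᵥ w) hQhw = reflO (Q) (w + (-1 : F) • u) hQw' :=
    reflO_congr' hhw hQhw hQw'
  rw [h4] at h3
  have hB' : B (Q) u (((-1 : F) * (Q w)⁻¹) • w) = 0 := B_smul_right_zero (Q) _ huw
  have key := reflO_mul_reflO (Q := Q) (-1 : F) hQu huw hQw hQw' hB'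
  rw [key] at h3
  refine ⟨c', u, hQu, hu, hu0, ((-1 : F) * (Q w)⁻¹) • w, ⟨hB', h3⟩, ?_⟩
  intro hmemD
  apply hw
  refine ⟨c', ?_⟩
  have hne : ((-1 : F) * (Q w)⁻¹) ≠ 0 := mul_ne_zero (neg_ne_zero.mpr one_ne_zero) (inv_ne_zero hQw)
  have := (D c').smul_mem (((-1 : F) * (Q w)⁻¹)⁻¹) hmemD
  rwa [smul_smul, inv_mul_cancel₀ hne, one_smul] at this

end Cfsg.Agent.OC2K
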