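import Cfsg.Agent.Helper29.OC2K.Defs
import Cfsg.Agent.Helper29.OC2K.STAB
import Cfsg.Agent.Helper29.OC2K.BLK
import Cfsg.Agent.Helper29.OC2K.CMP1
import Cfsg.Agent.Helper29.OC2K.CMP2
import Cfsg.Agent.Helper29.OC2K.STEP0
import Cfsg.Agent.Helper29.OC2K.REFLMEM
import Cfsg.Agent.Helper29.OC2K.SIEGMEM
import Cfsg.Agent.Helper29.OC2K.GEOC
import Cfsg.Agent.Helper17.OC2KC2Defs
import Cfsg.Agent.Helper4.OC2KQ2F
import Cfsg.Agent.Helper27.OC2KQ2GEO
import Cfsg.Agent.Helper26.OC2KQ2LEMB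
import Cfsg.Agent.Helper26.OC2KQ2NPURE

set_option autoImplicit false
set_option linter.unusedSectionVars false
set_option linter.unusedVariables false

/-! # S5694 CHAR2, `q = 2`, route 2 (helper10): `G1` for every overgroup not inside `StabO D` -/

namespace Cfsg.Agent.OC2K

open Matrix Cfsg.Agent.Helper28.Sg Cfsg.Agent.Helper28.Spin Cfsg.Agent.Helper12.OrthGen
  Cfsg.Agent.S2614 Cfsg.Agent.S5683P Cfsg.Agent.Helper28.NDM

variable {F : Type*} [Field F] {t k : ℕ} {ι : Type} [Fintype ι] [DecidableEq ι] {Q : QuadraticForm F (ι → F)} [QHyp Q] {D : Fin t → Submodule F (ι → F)}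
  {M : Subgroup (OGq Q)}

theorem Q2.MAIN.g1 [Fintype F] (hq : Fintype.card F = 2) (hD : HD Q k D)
    (hts : ∀ (c : Fin t) (W : Submodule F (ι → F)), W ≤ D c → (∀ x ∈ W, Q x = 0) →
      Module.finrank F W + 3 ≤ k) (hHM : HS D ≤ M) {g : OGq Q} (hgM : g ∈ M)
    (hg : g ∉ StabO D) : G1 M D := by
  classical
  have h2 : (2 : F) = 0 := Q2.F.two hq
  obtain ⟨c, a, ha, hQa, hw⟩ := Q2.NPURE.main hq hD hts hg
  obtain ⟨w, hwdef⟩ : ∃ w : ι → F, w = mt (Q) g *ᵥ a := ⟨_, rfl⟩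
  rw [← hwdef] at hw
  have hQw : Q w ≠ 0 := by rw [hwdef, Q_isom]; exact hQa
  have hw0 : w ≠ 0 := by
    intro h
    apply hQw
    rw [h]
    exact map_zero _
  obtain ⟨b, hb⟩ : ∃ b, cmp D b w ≠ 0 := by
    by_contra hcon
    push Not at hcon
    apply hw0
    rw [← CMP1.sum hD w]
    exact Finset.sum_eq_zero (fun c _ => hcon c)
  have hx : cmp D b w ∈ D b := CMP1.mem hD b w
  obtain ⟨a', ha', hQa', hxa'⟩ := Q2.GEO.nonsing_one hD hts hx hb
  have hwa' : B (Q) w a' = 1 := by rw [← CMP2.B_right hD ha' w]; exact hxa'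
  -- a second block
  obtain ⟨b₂, hb₂c, -⟩ := REFLMEM.exists_third hD.t3 c c
  obtain ⟨b', hb', hQb', hb'1, -⟩ :=
    Q2.GEO.codim2 hD hts b₂ (mt (Q) g⁻¹ *ᵥ a') (mt (Q) g⁻¹ *ᵥ a')
  obtain ⟨w', hw'def⟩ : ∃ w' : ι → F, w' = mt (Q) g *ᵥ b' := ⟨_, rfl⟩
  have hQw' : Q w' ≠ 0 := by rw [hw'def, Q_isom]; exact hQb'
  have hgg : mt (Q) g *ᵥ (mt (Q) g⁻¹ *ᵥ a') = a' := by
    have := mt_inv_mulVec (Q := Q) g⁻¹ a'
    rwa [inv_inv] at this
  have hw'a' : B (Q) w' a' = 0 := by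
    rw [hw'def, ← hgg, B_isom, B_comm]
    exact hb'1
  have hww' : B (Q) w w' = 0 := by
    rw [hwdef, hw'def, B_isom]
    exact hD.orth c b₂ (Ne.symm hb₂c) a ha b' hb'
  -- the element `m`
  have hQab : Q a = Q b' := by rw [Q2.F.eq_one hq hQa, Q2.F.eq_one hq hQb']
  have hrr : reflO (Q) a hQa * reflO (Q) b' hQb' ∈ M :=
    hHM (REFLMEM.mem hD ha hb' hQa hQb' hQab)
  obtain ⟨m, hmdef⟩ : ∃ m : OGq Q, m = g * (reflO (Q) a hQa * reflO (Q) b' hQb') * g⁻¹ :=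
    ⟨_, rfl⟩
  have hmM : m ∈ M := by
    rw [hmdef]
    exact M.mul_mem (M.mul_mem hgM hrr) (M.inv_mem hgM)
  have hQw2 : Q (mt (Q) g *ᵥ a) ≠ 0 := by rw [← hwdef]; exact hQw
  have hQw2' : Q (mt (Q) g *ᵥ b') ≠ 0 := by rw [← hw'def]; exact hQw'
  have hm : m = reflO (Q) w hQw * reflO (Q) w' hQw' := by
    rw [reflO_congr' hwdef hQw hQw2, reflO_congr' hw'def hQw' hQw2',
      reflO_conj (Q) g a hQa hQw2, reflO_conj (Q) g b' hQb' hQw2', hmdef]
    group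
  -- a fixed pure nonsingular vector
  obtain ⟨e, he, hQe, hwe, hw'e⟩ := Q2.GEO.codim2 hD hts b w w'
  have hme : mt (Q) m *ᵥ e = e := by
    have e1 : mt (Q) (reflO (Q) w' hQw') *ᵥ e = e := by
      rw [reflO_mulVec, hw'e, mul_zero, zero_smul, sub_zero]
    rw [hm, mt_mul_mulVec, e1, reflO_mulVec, hwe, mul_zero, zero_smul, sub_zero]
  have hneg : ∀ v : ι → F, -v = v := by
    intro v
    have h1 : v + v = 0 := by
      rw [← two_smul F v, h2, zero_smul]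
    exact neg_eq_of_add_eq_zero_left h1
  have hma' : mt (Q) m *ᵥ a' = a' + w := by
    have e1 : mt (Q) (reflO (Q) w' hQw') *ᵥ a' = a' := by
      rw [reflO_mulVec, hw'a', mul_zero, zero_smul, sub_zero]
    rw [hm, mt_mul_mulVec, e1, reflO_mulVec, hwa',
      mul_one, Q2.F.eq_one hq hQw, inv_one, one_smul, sub_eq_add_neg, hneg]
  -- `a' + w` is not pure
  have hnp : ¬ Pure D (a' + w) := by
    rintro ⟨b'', hb''⟩
    by_cases hbb : b'' = b
    · subst hbb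
      apply hw
      refine ⟨b'', ?_⟩
      have := (D b'').sub_mem hb'' ha'
      rwa [add_sub_cancel_left] at this
    · have h0 : cmp D b (a' + w) = 0 := CMP1.of_mem_ne hD hbb hb''
      rw [map_add, CMP1.of_mem hD ha'] at h0
      have h1 : cmp D b w = a' := by
        have := eq_neg_of_add_eq_zero_right h0
        rw [this, hneg]
      have h3 : B (Q) a' a' = 1 := by
        rw [h1] at hxa'
        exact hxa'
      rw [B_self, h2, zero_mul] at h3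
      exact zero_ne_one h3
  refine Q2.LEMB.main hq hD hHM hmM ⟨b, he⟩ hQe ⟨b, ha'⟩ hQa' ?_ ?_
  · rw [hme]; exact ⟨b, he⟩
  · rw [hma']; exact hnp

/-- `C2.Witt1` and `4 ≤ k` give the hypothesis on totally singular subspaces of a block. -/
theorem Q2.MAIN.hts_of_witt1 (hk : 4 ≤ k) (hW : C2.Witt1 Q D) :
    ∀ (c : Fin t) (W : Submodule F (ι → F)), W ≤ D c → (∀ x ∈ W, Q x = 0) →
      Module.finrank F W + 3 ≤ k := by
  intro c W hWD hWQ
  have h1 : Module.finrank F W ≤ 1 := by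
    by_cases hbot : W = ⊥
    · rw [hbot, finrank_bot]
      exact Nat.zero_le 1
    · obtain ⟨x, hxW, hx0⟩ := (Submodule.ne_bot_iff W).1 hbot
      apply finrank_le_one (⟨x, hxW⟩ : W)
      rintro ⟨x', hx'W⟩
      have hB : B (Q) x x' = 0 := by
        show QuadraticMap.polar (⇑Q) x x' = 0
        unfold QuadraticMap.polar
        rw [hWQ _ (W.add_mem hxW hx'W), hWQ x hxW, hWQ x' hx'W]
        simp
      obtain ⟨s, hs⟩ := hW c x (hWD hxW) x' (hWD hx'W) (hWQ x hxW) (hWQ x' hx'W) hB hx0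
      refine ⟨s, ?_⟩
      apply Subtype.ext
      exact hs.symm
  omega

/-- the interface of helper17's wrapper `C2.FINAL`: `q = 2`, blocks of Witt index `≤ 1`, `4 ≤ k`. -/
theorem C2.Q2G.main [Fintype F] (h2 : (2 : F) = 0) (hD : HD Q k D) (hk : 4 ≤ k)
    (hq : Fintype.card F = 2) (hW : C2.Witt1 Q D) (hHM : HS D ≤ M) (hn : ¬ M ≤ StabO D) :
    G1 M D := by
  obtain ⟨g, hgM, hg⟩ := SetLike.not_le_iff_exists.1 hn
  exact Q2.MAIN.g1 hq hD (Q2.MAIN.hts_of_witt1 hk hW) hHM hgM hg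

end Cfsg.Agent.OC2K
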