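import Mathlib
import Cfsg.Agent.Helper28.OrthSim1
import Cfsg.Agent.Helper6.OS6FirstDefs

/-! # os6 chapter FIRST, piece FKER (helper10): rank-nullity for two covectors. -/

set_option autoImplicit false
set_option linter.unusedSectionVars false

namespace Cfsg.Agent.OS6P

open Matrix Module Cfsg.Agent.Helper28.Sg Cfsg.Agent.Helper28.Spin Cfsg.Agent.Helper28.SLMax
  Cfsg.Agent.Helper28.SimMax Cfsg.Agent.Helper28.OSim

variable {F : Type*} [Field F] {n : ℕ} {Q : QuadraticForm F (Fin n → F)}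

theorem FKER.finrank (φ₁ φ₂ : Fin n → F) : n ≤ finrank F (FIRST.ker2 φ₁ φ₂) + 2 := by
  let L : (Fin n → F) →ₗ[F] (F × F) :=
    { toFun := fun x => (φ₁ ⬝ᵥ x, φ₂ ⬝ᵥ x)
      map_add' := fun x y => by
        rw [dotProduct_add, dotProduct_add, Prod.mk_add_mk]
      map_smul' := fun c x => by
        rw [dotProduct_smul, dotProduct_smul, RingHom.id_apply, Prod.smul_mk] }
  have hker : LinearMap.ker L = FIRST.ker2 φ₁ φ₂ := by
    ext x
    rw [LinearMap.mem_ker, FIRST.mem_ker2]
    show (φ₁ ⬝ᵥ x, φ₂ ⬝ᵥ x) = 0 ↔ _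
    rw [Prod.mk_eq_zero]
  have h1 := LinearMap.finrank_range_add_finrank_ker L
  rw [Module.finrank_fin_fun, hker] at h1
  have h2 : Module.finrank F (LinearMap.range L) ≤ 2 := by
    have := Submodule.finrank_le (LinearMap.range L)
    rwa [Module.finrank_prod, Module.finrank_self] at this
  omega

end Cfsg.Agent.OS6P
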