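import Mathlib
import Cfsg.Agent.Helper28.OrthSim1
import Cfsg.Agent.Helper6.OS6FirstDefs

/-! # os6 chapter FIRST, piece FTS (helper10): a totally singular subspace has dimension at most `n / 2`. -/

set_option autoImplicit false
set_option linter.unusedSectionVars false

namespace Cfsg.Agent.OS6P

open Matrix Module Cfsg.Agent.Helper28.Sg Cfsg.Agent.Helper28.Spin Cfsg.Agent.Helper28.SLMax
  Cfsg.Agent.Helper28.SimMax Cfsg.Agent.Helper28.OSim

variable {F : Type*} [Field F] {n : ℕ} {Q : QuadraticForm F (Fin n → F)}

theorem FTS.main (hQ : (QuadraticMap.polarBilin Q).Nondegenerate) (W : Submodule F (Fin n → F))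
    (hW : ∀ w ∈ W, Q w = 0) : 2 * finrank F W ≤ n := by
  have hle : W ≤ LinearMap.BilinForm.orthogonal (QuadraticMap.polarBilin Q) W := by
    intro x hx s hs
    show QuadraticMap.polar ⇑Q s x = 0
    unfold QuadraticMap.polar
    rw [hW _ (W.add_mem hs hx), hW s hs, hW x hx]
    ring
  have h1 := LinearMap.BilinForm.finrank_orthogonal hQ W
  rw [Module.finrank_fin_fun] at h1
  have h2 := Submodule.finrank_mono hle
  have h3 : finrank F W ≤ n := by
    have := Submodule.finrank_le W
    rwa [Module.finrank_fin_fun] at this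
  omega

end Cfsg.Agent.OS6P
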