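import Mathlib
import Cfsg.Agent.Helper28.OrthSim1
import Cfsg.Agent.Helper6.OS6FirstDefs
import Cfsg.Agent.Helper10.OS6FKER
import Cfsg.Agent.Helper10.OS6FTS

/-! # os6 chapter FIRST, piece FNS (helper10): non-singular vectors in the common kernel of two covectors
(`FNS.plain`, `FNS.main`, `FNS.avoid`; own copy `FNS.aux_sub` of the statement of `FNS.sub`). -/

set_option autoImplicit false
set_option linter.unusedSectionVars false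

namespace Cfsg.Agent.OS6P

open Matrix Module Cfsg.Agent.Helper28.Sg Cfsg.Agent.Helper28.Spin Cfsg.Agent.Helper28.SLMax
  Cfsg.Agent.Helper28.SimMax Cfsg.Agent.Helper28.OSim

variable {F : Type*} [Field F] {n : ℕ} {Q : QuadraticForm F (Fin n → F)}

/-- own copy of `FNS.sub` -/
theorem FNS.aux_sub (h2 : (2 : F) ≠ 0) (W N : Submodule F (Fin n → F)) {v w₀ : Fin n → F}
    (hv : v ∈ W) (hQv : Q v ≠ 0) (hw : w₀ ∈ W) (hwN : w₀ ∉ N) :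
    ∃ a ∈ W, Q a ≠ 0 ∧ a ∉ N := by
  by_cases hvN : v ∈ N
  · have hnot : ∀ t : F, w₀ + t • v ∉ N := by
      intro t hmem
      apply hwN
      have := N.sub_mem hmem (N.smul_mem t hvN)
      rwa [add_sub_cancel_right] at this
    have hval : ∀ t : F, Q (w₀ + t • v) = Q w₀ + t * t * Q v + t * B Q w₀ v := by
      intro t
      rw [Q_add, Q_smul]
      have : B Q w₀ (t • v) = t * B Q w₀ v := QuadraticMap.polar_smul_right _ _ _ _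
      rw [this]
    by_cases h0 : Q (w₀ + (0 : F) • v) = 0
    · by_cases h1 : Q (w₀ + (1 : F) • v) = 0
      · by_cases h3 : Q (w₀ + (-1 : F) • v) = 0
        · exfalso
          rw [hval] at h0 h1 h3
          apply hQv
          have h4 : 2 * Q v = 0 := by linear_combination h1 + h3 - 2 * h0
          rcases mul_eq_zero.mp h4 with h | h
          · exact absurd h h2
          · exact h
        · exact ⟨_, W.add_mem hw (W.smul_mem _ hv), h3, hnot _⟩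
      · exact ⟨_, W.add_mem hw (W.smul_mem _ hv), h1, hnot _⟩
    · exact ⟨_, W.add_mem hw (W.smul_mem _ hv), h0, hnot _⟩
  · exact ⟨v, hv, hQv, hvN⟩

theorem FNS.plain (hQ : (QuadraticMap.polarBilin Q).Nondegenerate) (hn : 5 ≤ n)
    (φ₁ φ₂ : Fin n → F) : ∃ a, Q a ≠ 0 ∧ φ₁ ⬝ᵥ a = 0 ∧ φ₂ ⬝ᵥ a = 0 := by
  by_contra hcon
  push Not at hcon
  have hW : ∀ w ∈ FIRST.ker2 φ₁ φ₂, Q w = 0 := by
    intro w hw
    by_contra hq
    exact hcon w hq hw.1 hw.2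
  have h1 := FTS.main hQ (FIRST.ker2 φ₁ φ₂) hW
  have h2 := FKER.finrank φ₁ φ₂
  omega

theorem FNS.main (h2 : (2 : F) ≠ 0) (hQ : (QuadraticMap.polarBilin Q).Nondegenerate) (hn : 5 ≤ n)
    (φ₁ φ₂ ψ w₀ : Fin n → F) (h1 : φ₁ ⬝ᵥ w₀ = 0) (h2' : φ₂ ⬝ᵥ w₀ = 0) (hψ : ψ ⬝ᵥ w₀ ≠ 0) :
    ∃ a, Q a ≠ 0 ∧ φ₁ ⬝ᵥ a = 0 ∧ φ₂ ⬝ᵥ a = 0 ∧ ψ ⬝ᵥ a ≠ 0 := by
  obtain ⟨v, hQv, hv1, hv2⟩ := FNS.plain hQ hn φ₁ φ₂
  obtain ⟨a, haW, hQa, haN⟩ := FNS.aux_sub h2 (FIRST.ker2 φ₁ φ₂) (FIRST.ker2 ψ ψ)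
    (v := v) (w₀ := w₀) ⟨hv1, hv2⟩ hQv ⟨h1, h2'⟩ (fun h => hψ h.1)
  exact ⟨a, hQa, haW.1, haW.2, fun h => haN ⟨h, h⟩⟩

theorem FNS.avoid (h2 : (2 : F) ≠ 0) (hQ : (QuadraticMap.polarBilin Q).Nondegenerate) (hn : 5 ≤ n)
    (φ₁ φ₂ u v : Fin n → F) :
    ∃ a, Q a ≠ 0 ∧ φ₁ ⬝ᵥ a = 0 ∧ φ₂ ⬝ᵥ a = 0 ∧ a ∉ Submodule.span F ({u, v} : Set (Fin n → F)) := by
  classical
  obtain ⟨v₀, hQv, hv1, hv2⟩ := FNS.plain hQ hn φ₁ φ₂
  have hex : ∃ w₀ ∈ FIRST.ker2 φ₁ φ₂, w₀ ∉ Submodule.span F ({u, v} : Set (Fin n → F)) := by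
    by_contra hcon
    push Not at hcon
    have hle : FIRST.ker2 φ₁ φ₂ ≤ Submodule.span F ({u, v} : Set (Fin n → F)) := hcon
    have h3 := Submodule.finrank_mono hle
    have h4 : finrank F (Submodule.span F ({u, v} : Set (Fin n → F))) ≤ 2 := by
      have := finrank_span_finset_le_card (R := F) ({u, v} : Finset (Fin n → F))
      have h5 : ({u, v} : Finset (Fin n → F)).card ≤ 2 := Finset.card_le_two
      rw [Finset.coe_insert, Finset.coe_singleton] at this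
      exact le_trans this h5
    have h6 := FKER.finrank φ₁ φ₂
    omega
  obtain ⟨w₀, hw₀W, hw₀N⟩ := hex
  obtain ⟨a, haW, hQa, haN⟩ := FNS.aux_sub h2 (FIRST.ker2 φ₁ φ₂)
    (Submodule.span F ({u, v} : Set (Fin n → F))) (v := v₀) (w₀ := w₀) ⟨hv1, hv2⟩ hQv hw₀W hw₀N
  exact ⟨a, hQa, haW.1, haW.2, haN⟩

end Cfsg.Agent.OS6P
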