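import Mathlib
import Cfsg.Agent.Helper28.OrthSim1
import Cfsg.Agent.Helper6.OS6FirstDefs
import Cfsg.Agent.Helper10.OS6FNS

/-! # os6 chapter FIRST, piece FEIGCONN (helper10): two non-singular vectors are joined by a non-singular
vector non-orthogonal to both. -/

set_option autoImplicit false
set_option linter.unusedSectionVars false

namespace Cfsg.Agent.OS6P

open Matrix Module Cfsg.Agent.Helper28.Sg Cfsg.Agent.Helper28.Spin Cfsg.Agent.Helper28.SLMax
  Cfsg.Agent.Helper28.SimMax Cfsg.Agent.Helper28.OSim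

variable {F : Type*} [Field F] {n : ℕ} {Q : QuadraticForm F (Fin n → F)}

theorem FEIG.conn (h2 : (2 : F) ≠ 0) (hQ : (QuadraticMap.polarBilin Q).Nondegenerate) (hn : 5 ≤ n)
    {a b : Fin n → F} (ha : Q a ≠ 0) (hb : Q b ≠ 0) :
    ∃ c, Q c ≠ 0 ∧ B Q a c ≠ 0 ∧ B Q b c ≠ 0 := by
  by_cases hab : B Q a b = 0
  · obtain ⟨z, hz, hza, hzb⟩ := FNS.plain hQ hn (pv Q a) (pv Q b)
    rw [pv_dot] at hza hzb
    have hba : B Q b a = 0 := by rw [B_comm]; exact hab
    have hadd : ∀ x y z' : Fin n → F, B Q x (y + z') = B Q x y + B Q x z' :=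
      fun x y z' => QuadraticMap.polar_add_right _ _ _ _
    by_cases hs : Q a + Q b = 0
    · refine ⟨a + b + z, ?_, ?_, ?_⟩
      · have h1 : B Q (a + b) z = B Q a z + B Q b z := QuadraticMap.polar_add_left _ _ _ _
        rw [Q_add, Q_add, hab, h1, hza, hzb, hs]
        simpa using hz
      · rw [hadd, hadd, hab, hza, B_self, add_zero, add_zero]
        exact mul_ne_zero h2 ha
      · rw [hadd, hadd, hba, hzb, B_self, zero_add, add_zero]
        exact mul_ne_zero h2 hb
    · refine ⟨a + b, ?_, ?_, ?_⟩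
      · rw [Q_add, hab, add_zero]
        exact hs
      · rw [hadd, hab, B_self, add_zero]
        exact mul_ne_zero h2 ha
      · rw [hadd, hba, B_self, zero_add]
        exact mul_ne_zero h2 hb
  · refine ⟨a, ha, ?_, ?_⟩
    · rw [B_self]
      exact mul_ne_zero h2 ha
    · rw [B_comm]
      exact hab

end Cfsg.Agent.OS6P
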