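import Mathlib
import Cfsg.Prelude.Def_GeometricClasses
import Cfsg.Agent.Helper28.OrthSim3
import Cfsg.Agent.Helper8.OS6Defs
import Cfsg.Agent.Helper18.OS6SPUNIVC

/-! S5798 (sl6), chapter SPREAD, piece SPSPAN (helper10): the vectors of a fixed nonzero norm span. -/

set_option autoImplicit false

namespace Cfsg.Agent.OS6P

open Matrix Module Cfsg.Agent.Helper28.Sg Cfsg.Agent.Helper28.Spin Cfsg.Agent.Helper28.SLMax
  Cfsg.Agent.Helper28.SimMax Cfsg.Agent.Helper28.OSim

variable {F : Type*} [Field F] {n : ℕ} {Q : QuadraticForm F (Fin n → F)}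

theorem SPSPAN.main [Finite F] (h2 : (2 : F) ≠ 0) (hQ : (QuadraticMap.polarBilin Q).Nondegenerate)
    (hn : 3 ≤ n) {e : Fin n → F} (he : Q e ≠ 0) (w : Fin n → F) :
    w ∈ Submodule.span F {e' : Fin n → F | Q e' = Q e} := by
  apply mem_of_forall_perp hQ
  intro x hx
  have hx0 : x = 0 := by
    by_contra hne
    have key : ∃ v : Fin n → F, Q v = Q e ∧ B Q v x ≠ 0 := by
      by_cases hqx : Q x = 0
      · have hex : ∃ f, B Q x f ≠ 0 := by
          by_contra hcon
          push Not at hcon
          exact hne (hQ.1 x hcon)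
        obtain ⟨f, hf⟩ := hex
        refine ⟨((Q e - Q f) / B Q x f) • x + f, ?_, ?_⟩
        · have h1 : B Q (((Q e - Q f) / B Q x f) • x) f = ((Q e - Q f) / B Q x f) * B Q x f :=
            QuadraticMap.polar_smul_left _ _ _ _
          rw [Q_add, Q_smul, hqx, h1]
          field_simp
          ring
        · have h1 : B Q (((Q e - Q f) / B Q x f) • x + f) x =
              ((Q e - Q f) / B Q x f) * B Q x x + B Q f x := by
            show QuadraticMap.polar ⇑Q _ _ = _
            rw [QuadraticMap.polar_add_left, QuadraticMap.polar_smul_left]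
            rfl
          rw [h1, B_self, hqx, mul_zero, mul_zero, zero_add, B_comm]
          exact hf
      · obtain ⟨u, hu1, hu2⟩ := SPUNIVC.one h2 hQ hn hqx (Q e - Q x)
        refine ⟨x + u, ?_, ?_⟩
        · rw [Q_add, hu2, hu1]
          ring
        · have h1 : B Q (x + u) x = B Q x x + B Q u x := QuadraticMap.polar_add_left _ _ _ _
          rw [h1, B_self, B_comm Q u x, hu1, add_zero]
          exact mul_ne_zero h2 hqx
    obtain ⟨v, hv1, hv2⟩ := key
    exact hv2 (hx v (Submodule.subset_span hv1))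
  rw [hx0]
  exact QuadraticMap.polar_zero_left _ _

end Cfsg.Agent.OS6P
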