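import Mathlib
import Cfsg.Agent.Helper23.OmegaOne

/-!
An odd-order automorphism of a finite `2`-group fixing all elements with `x ^ 4 = 1` is trivial;
combined form for all primes, and an ambient form. (Adapted from `Helper23.OmegaOne`.)
-/

set_option autoImplicit false

namespace Cfsg.Agent.Helper10

open Subgroup Cfsg.Agent.Helper23
open scoped commutatorElement

theorem aut_eq_one_of_fixes_omega_two_aux.{u} :
    ∀ n : ℕ, ∀ (G : Type u) [Group G] [Finite G], Nat.card G = n → IsPGroup 2 G →
    ∀ a : MulAut G, Nat.Coprime (orderOf a) 2 → (∀ x : G, x ^ 4 = 1 → a x = x) → a = 1 := by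
  intro n
  induction n using Nat.strong_induction_on with
  | _ n ih =>
    intro G _ _ hcard hG a ha hfix
    have IHsub : ∀ K : Subgroup G, K ≠ ⊤ → (∀ x, x ∈ K ↔ a x ∈ K) → ∀ x ∈ K, a x = x := by
      intro K hK hKa x hx
      have hlt : Nat.card K < n := by
        rw [← hcard]
        exact lt_of_le_of_ne (Subgroup.card_le_card_group K)
          (fun h => hK (Subgroup.eq_top_of_card_eq K h))
      have h1 := ih (Nat.card K) hlt K rfl (hG.to_subgroup K) (restrictAut a K hKa)
        (Nat.Coprime.coprime_dvd_left (orderOf_restrictAut_dvd a K hKa) ha)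
        (by
          intro y hy
          apply Subtype.ext
          rw [restrictAut_apply]
          apply hfix
          have := congrArg Subtype.val hy
          simpa using this)
      have h2 := congrArg (fun f : MulAut K => ((f ⟨x, hx⟩ : K) : G)) h1
      simpa [restrictAut_apply] using h2
    set N : Subgroup G := Subgroup.closure {z | ∃ x : G, z = x⁻¹ * a x} with hN
    have hNfwd : ∀ x ∈ N, a x ∈ N := by
      intro x hx
      have : N ≤ N.comap a.toMonoidHom := by
        rw [hN, Subgroup.closure_le]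
        rintro z ⟨x, rfl⟩
        show a (x⁻¹ * a x) ∈ N
        rw [map_mul, map_inv]
        exact Subgroup.subset_closure ⟨a x, rfl⟩
      exact this hx
    have hNbwd : ∀ x ∈ N, a.symm x ∈ N := by
      intro x hx
      have : N ≤ N.comap a.symm.toMonoidHom := by
        rw [hN, Subgroup.closure_le]
        rintro z ⟨x, rfl⟩
        show a.symm (x⁻¹ * a x) ∈ N
        rw [map_mul, map_inv, MulEquiv.symm_apply_apply]
        refine Subgroup.subset_closure ⟨a.symm x, ?_⟩
        rw [MulEquiv.apply_symm_apply]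
      exact this hx
    have hNa : ∀ x, x ∈ N ↔ a x ∈ N := by
      intro x
      refine ⟨hNfwd x, fun h => ?_⟩
      have := hNbwd _ h
      rwa [MulEquiv.symm_apply_apply] at this
    by_cases hNtop : N ≠ ⊤
    · ext x
      rw [MulAut.one_apply]
      apply aut_fixes_of_fixes_comm hG a ha x
      exact IHsub N hNtop hNa _ (Subgroup.subset_closure ⟨x, rfl⟩)
    push Not at hNtop
    by_cases htriv : Subsingleton G
    · ext x; exact Subsingleton.elim _ _
    rw [not_subsingleton_iff_nontrivial] at htriv
    have hΦtop : frattini G ≠ ⊤ := by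
      intro h
      have : (⊥ : Subgroup G) = ⊤ := frattini_nongenerating (by rw [bot_sup_eq, h])
      exact bot_ne_top this
    have hΦa : ∀ x, x ∈ frattini G ↔ a x ∈ frattini G := by
      intro x
      have := (inferInstance : (frattini G).Characteristic).fixed a
      constructor
      · intro h
        rw [← this] at h
        exact h
      · intro h
        rw [← this]
        exact h
    have hΦfix := IHsub (frattini G) hΦtop hΦa
    have hΦZ : ∀ c ∈ frattini G, ∀ g : G, g * c = c * g := by
      intro c hc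
      have hcent : Subgroup.centralizer ({c} : Set G) = ⊤ := by
        rw [eq_top_iff, ← hNtop, hN, Subgroup.closure_le]
        rintro z ⟨g, rfl⟩
        rw [SetLike.mem_coe, Subgroup.mem_centralizer_iff]
        intro w hw
        rw [Set.mem_singleton_iff] at hw
        subst hw
        have h1 : a (g * w * g⁻¹) = g * w * g⁻¹ :=
          hΦfix _ ((inferInstance : (frattini G).Normal).conj_mem w hc g)
        rw [map_mul, map_mul, map_inv, hΦfix w hc] at h1
        have h2 : w * (g⁻¹ * a g) = g⁻¹ * (g * w * g⁻¹) * a g := by group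
        rw [h2, ← h1]; group
      intro g
      have : g ∈ Subgroup.centralizer ({c} : Set G) := by rw [hcent]; trivial
      exact ((Subgroup.mem_centralizer_iff.mp this) c rfl).symm
    have hpowmul : ∀ x y : G, (x * y) ^ 4 = x ^ 4 * y ^ 4 := by
      intro x y
      set c := y⁻¹ * x⁻¹ * y * x with hc
      have hcΦ : c ∈ frattini G := by
        apply Cfsg.Agent.Helper1.IsPGroup.commutator_le_frattini hG
        have : c = ⁅y⁻¹, x⁻¹⁆ := by rw [commutatorElement_def, hc]; group
        rw [this, _root_.commutator_def]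
        exact Subgroup.commutator_mem_commutator (Subgroup.mem_top _) (Subgroup.mem_top _)
      have hyx : y * x = x * y * c := by rw [hc]; group
      have hcx : Commute c x := (hΦZ c hcΦ x).symm
      have hcy : Commute c y := (hΦZ c hcΦ y).symm
      have hcp : c ^ 2 = 1 := by
        have h1 : x⁻¹ * y * x = y * c := by rw [hc]; group
        have h2 : (x⁻¹ * y * x) ^ 2 = x⁻¹ * y ^ 2 * x := by
          have := conj_pow (i := 2) (a := x⁻¹) (b := y)
          rwa [inv_inv] at this
        have hypΦ : y ^ 2 ∈ frattini G := Cfsg.Agent.Helper1.IsPGroup.pow_mem_frattini hG y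
        have h3 : x⁻¹ * y ^ 2 * x = y ^ 2 := by
          rw [mul_assoc, ← hΦZ _ hypΦ x, ← mul_assoc, inv_mul_cancel, one_mul]
        have h4 : (y * c) ^ 2 = y ^ 2 * c ^ 2 := (hcy.symm.mul_pow 2)
        rw [h1, h4, h3] at h2
        have h5 : y ^ 2 * c ^ 2 = y ^ 2 * 1 := by rw [h2, mul_one]
        exact mul_left_cancel h5
      rw [mul_pow_of_central_comm x y c hyx hcx hcy 4]
      have h6 : 4 * (4 - 1) / 2 = 2 * 3 := by norm_num
      rw [h6, pow_mul, hcp, one_pow, mul_one]
    have hx4 : ∀ x : G, x ^ 4 ∈ frattini G := by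
      intro x
      have h1 : x ^ 2 ∈ frattini G := Cfsg.Agent.Helper1.IsPGroup.pow_mem_frattini hG x
      have h2 : x ^ 4 = (x ^ 2) ^ 2 := by rw [← pow_mul]
      rw [h2]
      exact Subgroup.pow_mem _ h1 2
    ext x
    rw [MulAut.one_apply]
    apply aut_fixes_of_fixes_comm hG a ha x
    apply hfix
    rw [hpowmul, inv_pow, ← map_pow, hΦfix _ (hx4 x), inv_mul_cancel]

/-- A `p'`-automorphism of a finite `p`-group fixing every `x` with `x ^ p = 1` (or `x ^ 4 = 1`
when `p = 2`) is trivial. -/
theorem aut_eq_one_of_fixes_omega' {G : Type*} [Group G] [Finite G] {p : ℕ} [Fact p.Prime]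
    (hG : IsPGroup p G) (a : MulAut G) (ha : Nat.Coprime (orderOf a) p)
    (h : ∀ x : G, (x ^ p = 1 ∨ (p = 2 ∧ x ^ 4 = 1)) → a x = x) : a = 1 := by
  by_cases hp : p = 2
  · subst hp
    exact aut_eq_one_of_fixes_omega_two_aux _ G rfl hG a ha (fun x hx => h x (Or.inr ⟨rfl, hx⟩))
  · exact aut_eq_one_of_fixes_omega hp hG a ha (fun x hx => h x (Or.inl hx))

/-- Ambient form: a `p'`-element `g` normalizing the `p`-subgroup `K` and commuting with
every `x ∈ K` with `x ^ p = 1` (or `x ^ 4 = 1` when `p = 2`) centralizes `K`. -/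
theorem mem_centralizer_of_centralizes_omega {G : Type*} [Group G] [Finite G] {p : ℕ}
    [Fact p.Prime] (K : Subgroup G) (hK : IsPGroup p K) (g : G)
    (hgK : g ∈ Subgroup.normalizer (K : Set G)) (hcop : (orderOf g).Coprime p)
    (h : ∀ x ∈ K, (x ^ p = 1 ∨ (p = 2 ∧ x ^ 4 = 1)) → g * x * g⁻¹ = x) :
    g ∈ Subgroup.centralizer (K : Set G) := by
  have hKa : ∀ x, x ∈ K ↔ (MulAut.conj g) x ∈ K := by
    intro x
    rw [MulAut.conj_apply]
    exact Subgroup.mem_normalizer_iff.mp hgK x
  set α := restrictAut (MulAut.conj g) K hKa with hα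
  have hord : Nat.Coprime (orderOf α) p := by
    have h1 : orderOf α ∣ orderOf (MulAut.conj g) := orderOf_restrictAut_dvd _ K hKa
    have h2 : orderOf (MulAut.conj g) ∣ orderOf g := orderOf_map_dvd (MulAut.conj : G →* MulAut G) g
    exact Nat.Coprime.coprime_dvd_left (h1.trans h2) hcop
  have hfix : ∀ y : K, (y ^ p = 1 ∨ (p = 2 ∧ y ^ 4 = 1)) → α y = y := by
    intro y hy
    apply Subtype.ext
    rw [hα, restrictAut_apply, MulAut.conj_apply]
    apply h (y : G) y.2
    rcases hy with hy | ⟨h2, hy⟩
    · left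
      have := congrArg Subtype.val hy
      simpa using this
    · right
      refine ⟨h2, ?_⟩
      have := congrArg Subtype.val hy
      simpa using this
  have hone := aut_eq_one_of_fixes_omega' hK α hord hfix
  rw [Subgroup.mem_centralizer_iff]
  intro y hy
  have h1 := congrArg (fun f : MulAut K => ((f ⟨y, hy⟩ : K) : G)) hone
  simp only [hα, restrictAut_apply, MulAut.conj_apply, MulAut.one_apply] at h1
  have h2 : g * y = (g * y * g⁻¹) * g := by group
  rw [h2, h1]

/-- Stability: a `p'`-element `g` normalizing the `p`-subgroup `K` centralizes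
`K ∩ Z_n(G)` for every term of the upper central series. -/
theorem conj_eq_of_mem_upperCentralSeries {G : Type*} [Group G] {p : ℕ}
    (K : Subgroup G) (hK : IsPGroup p K) (g : G)
    (hgK : g ∈ Subgroup.normalizer (K : Set G)) (hcop : (orderOf g).Coprime p) :
    ∀ (n : ℕ) (x : G), x ∈ K → x ∈ Subgroup.upperCentralSeries G n → g * x * g⁻¹ = x := by
  have hKa : ∀ x, x ∈ K ↔ (MulAut.conj g) x ∈ K := by
    intro x
    rw [MulAut.conj_apply]
    exact Subgroup.mem_normalizer_iff.mp hgK x
  have hord : Nat.Coprime (orderOf (restrictAut (MulAut.conj g) K hKa)) p := by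
    have h1 : orderOf (restrictAut (MulAut.conj g) K hKa) ∣ orderOf (MulAut.conj g) :=
      orderOf_restrictAut_dvd _ K hKa
    have h2 : orderOf (MulAut.conj g) ∣ orderOf g := orderOf_map_dvd (MulAut.conj : G →* MulAut G) g
    exact Nat.Coprime.coprime_dvd_left (h1.trans h2) hcop
  intro n
  induction n with
  | zero =>
    intro x _ hx
    rw [Subgroup.upperCentralSeries_zero, Subgroup.mem_bot] at hx
    rw [hx]; group
  | succ n ih =>
    intro x hxK hx
    have hgx : g * x * g⁻¹ ∈ K := (Subgroup.mem_normalizer_iff.mp hgK x).mp hxK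
    have hc : x⁻¹ * (g * x * g⁻¹) ∈ Subgroup.upperCentralSeries G n := by
      rw [Subgroup.mem_upperCentralSeries_succ_iff] at hx
      have h1 := hx g
      rw [commutatorElement_def] at h1
      have h2 := Subgroup.inv_mem _ h1
      have h3 : (x * g * x⁻¹ * g⁻¹)⁻¹ = x * (x⁻¹ * (g * x * g⁻¹)) * x⁻¹ := by group
      rw [h3] at h2
      have h4 := (inferInstance : (Subgroup.upperCentralSeries G n).Normal).conj_mem _ h2 x⁻¹
      have h5 : x⁻¹ * (x * (x⁻¹ * (g * x * g⁻¹)) * x⁻¹) * x⁻¹⁻¹ = x⁻¹ * (g * x * g⁻¹) := by group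
      rw [h5] at h4
      exact h4
    have hcK : x⁻¹ * (g * x * g⁻¹) ∈ K := K.mul_mem (K.inv_mem hxK) hgx
    have hfixc := ih _ hcK hc
    have h6 := aut_fixes_of_fixes_comm hK (restrictAut (MulAut.conj g) K hKa) hord ⟨x, hxK⟩ (by
      apply Subtype.ext
      simp only [restrictAut_apply, Subgroup.coe_mul, Subgroup.coe_inv, MulAut.conj_apply]
      exact hfixc)
    have h7 := congrArg Subtype.val h6
    simpa [restrictAut_apply, MulAut.conj_apply] using h7

end Cfsg.Agent.Helper10
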