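import Mathlib

set_option autoImplicit false

namespace Cfsg.Agent.Helper10.PIT

open MonoidAlgebra
open scoped commutatorElement



/-- adjugate trick -/
theorem det_smul_eq_zero {R B J : Type*} [CommRing R] [AddCommGroup B] [Module R B] [Fintype J]
    [DecidableEq J] (μ : Matrix J J R) (x : J → B) (h : ∀ k, ∑ j, μ j k • x j = 0) (l : J) :
    μ.det • x l = 0 := by
  have h1 : ∑ k, μ.adjugate k l • ∑ j, μ j k • x j = 0 := by simp [h]
  have h2 : ∑ k, μ.adjugate k l • ∑ j, μ j k • x j = ∑ j, (μ * μ.adjugate) j l • x j := by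
    simp_rw [Finset.smul_sum, smul_smul]
    rw [Finset.sum_comm]
    refine Finset.sum_congr rfl fun j _ => ?_
    rw [Matrix.mul_apply, Finset.sum_smul]
    refine Finset.sum_congr rfl fun k _ => ?_
    rw [mul_comm]
  rw [h2, Matrix.mul_adjugate] at h1
  simpa [Matrix.smul_apply, Matrix.one_apply, ite_smul] using h1

variable {H : Type*} [CommGroup H]

/-- the augmentation map -/
noncomputable def aug (H : Type*) [CommGroup H] : MonoidAlgebra ℤ H →+* ℤ :=
  (MonoidAlgebra.lift ℤ ℤ H (1 : H →* ℤ) : MonoidAlgebra ℤ H →+* ℤ)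

theorem aug_single (h : H) (r : ℤ) : aug H (single h r) = r := by
  simp [aug]

/-- the norm element -/
noncomputable def normElt (H : Type*) [CommGroup H] [Fintype H] : MonoidAlgebra ℤ H :=
  ∑ h : H, single h (1 : ℤ)

theorem aug_normElt [Fintype H] : aug H (normElt H) = Fintype.card H := by
  simp [normElt, aug_single]

theorem coeff_normElt [Fintype H] (g : H) : (normElt H).coeff g = 1 := by
  classical
  rw [normElt, coeff_sum, Finsupp.finsetSum_apply]
  simp

theorem eq_smul_normElt [Fintype H] (x : MonoidAlgebra ℤ H)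
    (hx : ∀ h : H, single h (1 : ℤ) * x = x) : x = (x.coeff 1) • normElt H := by
  classical
  ext g
  have h1 : x.coeff g = x.coeff 1 := by
    have := congrArg (fun y => y.coeff g) (hx g)
    simp only [coeff_single_mul_apply, one_mul, inv_mul_cancel] at this
    exact this.symm
  rw [h1, coeff_smul_apply, coeff_normElt]
  simp



/-- generators of a finite abelian group with product of orders equal to the order -/
theorem exists_gens (H : Type*) [CommGroup H] [Finite H] :
    ∃ (ι : Type) (_ : Fintype ι) (h : ι → H),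
      Subgroup.closure (Set.range h) = ⊤ ∧ ∏ i, orderOf (h i) = Nat.card H := by
  classical
  obtain ⟨ι, _, n, hn, ⟨e⟩⟩ := CommGroup.equiv_prod_multiplicative_zmod_of_finite H
  have : ∀ i, NeZero (n i) := fun i => ⟨by have := hn i; omega⟩
  let u : ι → ((i : ι) → Multiplicative (ZMod (n i))) := fun i =>
    Pi.mulSingle i (Multiplicative.ofAdd (1 : ZMod (n i)))
  refine ⟨ι, inferInstance, fun i => e.symm (u i), ?_, ?_⟩
  · have h1 : Subgroup.closure (Set.range u) = ⊤ := by
      rw [eq_top_iff]
      intro x _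
      refine Subgroup.pi_mem_of_mulSingle_mem x fun i => ?_
      have h2 : Pi.mulSingle i (x i) = (u i) ^ (ZMod.val (Multiplicative.toAdd (x i))) := by
        rw [← Pi.mulSingle_pow]
        congr 1
        rw [← ofAdd_nsmul]
        simp
      rw [h2]
      exact Subgroup.pow_mem _ (Subgroup.subset_closure (Set.mem_range_self i)) _
    have h3 : Set.range (fun i => e.symm (u i)) = e.symm.toMonoidHom '' Set.range u := by
      ext y; simp
    rw [h3, ← MonoidHom.map_closure, h1, ← MonoidHom.range_eq_map]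
    exact MonoidHom.range_eq_top.mpr e.symm.surjective
  · have h4 : ∀ i, orderOf (e.symm (u i)) = n i := by
      intro i
      rw [MulEquiv.orderOf_eq]
      show orderOf (Pi.mulSingle (M := fun i => Multiplicative (ZMod (n i))) i
        (Multiplicative.ofAdd (1 : ZMod (n i)))) = n i
      rw [orderOf_piMulSingle, orderOf_ofAdd_eq_addOrderOf, ZMod.addOrderOf_one]
    simp_rw [h4]
    rw [Nat.card_congr e.toEquiv, Nat.card_pi]
    simp




section Deriv
variable {G H : Type*} [Group G] [CommGroup H]
  {B : Type*} [AddCommGroup B] [Module (MonoidAlgebra ℤ H) B]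

/-- derivation property -/
def IsDeriv (π : G →* H) (D : G → B) : Prop :=
  ∀ g g', D (g * g') = D g + single (π g) (1 : ℤ) • D g'

variable {π : G →* H} {D : G → B}

theorem IsDeriv.one (hD : IsDeriv π D) : D 1 = 0 := by
  have h := hD 1 1
  rw [mul_one, map_one, ← one_def, one_smul] at h
  exact left_eq_add.mp h

theorem IsDeriv.inv (hD : IsDeriv π D) (g : G) :
    D g⁻¹ = - (single (π g)⁻¹ (1 : ℤ) • D g) := by
  have h := hD g⁻¹ g
  rw [inv_mul_cancel, hD.one, map_inv] at h
  exact eq_neg_of_add_eq_zero_left h.symm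

theorem IsDeriv.pow (hD : IsDeriv π D) (g : G) (n : ℕ) :
    D (g ^ n) = (∑ r ∈ Finset.range n, single ((π g) ^ r) (1 : ℤ)) • D g := by
  induction n with
  | zero => simp [hD.one]
  | succ n ih =>
    rw [pow_succ, hD, Finset.sum_range_succ, add_smul, ih, map_pow]

theorem IsDeriv.comm (hD : IsDeriv π D) (x y : G) :
    D ⁅x, y⁆ = (1 - single (π y) (1 : ℤ)) • D x + (single (π x) (1 : ℤ) - 1) • D y := by
  rw [commutatorElement_def, hD, hD, hD, hD.inv, hD.inv]
  simp only [map_mul, map_inv, smul_neg, smul_smul, single_mul_single, mul_one, sub_smul,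
    one_smul]
  have e1 : π x * π y * (π x)⁻¹ = π y := by rw [mul_comm (π x), mul_inv_cancel_right]
  rw [e1, mul_inv_cancel, ← one_def, one_smul]
  abel

/-- the subgroup of elements whose derivation value lies in a given submodule -/
def memSubgroup (hD : IsDeriv π D) (M0 : Submodule (MonoidAlgebra ℤ H) B) : Subgroup G where
  carrier := {g | D g ∈ M0}
  mul_mem' := by
    intro a b ha hb
    rw [Set.mem_ofPred_eq, hD]
    exact M0.add_mem ha (M0.smul_mem _ hb)
  one_mem' := by
    rw [Set.mem_ofPred_eq, hD.one]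
    exact M0.zero_mem
  inv_mem' := by
    intro a ha
    rw [Set.mem_ofPred_eq, hD.inv]
    exact M0.neg_mem (M0.smul_mem _ ha)

theorem mem_memSubgroup (hD : IsDeriv π D) (M0 : Submodule (MonoidAlgebra ℤ H) B) (g : G) :
    g ∈ memSubgroup hD M0 ↔ D g ∈ M0 := Iff.rfl

end Deriv


theorem core {G H : Type*} [Group G] [Finite G] [CommGroup H] [Fintype H] (π : G →* H)
    (hπ : Function.Surjective π) (hker : π.ker ≤ commutator G)
    {B : Type*} [AddCommGroup B] [Module (MonoidAlgebra ℤ H) B] (D : G → B)
    (hD : IsDeriv π D) (g : G) : normElt H • D g = 0 := by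
  classical
  let D' : G → B × MonoidAlgebra ℤ H := fun g => (D g, single (π g) (1 : ℤ) - 1)
  have hD' : IsDeriv π D' := by
    intro a b
    ext
    · simp [D', hD a b]
    · simp [D', mul_sub, single_mul_single]
  obtain ⟨ι, _, h, hcl, hprod⟩ := exists_gens H
  choose σ hσ using fun i => hπ (h i)
  have : Fintype π.ker := Fintype.ofFinite _
  let w : ι ⊕ π.ker → G := Sum.elim σ (fun κ => (κ : G))
  let x : ι ⊕ π.ker → B × MonoidAlgebra ℤ H := fun j => D' (w j)
  let M0 : Submodule (MonoidAlgebra ℤ H) (B × MonoidAlgebra ℤ H) :=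
    Submodule.span (MonoidAlgebra ℤ H) (Set.range x)
  have hall : ∀ g, D' g ∈ M0 := by
    intro g
    rw [← mem_memSubgroup hD' M0]
    have h1 : Subgroup.closure (Set.range σ) ≤ memSubgroup hD' M0 := by
      rw [Subgroup.closure_le]
      rintro _ ⟨i, rfl⟩
      exact Submodule.subset_span ⟨Sum.inl i, rfl⟩
    have h2 : π.ker ≤ memSubgroup hD' M0 := by
      intro κ hκ
      exact Submodule.subset_span ⟨Sum.inr ⟨κ, hκ⟩, rfl⟩
    have h3 : (Subgroup.closure (Set.range σ)).map π = ⊤ := by
      rw [MonoidHom.map_closure, ← Set.range_comp]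
      have : π ∘ σ = h := funext hσ
      rw [this, hcl]
    obtain ⟨s, hs, hsg⟩ : π g ∈ (Subgroup.closure (Set.range σ)).map π := by
      rw [h3]; trivial
    have : g = s * (s⁻¹ * g) := by group
    rw [this]
    refine Subgroup.mul_mem _ (h1 hs) (h2 ?_)
    rw [MonoidHom.mem_ker, map_mul, map_inv, hsg, inv_mul_cancel]
  let I : Ideal (MonoidAlgebra ℤ H) := RingHom.ker (aug H)
  have hcomm : ∀ c ∈ commutator G, D' c ∈ I • M0 := by
    intro c hc
    rw [commutator_def, Subgroup.commutator_def] at hc
    induction hc using Subgroup.closure_induction with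
    | mem c hc =>
      obtain ⟨a, -, b, -, rfl⟩ := hc
      rw [hD'.comm]
      refine Submodule.add_mem _ (Submodule.smul_mem_smul ?_ (hall a))
        (Submodule.smul_mem_smul ?_ (hall b))
      · simp [I, RingHom.mem_ker, aug_single]
      · simp [I, RingHom.mem_ker, aug_single]
    | one => rw [hD'.one]; exact Submodule.zero_mem _
    | mul a b _ _ ha hb => rw [hD']; exact Submodule.add_mem _ ha (Submodule.smul_mem _ _ hb)
    | inv a _ ha => rw [hD'.inv]; exact Submodule.neg_mem _ (Submodule.smul_mem _ _ ha)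
  let n : ι ⊕ π.ker → ℕ := Sum.elim (fun i => orderOf (h i)) (fun _ => 1)
  let Λ : ι ⊕ π.ker → MonoidAlgebra ℤ H := fun j =>
    ∑ r ∈ Finset.range (n j), single ((π (w j)) ^ r) (1 : ℤ)
  have hw : ∀ j, (w j) ^ (n j) ∈ π.ker := by
    rintro (i | κ)
    · simp [w, n, MonoidHom.mem_ker, hσ, pow_orderOf_eq_one]
    · simp [w, n]
  have hΛ : ∀ j, D' ((w j) ^ (n j)) = Λ j • x j := fun j => hD'.pow _ _
  have hν : ∀ k, ∃ ν : ι ⊕ π.ker → MonoidAlgebra ℤ H,
      (∀ j, ν j ∈ I) ∧ ∑ j, ν j • x j = D' ((w k) ^ (n k)) := by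
    intro k
    have := hcomm _ (hker (hw k))
    rw [Submodule.mem_ideal_smul_span_iff_exists_sum] at this
    obtain ⟨a, ha, hsum⟩ := this
    refine ⟨a, ha, ?_⟩
    rw [← hsum, Finsupp.sum_fintype]
    simp
  choose ν hνI hνsum using hν
  let μ : Matrix (ι ⊕ π.ker) (ι ⊕ π.ker) (MonoidAlgebra ℤ H) :=
    fun j k => (if j = k then Λ k else 0) - ν k j
  have hμ : ∀ k, ∑ j, μ j k • x j = 0 := by
    intro k
    simp only [μ, sub_smul, Finset.sum_sub_distrib, ite_smul, zero_smul, Finset.sum_ite_eq',
      Finset.mem_univ, if_true]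
    rw [hνsum, hΛ, sub_self]
  have hdet : ∀ g, μ.det • D' g = 0 := by
    intro g
    have : ∀ y ∈ M0, μ.det • y = 0 := by
      intro y hy
      induction hy using Submodule.span_induction with
      | mem y hy => obtain ⟨l, rfl⟩ := hy; exact det_smul_eq_zero μ x hμ l
      | zero => simp
      | add a b _ _ ha hb => rw [smul_add, ha, hb, add_zero]
      | smul r a _ ha => rw [smul_comm, ha, smul_zero]
    exact this _ (hall g)
  have hinv : ∀ h' : H, single h' (1 : ℤ) * μ.det = μ.det := by
    intro h'
    obtain ⟨g', rfl⟩ := hπ h'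
    have h6 := congrArg Prod.snd (hdet g')
    simp only [D', Prod.smul_snd, smul_eq_mul, Prod.snd_zero, mul_sub, mul_one] at h6
    rw [mul_comm]
    exact sub_eq_zero.mp h6
  have h5 := eq_smul_normElt _ hinv
  have haug : aug H μ.det = Fintype.card H := by
    rw [RingHom.map_det]
    have h7 : (aug H).mapMatrix μ = Matrix.diagonal (fun j => (n j : ℤ)) := by
      ext j k
      have h8 : aug H (ν k j) = 0 := hνI k j
      rw [RingHom.mapMatrix_apply, Matrix.map_apply]
      show aug H ((if j = k then Λ k else 0) - ν k j) = _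
      by_cases hjk : j = k
      · subst hjk
        simp [Λ, h8, aug_single]
      · simp [hjk, h8]
    rw [h7, Matrix.det_diagonal, Fintype.prod_sum_type]
    simp only [n, Sum.elim_inl, Sum.elim_inr, Nat.cast_one, Finset.prod_const_one, mul_one]
    rw [← Nat.cast_prod, hprod, Nat.card_eq_fintype_card]
  have h9 : μ.det = normElt H := by
    have h10 : aug H μ.det = μ.det.coeff 1 * Fintype.card H := by
      conv_lhs => rw [h5]
      rw [zsmul_eq_mul, map_mul, aug_normElt]
      simp
    rw [haug] at h10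
    have hpos : (Fintype.card H : ℤ) ≠ 0 := by
      exact_mod_cast Fintype.card_ne_zero
    have h11 : μ.det.coeff 1 = 1 := by
      have := mul_right_cancel₀ hpos (show (1 : ℤ) * Fintype.card H = μ.det.coeff 1 * Fintype.card H by
        rw [one_mul]; exact h10)
      exact this.symm
    rw [h5, h11, one_smul]
  have := congrArg Prod.fst (hdet g)
  rw [h9] at this
  simpa [D'] using this

end Cfsg.Agent.Helper10.PIT
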