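import Mathlib
import Cfsg.Agent.Helper10.PITCore

set_option autoImplicit false

namespace Cfsg.Agent.Helper10.PIT

open MonoidAlgebra (single)
open scoped Pointwise

/-- translation representation on functions -/
noncomputable def transRep (H V : Type*) [Group H] [AddCommGroup V] :
    Representation ℤ H (H → V) where
  toFun h :=
    { toFun := fun φ q => φ (h⁻¹ * q)
      map_add' := fun _ _ => rfl
      map_smul' := fun _ _ => rfl }
  map_one' := by
    ext φ q
    simp
  map_mul' := by
    intro a b
    ext φ q
    simp [mul_assoc]

theorem transRep_apply {H V : Type*} [Group H] [AddCommGroup V] (h : H) (φ : H → V) (q : H) :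
    transRep H V h φ q = φ (h⁻¹ * q) := rfl

/-- the module structure on functions given by translation -/
@[reducible] noncomputable def transModule (H V : Type*) [Group H] [AddCommGroup V] :
    Module (MonoidAlgebra ℤ H) (H → V) :=
  Module.compHom (H → V)
    ((transRep H V).asAlgebraHom : MonoidAlgebra ℤ H →+* Module.End ℤ (H → V))

attribute [local instance] transModule

theorem single_smul_apply {H V : Type*} [Group H] [AddCommGroup V] (h : H) (φ : H → V) (q : H) :
    (single h (1 : ℤ) • φ) q = φ (h⁻¹ * q) := by
  show ((transRep H V).asAlgebraHom (single h (1 : ℤ))) φ q = _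
  rw [Representation.asAlgebraHom_single_one, transRep_apply]

theorem normElt_smul_apply {H V : Type*} [CommGroup H] [Fintype H] [AddCommGroup V] (φ : H → V)
    (q : H) : (normElt H • φ) q = ∑ h : H, φ h := by
  rw [normElt, Finset.sum_smul, Finset.sum_apply]
  simp_rw [single_smul_apply]
  exact Fintype.sum_equiv ((Equiv.inv H).trans (Equiv.mulRight q)) _ _ (fun h => by simp)

section Inst
variable {G : Type*} [Group G]

/-- map an element of `G` to `G'/G''` if it lies in `G'`, else to `1` -/
noncomputable def toA (u : G) : Abelianization ↥(commutator G) :=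
  open Classical in
  if h : u ∈ commutator G then Abelianization.of ⟨u, h⟩ else 1

theorem toA_of_mem {u : G} (h : u ∈ commutator G) : toA u = Abelianization.of ⟨u, h⟩ := by
  simp [toA, h]

theorem toA_mul {u v : G} (hu : u ∈ commutator G) (hv : v ∈ commutator G) :
    toA (u * v) = toA u * toA v := by
  rw [toA_of_mem hu, toA_of_mem hv, toA_of_mem (mul_mem hu hv), ← map_mul]
  rfl

theorem mem_comm_iff (u : G) : u ∈ commutator G ↔ (Abelianization.of u : Abelianization G) = 1 := by
  rw [← MonoidHom.mem_ker, Abelianization.ker_of]

variable (T : (commutator G).LeftTransversal)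

/-- the section -/
noncomputable def sec (q : Abelianization G) : G := (T.2.leftQuotientEquiv q : G)

theorem of_sec (q : Abelianization G) : Abelianization.of (sec T q) = q :=
  T.2.quotientGroupMk_leftQuotientEquiv q

/-- the Kaloujnine–Krasner cocycle -/
noncomputable def kk (g : G) (q : Abelianization G) : G :=
  (sec T q)⁻¹ * g * sec T ((Abelianization.of g)⁻¹ * q)

theorem kk_mem (g : G) (q : Abelianization G) : kk T g q ∈ commutator G := by
  rw [mem_comm_iff, kk, map_mul, map_mul, map_inv, of_sec, of_sec]
  rw [mul_assoc, mul_inv_cancel_left, inv_mul_cancel]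

theorem kk_mul (g g' : G) (q : Abelianization G) :
    kk T (g * g') q = kk T g q * kk T g' ((Abelianization.of g)⁻¹ * q) := by
  simp only [kk, map_mul, mul_inv_rev]
  rw [← mul_assoc ((Abelianization.of g')⁻¹)]
  group

/-- the derivation -/
noncomputable def der (g : G) :
    Abelianization G → Additive (Abelianization ↥(commutator G)) :=
  fun q => Additive.ofMul (toA (kk T g q))

theorem der_isDeriv : IsDeriv (Abelianization.of : G →* Abelianization G) (der T) := by
  intro g g'
  funext q
  rw [Pi.add_apply, single_smul_apply]
  simp only [der]
  rw [kk_mul, toA_mul (kk_mem T _ _) (kk_mem T _ _)]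
  rfl

theorem smul_eq_of_mul (g : G) (q : G ⧸ commutator G) :
    g • q = (QuotientGroup.mk g : G ⧸ commutator G) * q := by
  induction q using QuotientGroup.induction_on with
  | H a => rfl

theorem transfer_eq_prod [Finite G] (g : G) :
    letI : Fintype (Abelianization G) := (commutator G).fintypeQuotientOfFiniteIndex
    MonoidHom.transfer (Abelianization.of : ↥(commutator G) →* Abelianization ↥(commutator G)) g
      = ∏ q : Abelianization G, toA (kk T g q) := by
  rw [MonoidHom.transfer_def _ T g]
  unfold Subgroup.leftTransversals.diff
  refine Finset.prod_congr rfl fun q _ => ?_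
  rw [toA_of_mem (kk_mem T g q)]
  congr 1
  apply Subtype.ext
  simp only [kk, sec, Subgroup.smul_apply_eq_smul_apply_inv_smul, smul_eq_mul, mul_assoc]
  rw [smul_eq_of_mul]
  rfl

theorem pit [Finite G] (g : G) :
    MonoidHom.transfer (Abelianization.of : ↥(commutator G) →* Abelianization ↥(commutator G)) g
      = 1 := by
  let _ : Fintype (Abelianization G) := (commutator G).fintypeQuotientOfFiniteIndex
  let T : (commutator G).LeftTransversal := default
  have h1 := core (Abelianization.of : G →* Abelianization G)
    (QuotientGroup.mk_surjective) (by rw [Abelianization.ker_of]) (der T) (der_isDeriv T) g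
  have h2 := congrFun h1 1
  rw [normElt_smul_apply] at h2
  rw [transfer_eq_prod T g]
  simp only [der] at h2
  have h3 : Additive.ofMul (∏ q : Abelianization G, toA (kk T g q)) = 0 := by
    rw [ofMul_prod]
    exact h2
  exact h3

end Inst

end Cfsg.Agent.Helper10.PIT
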