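import Cfsg.Agent.Helper10.PUTmaincore
import Cfsg.Agent.Helper14.PUCmain
import Cfsg.Agent.Helper3.PUDp2
import Cfsg.Agent.Helper9.PUPL
import Cfsg.Agent.Helper12.PUWmain

/-! # PU hub, board `pu3pieces`: row T_main (Theorem 1 in PU language) -/

set_option autoImplicit false

namespace Cfsg.Agent.PU

open Subgroup
open scoped commutatorElement

variable {X : Type*} [Group X] (D : Dat X)

/-- ST1_exS, C_main, D_p2, W_main -/
theorem T_main (hB : D.Base) (hN : D.NAT) : D.IsS 1 ∨ (D.IsS 2 ∧ D.p = 3) :=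
  T_main_core D hB (ST1_exS D hB) (fun _ hs => C_main D hB hN hs) (D_p2 D hB hN) (W_main D hB hN)

end Cfsg.Agent.PU
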