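import Cfsg.Agent.Helper5.PUDefs2

/-! # PU hub, row T_main: core (the four inputs ST1_exS, C_main, D_p2, W_main as hypotheses) -/

set_option autoImplicit false

namespace Cfsg.Agent.PU

open Subgroup

variable {X : Type*} [Group X]

/-- Theorem 1 in PU language, from its four inputs. -/
theorem T_main_core (D : Dat X) (hB : D.Base) (hST1 : ∃ s : ℕ, 1 ≤ s ∧ D.IsS s)
    (hC : ∀ s : ℕ, D.IsS s → s ≤ 2) (hD : D.IsS 2 → D.p ≠ 2) (hW : D.IsS 2 → D.p < 5) :
    D.IsS 1 ∨ (D.IsS 2 ∧ D.p = 3) := by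
  obtain ⟨s, hs1, hs⟩ := hST1
  have hs2 : s ≤ 2 := hC s hs
  have hcases : s = 1 ∨ s = 2 := by omega
  rcases hcases with rfl | rfl
  · exact Or.inl hs
  · refine Or.inr ⟨hs, ?_⟩
    have h2 : D.p ≠ 2 := hD hs
    have h5 : D.p < 5 := hW hs
    have hp : D.p.Prime := hB.hp
    have h2' : 2 ≤ D.p := hp.two_le
    have h4 : D.p ≠ 4 := by
      intro h
      rw [h] at hp
      exact absurd hp (by decide)
    omega

end Cfsg.Agent.PU
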