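import Mathlib
import Cfsg.Prelude.Def_ConjugacyFunctors
import Cfsg.Agent.Helper10.GChain
import Cfsg.Agent.Helper10.AGClassic
import Cfsg.Agent.Helper10.Fusion

set_option autoImplicit false
set_option linter.unusedSectionVars false
set_option linter.unusedVariables false

/-! # Functor pairs `(W, V)`: local-to-global control of strong fusion -/

namespace Cfsg.Agent.Helper10

open Subgroup Cfsg.Agent.Helper14

universe u

variable {G : Type u} [Group G]

/-- a `p`-subgroup of `N` is `N`-conjugate into a given "Sylow" subgroup of `N` -/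
theorem exists_conj_le_of_not_dvd_relIndex [Finite G] {p : ℕ} [Fact p.Prime] {N Q R : Subgroup G}
    (hQ : Q ≤ N) (hR : R ≤ N) (hQp : IsPGroup p ↥Q) (hRp : IsPGroup p ↥R)
    (hQi : ¬ p ∣ Q.relIndex N) : ∃ u ∈ N, R.map (cj u) ≤ Q := by
  have hQp' : IsPGroup p ↥(Q.subgroupOf N) := hQp.comap_subtype
  have hRp' : IsPGroup p ↥(R.subgroupOf N) := hRp.comap_subtype
  let Q' : Sylow p ↥N := hQp'.toSylow hQi
  obtain ⟨R₁, hR₁⟩ := hRp'.exists_le_sylow
  obtain ⟨u, hu⟩ := MulAction.exists_smul_eq ↥N R₁ Q'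
  refine ⟨u, u.2, ?_⟩
  rintro _ ⟨x, hx, rfl⟩
  have hxN : x ∈ N := hR hx
  have h1 : (⟨x, hxN⟩ : ↥N) ∈ (R₁ : Subgroup ↥N) := hR₁ (by rw [mem_subgroupOf]; exact hx)
  have h2 : u * ⟨x, hxN⟩ * u⁻¹ ∈ (u • R₁ : Sylow p ↥N) := by
    rw [mem_sylow_smul]
    have : u⁻¹ * (u * ⟨x, hxN⟩ * u⁻¹) * u = (⟨x, hxN⟩ : ↥N) := by group
    rw [this]
    exact h1
  rw [hu] at h2
  have h3 : u * ⟨x, hxN⟩ * u⁻¹ ∈ Q.subgroupOf N := h2
  rw [mem_subgroupOf] at h3
  exact h3

/-- generators relative to a `p`-subgroup `T` -/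
def pairGen (W V : Subgroup G → Subgroup G) (T : Subgroup G) : Set G :=
  {d | d ∈ normalizer ((W T : Subgroup G) : Set G) ∨ d ∈ centralizer ((V T : Subgroup G) : Set G)}

theorem pairGen_inv (W V : Subgroup G → Subgroup G) (T : Subgroup G) :
    ∀ m ∈ pairGen W V T, m⁻¹ ∈ pairGen W V T := by
  rintro m (hm | hm)
  · exact Or.inl (inv_mem hm)
  · exact Or.inr (inv_mem hm)

/-- conjugating a generator -/
theorem pairGen_conj {p : ℕ} {W V : Subgroup G → Subgroup G} (hW : Cfsg.IsConjugacyFunctor p W)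
    (hV : Cfsg.IsConjugacyFunctor p V) {Q : Subgroup G} (hQ : IsPGroup p ↥Q) (v : G) {d : G}
    (hd : d ∈ pairGen W V Q) : v⁻¹ * d * v ∈ pairGen W V (Q.map (cj v⁻¹)) := by
  have e : v⁻¹ * d * v = cj v⁻¹ d := by rw [cj_apply, inv_inv]
  rcases hd with hd | hd
  · left
    have hWc : W (Q.map (cj v⁻¹)) = (W Q).map (cj v⁻¹) := (hW Q hQ).2.2 v⁻¹
    rw [hWc, ← map_cj_normalizer, e]
    exact ⟨d, hd, rfl⟩
  · right
    have hVc : V (Q.map (cj v⁻¹)) = (V Q).map (cj v⁻¹) := (hV Q hQ).2.2 v⁻¹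
    rw [hVc, ← map_cj_centralizer, e]
    exact ⟨d, hd, rfl⟩

/-- the list form of local control -/
def PairCtl (W V : Subgroup G → Subgroup G) (N Q : Subgroup G) : Prop :=
  ∀ (X : Set G) (a : G), X ⊆ (Q : Set G) → a ∈ N → rc a X ⊆ (Q : Set G) →
    ∃ c ∈ N ⊓ centralizer X, ∃ l : List G, (∀ d ∈ l, d ∈ pairGen W V Q) ∧ a = c * l.prod ∧
      ∀ k : ℕ, rc (l.take k).prod X ⊆ (Q : Set G)

theorem list_prod_map_conj (v : G) (l : List G) :
    (l.map (fun d => v⁻¹ * d * v)).prod = v⁻¹ * l.prod * v := by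
  induction l with
  | nil => simp
  | cons d l ih =>
    rw [List.map_cons, List.prod_cons, List.prod_cons, ih]
    group

section loc

variable {p : ℕ} {W V : Subgroup G → Subgroup G} {S : Subgroup G}

/-- the local step -/
theorem pf_loc (hW : Cfsg.IsConjugacyFunctor p W) (hV : Cfsg.IsConjugacyFunctor p V)
    {N Q : Subgroup G} (hQp : IsPGroup p ↥Q) (hctl : PairCtl W V N Q)
    {n v : G} (hn : n ∈ N) (hB₁S : Q.map (cj v⁻¹) ≤ S)
    (hQP : ∀ d ∈ pairGen W V (Q.map (cj v⁻¹)), ∀ A₀ : Set G, A₀ ⊆ ((Q.map (cj v⁻¹) : Subgroup G) : Set G) →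
      rc d A₀ ⊆ ((Q.map (cj v⁻¹) : Subgroup G) : Set G) → GDg (pairGen W V S) (S : Set G) A₀ d)
    {y : G} (hy : y ∈ N) {A : Set G} (hnA : rc n A ⊆ (Q : Set G)) (hynA : rc (y * n) A ⊆ (Q : Set G))
    (h1 : GDg (pairGen W V S) (S : Set G) A (n * v))
    (h2 : GDg (pairGen W V S) (S : Set G) (rc y A) (n * v)) :
    GDg (pairGen W V S) (S : Set G) A y := by
  have ha : n⁻¹ * y * n ∈ N := N.mul_mem (N.mul_mem (N.inv_mem hn) hy) hn
  have hrca : rc (n⁻¹ * y * n) (rc n A) ⊆ (Q : Set G) := by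
    rw [← rc_mul]
    have e : n * (n⁻¹ * y * n) = y * n := by group
    rw [e]
    exact hynA
  obtain ⟨c, hc, l, hl, hacl, himg⟩ := hctl (rc n A) (n⁻¹ * y * n) hnA ha hrca
  -- the commuting element
  have hw : ∀ a₀ ∈ A, (n * c⁻¹ * n⁻¹)⁻¹ * a₀ * (n * c⁻¹ * n⁻¹) = a₀ := by
    intro a₀ ha₀
    have hmem : n⁻¹ * a₀ * n ∈ rc n A := ⟨a₀, ha₀, rfl⟩
    have hcomm := mem_centralizer_iff.1 hc.2 _ hmem
    have e : (n * c⁻¹ * n⁻¹)⁻¹ * a₀ * (n * c⁻¹ * n⁻¹) = n * (c * (n⁻¹ * a₀ * n) * c⁻¹) * n⁻¹ := by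
      group
    rw [e, ← hcomm]
    group
  have hlprod : l.prod = c⁻¹ * (n⁻¹ * y * n) := by
    rw [hacl]; group
  -- the conjugated list
  have hl' : ∀ d ∈ l.map (fun d => v⁻¹ * d * v), d ∈ pairGen W V (Q.map (cj v⁻¹)) := by
    intro d hd
    rw [List.mem_map] at hd
    obtain ⟨d₀, hd₀, rfl⟩ := hd
    exact pairGen_conj hW hV hQp v (hl d₀ hd₀)
  have himg' : ∀ k : ℕ, rc ((l.map (fun d => v⁻¹ * d * v)).take k).prod (rc (n * v) A) ⊆
      ((Q.map (cj v⁻¹) : Subgroup G) : Set G) := by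
    intro k
    rw [← List.map_take, list_prod_map_conj, ← rc_mul]
    have e : n * v * (v⁻¹ * (l.take k).prod * v) = n * (l.take k).prod * v := by group
    rw [e, rc_mul, rc_mul, ← rc_coe]
    exact rc_mono v (himg k)
  have hmid : GDg (pairGen W V S) (S : Set G) (rc (n * v) A) (l.map (fun d => v⁻¹ * d * v)).prod :=
    GDg.of_list_steps hQP hB₁S _ _ hl' himg'
  rw [list_prod_map_conj] at hmid
  -- key identity
  have hkey : n * v * (v⁻¹ * l.prod * v) = (n * c⁻¹ * n⁻¹) * y * (n * v) := by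
    rw [hlprod]; group
  have hsame : ∀ a₀ ∈ A, (n * v * (v⁻¹ * l.prod * v))⁻¹ * a₀ * (n * v * (v⁻¹ * l.prod * v)) =
      (y * (n * v))⁻¹ * a₀ * (y * (n * v)) := by
    intro a₀ ha₀
    rw [hkey]
    have e : ((n * c⁻¹ * n⁻¹) * y * (n * v))⁻¹ * a₀ * ((n * c⁻¹ * n⁻¹) * y * (n * v)) =
        (y * (n * v))⁻¹ * ((n * c⁻¹ * n⁻¹)⁻¹ * a₀ * (n * c⁻¹ * n⁻¹)) * (y * (n * v)) := by group
    rw [e, hw a₀ ha₀]
  have h12 := h1.comp hmid
  have hrc : rc (n * v * (v⁻¹ * l.prod * v)) A = rc (n * v) (rc y A) := by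
    rw [← rc_mul]
    exact rc_congr hsame
  have h3 := h2.inv (pairGen_inv W V S)
  rw [← hrc] at h3
  have h123 := h12.comp h3
  refine h123.congr ?_
  intro a₀ ha₀
  have e : n * v * (v⁻¹ * l.prod * v) * (n * v)⁻¹ = (n * c⁻¹ * n⁻¹) * y := by
    rw [hkey]; group
  rw [e]
  have e2 : ((n * c⁻¹ * n⁻¹) * y)⁻¹ * a₀ * ((n * c⁻¹ * n⁻¹) * y) =
      y⁻¹ * ((n * c⁻¹ * n⁻¹)⁻¹ * a₀ * (n * c⁻¹ * n⁻¹)) * y := by group
  rw [e2, hw a₀ ha₀]

end loc


section main

variable [Finite G] {p : ℕ} [Fact p.Prime] (S : Sylow p G) {W V : Subgroup G → Subgroup G}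
  (hW : Cfsg.IsConjugacyFunctor p W) (hV : Cfsg.IsConjugacyFunctor p V)
  (hWZ : ∀ H : Subgroup G, IsPGroup p ↥H → H ⊓ centralizer (H : Set G) ≤ W H)
  (hVmono : ∀ H K : Subgroup G, IsPGroup p ↥H → IsPGroup p ↥K → H ≠ ⊥ → K ≠ ⊥ →
    H ⊓ centralizer (H : Set G) ≤ K ⊓ centralizer (K : Set G) → V H ≤ V K)
  (hSne : (S : Subgroup G) ≠ ⊥)
  (hloc : ∀ H : Subgroup G, (S : Subgroup G) ⊓ centralizer ((S : Subgroup G) : Set G) ≤ H →
    H ≤ (S : Subgroup G) →
    ∃ Q : Subgroup G, Q ≤ normalizer (H : Set G) ∧ IsPGroup p ↥Q ∧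
      ¬ p ∣ Q.relIndex (normalizer (H : Set G)) ∧ PairCtl W V (normalizer (H : Set G)) Q)

theorem center_le_center_of_le {S B : Subgroup G} (hB : S ⊓ centralizer (S : Set G) ≤ B) (hBS : B ≤ S) :
    S ⊓ centralizer (S : Set G) ≤ B ⊓ centralizer (B : Set G) := by
  intro x hx
  exact ⟨hB hx, centralizer_le hBS hx.2⟩

include hSne in
theorem ne_bot_of_center_le {B : Subgroup G}
    (hB : (S : Subgroup G) ⊓ centralizer ((S : Subgroup G) : Set G) ≤ B) : B ≠ ⊥ := by
  have : Nontrivial ↥(S : Subgroup G) := (Subgroup.nontrivial_iff_ne_bot _).2 hSne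
  have h1 := S.2.bot_lt_center
  obtain ⟨z, hz, hz1⟩ := SetLike.exists_of_lt h1
  intro hbot
  apply hz1
  rw [Subgroup.mem_bot]
  have hzc : (z : G) ∈ centralizer ((S : Subgroup G) : Set G) := by
    rw [mem_centralizer_iff]
    intro s hs
    have := (Subgroup.mem_center_iff.1 hz) ⟨s, hs⟩
    exact congrArg Subtype.val this
  have hzB : (z : G) ∈ B := hB ⟨z.2, hzc⟩
  rw [hbot, Subgroup.mem_bot] at hzB
  exact Subtype.ext hzB

/-- the `(Q)`-part at the Sylow subgroup itself -/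
theorem pf_top (d : G) (hd : d ∈ pairGen W V (S : Subgroup G)) (A : Set G)
    (hA : A ⊆ ((S : Subgroup G) : Set G)) (hdA : rc d A ⊆ ((S : Subgroup G) : Set G)) :
    GDg (pairGen W V (S : Subgroup G)) ((S : Subgroup G) : Set G) A d :=
  GDg.single hd hA hdA

include hVmono hSne in
/-- the `(Q)`-part for a centralizing generator -/
theorem pf_cent {B : Subgroup G} (hBS : B ≤ (S : Subgroup G))
    (hZB : (S : Subgroup G) ⊓ centralizer ((S : Subgroup G) : Set G) ≤ B) {d : G}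
    (hd : d ∈ centralizer ((V B : Subgroup G) : Set G)) (A : Set G)
    (hA : A ⊆ (B : Set G)) (hdA : rc d A ⊆ (B : Set G)) :
    GDg (pairGen W V (S : Subgroup G)) ((S : Subgroup G) : Set G) A d := by
  have hVle : V (S : Subgroup G) ≤ V B :=
    hVmono _ _ S.2 (S.2.to_le hBS) hSne (ne_bot_of_center_le S hSne hZB)
      (center_le_center_of_le hZB hBS)
  have hd' : d ∈ pairGen W V (S : Subgroup G) := Or.inr (centralizer_le hVle hd)
  exact GDg.single hd' (hA.trans hBS) (hdA.trans hBS)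

include hW hV hWZ hVmono hSne hloc in
theorem pf_main : ∀ (n : ℕ) (B : Subgroup G), B ≤ (S : Subgroup G) →
    Nat.card ↥(S : Subgroup G) - Nat.card ↥B = n →
    (∀ g : G, rc g (B : Set G) ⊆ ((S : Subgroup G) : Set G) →
      GDg (pairGen W V (S : Subgroup G)) ((S : Subgroup G) : Set G) (B : Set G) g) ∧
    ((S : Subgroup G) ⊓ centralizer ((S : Subgroup G) : Set G) ≤ B →
      ∀ d ∈ pairGen W V B, ∀ A : Set G, A ⊆ (B : Set G) → rc d A ⊆ (B : Set G) →
        GDg (pairGen W V (S : Subgroup G)) ((S : Subgroup G) : Set G) A d) := by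
  intro n
  induction n using Nat.strong_induction_on with
  | _ n ih =>
  intro B hBS hn
  have hBp : IsPGroup p ↥B := S.2.to_le hBS
  have big : ∀ B' : Subgroup G, B' ≤ (S : Subgroup G) → Nat.card ↥B < Nat.card ↥B' →
      (∀ g : G, rc g (B' : Set G) ⊆ ((S : Subgroup G) : Set G) →
        GDg (pairGen W V (S : Subgroup G)) ((S : Subgroup G) : Set G) (B' : Set G) g) ∧
      ((S : Subgroup G) ⊓ centralizer ((S : Subgroup G) : Set G) ≤ B' →
        ∀ d ∈ pairGen W V B', ∀ A : Set G, A ⊆ (B' : Set G) → rc d A ⊆ (B' : Set G) →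
          GDg (pairGen W V (S : Subgroup G)) ((S : Subgroup G) : Set G) A d) := by
    intro B' hB'S hcard
    have hle : Nat.card ↥B' ≤ Nat.card ↥(S : Subgroup G) := Subgroup.card_le_of_le hB'S
    exact ih (Nat.card ↥(S : Subgroup G) - Nat.card ↥B') (by omega) B' hB'S rfl
  have card_lt_of_lt' : ∀ {X Y : Subgroup G}, X < Y → Nat.card ↥X < Nat.card ↥Y := by
    intro X Y hXY
    by_contra hcon
    push Not at hcon
    exact hXY.ne (Subgroup.eq_of_le_of_card_ge hXY.le hcon)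
  -- the (Q)-part
  have hQpart : (S : Subgroup G) ⊓ centralizer ((S : Subgroup G) : Set G) ≤ B →
      ∀ d ∈ pairGen W V B, ∀ A : Set G, A ⊆ (B : Set G) → rc d A ⊆ (B : Set G) →
        GDg (pairGen W V (S : Subgroup G)) ((S : Subgroup G) : Set G) A d := by
    intro hZB d hd A hA hdA
    rcases hd with hd | hd
    swap
    · exact pf_cent S hVmono hSne hBS hZB hd A hA hdA
    by_cases hBtop : B = (S : Subgroup G)
    · subst hBtop
      exact pf_top S d (Or.inl hd) A hA hdA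
    have hBlt : B < (S : Subgroup G) := lt_of_le_of_ne hBS hBtop
    -- H = W B
    have hHB : W B ≤ B := (hW B hBp).1
    have hHS : W B ≤ (S : Subgroup G) := hHB.trans hBS
    have hZH : (S : Subgroup G) ⊓ centralizer ((S : Subgroup G) : Set G) ≤ W B :=
      (center_le_center_of_le hZB hBS).trans (hWZ B hBp)
    obtain ⟨Q, hQN, hQp, hQi, hctl⟩ := hloc (W B) hZH hHS
    have hgrow := Cfsg.Agent.Helper11.lt_inf_normalizer (S : Subgroup G) B S.2 hBlt
    have hBR₀ : B < (S : Subgroup G) ⊓ normalizer ((W B : Subgroup G) : Set G) :=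
      hgrow.trans_le (inf_le_inf_left _ (normalizer_le_normalizer_functor hW hBp))
    have hR₀p : IsPGroup p ↥((S : Subgroup G) ⊓ normalizer ((W B : Subgroup G) : Set G) : Subgroup G) :=
      S.2.to_le inf_le_left
    obtain ⟨n, hn, hnQ⟩ : ∃ n ∈ normalizer ((W B : Subgroup G) : Set G),
        rc n (((S : Subgroup G) ⊓ normalizer ((W B : Subgroup G) : Set G) : Subgroup G) : Set G) ⊆ (Q : Set G) := by
      obtain ⟨u, hu, huQ⟩ := exists_conj_le_of_not_dvd_relIndex hQN inf_le_right hQp hR₀p hQi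
      refine ⟨u⁻¹, inv_mem hu, ?_⟩
      rw [rc_coe, inv_inv]
      exact huQ
    obtain ⟨v, hvS⟩ : ∃ v : G, Q.map (cj v⁻¹) ≤ (S : Subgroup G) := by
      obtain ⟨w, -, hwS⟩ := exists_conj_le_of_not_dvd_relIndex (N := ⊤) (Q := (S : Subgroup G))
        (R := Q) le_top le_top S.2 hQp (by rw [Subgroup.relIndex_top_right]; exact S.not_dvd_index)
      exact ⟨w⁻¹, by rw [inv_inv]; exact hwS⟩
    -- H ≤ Q
    have hHQ : W B ≤ Q := by
      intro x hx
      have h1 : n * x * n⁻¹ ∈ W B := (Subgroup.mem_normalizer_iff.1 hn x).1 hx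
      have h2 : n * x * n⁻¹ ∈ (S : Subgroup G) ⊓ normalizer ((W B : Subgroup G) : Set G) :=
        ⟨hHS h1, Subgroup.le_normalizer h1⟩
      have h3 : n⁻¹ * (n * x * n⁻¹) * n ∈ (Q : Set G) := hnQ ⟨n * x * n⁻¹, h2, rfl⟩
      have e : n⁻¹ * (n * x * n⁻¹) * n = x := by group
      rw [e] at h3
      exact h3
    have hB₁p : IsPGroup p ↥(Q.map (cj v⁻¹)) := S.2.to_le hvS
    have hcard : Nat.card ↥B < Nat.card ↥(Q.map (cj v⁻¹)) := by
      rw [card_map_cj]
      have h1 := card_lt_of_lt' hBR₀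
      have h2 : ((S : Subgroup G) ⊓ normalizer ((W B : Subgroup G) : Set G)).map (cj n⁻¹) ≤ Q := by
        intro x hx
        apply hnQ
        rw [rc_coe]
        exact hx
      have h3 := Subgroup.card_le_of_le h2
      rw [card_map_cj] at h3
      omega
    have hZB₁ : (S : Subgroup G) ⊓ centralizer ((S : Subgroup G) : Set G) ≤ Q.map (cj v⁻¹) := by
      have hH₁S : (W B).map (cj v⁻¹) ≤ (S : Subgroup G) := (Subgroup.map_mono hHQ).trans hvS
      have hB₁K : Q.map (cj v⁻¹) ≤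
          (S : Subgroup G) ⊓ normalizer (((W B).map (cj v⁻¹) : Subgroup G) : Set G) := by
        apply le_inf hvS
        rw [← map_cj_normalizer]
        exact Subgroup.map_mono hQN
      have hidx : ¬ p ∣ (Q.map (cj v⁻¹)).relIndex
          (normalizer (((W B).map (cj v⁻¹) : Subgroup G) : Set G)) := by
        rw [← map_cj_normalizer, relIndex_map_cj]
        exact hQi
      have heq := eq_of_le_of_not_dvd_relIndex hB₁K inf_le_right (S.2.to_le inf_le_left) hidx
      rw [heq]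
      apply le_inf inf_le_left
      refine le_trans inf_le_right ?_
      exact (centralizer_le hH₁S).trans (centralizer_le_normalizer _)
    obtain ⟨hP_R₀, -⟩ := big _ inf_le_left (card_lt_of_lt' hBR₀)
    obtain ⟨-, hQ_B₁⟩ := big _ hvS hcard
    have hGD₀ : GDg (pairGen W V (S : Subgroup G)) ((S : Subgroup G) : Set G)
        (((S : Subgroup G) ⊓ normalizer ((W B : Subgroup G) : Set G) : Subgroup G) : Set G) (n * v) := by
      apply hP_R₀
      rw [rc_mul]
      refine (rc_mono v hnQ).trans ?_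
      rw [rc_coe]
      exact hvS
    have hAR₀ : A ⊆ (((S : Subgroup G) ⊓ normalizer ((W B : Subgroup G) : Set G) : Subgroup G) : Set G) :=
      fun a ha => hBR₀.le (hA ha)
    have hdAR₀ : rc d A ⊆ (((S : Subgroup G) ⊓ normalizer ((W B : Subgroup G) : Set G) : Subgroup G) : Set G) :=
      fun a ha => hBR₀.le (hdA ha)
    refine pf_loc hW hV hQp hctl hn hvS (hQ_B₁ hZB₁) hd ((rc_mono n hAR₀).trans hnQ) ?_
      (hGD₀.mono hAR₀) (hGD₀.mono hdAR₀)
    rw [rc_mul]
    exact (rc_mono n hdAR₀).trans hnQ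
  refine ⟨?_, hQpart⟩
  -- the (P)-part
  have hZle : ∀ D ∈ agFam p S (agK p), (S : Subgroup G) ⊓ centralizer ((S : Subgroup G) : Set G) ≤ D := by
    intro D hD
    refine le_trans ?_ (hD.2 true)
    refine inf_le_inf_left _ ?_
    exact (centralizer_le (agFam_le S hD)).trans le_sup_right
  have hPstep : ∀ D ∈ agFam p S (agK p), ∀ x ∈ normalizer (D : Set G), ∀ t : G,
      rc t (B : Set G) ⊆ (D : Set G) →
      GDg (pairGen W V (S : Subgroup G)) ((S : Subgroup G) : Set G) (rc t (B : Set G)) x := by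
    intro D hD x hx t ht
    have hDS : D ≤ (S : Subgroup G) := agFam_le S hD
    by_cases hcard : Nat.card ↥B < Nat.card ↥D
    · obtain ⟨hP_D, -⟩ := big D hDS hcard
      refine (hP_D x ?_).mono ht
      rw [rc_of_mem_normalizer hx]
      exact hDS
    push Not at hcard
    have hle : B.map (cj t⁻¹) ≤ D := by
      intro y hy
      apply ht
      rw [rc_coe]
      exact hy
    have heq : B.map (cj t⁻¹) = D := by
      apply Subgroup.eq_of_le_of_card_ge hle
      rw [card_map_cj]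
      exact hcard
    have hcardeq : Nat.card ↥D = Nat.card ↥B := by rw [← heq, card_map_cj]
    rw [rc_coe, heq]
    have hZD := hZle D hD
    obtain ⟨Q, hQN, hQp, hQi, hctl⟩ := hloc D hZD hDS
    have hext : ¬ p ∣ ((S : Subgroup G) ⊓ normalizer (D : Set G)).relIndex (normalizer (D : Set G)) :=
      agFam_isExt S hD
    have hRp : IsPGroup p ↥((S : Subgroup G) ⊓ normalizer (D : Set G) : Subgroup G) := S.2.to_le inf_le_left
    obtain ⟨u, hu, huR⟩ := exists_conj_eq_of_not_dvd_relIndex hQN inf_le_right hQp hRp hQi hext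
    have huR' : Q.map (cj u⁻¹⁻¹) = (S : Subgroup G) ⊓ normalizer (D : Set G) := by
      rw [inv_inv]; exact huR
    have hDQ : (D : Set G) ⊆ (Q : Set G) := by
      intro y hy
      have h1 : u * y * u⁻¹ ∈ D := (Subgroup.mem_normalizer_iff.1 hu y).1 hy
      have h2 : u * y * u⁻¹ ∈ Q.map (cj u) := by
        rw [huR]; exact ⟨hDS h1, Subgroup.le_normalizer h1⟩
      rw [mem_map_cj] at h2
      have e : u⁻¹ * (u * y * u⁻¹) * u = y := by group
      rw [e] at h2
      exact h2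
    have hQP : ∀ d ∈ pairGen W V (Q.map (cj u⁻¹⁻¹)), ∀ A₀ : Set G,
        A₀ ⊆ ((Q.map (cj u⁻¹⁻¹) : Subgroup G) : Set G) →
        rc d A₀ ⊆ ((Q.map (cj u⁻¹⁻¹) : Subgroup G) : Set G) →
        GDg (pairGen W V (S : Subgroup G)) ((S : Subgroup G) : Set G) A₀ d := by
      rw [huR']
      by_cases hDtop : D = (S : Subgroup G)
      · have hR : (S : Subgroup G) ⊓ normalizer (D : Set G) = (S : Subgroup G) := by
          rw [hDtop]; exact inf_of_le_left Subgroup.le_normalizer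
        rw [hR]
        intro d hd A₀ hA₀ hdA₀
        exact pf_top S d hd A₀ hA₀ hdA₀
      · have hDlt : D < (S : Subgroup G) := lt_of_le_of_ne hDS hDtop
        have hgrow := Cfsg.Agent.Helper11.lt_inf_normalizer (S : Subgroup G) D S.2 hDlt
        have hc := card_lt_of_lt' hgrow
        have hc' : Nat.card ↥B < Nat.card ↥((S : Subgroup G) ⊓ normalizer (D : Set G) : Subgroup G) := by
          omega
        obtain ⟨-, hQ_R⟩ := big _ inf_le_left hc'
        exact hQ_R (le_inf inf_le_left (hZD.trans Subgroup.le_normalizer))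
    have hB₁S : Q.map (cj u⁻¹⁻¹) ≤ (S : Subgroup G) := by rw [huR']; exact inf_le_left
    have e1 : u * u⁻¹ = 1 := mul_inv_cancel u
    have htriv : GDg (pairGen W V (S : Subgroup G)) ((S : Subgroup G) : Set G) (D : Set G) (u * u⁻¹) := by
      rw [e1]
      exact GDg.of_trivial hDS (fun a _ => by group)
    refine pf_loc hW hV hQp hctl hu hB₁S hQP hx ?_ ?_ htriv ?_
    · rw [rc_of_mem_normalizer hu]; exact hDQ
    · rw [rc_of_mem_normalizer (mul_mem hx hu)]; exact hDQ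
    · rw [rc_of_mem_normalizer hx]; exact htriv
  intro g hgB
  obtain ⟨m, D, x, c, hm0, hD, hx, h0, hstep, hc, hg⟩ :=
    alperin_goldschmidt S (B : Set G) hBS g hgB
  have hlen : (List.ofFn x).length = m := List.length_ofFn
  have hmain : GDg (pairGen W V (S : Subgroup G)) ((S : Subgroup G) : Set G) (B : Set G)
      (List.ofFn x).prod := by
    apply GDg.of_list_pos _ _ hBS
    intro k hk
    have hk' : k < m := hlen ▸ hk
    have hget : (List.ofFn x)[k] = x ⟨k, hk'⟩ := by simp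
    rw [hget]
    apply hPstep (D ⟨k, hk'⟩) (hD _) _ (hx _)
    cases k with
    | zero =>
      simp only [List.take_zero, List.prod_nil, rc_one]
      exact h0 hk'
    | succ j =>
      exact hstep ⟨j, by omega⟩ hk'
  refine hmain.congr ?_
  intro a ha
  rw [hg]
  have hca := mem_centralizer_iff.1 hc a ha
  have e : (c * (List.ofFn x).prod)⁻¹ * a * (c * (List.ofFn x).prod) =
      (List.ofFn x).prod⁻¹ * (c⁻¹ * (a * c)) * (List.ofFn x).prod := by group
  rw [e, hca]
  group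

include hW hV hWZ hVmono hSne hloc in
/-- the functor pair controls strong fusion in `G` (list form) -/
theorem pair_controls (X : Set G) (a : G) (hX : X ⊆ ((S : Subgroup G) : Set G))
    (haX : rc a X ⊆ ((S : Subgroup G) : Set G)) :
    ∃ c ∈ centralizer X, ∃ l : List G, (∀ d ∈ l, d ∈ pairGen W V (S : Subgroup G)) ∧
      a = c * l.prod ∧ ∀ k : ℕ, rc (l.take k).prod X ⊆ ((S : Subgroup G) : Set G) := by
  have hT : Subgroup.closure X ≤ (S : Subgroup G) := (Subgroup.closure_le _).mpr hX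
  have hTa : rc a ((Subgroup.closure X : Subgroup G) : Set G) ⊆ ((S : Subgroup G) : Set G) := by
    rw [rc_coe, MonoidHom.map_closure]
    intro y hy
    refine (Subgroup.closure_le _).mpr ?_ hy
    rintro _ ⟨x, hx, rfl⟩
    apply haX
    refine ⟨x, hx, ?_⟩
    rw [cj_apply, inv_inv]
  obtain ⟨hP, -⟩ := pf_main S hW hV hWZ hVmono hSne hloc _ _ hT rfl
  obtain ⟨z, hz, hzX⟩ := (hP a hTa).mono (Subgroup.subset_closure (k := X))
  obtain ⟨l, hl, hprod, himg⟩ := hz.to_list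
  refine ⟨a * z⁻¹, ?_, l, hl, ?_, himg⟩
  · rw [mem_centralizer_iff]
    intro x hx
    have h1 := hzX x hx
    have e : x = z * (a⁻¹ * x * a) * z⁻¹ := by rw [← h1]; group
    have e2 : a * z⁻¹ * x = a * z⁻¹ * (z * (a⁻¹ * x * a) * z⁻¹) := by rw [← e]
    rw [e2]
    group
  · rw [hprod]; group

end main

end Cfsg.Agent.Helper10
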