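import Mathlib
import Cfsg.Prelude.Def_ConjugacyFunctors
import Cfsg.Agent.Helper10.PairFusion

set_option autoImplicit false
set_option linter.unusedSectionVars false
set_option linter.unusedVariables false

/-! # Functor pairs `(W, V)`: local-to-global control of transfer -/

namespace Cfsg.Agent.Helper10

open Subgroup Cfsg.Agent.Helper14
open scoped commutatorElement

universe u

variable {G : Type u} [Group G]

/-- the transfer target relative to `B` -/
def pairTarget (W V : Subgroup G → Subgroup G) (B : Subgroup G) : Subgroup G :=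
  (B ⊓ ⁅normalizer ((W B : Subgroup G) : Set G), normalizer ((W B : Subgroup G) : Set G)⁆) ⊔
    (B ⊓ ⁅centralizer ((V B : Subgroup G) : Set G), centralizer ((V B : Subgroup G) : Set G)⁆)

/-- local control of transfer in `N` with respect to `Q` -/
def PairTCtl (W V : Subgroup G → Subgroup G) (N Q : Subgroup G) : Prop :=
  Q ⊓ ⁅N, N⁆ ≤
    (Q ⊓ ⁅N ⊓ normalizer ((W Q : Subgroup G) : Set G), N ⊓ normalizer ((W Q : Subgroup G) : Set G)⁆) ⊔
      (Q ⊓ ⁅N ⊓ centralizer ((V Q : Subgroup G) : Set G), N ⊓ centralizer ((V Q : Subgroup G) : Set G)⁆)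

theorem PairTCtl.conj {p : ℕ} {W V : Subgroup G → Subgroup G} (hW : Cfsg.IsConjugacyFunctor p W)
    (hV : Cfsg.IsConjugacyFunctor p V) {N Q : Subgroup G} (hQp : IsPGroup p ↥Q)
    (h : PairTCtl W V N Q) (w : G) :
    Q.map (cj w) ⊓ ⁅N.map (cj w), N.map (cj w)⁆ ≤ pairTarget W V (Q.map (cj w)) := by
  have hWc : W (Q.map (cj w)) = (W Q).map (cj w) := (hW Q hQp).2.2 w
  have hVc : V (Q.map (cj w)) = (V Q).map (cj w) := (hV Q hQp).2.2 w
  have h1 := Subgroup.map_mono (f := cj w) h
  rw [map_cj_inf, Subgroup.map_commutator, Subgroup.map_sup, map_cj_inf, map_cj_inf,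
    Subgroup.map_commutator, Subgroup.map_commutator, map_cj_inf, map_cj_inf, map_cj_normalizer,
    map_cj_centralizer, ← hWc, ← hVc] at h1
  refine h1.trans ?_
  unfold pairTarget
  exact sup_le_sup (inf_le_inf_left _ (Subgroup.commutator_mono inf_le_right inf_le_right))
    (inf_le_inf_left _ (Subgroup.commutator_mono inf_le_right inf_le_right))

/-- telescoping along a list of conjugating elements -/
theorem tele_list (T : Subgroup G) : ∀ (l : List G) (b : G),
    (∀ (k : ℕ) (hk : k < l.length),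
      ((l.take k).prod⁻¹ * b * (l.take k).prod)⁻¹ *
        (l[k]⁻¹ * ((l.take k).prod⁻¹ * b * (l.take k).prod) * l[k]) ∈ T) →
    b⁻¹ * (l.prod⁻¹ * b * l.prod) ∈ T := by
  intro l
  induction l with
  | nil =>
    intro b _
    simp
  | cons d l ih =>
    intro b hstep
    have h0 : b⁻¹ * (d⁻¹ * b * d) ∈ T := by
      have := hstep 0 (by simp)
      simpa using this
    have h1 : (d⁻¹ * b * d)⁻¹ * (l.prod⁻¹ * (d⁻¹ * b * d) * l.prod) ∈ T := by
      apply ih
      intro k hk
      have := hstep (k + 1) (by simp; omega)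
      rw [List.take_succ_cons, List.prod_cons] at this
      have e : (d * (l.take k).prod)⁻¹ * b * (d * (l.take k).prod) =
          (l.take k).prod⁻¹ * (d⁻¹ * b * d) * (l.take k).prod := by group
      rw [e] at this
      simpa using this
    have := mul_mem h0 h1
    rw [List.prod_cons]
    have e : b⁻¹ * (d⁻¹ * b * d) * ((d⁻¹ * b * d)⁻¹ * (l.prod⁻¹ * (d⁻¹ * b * d) * l.prod)) =
        b⁻¹ * ((d * l.prod)⁻¹ * b * (d * l.prod)) := by group
    rwa [e] at this

section main

variable [Finite G] {p : ℕ} [Fact p.Prime] (S : Sylow p G) {W V : Subgroup G → Subgroup G}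
  (hW : Cfsg.IsConjugacyFunctor p W) (hV : Cfsg.IsConjugacyFunctor p V)
  (hWZ : ∀ H : Subgroup G, IsPGroup p ↥H → H ⊓ centralizer (H : Set G) ≤ W H)
  (hVmono : ∀ H K : Subgroup G, IsPGroup p ↥H → IsPGroup p ↥K → H ≠ ⊥ → K ≠ ⊥ →
    H ⊓ centralizer (H : Set G) ≤ K ⊓ centralizer (K : Set G) → V H ≤ V K)
  (hSne : (S : Subgroup G) ≠ ⊥)
  (hloc : ∀ H : Subgroup G, (S : Subgroup G) ⊓ centralizer ((S : Subgroup G) : Set G) ≤ H →
    H ≤ (S : Subgroup G) →
    ∃ Q : Subgroup G, Q ≤ normalizer (H : Set G) ∧ IsPGroup p ↥Q ∧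
      ¬ p ∣ Q.relIndex (normalizer (H : Set G)) ∧ PairTCtl W V (normalizer (H : Set G)) Q)

include hW hV hWZ hVmono hSne hloc in
theorem pt_main : ∀ (n : ℕ) (B : Subgroup G), B ≤ (S : Subgroup G) →
    Nat.card ↥(S : Subgroup G) - Nat.card ↥B = n →
    (∀ g : G, rc g (B : Set G) ⊆ ((S : Subgroup G) : Set G) → ∀ b ∈ B,
      b⁻¹ * (g⁻¹ * b * g) ∈ pairTarget W V (S : Subgroup G)) ∧
    ((S : Subgroup G) ⊓ centralizer ((S : Subgroup G) : Set G) ≤ B →
      pairTarget W V B ≤ pairTarget W V (S : Subgroup G)) := by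
  intro n
  induction n using Nat.strong_induction_on with
  | _ n ih =>
  intro B hBS hn
  have hBp : IsPGroup p ↥B := S.2.to_le hBS
  have big : ∀ B' : Subgroup G, B' ≤ (S : Subgroup G) → Nat.card ↥B < Nat.card ↥B' →
      (∀ g : G, rc g (B' : Set G) ⊆ ((S : Subgroup G) : Set G) → ∀ b ∈ B',
        b⁻¹ * (g⁻¹ * b * g) ∈ pairTarget W V (S : Subgroup G)) ∧
      ((S : Subgroup G) ⊓ centralizer ((S : Subgroup G) : Set G) ≤ B' →
        pairTarget W V B' ≤ pairTarget W V (S : Subgroup G)) := by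
    intro B' hB'S hcard
    have hle : Nat.card ↥B' ≤ Nat.card ↥(S : Subgroup G) := Subgroup.card_le_of_le hB'S
    exact ih (Nat.card ↥(S : Subgroup G) - Nat.card ↥B') (by omega) B' hB'S rfl
  have card_lt_of_lt' : ∀ {X Y : Subgroup G}, X < Y → Nat.card ↥X < Nat.card ↥Y := by
    intro X Y hXY
    by_contra hcon
    push Not at hcon
    exact hXY.ne (Subgroup.eq_of_le_of_card_ge hXY.le hcon)
  -- the (Q)-part
  have hQpart : (S : Subgroup G) ⊓ centralizer ((S : Subgroup G) : Set G) ≤ B →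
      pairTarget W V B ≤ pairTarget W V (S : Subgroup G) := by
    intro hZB
    by_cases hBtop : B = (S : Subgroup G)
    · rw [hBtop]
    have hBlt : B < (S : Subgroup G) := lt_of_le_of_ne hBS hBtop
    have hVle : V (S : Subgroup G) ≤ V B :=
      hVmono _ _ S.2 hBp hSne (ne_bot_of_center_le S hSne hZB) (center_le_center_of_le hZB hBS)
    apply sup_le
    swap
    · refine le_trans ?_ (le_sup_right (a := (S : Subgroup G) ⊓
        ⁅normalizer ((W (S : Subgroup G) : Subgroup G) : Set G),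
          normalizer ((W (S : Subgroup G) : Subgroup G) : Set G)⁆))
      exact inf_le_inf hBS (Subgroup.commutator_mono (centralizer_le hVle) (centralizer_le hVle))
    -- H = W B
    have hHB : W B ≤ B := (hW B hBp).1
    have hHS : W B ≤ (S : Subgroup G) := hHB.trans hBS
    have hZH : (S : Subgroup G) ⊓ centralizer ((S : Subgroup G) : Set G) ≤ W B :=
      (center_le_center_of_le hZB hBS).trans (hWZ B hBp)
    obtain ⟨Q, hQN, hQp, hQi, hctl⟩ := hloc (W B) hZH hHS
    have hgrow := Cfsg.Agent.Helper11.lt_inf_normalizer (S : Subgroup G) B S.2 hBlt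
    have hBR₀ : B < (S : Subgroup G) ⊓ normalizer ((W B : Subgroup G) : Set G) :=
      hgrow.trans_le (inf_le_inf_left _ (normalizer_le_normalizer_functor hW hBp))
    have hR₀p : IsPGroup p ↥((S : Subgroup G) ⊓ normalizer ((W B : Subgroup G) : Set G) : Subgroup G) :=
      S.2.to_le inf_le_left
    obtain ⟨n, hn, hnQ⟩ : ∃ n ∈ normalizer ((W B : Subgroup G) : Set G),
        rc n (((S : Subgroup G) ⊓ normalizer ((W B : Subgroup G) : Set G) : Subgroup G) : Set G) ⊆ (Q : Set G) := by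
      obtain ⟨u, hu, huQ⟩ := exists_conj_le_of_not_dvd_relIndex hQN inf_le_right hQp hR₀p hQi
      refine ⟨u⁻¹, inv_mem hu, ?_⟩
      rw [rc_coe, inv_inv]
      exact huQ
    obtain ⟨v, hvS⟩ : ∃ v : G, Q.map (cj v⁻¹) ≤ (S : Subgroup G) := by
      obtain ⟨w, -, hwS⟩ := exists_conj_le_of_not_dvd_relIndex (N := ⊤) (Q := (S : Subgroup G))
        (R := Q) le_top le_top S.2 hQp (by rw [Subgroup.relIndex_top_right]; exact S.not_dvd_index)
      exact ⟨w⁻¹, by rw [inv_inv]; exact hwS⟩
    have hHQ : W B ≤ Q := by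
      intro x hx
      have h1 : n * x * n⁻¹ ∈ W B := (Subgroup.mem_normalizer_iff.1 hn x).1 hx
      have h2 : n * x * n⁻¹ ∈ (S : Subgroup G) ⊓ normalizer ((W B : Subgroup G) : Set G) :=
        ⟨hHS h1, Subgroup.le_normalizer h1⟩
      have h3 : n⁻¹ * (n * x * n⁻¹) * n ∈ (Q : Set G) := hnQ ⟨n * x * n⁻¹, h2, rfl⟩
      have e : n⁻¹ * (n * x * n⁻¹) * n = x := by group
      rw [e] at h3
      exact h3
    have hcard : Nat.card ↥B < Nat.card ↥(Q.map (cj v⁻¹)) := by
      rw [card_map_cj]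
      have h1 := card_lt_of_lt' hBR₀
      have h2 : ((S : Subgroup G) ⊓ normalizer ((W B : Subgroup G) : Set G)).map (cj n⁻¹) ≤ Q := by
        intro x hx
        apply hnQ
        rw [rc_coe]
        exact hx
      have h3 := Subgroup.card_le_of_le h2
      rw [card_map_cj] at h3
      omega
    have hZB₁ : (S : Subgroup G) ⊓ centralizer ((S : Subgroup G) : Set G) ≤ Q.map (cj v⁻¹) := by
      have hH₁S : (W B).map (cj v⁻¹) ≤ (S : Subgroup G) := (Subgroup.map_mono hHQ).trans hvS
      have hB₁K : Q.map (cj v⁻¹) ≤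
          (S : Subgroup G) ⊓ normalizer (((W B).map (cj v⁻¹) : Subgroup G) : Set G) := by
        apply le_inf hvS
        rw [← map_cj_normalizer]
        exact Subgroup.map_mono hQN
      have hidx : ¬ p ∣ (Q.map (cj v⁻¹)).relIndex
          (normalizer (((W B).map (cj v⁻¹) : Subgroup G) : Set G)) := by
        rw [← map_cj_normalizer, relIndex_map_cj]
        exact hQi
      have heq := eq_of_le_of_not_dvd_relIndex hB₁K inf_le_right (S.2.to_le inf_le_left) hidx
      rw [heq]
      apply le_inf inf_le_left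
      refine le_trans inf_le_right ?_
      exact (centralizer_le hH₁S).trans (centralizer_le_normalizer _)
    obtain ⟨hP_R₀, -⟩ := big _ inf_le_left (card_lt_of_lt' hBR₀)
    obtain ⟨-, hQ_B₁⟩ := big _ hvS hcard
    have hnvS : rc (n * v) (((S : Subgroup G) ⊓ normalizer ((W B : Subgroup G) : Set G) : Subgroup G) : Set G) ⊆
        ((S : Subgroup G) : Set G) := by
      rw [rc_mul]
      refine (rc_mono v hnQ).trans ?_
      rw [rc_coe]
      exact hvS
    have hloc1 := (hctl.conj hW hV hQp v⁻¹).trans (hQ_B₁ hZB₁)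
    intro x hx
    have hxR₀ : x ∈ (S : Subgroup G) ⊓ normalizer ((W B : Subgroup G) : Set G) := hBR₀.le hx.1
    have h1 := hP_R₀ (n * v) hnvS x hxR₀
    have h2 : (n * v)⁻¹ * x * (n * v) ∈ pairTarget W V (S : Subgroup G) := by
      apply hloc1
      have e : (n * v)⁻¹ * x * (n * v) = cj v⁻¹ (n⁻¹ * x * n) := by
        rw [cj_apply]; group
      rw [e]
      refine ⟨⟨_, hnQ ⟨x, hxR₀, rfl⟩, rfl⟩, ?_⟩
      rw [← Subgroup.map_commutator]
      refine ⟨_, ?_, rfl⟩
      have hnorm : (⁅normalizer ((W B : Subgroup G) : Set G), normalizer ((W B : Subgroup G) : Set G)⁆).map (cj n⁻¹) =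
          ⁅normalizer ((W B : Subgroup G) : Set G), normalizer ((W B : Subgroup G) : Set G)⁆ := by
        rw [Subgroup.map_commutator, map_cj_eq_self_of_mem (inv_mem hn)]
      rw [← hnorm]
      refine ⟨x, hx.2, ?_⟩
      rw [cj_apply, inv_inv]
    have := mul_mem h2 (inv_mem h1)
    have e : (n * v)⁻¹ * x * (n * v) * (x⁻¹ * ((n * v)⁻¹ * x * (n * v)))⁻¹ = x := by group
    rwa [e] at this
  refine ⟨?_, hQpart⟩
  -- the (P)-part
  have hZle : ∀ D ∈ agFam p S (agK p), (S : Subgroup G) ⊓ centralizer ((S : Subgroup G) : Set G) ≤ D := by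
    intro D hD
    refine le_trans ?_ (hD.2 true)
    refine inf_le_inf_left _ ?_
    exact (centralizer_le (agFam_le S hD)).trans le_sup_right
  have hPstep : ∀ D ∈ agFam p S (agK p), ∀ x ∈ normalizer (D : Set G), ∀ t : G,
      rc t (B : Set G) ⊆ (D : Set G) → ∀ b ∈ B,
      (t⁻¹ * b * t)⁻¹ * (x⁻¹ * (t⁻¹ * b * t) * x) ∈ pairTarget W V (S : Subgroup G) := by
    intro D hD x hx t ht b hb
    have hDS : D ≤ (S : Subgroup G) := agFam_le S hD
    have hdD : t⁻¹ * b * t ∈ D := ht ⟨b, hb, rfl⟩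
    by_cases hcard : Nat.card ↥B < Nat.card ↥D
    · obtain ⟨hP_D, -⟩ := big D hDS hcard
      refine hP_D x ?_ _ hdD
      rw [rc_of_mem_normalizer hx]
      exact hDS
    push Not at hcard
    have hle : B.map (cj t⁻¹) ≤ D := by
      intro y hy
      apply ht
      rw [rc_coe]
      exact hy
    have heq : B.map (cj t⁻¹) = D := by
      apply Subgroup.eq_of_le_of_card_ge hle
      rw [card_map_cj]
      exact hcard
    have hcardeq : Nat.card ↥D = Nat.card ↥B := by rw [← heq, card_map_cj]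
    have hZD := hZle D hD
    obtain ⟨Q, hQN, hQp, hQi, hctl⟩ := hloc D hZD hDS
    have hext : ¬ p ∣ ((S : Subgroup G) ⊓ normalizer (D : Set G)).relIndex (normalizer (D : Set G)) :=
      agFam_isExt S hD
    have hRp : IsPGroup p ↥((S : Subgroup G) ⊓ normalizer (D : Set G) : Subgroup G) := S.2.to_le inf_le_left
    obtain ⟨u, hu, huR⟩ := exists_conj_eq_of_not_dvd_relIndex hQN inf_le_right hQp hRp hQi hext
    have hloc1 := hctl.conj hW hV hQp u
    rw [huR, map_cj_eq_self_of_mem hu] at hloc1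
    have hRT : pairTarget W V ((S : Subgroup G) ⊓ normalizer (D : Set G)) ≤
        pairTarget W V (S : Subgroup G) := by
      by_cases hDtop : D = (S : Subgroup G)
      · have hR : (S : Subgroup G) ⊓ normalizer (D : Set G) = (S : Subgroup G) := by
          rw [hDtop]; exact inf_of_le_left Subgroup.le_normalizer
        rw [hR]
      · have hDlt : D < (S : Subgroup G) := lt_of_le_of_ne hDS hDtop
        have hgrow := Cfsg.Agent.Helper11.lt_inf_normalizer (S : Subgroup G) D S.2 hDlt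
        have hc := card_lt_of_lt' hgrow
        have hc' : Nat.card ↥B < Nat.card ↥((S : Subgroup G) ⊓ normalizer (D : Set G) : Subgroup G) := by
          omega
        obtain ⟨-, hQ_R⟩ := big _ inf_le_left hc'
        exact hQ_R (le_inf inf_le_left (hZD.trans Subgroup.le_normalizer))
    apply hRT
    apply hloc1
    have hxinv : x⁻¹ * (t⁻¹ * b * t) * x ∈ D := by
      have := (Subgroup.mem_normalizer_iff.1 (inv_mem hx) (t⁻¹ * b * t)).1 hdD
      rwa [inv_inv] at this
    refine ⟨?_, ?_⟩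
    · have hm : (t⁻¹ * b * t)⁻¹ * (x⁻¹ * (t⁻¹ * b * t) * x) ∈ D := mul_mem (inv_mem hdD) hxinv
      exact ⟨hDS hm, Subgroup.le_normalizer hm⟩
    · have e : (t⁻¹ * b * t)⁻¹ * (x⁻¹ * (t⁻¹ * b * t) * x) = ⁅(t⁻¹ * b * t)⁻¹, x⁻¹⁆ := by
        rw [commutatorElement_def]; group
      rw [e]
      exact Subgroup.commutator_mem_commutator (Subgroup.le_normalizer (inv_mem hdD)) (inv_mem hx)
  intro g hgB b hb
  obtain ⟨m, D, x, c, hm0, hD, hx, h0, hstep, hc, hg⟩ :=
    alperin_goldschmidt S (B : Set G) hBS g hgB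
  have hlen : (List.ofFn x).length = m := List.length_ofFn
  have hmain : b⁻¹ * ((List.ofFn x).prod⁻¹ * b * (List.ofFn x).prod) ∈ pairTarget W V (S : Subgroup G) := by
    apply tele_list
    intro k hk
    have hk' : k < m := hlen ▸ hk
    have hget : (List.ofFn x)[k] = x ⟨k, hk'⟩ := by simp
    rw [hget]
    apply hPstep (D ⟨k, hk'⟩) (hD _) _ (hx _) _ _ b hb
    cases k with
    | zero =>
      simp only [List.take_zero, List.prod_nil, rc_one]
      exact h0 hk'
    | succ j =>
      exact hstep ⟨j, by omega⟩ hk'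
  have hca := mem_centralizer_iff.1 hc b hb
  have e : g⁻¹ * b * g = (List.ofFn x).prod⁻¹ * b * (List.ofFn x).prod := by
    rw [hg]
    have : (c * (List.ofFn x).prod)⁻¹ * b * (c * (List.ofFn x).prod) =
        (List.ofFn x).prod⁻¹ * (c⁻¹ * (b * c)) * (List.ofFn x).prod := by group
    rw [this, hca]
    group
  rw [e]
  exact hmain

include hW hV hWZ hVmono hSne hloc in
/-- the functor pair controls transfer in `G` -/
theorem pair_transfer : (S : Subgroup G) ⊓ commutator G ≤ pairTarget W V (S : Subgroup G) := by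
  have hfoc := Subgroup.commutator_inf_eq_focalSubgroup S
  rw [inf_comm] at hfoc
  rw [hfoc, Subgroup.focalSubgroup_def, Subgroup.closure_le]
  rintro g₀ ⟨hg₀, x, hx, u, rfl⟩
  have hux : u * x * u⁻¹ ∈ (S : Subgroup G) := by
    have h1 : x⁻¹ * ⁅x, u⁆ ∈ (S : Subgroup G) := mul_mem (inv_mem hx) hg₀
    have e : x⁻¹ * ⁅x, u⁆ = (u * x * u⁻¹)⁻¹ := by
      rw [commutatorElement_def]; group
    rw [e] at h1
    simpa using inv_mem h1
  have hT : Subgroup.zpowers x ≤ (S : Subgroup G) := (Subgroup.zpowers_le).mpr hx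
  have hTg : rc u⁻¹ ((Subgroup.zpowers x : Subgroup G) : Set G) ⊆ ((S : Subgroup G) : Set G) := by
    rw [rc_coe, inv_inv, MonoidHom.map_zpowers]
    intro y hy
    exact (Subgroup.zpowers_le.mpr hux) hy
  obtain ⟨hP, -⟩ := pt_main S hW hV hWZ hVmono hSne hloc _ _ hT rfl
  have := hP u⁻¹ hTg x⁻¹ (inv_mem (Subgroup.mem_zpowers x))
  have e : ⁅x, u⁆ = x⁻¹⁻¹ * (u⁻¹⁻¹ * x⁻¹ * u⁻¹) := by
    rw [commutatorElement_def]; group
  rw [SetLike.mem_coe, e]
  exact this

end main

end Cfsg.Agent.Helper10
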