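import Mathlib

/-!
Shared definitions for S5239 (pearls for `p = 3`), helper10: the centralizer of a section
`A/B` and the two-step centralizers `C_X(L i / L (i+2))` of the lower central series.
-/

set_option autoImplicit false

namespace Cfsg.Agent.Helper10.Pearl3

open scoped commutatorElement

variable {X : Type*} [Group X]

/-- `C_X(A/B)` for a normal subgroup `B`: the elements `y` with `⁅a, y⁆ ∈ B` for all `a ∈ A`. -/
def centMod (A B : Subgroup X) [hB : B.Normal] : Subgroup X where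
  carrier := {y | ∀ a ∈ A, ⁅a, y⁆ ∈ B}
  one_mem' := by
    intro a _
    rw [commutatorElement_one_right]
    exact B.one_mem
  mul_mem' := by
    intro y z hy hz a ha
    have e : ⁅a, y * z⁆ = ⁅a, y⁆ * (y * ⁅a, z⁆ * y⁻¹) := by
      simp only [commutatorElement_def]; group
    rw [e]
    exact B.mul_mem (hy a ha) (hB.conj_mem _ (hz a ha) y)
  inv_mem' := by
    intro y hy a ha
    have e : ⁅a, y⁻¹⁆ = y⁻¹ * ⁅a, y⁆⁻¹ * y⁻¹⁻¹ := by
      simp only [commutatorElement_def]; group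
    rw [e]
    exact hB.conj_mem _ (B.inv_mem (hy a ha)) y⁻¹

theorem mem_centMod {A B : Subgroup X} [B.Normal] {y : X} :
    y ∈ centMod A B ↔ ∀ a ∈ A, ⁅a, y⁆ ∈ B := Iff.rfl

/-- The two-step centralizer `C_X(L i / L (i+2))`, `L = lowerCentralSeries ⊤`. -/
def twoStep (X : Type*) [Group X] (i : ℕ) : Subgroup X :=
  centMod (Subgroup.lowerCentralSeries (⊤ : Subgroup X) i)
    (Subgroup.lowerCentralSeries (⊤ : Subgroup X) (i + 2))

theorem mem_twoStep {i : ℕ} {y : X} :
    y ∈ twoStep X i ↔ ∀ a ∈ Subgroup.lowerCentralSeries (⊤ : Subgroup X) i,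
      ⁅a, y⁆ ∈ Subgroup.lowerCentralSeries (⊤ : Subgroup X) (i + 2) := Iff.rfl

/-- `Γ₁ = C_X(L 1 / L 3)`. -/
def gammaOne (X : Type*) [Group X] : Subgroup X := twoStep X 1

theorem mem_gammaOne {y : X} :
    y ∈ gammaOne X ↔ ∀ a ∈ Subgroup.lowerCentralSeries (⊤ : Subgroup X) 1,
      ⁅a, y⁆ ∈ Subgroup.lowerCentralSeries (⊤ : Subgroup X) 3 := Iff.rfl

end Cfsg.Agent.Helper10.Pearl3
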