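import Mathlib
import Cfsg.Agent.Helper21.PolySeq
import Cfsg.Agent.Helper6.PearlSC
import Cfsg.Agent.Helper18.PearlU

/-!
Power structure of a `p`-group with a uniform element `s` (`|C(s)| = p^2`), helper10:
for `g ∈ L i` (`i ≥ 1`, `L = lowerCentralSeries ⊤`), `g^p ∈ L (i+p-1)`, and `g^p ∉ L (i+p)` when
`g ∉ L (i+1)` and `i+p-1 ≤ n-2`.
-/

set_option autoImplicit false

namespace Cfsg.Agent.Helper10.Pearl

open scoped commutatorElement
open Cfsg.Agent.Helper21.PolySeq
open Cfsg.Agent.Helper6.Pearl Cfsg.Agent.Helper18.Pearl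

variable {X : Type*} [Group X]

/-- The conjugation sequence `m ↦ s^m x s^(-m)`. -/
def cseq (s x : X) : ℕ → X := fun m => s ^ m * x * (s ^ m)⁻¹

/-- The sequence `m ↦ s^m (s⁻¹ g)^m`. -/
def hseq (s g : X) : ℕ → X := fun m => s ^ m * (s⁻¹ * g) ^ m

theorem D_cseq (s x : X) : D (cseq s x) = cseq s ⁅s, x⁆ := by
  funext m
  simp only [D, cseq, commutatorElement_def, pow_succ]
  group

theorem D_hseq (s g : X) : D (hseq s g) = cseq s g := by
  funext m
  simp only [D, hseq, cseq]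
  rw [pow_succ s m, pow_succ' (s⁻¹ * g) m]
  group

theorem iterate_D_cseq (s : X) : ∀ (u : ℕ) (x : X),
    D^[u] (cseq s x) = cseq s ((fun y => ⁅s, y⁆)^[u] x)
  | 0, x => rfl
  | u + 1, x => by
    rw [Function.iterate_succ_apply, Function.iterate_succ_apply, D_cseq]
    exact iterate_D_cseq s u ⁅s, x⁆

theorem cseq_zero (s x : X) : cseq s x 0 = x := by
  simp [cseq]

theorem iterate_D_hseq_zero (s g : X) (u : ℕ) :
    (D^[u + 1] (hseq s g)) 0 = (fun y => ⁅s, y⁆)^[u] g := by
  rw [Function.iterate_succ_apply, D_hseq, iterate_D_cseq, cseq_zero]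

theorem hseq_succ (s g : X) (m : ℕ) : hseq s g (m + 1) = cseq s g m * hseq s g m := by
  have := congrFun (D_hseq s g) m
  simp only [D] at this
  rw [← this, inv_mul_cancel_right]

local notation "L" => Subgroup.lowerCentralSeries (⊤ : Subgroup X)

instance lcs_normal (i : ℕ) : (L i).Normal := inferInstance

theorem cseq_mem (s x : X) {i : ℕ} (hx : x ∈ L i) (m : ℕ) : cseq s x m ∈ L i :=
  (lcs_normal i).conj_mem x hx (s ^ m)

theorem hseq_mem (s g : X) {i : ℕ} (hg : g ∈ L i) : ∀ m, hseq s g m ∈ L i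
  | 0 => by simp [hseq]
  | m + 1 => by
    rw [hseq_succ]
    exact (L i).mul_mem (cseq_mem s g hg m) (hseq_mem s g hg m)

theorem comm_mem_lcs_succ (s : X) {i : ℕ} {g : X} (hg : g ∈ L i) : ⁅s, g⁆ ∈ L (i + 1) := by
  rw [Subgroup.lowerCentralSeries_succ, ← commutatorElement_inv]
  exact Subgroup.inv_mem _ (Subgroup.commutator_mem_commutator hg (Subgroup.mem_top s))

theorem polyAll_spow (s : X) : PolyAll (lcsFilt X) 0 (fun m => s ^ m) :=
  polyAll_pow (lcsFilt_filt X) (x := s) (by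
    show s ∈ (⊤ : Subgroup X).lowerCentralSeries 0
    rw [Subgroup.lowerCentralSeries_zero]
    exact Subgroup.mem_top s)

theorem polyAll_cseq (s x : X) {i : ℕ} (hx : x ∈ L i) : PolyAll (lcsFilt X) (i + 1) (cseq s x) := by
  intro r
  have ha : PolyR (lcsFilt X) r 0 (fun m => s ^ m) := polyAll_spow s r
  have hb : PolyR (lcsFilt X) r (i + 1) (fun _ : ℕ => x) := PolyR.const r (i + 1) hx
  have e : cseq s x = (fun m => s ^ m) * (fun _ : ℕ => x) * (fun m => s ^ m)⁻¹ := by
    funext m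
    simp [cseq]
  rw [e, conj_eq]
  obtain ⟨Am, -, B⟩ := main (lcsFilt_filt X) r
  have h1 := B 0 (i + 1) _ _ ha hb
  rw [Nat.zero_add] at h1
  exact Am _ _ _ h1 hb

theorem polyAll_hseq (s g : X) {i : ℕ} (hg : g ∈ L i) : PolyAll (lcsFilt X) i (hseq s g) := by
  have hval : ∀ m, hseq s g m ∈ lcsFilt X i := fun m =>
    (lcsFilt_filt X).anti (Nat.le_succ i) (hseq_mem s g hg m)
  intro r
  cases r with
  | zero => exact hval
  | succ r =>
    refine ⟨hval, ?_⟩
    rw [D_hseq]
    exact polyAll_cseq s g hg r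

theorem centralizer_inv (s : X) :
    Subgroup.centralizer ({s⁻¹} : Set X) = Subgroup.centralizer ({s} : Set X) := by
  ext x
  simp only [Subgroup.mem_centralizer_iff, Set.mem_singleton_iff, forall_eq]
  constructor
  · intro h
    have := congrArg (fun y => s * y * s) h
    simp only [mul_assoc, inv_mul_cancel, mul_one] at this
    simpa [mul_assoc] using this.symm
  · intro h
    have := congrArg (fun y => s⁻¹ * y * s⁻¹) h
    simp only [mul_assoc, mul_inv_cancel, mul_one] at this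
    simpa [mul_assoc] using this.symm

theorem iterate_comm_mem (s : X) : ∀ (u i : ℕ) (g : X), g ∈ L i →
    (fun y => ⁅s, y⁆)^[u] g ∈ L (i + u)
  | 0, i, g, hg => hg
  | u + 1, i, g, hg => by
    rw [Function.iterate_succ_apply]
    have := iterate_comm_mem s u (i + 1) ⁅s, g⁆ (comm_mem_lcs_succ s hg)
    have e : i + 1 + u = i + (u + 1) := by omega
    rwa [e] at this

section main

variable [Finite X] {p : ℕ} [Fact p.Prime] {n : ℕ}

/-- The key congruence: `g^p * δ^{p-1} g ≡ 1` modulo `L (i+p)`. -/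
theorem key_congr (hX : Nat.card X = p ^ n) (hn : 3 ≤ n) (s : X)
    (hs : Nat.card (Subgroup.centralizer ({s} : Set X)) = p ^ 2) (i : ℕ) (hi : 1 ≤ i)
    (hP1 : ∀ a ∈ L (i + 1), a ^ p ∈ L (i + p)) (g : X) (hg : g ∈ L i) :
    (g ^ p)⁻¹ * ((fun y => ⁅s, y⁆)^[p - 1] g)⁻¹ ∈ L (i + p) := by
  have hp : p.Prime := Fact.out
  have hs' : Nat.card (Subgroup.centralizer ({s⁻¹} : Set X)) = p ^ 2 := by
    rw [centralizer_inv]; exact hs
  have hg1 : g ∈ L 1 := Subgroup.lowerCentralSeries_antitone _ hi hg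
  have hpow := mul_pow_eq_of_uniform hX hn s⁻¹ hs' g hg1
  have h := symbol_main (lcsFilt_filt X) hp i hi (L (i + p)) hP1 le_rfl (hseq s g)
    (polyAll_hseq s g hg) (by simp [hseq])
  have e1 : hseq s g p = 1 := by
    simp only [hseq]
    rw [hpow, inv_pow, mul_inv_cancel]
  have e2 : hseq s g 1 = g := by
    simp [hseq]
  have e3 : (D^[p] (hseq s g)) 0 = (fun y => ⁅s, y⁆)^[p - 1] g := by
    have : p = (p - 1) + 1 := by have := hp.two_le; omega
    conv_lhs => rw [this]
    exact iterate_D_hseq_zero s g (p - 1)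
  rw [e1, e2, e3, one_mul] at h
  exact h

theorem pow_mem_lcs_aux (hX : Nat.card X = p ^ n) (hn : 3 ≤ n) (s : X)
    (hs : Nat.card (Subgroup.centralizer ({s} : Set X)) = p ^ 2) :
    ∀ d i, 1 ≤ i → n - 1 ≤ i + d → ∀ g ∈ L i, g ^ p ∈ L (i + p - 1) := by
  have hp : p.Prime := Fact.out
  intro d
  induction d with
  | zero =>
    intro i hi hni g hg
    have hbot : L i = ⊥ := by
      have h1 := card_lcs_of_uniform hX hn s hs (n - 1) (by omega) le_rfl
      rw [Nat.sub_self, pow_zero] at h1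
      have h2 : L (n - 1) = ⊥ := Subgroup.card_eq_one.mp h1
      exact le_bot_iff.mp (h2 ▸ Subgroup.lowerCentralSeries_antitone _ (by omega))
    rw [hbot, Subgroup.mem_bot] at hg
    rw [hg, one_pow]
    exact Subgroup.one_mem _
  | succ d ih =>
    intro i hi hni g hg
    have hP1 : ∀ a ∈ L (i + 1), a ^ p ∈ L (i + p) := by
      intro a ha
      have := ih (i + 1) (by omega) (by omega) a ha
      have e : i + 1 + p - 1 = i + p := by omega
      rwa [e] at this
    have hk := key_congr hX hn s hs i hi hP1 g hg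
    have hδ := iterate_comm_mem s (p - 1) i g hg
    have e : i + (p - 1) = i + p - 1 := by have := hp.two_le; omega
    rw [e] at hδ
    have hle : L (i + p) ≤ L (i + p - 1) := Subgroup.lowerCentralSeries_antitone _ (by omega)
    have h1 := (L (i + p - 1)).mul_mem (hle hk) hδ
    rw [inv_mul_cancel_right] at h1
    exact (Subgroup.inv_mem_iff _).mp h1

/-- (P1) -/
theorem pow_mem_lcs (hX : Nat.card X = p ^ n) (hn : 3 ≤ n) (s : X)
    (hs : Nat.card (Subgroup.centralizer ({s} : Set X)) = p ^ 2) :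
    ∀ i, 1 ≤ i → ∀ g ∈ L i, g ^ p ∈ L (i + p - 1) :=
  fun i hi g hg => pow_mem_lcs_aux hX hn s hs n i hi (by omega) g hg

theorem iterate_comm_not_mem (hX : Nat.card X = p ^ n) (hn : 3 ≤ n) (s : X)
    (hs : Nat.card (Subgroup.centralizer ({s} : Set X)) = p ^ 2) :
    ∀ (u i : ℕ) (g : X), 1 ≤ i → i + u + 1 ≤ n - 1 → g ∈ L i → g ∉ L (i + 1) →
    (fun y => ⁅s, y⁆)^[u] g ∉ L (i + u + 1)
  | 0, i, g, _, _, _, hg' => hg'
  | u + 1, i, g, hi, hiu, hg, hg' => by
    rw [Function.iterate_succ_apply]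
    have h1 : ⁅s, g⁆ ∉ L (i + 2) := fun hc =>
      hg' (mem_lcs_succ_of_uniform hX hn s hs i hi (by omega) g hg hc)
    have := iterate_comm_not_mem hX hn s hs u (i + 1) ⁅s, g⁆ (by omega) (by omega)
      (comm_mem_lcs_succ s hg) h1
    have e : i + 1 + u + 1 = i + (u + 1) + 1 := by omega
    rwa [e] at this

/-- (P2) -/
theorem pow_not_mem_lcs (hX : Nat.card X = p ^ n) (hn : 3 ≤ n) (s : X)
    (hs : Nat.card (Subgroup.centralizer ({s} : Set X)) = p ^ 2) :
    ∀ i, 1 ≤ i → i + p - 1 ≤ n - 2 → ∀ g ∈ L i, g ∉ L (i + 1) → g ^ p ∉ L (i + p) := by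
  have hp : p.Prime := Fact.out
  have hp2 := hp.two_le
  intro i hi hin g hg hg' hc
  have hP1 : ∀ a ∈ L (i + 1), a ^ p ∈ L (i + p) := by
    intro a ha
    have := pow_mem_lcs hX hn s hs (i + 1) (by omega) a ha
    have e : i + 1 + p - 1 = i + p := by omega
    rwa [e] at this
  have hk := key_congr hX hn s hs i hi hP1 g hg
  have hδ := iterate_comm_not_mem hX hn s hs (p - 1) i g hi (by omega) hg hg'
  have e : i + (p - 1) + 1 = i + p := by omega
  rw [e] at hδ
  apply hδ
  have h1 := (L (i + p)).mul_mem hc hk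
  rw [mul_inv_cancel_left] at h1
  exact (Subgroup.inv_mem_iff _).mp h1

end main

end Cfsg.Agent.Helper10.Pearl
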