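import Mathlib
import Cfsg.Agent.Helper10.Pearl3Defs
import Cfsg.Agent.Helper10.PearlPower
import Cfsg.Agent.Helper23.PearlR1

/-!
Piece A3 of S5239: for `p = 3` the two-step centralizers satisfy `T_i ≤ T_{i+2}`; helper10.
-/

set_option autoImplicit false

namespace Cfsg.Agent.Helper10.Pearl3

open scoped commutatorElement
open Cfsg.Agent.Helper10.Pearl Cfsg.Agent.Helper18.Pearl

variable {X : Type*} [Group X]

/-- The elements `a` with `⁅a, y⁆ ∈ N`, for a normal subgroup `N`. -/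
def commSub (y : X) (N : Subgroup X) [hN : N.Normal] : Subgroup X where
  carrier := {a | ⁅a, y⁆ ∈ N}
  one_mem' := by
    show ⁅(1 : X), y⁆ ∈ N
    rw [commutatorElement_one_left]
    exact N.one_mem
  mul_mem' := by
    intro a b ha hb
    have e : ⁅a * b, y⁆ = a * ⁅b, y⁆ * a⁻¹ * ⁅a, y⁆ := by
      simp only [commutatorElement_def]; group
    show ⁅a * b, y⁆ ∈ N
    rw [e]
    exact N.mul_mem (hN.conj_mem _ hb a) ha
  inv_mem' := by
    intro a ha
    have e : ⁅a⁻¹, y⁆ = a⁻¹ * ⁅a, y⁆⁻¹ * a⁻¹⁻¹ := by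
      simp only [commutatorElement_def]; group
    show ⁅a⁻¹, y⁆ ∈ N
    rw [e]
    exact hN.conj_mem _ (N.inv_mem ha) a⁻¹

theorem mem_commSub {y : X} {N : Subgroup X} [N.Normal] {a : X} :
    a ∈ commSub y N ↔ ⁅a, y⁆ ∈ N := Iff.rfl

variable [Finite X] {n : ℕ}

local notation "L" => Subgroup.lowerCentralSeries (⊤ : Subgroup X)

/-- There is an element of exact level `i`. -/
theorem exists_mem_lcs_not_mem_succ {p : ℕ} [Fact p.Prime] (hX : Nat.card X = p ^ n) (hn : 3 ≤ n)
    (s : X) (hs : Nat.card (Subgroup.centralizer ({s} : Set X)) = p ^ 2) (i : ℕ) (hi : 1 ≤ i)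
    (hin : i + 1 ≤ n - 1) : ∃ g ∈ L i, g ∉ L (i + 1) := by
  have hp : p.Prime := Fact.out
  by_contra hcon
  push Not at hcon
  have hle : L i ≤ L (i + 1) := fun g hg => hcon g hg
  have h1 := Subgroup.card_le_of_le hle
  rw [card_lcs_of_uniform hX hn s hs i hi (by omega),
    card_lcs_of_uniform hX hn s hs (i + 1) (by omega) hin] at h1
  have := (Nat.pow_le_pow_iff_right hp.one_lt).mp h1
  omega

/-- A subgroup of `L j` containing `L (j+1)` and an element outside `L (j+1)` is `L j`. -/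
theorem lcs_le_of_not_mem {p : ℕ} [Fact p.Prime] (hX : Nat.card X = p ^ n) (hn : 3 ≤ n)
    (s : X) (hs : Nat.card (Subgroup.centralizer ({s} : Set X)) = p ^ 2) (j : ℕ) (hj : 1 ≤ j)
    (hjn : j + 1 ≤ n - 1) (D : Subgroup X) (hD : L (j + 1) ≤ D) (g : X) (hgD : g ∈ D)
    (hgL : g ∈ L j) (hg : g ∉ L (j + 1)) : L j ≤ D := by
  have hp : p.Prime := Fact.out
  have hXp : IsPGroup p X := IsPGroup.of_card hX
  have hanti := Subgroup.lowerCentralSeries_antitone (⊤ : Subgroup X)
  have hlt : L (j + 1) < D ⊓ L j := by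
    refine lt_of_le_of_ne (le_inf hD (hanti (Nat.le_succ j))) ?_
    intro heq
    apply hg
    rw [heq]
    exact ⟨hgD, hgL⟩
  have h1 := Cfsg.Agent.Helper23.Pearl.mul_card_le_of_lt hXp hlt
  have h2 : Nat.card (L j) = p * Nat.card (L (j + 1)) := by
    rw [card_lcs_of_uniform hX hn s hs j hj (by omega),
      card_lcs_of_uniform hX hn s hs (j + 1) (by omega) hjn, ← pow_succ']
    congr 1
    omega
  have h3 : D ⊓ L j = L j :=
    Subgroup.eq_of_le_of_card_ge inf_le_right (by rw [h2]; exact h1)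
  intro a ha
  have : a ∈ D ⊓ L j := by rw [h3]; exact ha
  exact this.1

theorem twoStep_le_add_two [Fact (Nat.Prime 3)] (hX : Nat.card X = 3 ^ n) (hn : 3 ≤ n) (s : X)
    (hs : Nat.card (Subgroup.centralizer ({s} : Set X)) = 3 ^ 2) :
    ∀ i, 1 ≤ i → i + 5 ≤ n → twoStep X i ≤ twoStep X (i + 2) := by
  intro i hi hin y hy
  rw [mem_twoStep] at hy ⊢
  have hanti := Subgroup.lowerCentralSeries_antitone (⊤ : Subgroup X)
  obtain ⟨g, hgL, hg⟩ := exists_mem_lcs_not_mem_succ hX hn s hs i hi (by omega)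
  have hg3 : g ^ 3 ∈ L (i + 2) := by
    have := pow_mem_lcs hX hn s hs i hi g hgL
    have e : i + 3 - 1 = i + 2 := by omega
    rwa [e] at this
  have hg3' : g ^ 3 ∉ L (i + 2 + 1) := pow_not_mem_lcs hX hn s hs i hi (by omega) g hgL hg
  have hnorm : (L (i + 2 + 2)).Normal := inferInstance
  -- `D = {a | ⁅a, y⁆ ∈ L (i+4)}`
  have hD1 : L (i + 2 + 1) ≤ commSub y (L (i + 2 + 2)) := by
    intro a ha
    rw [mem_commSub]
    have : ⁅a, y⁆ ∈ L (i + 2 + 1 + 1) := by
      rw [Subgroup.lowerCentralSeries_succ]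
      exact Subgroup.commutator_mem_commutator ha (Subgroup.mem_top y)
    exact this
  have hD2 : g ^ 3 ∈ commSub y (L (i + 2 + 2)) := by
    rw [mem_commSub]
    -- `c = ⁅y, g⁆ ∈ L (i+2)`, `y g y⁻¹ = c g`
    set c := ⁅y, g⁆ with hc
    have hcL : c ∈ L (i + 2) := by
      have := (L (i + 2)).inv_mem (hy g hgL)
      rwa [commutatorElement_inv] at this
    let π := QuotientGroup.mk' (L (i + 2 + 2))
    have hπ : ∀ x : X, π x = 1 ↔ x ∈ L (i + 2 + 2) := fun x => QuotientGroup.eq_one_iff x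
    have hcg : ⁅c, g⁆ ∈ L (i + 2 + 2) := by
      have h1 : ⁅c, g⁆ ∈ L (i + 2 + i + 1) :=
        Cfsg.Agent.Helper21.PolySeq.lcs_comm_le i (i + 2)
          (Subgroup.commutator_mem_commutator hcL hgL)
      exact hanti (by omega) h1
    have hcomm : π c * π g = π g * π c := by
      have h1 : π ⁅c, g⁆ = 1 := (hπ _).mpr hcg
      rw [commutatorElement_def, map_mul, map_mul, map_mul, map_inv, map_inv] at h1
      calc π c * π g = (π c * π g * (π c)⁻¹ * (π g)⁻¹) * π g * π c := by group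
        _ = π g * π c := by rw [h1, one_mul]
    have hc3 : π c ^ 3 = 1 := by
      rw [← map_pow]
      apply (hπ _).mpr
      have := pow_mem_lcs hX hn s hs (i + 2) (by omega) c hcL
      have e : i + 2 + 3 - 1 = i + 2 + 2 := by omega
      rwa [e] at this
    have hconj : y * g * y⁻¹ = c * g := by
      rw [hc, commutatorElement_def]; group
    have h3 : π (y * g ^ 3 * y⁻¹) = π (g ^ 3) := by
      have e1 : y * g ^ 3 * y⁻¹ = (y * g * y⁻¹) ^ 3 := by
        rw [conj_pow]
      rw [e1, hconj, map_pow, map_mul, (Commute.mul_pow hcomm 3), hc3, one_mul, map_pow]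
    have h4 : π ⁅y, g ^ 3⁆ = 1 := by
      rw [commutatorElement_def, map_mul, h3, map_inv, mul_inv_cancel]
    have h5 : ⁅y, g ^ 3⁆ ∈ L (i + 2 + 2) := (hπ _).mp h4
    have := (L (i + 2 + 2)).inv_mem h5
    rwa [commutatorElement_inv] at this
  have hle := lcs_le_of_not_mem hX hn s hs (i + 2) (by omega) (by omega)
    (commSub y (L (i + 2 + 2))) hD1 (g ^ 3) hD2 hg3 hg3'
  intro a ha
  exact hle ha

end Cfsg.Agent.Helper10.Pearl3
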