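import Mathlib
import Cfsg.Agent.Helper10.Pearl3Defs
import Cfsg.Agent.Helper10.Pearl3A3

/-!
Piece A2 of S5239: the two-step centralizers satisfy `T_1 ≤ T_2` (any prime); helper10.
-/

set_option autoImplicit false

namespace Cfsg.Agent.Helper10.Pearl3

open scoped commutatorElement
open Cfsg.Agent.Helper18.Pearl

variable {X : Type*} [Group X] [Finite X] {n : ℕ}

local notation "L" => Subgroup.lowerCentralSeries (⊤ : Subgroup X)

theorem twoStep_one_le_two {p : ℕ} [Fact p.Prime] (hX : Nat.card X = p ^ n) (hn : 5 ≤ n) (s : X)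
    (hs : Nat.card (Subgroup.centralizer ({s} : Set X)) = p ^ 2) :
    twoStep X 1 ≤ twoStep X 2 := by
  intro y hy
  rw [mem_twoStep] at hy ⊢
  have hn3 : 3 ≤ n := by omega
  have hanti := Subgroup.lowerCentralSeries_antitone (⊤ : Subgroup X)
  obtain ⟨g₁, hg₁L, hg₁⟩ := exists_mem_lcs_not_mem_succ hX hn3 s hs 1 le_rfl (by omega)
  set g₂ := ⁅s, g₁⁆ with hg₂
  have hg₂L : g₂ ∈ L 2 := Cfsg.Agent.Helper18.Pearl.comm_mem_lcs_succ s g₁ 1 hg₁L
  have hg₂' : g₂ ∉ L 3 := fun h =>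
    hg₁ (mem_lcs_succ_of_uniform hX hn3 s hs 1 le_rfl (by omega) g₁ hg₁L h)
  have hnorm : (L 4).Normal := inferInstance
  -- `L 3 ≤ D = {a | ⁅a, y⁆ ∈ L 4}`
  have hD1 : L (2 + 1) ≤ commSub y (L 4) := by
    intro a ha
    rw [mem_commSub]
    have : ⁅a, y⁆ ∈ L (2 + 1 + 1) := by
      rw [Subgroup.lowerCentralSeries_succ]
      exact Subgroup.commutator_mem_commutator ha (Subgroup.mem_top y)
    exact this
  -- every `c ∈ L 1` commutes with `g₁` modulo `L 4`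
  have hL1comm : ∀ c ∈ L 1, ⁅c, g₁⁆ ∈ L 4 := by
    have hD'1 : L (1 + 1) ≤ commSub g₁ (L 4) := by
      intro a ha
      rw [mem_commSub]
      have h1 : ⁅a, g₁⁆ ∈ L (2 + 1 + 1) :=
        Cfsg.Agent.Helper21.PolySeq.lcs_comm_le 1 2 (Subgroup.commutator_mem_commutator ha hg₁L)
      exact h1
    have hD'2 : g₁ ∈ commSub g₁ (L 4) := by
      rw [mem_commSub, commutatorElement_self]
      exact Subgroup.one_mem _
    have hle := lcs_le_of_not_mem hX hn3 s hs 1 le_rfl (by omega) (commSub g₁ (L 4)) hD'1 g₁ hD'2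
      hg₁L hg₁
    intro c hc
    exact hle hc
  have hD2 : g₂ ∈ commSub y (L 4) := by
    rw [mem_commSub]
    set c := ⁅y, s⁆ with hc
    set z₁ := ⁅y, g₁⁆ with hz₁
    have hcL : c ∈ L 1 := by
      have := Cfsg.Agent.Helper18.Pearl.comm_mem_lcs_succ y s 0 (Subgroup.mem_top s)
      simpa using this
    have hz₁L : z₁ ∈ L 3 := by
      have := (L 3).inv_mem (hy g₁ hg₁L)
      rwa [commutatorElement_inv] at this
    let π := QuotientGroup.mk' (L 4)
    have hπ : ∀ x : X, π x = 1 ↔ x ∈ L 4 := fun x => QuotientGroup.eq_one_iff x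
    have hcomm_of : ∀ a b : X, ⁅a, b⁆ ∈ L 4 → π a * π b = π b * π a := by
      intro a b hab
      have h1 : π ⁅a, b⁆ = 1 := (hπ _).mpr hab
      rw [commutatorElement_def, map_mul, map_mul, map_mul, map_inv, map_inv] at h1
      calc π a * π b = (π a * π b * (π a)⁻¹ * (π b)⁻¹) * π b * π a := by group
        _ = π b * π a := by rw [h1, one_mul]
    -- `π z₁` is central
    have hZ : ∀ q : X ⧸ L 4, π z₁ * q = q * π z₁ := by
      intro q
      obtain ⟨x, rfl⟩ := QuotientGroup.mk'_surjective (L 4) q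
      apply hcomm_of
      have : ⁅z₁, x⁆ ∈ L (3 + 1) := by
        rw [Subgroup.lowerCentralSeries_succ]
        exact Subgroup.commutator_mem_commutator hz₁L (Subgroup.mem_top x)
      exact this
    have hCG : π c * π g₁ = π g₁ * π c := hcomm_of c g₁ (hL1comm c hcL)
    have hCG2 : π c * π g₂ = π g₂ * π c := by
      apply hcomm_of
      have h1 : ⁅c, g₂⁆ ∈ L (1 + 2 + 1) :=
        Cfsg.Agent.Helper21.PolySeq.lcs_comm_le 2 1 (Subgroup.commutator_mem_commutator hcL hg₂L)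
      exact h1
    have hYS : π y * π s * (π y)⁻¹ = π c * π s := by
      rw [← map_inv, ← map_mul, ← map_mul, ← map_mul]
      congr 1
      rw [hc, commutatorElement_def]; group
    have hYG : π y * π g₁ * (π y)⁻¹ = π z₁ * π g₁ := by
      rw [← map_inv, ← map_mul, ← map_mul, ← map_mul]
      congr 1
      rw [hz₁, commutatorElement_def]; group
    have hG2 : π g₂ = π s * π g₁ * (π s)⁻¹ * (π g₁)⁻¹ := by
      rw [hg₂, commutatorElement_def, map_mul, map_mul, map_mul, map_inv, map_inv]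
    have key : π y * π g₂ * (π y)⁻¹ = π g₂ := by
      set Y := π y
      set S' := π s
      set G1 := π g₁
      set C := π c
      set Z1 := π z₁
      have e1 : Z1 * (G1 * S'⁻¹ * C⁻¹ * G1⁻¹) = (G1 * S'⁻¹ * C⁻¹ * G1⁻¹) * Z1 := hZ _
      have e2 : C⁻¹ * G1⁻¹ = G1⁻¹ * C⁻¹ := by
        rw [← mul_inv_rev, ← mul_inv_rev, hCG]
      rw [hG2] at hCG2 ⊢
      calc Y * (S' * G1 * S'⁻¹ * G1⁻¹) * Y⁻¹
          = (Y * S' * Y⁻¹) * (Y * G1 * Y⁻¹) * (Y * S' * Y⁻¹)⁻¹ * (Y * G1 * Y⁻¹)⁻¹ := by group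
        _ = (C * S') * (Z1 * G1) * (C * S')⁻¹ * (Z1 * G1)⁻¹ := by rw [hYS, hYG]
        _ = C * S' * (Z1 * (G1 * S'⁻¹ * C⁻¹ * G1⁻¹)) * Z1⁻¹ := by group
        _ = C * S' * ((G1 * S'⁻¹ * C⁻¹ * G1⁻¹) * Z1) * Z1⁻¹ := by rw [e1]
        _ = C * S' * G1 * S'⁻¹ * (C⁻¹ * G1⁻¹) := by group
        _ = C * S' * G1 * S'⁻¹ * (G1⁻¹ * C⁻¹) := by rw [e2]
        _ = C * (S' * G1 * S'⁻¹ * G1⁻¹) * C⁻¹ := by group
        _ = (S' * G1 * S'⁻¹ * G1⁻¹) * C * C⁻¹ := by rw [hCG2]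
        _ = S' * G1 * S'⁻¹ * G1⁻¹ := by group
    have h4 : π ⁅y, g₂⁆ = 1 := by
      rw [commutatorElement_def, map_mul, map_mul, map_mul, map_inv, map_inv, key, mul_inv_cancel]
    have h5 : ⁅y, g₂⁆ ∈ L 4 := (hπ _).mp h4
    have := (L 4).inv_mem h5
    rwa [commutatorElement_inv] at this
  have hle := lcs_le_of_not_mem hX hn3 s hs 2 (by norm_num) (by omega) (commSub y (L 4)) hD1 g₂ hD2
    hg₂L hg₂'
  intro a ha
  exact hle ha

end Cfsg.Agent.Helper10.Pearl3
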