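import Mathlib
import Cfsg.Agent.Helper10.Pearl3Defs
import Cfsg.Agent.Helper10.PearlPower
import Cfsg.Agent.Helper18.Pearl3A1
import Cfsg.Agent.Helper18.Pearl3A4

/-!
Piece C of S5239: in a `3`-group of maximal class with a uniform element (`n ≥ 5`), an element
`t ∈ Γ₁ \ L 1` has `t^3 ∈ L 2 \ L 3`; helper10.
-/

set_option autoImplicit false

namespace Cfsg.Agent.Helper10.Pearl3

open scoped commutatorElement
open Cfsg.Agent.Helper10.Pearl Cfsg.Agent.Helper18.Pearl
open Cfsg.Agent.Helper18.Pearl3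

variable {X : Type*} [Group X] [Finite X] {n : ℕ}

local notation "L" => Subgroup.lowerCentralSeries (⊤ : Subgroup X)

/-- The centre is the last nontrivial term of the lower central series. -/
theorem center_le_lcs {p : ℕ} [Fact p.Prime] (hX : Nat.card X = p ^ n) (hn : 3 ≤ n) (s : X)
    (hs : Nat.card (Subgroup.centralizer ({s} : Set X)) = p ^ 2) :
    Subgroup.center X ≤ L (n - 2) := by
  have hp : p.Prime := Fact.out
  have hle : L (n - 2) ≤ Subgroup.center X := by
    intro g hg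
    rw [Subgroup.mem_center_iff]
    intro x
    have h1 : ⁅g, x⁆ ∈ L (n - 2 + 1) := by
      rw [Subgroup.lowerCentralSeries_succ]
      exact Subgroup.commutator_mem_commutator hg (Subgroup.mem_top x)
    have h2 : L (n - 2 + 1) = ⊥ := by
      have e : n - 2 + 1 = n - 1 := by omega
      rw [e]
      apply Subgroup.card_eq_one.mp
      rw [card_lcs_of_uniform hX hn s hs (n - 1) (by omega) le_rfl]
      simp
    rw [h2, Subgroup.mem_bot, commutatorElement_eq_one_iff_mul_comm] at h1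
    exact h1.symm
  have hcardL : Nat.card (L (n - 2)) = p := by
    rw [card_lcs_of_uniform hX hn s hs (n - 2) (by omega) (by omega)]
    have e : n - 1 - (n - 2) = 1 := by omega
    rw [e, pow_one]
  have hZle : Subgroup.center X ≤ Subgroup.centralizer ({s} : Set X) :=
    Subgroup.center_le_centralizer _
  have hdvd := Subgroup.card_dvd_of_le hZle
  rw [hs] at hdvd
  obtain ⟨k, hk, hcard⟩ := (Nat.dvd_prime_pow hp).mp hdvd
  have hk2 : k ≠ 2 := by
    intro h2
    have heq := Subgroup.eq_of_le_of_card_ge hZle (by rw [hcard, hs, h2])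
    have hsm : s ∈ Subgroup.centralizer ({s} : Set X) := by
      rw [Subgroup.mem_centralizer_singleton_iff]
    rw [← heq] at hsm
    have htop : Subgroup.centralizer ({s} : Set X) = ⊤ := by
      rw [Subgroup.centralizer_eq_top_iff_subset]
      intro y hy
      rw [Set.mem_singleton_iff] at hy
      rw [hy]; exact hsm
    rw [htop, Subgroup.card_top, hX] at hs
    have := Nat.pow_right_injective hp.two_le hs
    omega
  have hk1 : k ≤ 1 := by omega
  have hge : Nat.card (Subgroup.center X) ≤ Nat.card (L (n - 2)) := by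
    rw [hcard, hcardL]
    calc p ^ k ≤ p ^ 1 := Nat.pow_le_pow_right hp.pos hk1
      _ = p := pow_one p
  exact (Subgroup.eq_of_le_of_card_ge hle hge).ge

/-- Uniseriality at level `0` inside `Γ₁`. -/
theorem mem_lcs_one_of_comm_mem {p : ℕ} [Fact p.Prime] (hX : Nat.card X = p ^ n) (hn : 4 ≤ n)
    (s : X) (hs : Nat.card (Subgroup.centralizer ({s} : Set X)) = p ^ 2)
    (G1 : Subgroup X) (hL1 : L 1 ≤ G1) (hsG : s ∉ G1) (t : X) (ht : t ∈ G1)
    (hc : ⁅s, t⁆ ∈ L 2) : t ∈ L 1 := by
  have hp : p.Prime := Fact.out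
  set C := Subgroup.centralizer ({s} : Set X) with hC
  -- `|C ⊓ G1| ≤ p`
  have hB : Nat.card (C ⊓ G1 : Subgroup X) ≤ p := by
    have hdvd := Subgroup.card_dvd_of_le (inf_le_left : C ⊓ G1 ≤ C)
    rw [hs] at hdvd
    obtain ⟨k, hk, hcard⟩ := (Nat.dvd_prime_pow hp).mp hdvd
    have hk2 : k ≠ 2 := by
      intro h2
      have heq := Subgroup.eq_of_le_of_card_ge (inf_le_left : C ⊓ G1 ≤ C) (by rw [hcard, hs, h2])
      have hsm : s ∈ C := by
        rw [hC, Subgroup.mem_centralizer_singleton_iff]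
      rw [← heq] at hsm
      exact hsG hsm.2
    rw [hcard]
    calc p ^ k ≤ p ^ 1 := Nat.pow_le_pow_right hp.pos (by omega)
      _ = p := pow_one p
  set M : Set X := {x | x ∈ G1 ∧ ⁅s, x⁆ ∈ L 2} with hM
  have h1 := card_le_of_fibres s M (C ⊓ G1) (L 2)
    (fun x hx y hy h => ⟨inv_mul_mem_centralizer_of_comm_eq s x y h,
      G1.mul_mem (G1.inv_mem hx.1) hy.1⟩)
    (fun x hx => hx.2)
  have hsub : (L 1 : Set X) ⊆ M := by
    intro g hg
    exact ⟨hL1 hg, Cfsg.Agent.Helper18.Pearl.comm_mem_lcs_succ s g 1 hg⟩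
  have hn3 : 3 ≤ n := by omega
  have hcard : M.ncard ≤ (L 1 : Set X).ncard := by
    have h3 : (L 1 : Set X).ncard = Nat.card (L 1) := by
      rw [← Nat.card_coe_set_eq]; rfl
    rw [h3, card_lcs_of_uniform hX hn3 s hs 1 le_rfl (by omega)]
    have h4 : Nat.card (L 2) = p ^ (n - 1 - 2) :=
      card_lcs_of_uniform hX hn3 s hs 2 (by norm_num) (by omega)
    rw [h4] at h1
    calc M.ncard ≤ Nat.card (C ⊓ G1 : Subgroup X) * p ^ (n - 1 - 2) := h1
      _ ≤ p * p ^ (n - 1 - 2) := Nat.mul_le_mul_right _ hB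
      _ = p ^ (n - 1 - 1) := by
        rw [← pow_succ']
        congr 1
        omega
  have heq := Set.eq_of_subset_of_ncard_le hsub hcard (Set.toFinite M)
  have htM : t ∈ M := ⟨ht, hc⟩
  rw [← heq] at htM
  exact htM

theorem cube_of_gammaOne [Fact (Nat.Prime 3)] (hX : Nat.card X = 3 ^ n) (hn : 5 ≤ n) (s : X)
    (hs : Nat.card (Subgroup.centralizer ({s} : Set X)) = 3 ^ 2)
    (t : X) (ht : t ∈ gammaOne X) (ht1 : t ∉ L 1) : t ^ 3 ∈ L 2 ∧ t ^ 3 ∉ L 3 := by
  have hn3 : 3 ≤ n := by omega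
  have hn4 : 4 ≤ n := by omega
  have hsG : s ∉ gammaOne X := (index_twoStep hX hn3 s hs 1 le_rfl (by omega)).1
  have hL1G : L 1 ≤ gammaOne X := lcs_one_le_twoStep 1 le_rfl
  have hanti := Subgroup.lowerCentralSeries_antitone (⊤ : Subgroup X)
  -- the elements `g = ⁅s,t⁆`, `g' = ⁅s,g⁆`
  set g := ⁅s, t⁆ with hg
  set g' := ⁅s, g⁆ with hg'
  have hgL1 : g ∈ L 1 := by
    have := Cfsg.Agent.Helper18.Pearl.comm_mem_lcs_succ s t 0 (Subgroup.mem_top t)
    simpa using this
  have hg'L2 : g' ∈ L 2 := Cfsg.Agent.Helper18.Pearl.comm_mem_lcs_succ s g 1 hgL1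
  have hgL2 : g ∉ L 2 := fun h =>
    ht1 (mem_lcs_one_of_comm_mem hX hn4 s hs (gammaOne X) hL1G hsG t ht h)
  have hg'L3 : g' ∉ L 3 := fun h =>
    hgL2 (mem_lcs_succ_of_uniform hX hn3 s hs 1 le_rfl (by omega) g hgL1 h)
  -- `N = hseq s t 3` is central
  have hyG : s⁻¹ * t ∉ gammaOne X := by
    intro h
    have : s⁻¹ ∈ gammaOne X := by
      have := (gammaOne X).mul_mem h ((gammaOne X).inv_mem ht)
      rwa [mul_inv_cancel_right] at this
    exact hsG (by simpa using (gammaOne X).inv_mem this)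
  have hy := card_centralizer_of_not_mem_gammaOne hX hn4 s hs (s⁻¹ * t) hyG
  have hc1 := pow_mem_center_of_uniform hX hn3 (s⁻¹ * t) hy
  have hc2 := pow_mem_center_of_uniform hX hn3 s hs
  have hNc : hseq s t 3 ∈ Subgroup.center X := by
    simp only [hseq]
    exact Subgroup.mul_mem _ hc2 hc1
  have hZ3 : Subgroup.center X ≤ L 3 :=
    (center_le_lcs hX hn3 s hs).trans (hanti (by omega))
  have hN3 : hseq s t 3 ∈ L 3 := hZ3 hNc
  -- expansion of `N`
  have hN : hseq s t 3 = g' * g * g * t * (g * t) * t := by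
    have e3 : hseq s t 3 = cseq s t 2 * (cseq s t 1 * (cseq s t 0 * hseq s t 0)) := by
      rw [hseq_succ s t 2, hseq_succ s t 1, hseq_succ s t 0]
    rw [e3]
    simp only [hseq, cseq, hg', hg, commutatorElement_def, pow_zero, pow_one, pow_two]
    group
  -- work modulo `L 3`
  have hnorm : (L 3).Normal := inferInstance
  let π := QuotientGroup.mk' (L 3)
  have hπ : ∀ x : X, π x = 1 ↔ x ∈ L 3 := fun x => QuotientGroup.eq_one_iff x
  have hcomm_of : ∀ a b : X, ⁅a, b⁆ ∈ L 3 → π a * π b = π b * π a := by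
    intro a b hab
    have h1 : π ⁅a, b⁆ = 1 := (hπ _).mpr hab
    rw [commutatorElement_def, map_mul, map_mul, map_mul, map_inv, map_inv] at h1
    calc π a * π b = (π a * π b * (π a)⁻¹ * (π b)⁻¹) * π b * π a := by group
      _ = π b * π a := by rw [h1, one_mul]
  have hgt : π g * π t = π t * π g := hcomm_of g t (ht g hgL1)
  have hg't : π g' * π t = π t * π g' := hcomm_of g' t (ht g' (hanti (by norm_num) hg'L2))
  have hg'g : π g' * π g = π g * π g' := by
    apply hcomm_of
    have h1 : ⁅g', g⁆ ∈ L (2 + 1 + 1) :=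
      Cfsg.Agent.Helper21.PolySeq.lcs_comm_le 1 2 (Subgroup.commutator_mem_commutator hg'L2 hgL1)
    exact hanti (by norm_num) h1
  have hg3 : π g ^ 3 = 1 := by
    rw [← map_pow]
    apply (hπ _).mpr
    have := pow_mem_lcs hX hn3 s hs 1 le_rfl g hgL1
    simpa using this
  have hπN : π (hseq s t 3) = 1 := (hπ _).mpr hN3
  rw [hN] at hπN
  simp only [map_mul] at hπN
  have hfin : π g' * π t ^ 3 = 1 := by
    have e : π g' * π g * π g * π t * (π g * π t) * π t = π g' * π g ^ 3 * π t ^ 3 := by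
      have hc12 : Commute (π g) (π t) := hgt
      calc π g' * π g * π g * π t * (π g * π t) * π t
          = π g' * (π g * π g * (π t * π g) * π t * π t) := by group
        _ = π g' * (π g * π g * (π g * π t) * π t * π t) := by rw [hgt]
        _ = π g' * π g ^ 3 * π t ^ 3 := by
          simp only [pow_succ, pow_zero, one_mul, mul_assoc]
    rw [e, hg3, mul_one] at hπN
    exact hπN
  have hfin' : g' * t ^ 3 ∈ L 3 := by
    apply (hπ _).mp
    rw [map_mul, map_pow]
    exact hfin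
  refine ⟨?_, ?_⟩
  · have h1 := (L 2).mul_mem ((L 2).inv_mem hg'L2) (hanti (by norm_num : 2 ≤ 3) hfin')
    rwa [inv_mul_cancel_left] at h1
  · intro h
    apply hg'L3
    have h1 := (L 3).mul_mem hfin' ((L 3).inv_mem h)
    rwa [mul_inv_cancel_right] at h1

end Cfsg.Agent.Helper10.Pearl3
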