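import Mathlib
import Cfsg.Agent.Helper10.Pearl3Defs
import Cfsg.Agent.Helper23.PearlR1
import Cfsg.Agent.Helper18.PearlR2
import Cfsg.Agent.Helper1.PGroup

/-!
Piece D of S5239: subgroups of `Γ₁` are `2`-generated (jump argument), helper10.
-/

set_option autoImplicit false

namespace Cfsg.Agent.Helper10.Pearl3

open Cfsg.Agent.Helper23.Pearl Cfsg.Agent.Helper18.Pearl

variable {X : Type*} [Group X] [Finite X] {n : ℕ}

local notation "L" => Subgroup.lowerCentralSeries (⊤ : Subgroup X)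

theorem two_generated_of_le_gammaOne [Fact (Nat.Prime 3)] (hX : Nat.card X = 3 ^ n) (hn : 5 ≤ n)
    (hcard : ∀ i, 1 ≤ i → i ≤ n - 1 → Nat.card (L i) = 3 ^ (n - 1 - i))
    (hL1 : L 1 ≤ gammaOne X) (hidx : (gammaOne X).index = 3)
    (hcube : ∀ t ∈ gammaOne X, t ∉ L 1 → t ^ 3 ∈ L 2 ∧ t ^ 3 ∉ L 3)
    (hR : ∀ K Φ : Subgroup X, (∀ g ∈ K, g ^ 3 ∈ Φ) → ∀ i, 1 ≤ i →
      Nat.card (K ⊓ L i : Subgroup X) ≤ 3 ^ 2 * Nat.card (Φ ⊓ L (i + 2) : Subgroup X))
    (H : Subgroup X) (hH : H ≤ gammaOne X) :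
    ∃ T : Finset X, T.card ≤ 2 ∧ Subgroup.closure (T : Set X) = H := by
  have hXp : IsPGroup 3 X := IsPGroup.of_card hX
  have hHp : IsPGroup 3 H := hXp.to_subgroup H
  apply exists_finset_closure_eq_of_card_le_frattini hXp H 2
  set Φ : Subgroup X := (frattini H).map H.subtype with hΦ
  have hΦcard : Nat.card Φ = Nat.card (frattini H) :=
    Subgroup.card_map_of_injective H.subtype_injective
  have hpowΦ : ∀ g ∈ H, g ^ 3 ∈ Φ := by
    intro g hg
    refine ⟨⟨g, hg⟩ ^ 3, Cfsg.Agent.Helper1.IsPGroup.pow_mem_frattini hHp ⟨g, hg⟩, ?_⟩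
    simp
  have h1 := hR H Φ hpowΦ 1 le_rfl
  rw [← hΦcard]
  have hanti := Subgroup.lowerCentralSeries_antitone (⊤ : Subgroup X)
  by_cases hHL : H ≤ L 1
  · have e : (H ⊓ L 1 : Subgroup X) = H := inf_eq_left.mpr hHL
    rw [e] at h1
    exact h1.trans (Nat.mul_le_mul_left _ (Subgroup.card_le_of_le inf_le_left))
  · obtain ⟨t, htH, htL⟩ := SetLike.not_le_iff_exists.mp hHL
    obtain ⟨hc2, hc3⟩ := hcube t (hH htH) htL
    -- `3 |Φ ⊓ L 3| ≤ |Φ ⊓ L 2|`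
    have hlt : (Φ ⊓ L 3 : Subgroup X) < Φ ⊓ L 2 := by
      refine lt_of_le_of_ne (inf_le_inf_left Φ (hanti (by norm_num))) ?_
      intro heq
      have : t ^ 3 ∈ (Φ ⊓ L 3 : Subgroup X) := by
        rw [heq]; exact ⟨hpowΦ t htH, hc2⟩
      exact hc3 this.2
    have c2 := mul_card_le_of_lt hXp hlt
    -- `|H| ≤ 3 |H ⊓ L 1|`
    have c1 := card_inf_mul_le H (gammaOne X) (L 1) hL1
    have e : (H ⊓ gammaOne X : Subgroup X) = H := inf_eq_left.mpr hH
    rw [e] at c1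
    have hG : Nat.card (gammaOne X) = 3 * Nat.card (L 1) := by
      have h2 := (gammaOne X).card_mul_index
      rw [hidx, hX] at h2
      have h3 := hcard 1 le_rfl (by omega)
      rw [h3]
      have h4 : (3 : ℕ) ^ n = 3 * 3 ^ (n - 1 - 1) * 3 := by
        have : n = (n - 1 - 1) + 1 + 1 := by omega
        conv_lhs => rw [this]
        ring
      rw [h4] at h2
      exact Nat.eq_of_mul_eq_mul_right (by norm_num) h2
    rw [hG] at c1
    have hpos : 0 < Nat.card (L 1) := Nat.card_pos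
    have c1' : Nat.card H ≤ 3 * Nat.card (H ⊓ L 1 : Subgroup X) := by
      have : Nat.card H * Nat.card (L 1) ≤ (3 * Nat.card (H ⊓ L 1 : Subgroup X)) * Nat.card (L 1) := by
        calc _ ≤ 3 * Nat.card (L 1) * Nat.card (H ⊓ L 1 : Subgroup X) := c1
          _ = _ := by ring
      exact Nat.le_of_mul_le_mul_right this hpos
    have h1' : Nat.card (H ⊓ L 1 : Subgroup X) ≤ 3 ^ 2 * Nat.card (Φ ⊓ L 3 : Subgroup X) := h1
    calc Nat.card H ≤ 3 * Nat.card (H ⊓ L 1 : Subgroup X) := c1'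
      _ ≤ 3 * (3 ^ 2 * Nat.card (Φ ⊓ L 3 : Subgroup X)) := Nat.mul_le_mul_left _ h1'
      _ = 3 ^ 2 * (3 * Nat.card (Φ ⊓ L 3 : Subgroup X)) := by ring
      _ ≤ 3 ^ 2 * Nat.card (Φ ⊓ L 2 : Subgroup X) := Nat.mul_le_mul_left _ c2
      _ ≤ 3 ^ 2 * Nat.card Φ := Nat.mul_le_mul_left _ (Subgroup.card_le_of_le inf_le_left)

end Cfsg.Agent.Helper10.Pearl3
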