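import Mathlib
import Cfsg.Agent.Helper23.PearlR1

/-!
Refined form of helper23's piece R1 (same proof, generic `Φ`): if `Φ` contains the `p`-th powers of
`K`, then `|K ⊓ L i| ≤ p^(p-1) |Φ ⊓ L (i+p-1)|` for all `i ≥ 1`.
-/

set_option autoImplicit false

namespace Cfsg.Agent.Helper10.Pearl3

open Cfsg.Agent.Helper23.Pearl

variable {X : Type*} [Group X] [Finite X] {p : ℕ} [Fact p.Prime] {n : ℕ}

theorem card_inf_le_of_power_structure (hX : Nat.card X = p ^ n) (hn : 3 ≤ n)
    (hcard : ∀ i, 1 ≤ i → i ≤ n - 1 →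
      Nat.card (Subgroup.lowerCentralSeries (⊤ : Subgroup X) i) = p ^ (n - 1 - i))
    (hP1 : ∀ i, 1 ≤ i → ∀ g ∈ Subgroup.lowerCentralSeries (⊤ : Subgroup X) i,
      g ^ p ∈ Subgroup.lowerCentralSeries (⊤ : Subgroup X) (i + p - 1))
    (hP2 : ∀ i, 1 ≤ i → i + p - 1 ≤ n - 2 →
      ∀ g ∈ Subgroup.lowerCentralSeries (⊤ : Subgroup X) i,
      g ∉ Subgroup.lowerCentralSeries (⊤ : Subgroup X) (i + 1) →
      g ^ p ∉ Subgroup.lowerCentralSeries (⊤ : Subgroup X) (i + p))
    (K Φ : Subgroup X) (hpowΦ : ∀ g ∈ K, g ^ p ∈ Φ) :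
    ∀ i, 1 ≤ i → Nat.card (K ⊓ Subgroup.lowerCentralSeries (⊤ : Subgroup X) i : Subgroup X) ≤
      p ^ (p - 1) *
        Nat.card (Φ ⊓ Subgroup.lowerCentralSeries (⊤ : Subgroup X) (i + p - 1) : Subgroup X) := by
  have hp : p.Prime := Fact.out
  have hXp : IsPGroup p X := IsPGroup.of_card hX
  have hanti := Subgroup.lowerCentralSeries_antitone (⊤ : Subgroup X)
  set L := Subgroup.lowerCentralSeries (⊤ : Subgroup X) with hL
  have hppos : 0 < p ^ (p - 1) := pow_pos hp.pos _
  have key : ∀ m i : ℕ, 1 ≤ i → n ≤ i + m →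
      Nat.card (K ⊓ L i : Subgroup X) ≤ p ^ (p - 1) * Nat.card (Φ ⊓ L (i + p - 1) : Subgroup X) := by
    have base : ∀ i : ℕ, 1 ≤ i → n ≤ i + p →
        Nat.card (K ⊓ L i : Subgroup X) ≤
          p ^ (p - 1) * Nat.card (Φ ⊓ L (i + p - 1) : Subgroup X) := by
      intro i hi hin
      have h1 : Nat.card (K ⊓ L i : Subgroup X) ≤ Nat.card (L i) :=
        Subgroup.card_le_of_le inf_le_right
      have h2 : Nat.card (L i) ≤ p ^ (p - 1) := by
        by_cases hle : i ≤ n - 1
        · rw [hcard i hi hle]
          exact Nat.pow_le_pow_right hp.pos (by omega)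
        · have h3 : L i ≤ L (n - 1) := hanti (by omega)
          have h4 : Nat.card (L (n - 1)) = 1 := by
            rw [hcard (n - 1) (by omega) le_rfl]
            simp
          have h5 := Subgroup.card_le_of_le h3
          rw [h4] at h5
          exact h5.trans hppos
      have h6 : 0 < Nat.card (Φ ⊓ L (i + p - 1) : Subgroup X) := Nat.card_pos
      calc Nat.card (K ⊓ L i : Subgroup X) ≤ p ^ (p - 1) * 1 := by
            rw [mul_one]; exact h1.trans h2
        _ ≤ _ := Nat.mul_le_mul_left _ h6
    intro m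
    induction m with
    | zero =>
      intro i hi hin
      exact base i hi (by omega)
    | succ m ih =>
      intro i hi hin
      by_cases hb : n ≤ i + p
      · exact base i hi hb
      · have hb' : i + p ≤ n - 1 := by omega
        have hp2 := hp.two_le
        have ih' := ih (i + 1) (by omega) (by omega)
        have eidx : i + 1 + p - 1 = i + p := by omega
        rw [eidx] at ih'
        have hmono : Nat.card (Φ ⊓ L (i + p) : Subgroup X) ≤
            Nat.card (Φ ⊓ L (i + p - 1) : Subgroup X) :=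
          Subgroup.card_le_of_le (inf_le_inf_left Φ (hanti (by omega)))
        by_cases hex : ∃ g ∈ (K ⊓ L i : Subgroup X), g ∉ L (i + 1)
        · obtain ⟨g, hg, hg'⟩ := hex
          have hgK : g ∈ K := hg.1
          have hgL : g ∈ L i := hg.2
          have m1 : g ^ p ∈ Φ := hpowΦ g hgK
          have m2 : g ^ p ∈ L (i + p - 1) := hP1 i hi g hgL
          have m3 : g ^ p ∉ L (i + p) := hP2 i hi (by omega) g hgL hg'
          have hlt : (Φ ⊓ L (i + p) : Subgroup X) < Φ ⊓ L (i + p - 1) := by
            refine lt_of_le_of_ne (inf_le_inf_left Φ (hanti (by omega))) ?_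
            intro heq
            have : g ^ p ∈ (Φ ⊓ L (i + p) : Subgroup X) := by
              rw [heq]; exact ⟨m1, m2⟩
            exact m3 this.2
          have c2 := mul_card_le_of_lt hXp hlt
          have c1 := card_inf_mul_le K (L i) (L (i + 1)) (hanti (by omega))
          have hLi : Nat.card (L i) = p * Nat.card (L (i + 1)) := by
            rw [hcard i hi (by omega), hcard (i + 1) (by omega) (by omega), ← pow_succ']
            congr 1
            omega
          rw [hLi] at c1
          have hpos : 0 < Nat.card (L (i + 1)) := Nat.card_pos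
          have c1' : Nat.card (K ⊓ L i : Subgroup X) ≤
              p * Nat.card (K ⊓ L (i + 1) : Subgroup X) := by
            have : Nat.card (K ⊓ L i : Subgroup X) * Nat.card (L (i + 1)) ≤
                (p * Nat.card (K ⊓ L (i + 1) : Subgroup X)) * Nat.card (L (i + 1)) := by
              calc _ ≤ p * Nat.card (L (i + 1)) * Nat.card (K ⊓ L (i + 1) : Subgroup X) := c1
                _ = _ := by ring
            exact Nat.le_of_mul_le_mul_right this hpos
          calc Nat.card (K ⊓ L i : Subgroup X)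
              ≤ p * Nat.card (K ⊓ L (i + 1) : Subgroup X) := c1'
            _ ≤ p * (p ^ (p - 1) * Nat.card (Φ ⊓ L (i + p) : Subgroup X)) :=
                Nat.mul_le_mul_left _ ih'
            _ = p ^ (p - 1) * (p * Nat.card (Φ ⊓ L (i + p) : Subgroup X)) := by ring
            _ ≤ p ^ (p - 1) * Nat.card (Φ ⊓ L (i + p - 1) : Subgroup X) :=
                Nat.mul_le_mul_left _ c2
        · push Not at hex
          have hle : (K ⊓ L i : Subgroup X) ≤ K ⊓ L (i + 1) := by
            intro g hg
            exact ⟨hg.1, hex g hg⟩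
          calc Nat.card (K ⊓ L i : Subgroup X)
              ≤ Nat.card (K ⊓ L (i + 1) : Subgroup X) := Subgroup.card_le_of_le hle
            _ ≤ p ^ (p - 1) * Nat.card (Φ ⊓ L (i + p) : Subgroup X) := ih'
            _ ≤ p ^ (p - 1) * Nat.card (Φ ⊓ L (i + p - 1) : Subgroup X) :=
                Nat.mul_le_mul_left _ hmono
  intro i hi
  exact key n i hi (by omega)

end Cfsg.Agent.Helper10.Pearl3
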