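import Mathlib
import Cfsg.Agent.Helper10.PearlPower
import Cfsg.Agent.Helper23.PearlR1
import Cfsg.Agent.Helper18.PearlR2

/-!
A finite `p`-group with a uniform element (`|C(s)| = p^2`, order at least `p^3`) has maximal class
and all its subgroups are generated by at most `p` elements; helper10.
-/

set_option autoImplicit false

namespace Cfsg.Agent.Helper10.Pearl

open Cfsg.Agent.Helper18.Pearl Cfsg.Agent.Helper23.Pearl

variable {X : Type*} [Group X] [Finite X] {p : ℕ} [Fact p.Prime] {n : ℕ}

theorem uniform_main (hX : Nat.card X = p ^ n) (hn : 3 ≤ n) (s : X)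
    (hs : Nat.card (Subgroup.centralizer ({s} : Set X)) = p ^ 2) :
    Subgroup.lowerCentralSeries (⊤ : Subgroup X) (n - 2) ≠ ⊥ ∧
      ∀ H : Subgroup X, ∃ T : Finset X, T.card ≤ p ∧ Subgroup.closure (T : Set X) = H := by
  have hp : p.Prime := Fact.out
  have hcard := card_lcs_of_uniform hX hn s hs
  refine ⟨?_, ?_⟩
  · intro hbot
    have h1 := hcard (n - 2) (by omega) (by omega)
    rw [hbot, Subgroup.card_bot] at h1
    have e : n - 1 - (n - 2) = 1 := by omega
    rw [e, pow_one] at h1
    exact hp.one_lt.ne h1
  · have hfr := card_le_frattini_of_power_structure hX hn hcard (pow_mem_lcs hX hn s hs)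
      (pow_not_mem_lcs hX hn s hs)
    exact exists_finset_closure_eq_of_power_structure hX hn hcard hfr

end Cfsg.Agent.Helper10.Pearl
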