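import Mathlib
import Cfsg.Agent.Helper10.Pearl3Defs
import Cfsg.Agent.Helper10.Pearl3R
import Cfsg.Agent.Helper10.PearlMain
import Cfsg.Agent.Helper26.Pearl3B
import Cfsg.Agent.Helper20.Pearl3E
import Cfsg.Agent.Helper10.Pearl3C
import Cfsg.Agent.Helper10.Pearl3D
import Cfsg.Agent.Helper18.Pearl3A1
import Cfsg.Agent.Helper18.Pearl3A4
import Cfsg.Agent.Helper26.Pearl3G

/-!
A `3`-group of order at least `81` with a uniform element either has all subgroups `2`-generated or
is isomorphic to a Sylow `3`-subgroup of `Sym(9)`; helper10.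
-/

set_option autoImplicit false

namespace Cfsg.Agent.Helper10.Pearl3

open Cfsg.Agent.Helper10.Pearl Cfsg.Agent.Helper18.Pearl
open Cfsg.Agent.Helper18.Pearl3 Cfsg.Agent.Helper26.Pearl3 Cfsg.Agent.Helper20.Pearl3

variable {X : Type*} [Group X] [Finite X] {n : ℕ}

theorem main_ge_four [Fact (Nat.Prime 3)] (hX : Nat.card X = 3 ^ n) (hn : 4 ≤ n) (s : X)
    (hs : Nat.card (Subgroup.centralizer ({s} : Set X)) = 3 ^ 2) :
    (∀ H : Subgroup X, ∃ T : Finset X, T.card ≤ 2 ∧ Subgroup.closure (T : Set X) = H) ∨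
      ∃ W : Sylow 3 (Equiv.Perm (Fin 9)),
        Nonempty (X ≃* ↥(W : Subgroup (Equiv.Perm (Fin 9)))) := by
  by_cases hall : ∀ H : Subgroup X, ∃ T : Finset X, T.card ≤ 2 ∧ Subgroup.closure (T : Set X) = H
  · exact Or.inl hall
  · right
    push Not at hall
    obtain ⟨H, hH⟩ := hall
    have hH' : ¬ ∃ T : Finset X, T.card ≤ 2 ∧ Subgroup.closure (T : Set X) = H := by
      rintro ⟨T, hT, hcl⟩
      exact hH T hT hcl
    have hXp : IsPGroup 3 X := IsPGroup.of_card hX
    -- `H ≤ Γ₁`
    have hHG : H ≤ gammaOne X := by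
      intro y hyH
      by_contra hy
      have hcy := card_centralizer_of_not_mem_gammaOne hX hn s hs y hy
      exact hH' (two_generated_of_uniform_mem hXp H y hyH hcy)
    have hn3 : 3 ≤ n := by omega
    have hcard := card_lcs_of_uniform hX hn3 s hs
    by_cases h5 : 5 ≤ n
    · exfalso
      apply hH'
      have hR : ∀ K Φ : Subgroup X, (∀ g ∈ K, g ^ 3 ∈ Φ) → ∀ i, 1 ≤ i →
          Nat.card (K ⊓ Subgroup.lowerCentralSeries (⊤ : Subgroup X) i : Subgroup X) ≤
            3 ^ 2 * Nat.card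
              (Φ ⊓ Subgroup.lowerCentralSeries (⊤ : Subgroup X) (i + 2) : Subgroup X) := by
        intro K Φ hK i hi
        exact card_inf_le_of_power_structure hX hn3 hcard (pow_mem_lcs hX hn3 s hs)
          (pow_not_mem_lcs hX hn3 s hs) K Φ hK i hi
      exact two_generated_of_le_gammaOne hX h5 hcard (lcs_one_le_twoStep 1 le_rfl)
        (index_twoStep hX hn3 s hs 1 le_rfl (by omega)).2
        (fun t ht ht1 => cube_of_gammaOne hX h5 s hs t ht ht1) hR H hHG
    · have hn4 : n = 4 := by omega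
      subst hn4
      obtain ⟨B, hB, hcore⟩ := exists_core_free_of_not_two_generated hX s hs H hHG hH'
      exact exists_sylow_iso_of_core_free (by rw [hX]; norm_num) B hB hcore

end Cfsg.Agent.Helper10.Pearl3
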