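import Mathlib
import Cfsg.Prelude.Def_FusionSystem
import Cfsg.Agent.Helper25.OliverB

/-!
An abelian pearl (essential subgroup of order `p^2`) contains a uniform element, helper10.
-/

set_option autoImplicit false

namespace Cfsg.Agent.Helper10.Pearl

open Cfsg Cfsg.FusionSystem

/-- A proper self-centralizing subgroup of order `p^2` of a finite `p`-group is the centralizer of
one of its elements. -/
theorem exists_centralizer_eq_of_card_sq {X : Type*} [Group X] [Finite X] {p : ℕ} [Fact p.Prime]
    (hX : IsPGroup p X) (A : Subgroup X) (hA : Nat.card A = p ^ 2)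
    (hC : Subgroup.centralizer (A : Set X) ≤ A) (hne : A ≠ ⊤) :
    ∃ s ∈ A, Subgroup.centralizer ({s} : Set X) = A := by
  have hp : p.Prime := Fact.out
  have hcomm : ∀ a b : A, a * b = b * a := by
    have := IsPGroup.isMulCommutative_of_card_eq_prime_sq hA
    exact fun a b => this.is_comm.comm a b
  have hAle : A ≤ Subgroup.centralizer (A : Set X) := by
    intro a ha
    rw [Subgroup.mem_centralizer_iff]
    intro b hb
    have := hcomm ⟨b, hb⟩ ⟨a, ha⟩
    exact congrArg Subtype.val this
  have hZA : Subgroup.center X ≤ A := fun z hz => hC (Subgroup.center_le_centralizer _ hz)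
  have hZne : Subgroup.center X ≠ A := by
    intro h
    apply hne
    rw [eq_top_iff]
    intro x _
    apply hC
    rw [Subgroup.mem_centralizer_iff]
    intro a ha
    have : a ∈ Subgroup.center X := h ▸ ha
    exact (Subgroup.mem_center_iff.mp this x).symm
  obtain ⟨s, hsA, hsZ⟩ : ∃ s ∈ A, s ∉ Subgroup.center X := by
    by_contra hcon
    push Not at hcon
    exact hZne (le_antisymm hZA hcon)
  refine ⟨s, hsA, le_antisymm ?_ ?_⟩
  · -- `C(s) ≤ A`
    have hnt : Nontrivial X := by
      by_contra h
      rw [not_nontrivial_iff_subsingleton] at h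
      exact hsZ (by rw [Subsingleton.elim s 1]; exact Subgroup.one_mem _)
    have hZnt : Subgroup.center X ≠ ⊥ := (hX.bot_lt_center).ne'
    set B := Subgroup.zpowers s ⊔ Subgroup.center X with hB
    have hBA : B ≤ A := sup_le (Subgroup.zpowers_le.mpr hsA) hZA
    have hBeq : B = A := by
      by_contra hBne
      have hdvd : Nat.card B ∣ p ^ 2 := hA ▸ Subgroup.card_dvd_of_le hBA
      obtain ⟨m, hm, hBm⟩ := (Nat.dvd_prime_pow hp).mp hdvd
      have hm1 : m ≤ 1 := by
        by_contra hcon
        have hm2 : m = 2 := by omega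
        apply hBne
        apply Subgroup.eq_of_le_of_card_ge hBA
        rw [hA, hBm, hm2]
      have hZB : Subgroup.center X ≤ B := le_sup_right
      have hZdvd : Nat.card (Subgroup.center X) ∣ Nat.card B := Subgroup.card_dvd_of_le hZB
      rw [hBm] at hZdvd
      obtain ⟨m', hm', hZm⟩ := (Nat.dvd_prime_pow hp).mp hZdvd
      have hm'0 : m' ≠ 0 := by
        intro h0
        rw [h0, pow_zero] at hZm
        exact hZnt (Subgroup.card_eq_one.mp hZm)
      have hmm : m' = m := by omega
      have hZeqB : Subgroup.center X = B := by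
        apply Subgroup.eq_of_le_of_card_ge hZB
        rw [hZm, hBm, hmm]
      apply hsZ
      rw [hZeqB]
      exact (le_sup_left : Subgroup.zpowers s ≤ B) (Subgroup.mem_zpowers s)
    intro x hx
    apply hC
    rw [Subgroup.mem_centralizer_iff]
    intro a ha
    -- `a ∈ B`, and `B ≤ C(x)`
    have hle : B ≤ Subgroup.centralizer ({x} : Set X) := by
      refine sup_le ?_ ?_
      · rw [Subgroup.zpowers_le]
        rw [Subgroup.mem_centralizer_iff] at hx ⊢
        intro y hy
        rw [Set.mem_singleton_iff] at hy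
        subst hy
        exact (hx s rfl).symm
      · exact Subgroup.center_le_centralizer _
    have haB : a ∈ B := hBeq ▸ ha
    have := hle haB
    rw [Subgroup.mem_centralizer_iff] at this
    exact (this x rfl).symm
  · intro a ha
    rw [Subgroup.mem_centralizer_iff]
    intro y hy
    rw [Set.mem_singleton_iff] at hy
    subst hy
    exact congrArg Subtype.val (hcomm ⟨y, hsA⟩ ⟨a, ha⟩)

variable {Ω : Type*} [Group Ω] {S : Subgroup Ω} [Finite S]

/-- FA: an abelian pearl gives a uniform element. -/
theorem exists_uniform_of_pearl_abelian (p : ℕ) [Fact p.Prime] (hS : IsPGroup p S)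
    (F : Cfsg.FusionSystem S) (hF : F.IsSaturated p) (E : Subgroup Ω) (hE : F.IsEssential p E)
    (hcard : Nat.card E = p ^ 2) :
    ∃ s : ↥S, Nat.card (Subgroup.centralizer ({s} : Set ↥S)) = p ^ 2 := by
  have hES : E ≤ S := hE.1.1
  have hC : centralizerIn S E ≤ E := hE.1.2 E (Cfsg.Agent.Helper25.isConj_refl F hES)
  have hne : E ≠ S := Cfsg.Agent.Helper25.Oliver.ne_of_isEssential p hS F hF hE
  have hA : Nat.card (E.subgroupOf S) = p ^ 2 := by
    rw [← hcard]
    exact Nat.card_congr (Subgroup.subgroupOfEquivOfLe hES).toEquiv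
  have hCA : Subgroup.centralizer ((E.subgroupOf S : Subgroup ↥S) : Set ↥S) ≤ E.subgroupOf S := by
    intro x hx
    rw [Subgroup.mem_subgroupOf]
    apply hC
    refine ⟨x.2, ?_⟩
    show (x : Ω) ∈ Subgroup.centralizer (E : Set Ω)
    rw [Subgroup.mem_centralizer_iff]
    intro e he
    rw [Subgroup.mem_centralizer_iff] at hx
    have := hx ⟨e, hES he⟩ (by
      show (⟨e, hES he⟩ : ↥S) ∈ E.subgroupOf S
      rw [Subgroup.mem_subgroupOf]
      exact he)
    exact congrArg Subtype.val this
  have hneT : E.subgroupOf S ≠ ⊤ := by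
    intro h
    apply hne
    exact le_antisymm hES (Subgroup.subgroupOf_eq_top.mp h)
  obtain ⟨s, -, hs⟩ := exists_centralizer_eq_of_card_sq hS (E.subgroupOf S) hA hCA hneT
  exact ⟨s, by rw [hs]; exact hA⟩

end Cfsg.Agent.Helper10.Pearl
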