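import Mathlib
import Cfsg.Prelude.Def_Transfer

set_option autoImplicit false

namespace Cfsg.Agent.Helper10

open Cfsg

universe u

section
variable {X : Type u} [Group X]
  (hel2 : ∀ a ∈ commutator X, a ^ 2 = 1) (hcen : commutator X ≤ Subgroup.center X)
include hel2 hcen

theorem comm_data (x y : X) :
    ∃ c : X, (∀ g : X, c * g = g * c) ∧ c * c = 1 ∧ y * x = c * (x * y) := by
  refine ⟨y * x * y⁻¹ * x⁻¹, ?_, ?_, by group⟩
  · intro g
    have hmem : y * x * y⁻¹ * x⁻¹ ∈ commutator X := by
      rw [commutator_def]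
      exact Subgroup.commutator_mem_commutator (Subgroup.mem_top y) (Subgroup.mem_top x)
    exact ((Subgroup.mem_center_iff.1 (hcen hmem)) g).symm
  · have hmem : y * x * y⁻¹ * x⁻¹ ∈ commutator X := by
      rw [commutator_def]
      exact Subgroup.commutator_mem_commutator (Subgroup.mem_top y) (Subgroup.mem_top x)
    have := hel2 _ hmem
    rwa [pow_two] at this

theorem sq_central (x y : X) : y * (x * x) = (x * x) * y := by
  obtain ⟨c, hc, hcc, hyx⟩ := comm_data hel2 hcen x y
  calc y * (x * x) = (y * x) * x := by group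
    _ = c * (x * y) * x := by rw [hyx]
    _ = c * x * (y * x) := by group
    _ = c * x * (c * (x * y)) := by rw [hyx]
    _ = c * (x * c) * (x * y) := by group
    _ = c * (c * x) * (x * y) := by rw [hc x]
    _ = (c * c) * (x * x * y) := by group
    _ = x * x * y := by rw [hcc, one_mul]

theorem mul_pow_four (x y : X) : (x * y) ^ 4 = x ^ 4 * y ^ 4 := by
  obtain ⟨c, hc, hcc, hyx⟩ := comm_data hel2 hcen x y
  have hsq : (x * y) * (x * y) = c * ((x * x) * (y * y)) := by
    calc (x * y) * (x * y) = x * (y * x) * y := by group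
      _ = x * (c * (x * y)) * y := by rw [hyx]
      _ = (x * c) * (x * y) * y := by group
      _ = (c * x) * (x * y) * y := by rw [hc x]
      _ = c * ((x * x) * (y * y)) := by group
  have hxx := sq_central hel2 hcen x
  have e4 : ∀ z : X, z ^ 4 = (z * z) * (z * z) := by
    intro z; simp [pow_succ, mul_assoc]
  rw [e4, e4 x, e4 y, hsq]
  calc c * (x * x * (y * y)) * (c * (x * x * (y * y)))
      = c * ((x * x * (y * y)) * c) * (x * x * (y * y)) := by group
    _ = c * (c * (x * x * (y * y))) * (x * x * (y * y)) := by rw [← hc (x * x * (y * y))]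
    _ = (c * c) * ((x * x) * ((y * y) * (x * x)) * (y * y)) := by group
    _ = (c * c) * ((x * x) * ((x * x) * (y * y)) * (y * y)) := by rw [hxx (y * y)]
    _ = x * x * (x * x) * (y * y * (y * y)) := by rw [hcc]; group

/-- the fourth power homomorphism -/
def pow4Hom : X →* X where
  toFun x := x ^ 4
  map_one' := one_pow 4
  map_mul' x y := mul_pow_four hel2 hcen x y

theorem pow4Hom_apply (x : X) : pow4Hom hel2 hcen x = x ^ 4 := rfl

theorem closure_pow_four : ∀ x ∈ Subgroup.closure {g : X | g ^ 4 = 1}, x ^ 4 = 1 := by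
  intro x hx
  have hle : Subgroup.closure {g : X | g ^ 4 = 1} ≤ (pow4Hom hel2 hcen).ker := by
    rw [Subgroup.closure_le]
    intro g hg
    exact hg
  exact hle hx

end


/-- restriction of an automorphism to an invariant subgroup -/
def restrictAut {X : Type u} [Group X] (φ : MulAut X) (Y : Subgroup X) (h1 : ∀ y ∈ Y, φ y ∈ Y)
    (h2 : ∀ y ∈ Y, φ.symm y ∈ Y) : MulAut ↥Y where
  toFun y := ⟨φ y, h1 y y.2⟩
  invFun y := ⟨φ.symm y, h2 y y.2⟩
  left_inv y := by apply Subtype.ext; simp
  right_inv y := by apply Subtype.ext; simp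
  map_mul' a b := by apply Subtype.ext; simp

theorem restrictAut_pow_apply {X : Type u} [Group X] (φ : MulAut X) (Y : Subgroup X) (h1 : ∀ y ∈ Y, φ y ∈ Y)
    (h2 : ∀ y ∈ Y, φ.symm y ∈ Y) (n : ℕ) (y : ↥Y) :
    (((restrictAut φ Y h1 h2) ^ n) y : X) = (φ ^ n) (y : X) := by
  induction n generalizing y with
  | zero => simp
  | succ n ih =>
    rw [pow_succ, pow_succ, MulAut.mul_apply, MulAut.mul_apply, ih]
    rfl

theorem aut_pow_fix {X : Type u} [Group X] (φ : MulAut X) (d : X) (h : φ d = d) (n : ℕ) : (φ ^ n) d = d := by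
  induction n with
  | zero => simp
  | succ n ih => rw [pow_succ, MulAut.mul_apply, h, ih]

theorem aut_two_power_aux : ∀ (n : ℕ) (X : Type u) [Group X] [Finite X], Nat.card X = n → IsPGroup 2 X →
    (∀ a ∈ commutator X, a ^ 2 = 1) → commutator X ≤ Subgroup.center X →
    ∀ φ : MulAut X, (∀ g : X, g ^ 4 = 1 → φ g = g) → ∃ k : ℕ, φ ^ (2 ^ k) = 1 := by
  intro n
  induction n using Nat.strong_induction_on with
  | _ n ih =>
  intro X _ _ hcard hX hel2 hcen φ hφ
  by_cases htriv : Subsingleton X
  · refine ⟨0, ?_⟩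
    ext x
    exact Subsingleton.elim _ _
  have hnt : Nontrivial X := not_subsingleton_iff_nontrivial.1 htriv
  -- the image of the fourth power map
  set f := pow4Hom hel2 hcen with hf
  set Y : Subgroup X := f.range with hY
  have hYlt : Nat.card ↥Y < n := by
    rw [← hcard]
    by_contra hcon
    have htop : Y = ⊤ := Subgroup.eq_top_of_le_card Y (not_lt.1 hcon)
    have hsurj : Function.Surjective f := MonoidHom.range_eq_top.1 htop
    have hinj : Function.Injective f := Finite.injective_iff_surjective.2 hsurj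
    -- but there is an involution
    obtain ⟨m, hm0, hm⟩ := (hX.nontrivial_iff_card).1 hnt
    have hdvd : 2 ∣ Nat.card X := by rw [hm]; exact dvd_pow_self 2 (ne_of_gt hm0)
    obtain ⟨g, hg⟩ := exists_prime_orderOf_dvd_card' 2 hdvd
    have hg1 : g ≠ 1 := by
      intro h; rw [h, orderOf_one] at hg; exact absurd hg (by norm_num)
    apply hg1
    apply hinj
    rw [map_one, pow4Hom_apply]
    have : g ^ 2 = 1 := by rw [← hg]; exact pow_orderOf_eq_one g
    calc g ^ 4 = (g ^ 2) ^ 2 := by rw [← pow_mul]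
      _ = 1 := by rw [this, one_pow]
  have h1 : ∀ y ∈ Y, φ y ∈ Y := by
    rintro _ ⟨x, rfl⟩
    exact ⟨φ x, by rw [pow4Hom_apply, pow4Hom_apply, map_pow]⟩
  have h2 : ∀ y ∈ Y, φ.symm y ∈ Y := by
    rintro _ ⟨x, rfl⟩
    exact ⟨φ.symm x, by rw [pow4Hom_apply, pow4Hom_apply, map_pow]⟩
  set ψ := restrictAut φ Y h1 h2 with hψ
  have hYel : ∀ a ∈ commutator ↥Y, a ^ 2 = 1 := by
    intro a ha
    have hmem : (a : X) ∈ commutator X := by
      have : (a : X) ∈ (commutator ↥Y).map Y.subtype := Subgroup.mem_map_of_mem _ ha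
      rw [Subgroup.map_subtype_commutator] at this
      rw [commutator_def]
      exact Subgroup.commutator_mono le_top le_top this
    apply Subtype.ext
    have := hel2 _ hmem
    simpa using this
  have hYcen : commutator ↥Y ≤ Subgroup.center ↥Y := by
    intro a ha
    have hmem : (a : X) ∈ commutator X := by
      have : (a : X) ∈ (commutator ↥Y).map Y.subtype := Subgroup.mem_map_of_mem _ ha
      rw [Subgroup.map_subtype_commutator] at this
      rw [commutator_def]
      exact Subgroup.commutator_mono le_top le_top this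
    rw [Subgroup.mem_center_iff]
    intro g
    apply Subtype.ext
    have := (Subgroup.mem_center_iff.1 (hcen hmem)) (g : X)
    simpa using this
  obtain ⟨k, hk⟩ := ih (Nat.card ↥Y) hYlt ↥Y rfl (hX.to_subgroup Y) hYel hYcen ψ (by
    intro g hg
    apply Subtype.ext
    show φ (g : X) = g
    apply hφ
    have := congrArg Subtype.val hg
    simpa using this)
  -- θ = φ^(2^k) fixes Y pointwise
  set θ := φ ^ (2 ^ k) with hθ
  have hθY : ∀ y ∈ Y, θ y = y := by
    intro y hy
    have := restrictAut_pow_apply φ Y h1 h2 (2 ^ k) ⟨y, hy⟩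
    rw [← hψ, hk] at this
    simpa using this.symm
  have hθfix : ∀ g : X, g ^ 4 = 1 → θ g = g := fun g hg => aut_pow_fix φ g (hφ g hg) _
  refine ⟨k + 2, ?_⟩
  have e : φ ^ (2 ^ (k + 2)) = θ ^ 4 := by
    rw [hθ, ← pow_mul, pow_add]
    norm_num
  rw [e]
  ext x
  rw [MulAut.one_apply]
  set d := x⁻¹ * θ x with hd
  have hd4 : d ^ 4 = 1 := by
    have h3 : θ (x ^ 4) = x ^ 4 := hθY _ ⟨x, rfl⟩
    have h4 : f d = (f x)⁻¹ * f (θ x) := by rw [hd, map_mul, map_inv]
    rw [pow4Hom_apply, pow4Hom_apply, pow4Hom_apply, ← map_pow, h3] at h4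
    rw [h4]; group
  have hθd : θ d = d := hθfix d hd4
  have hxd : θ x = x * d := by rw [hd]; group
  have hstep : ∀ j : ℕ, (θ ^ j) x = x * d ^ j := by
    intro j
    induction j with
    | zero => simp
    | succ j ihj =>
      rw [pow_succ', MulAut.mul_apply, ihj, map_mul, map_pow, hθd, hxd, pow_succ', mul_assoc]
  rw [hstep 4, hd4, mul_one]

end Cfsg.Agent.Helper10
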