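import Mathlib
import Cfsg.Agent.Helper25.QPDefs2
import Cfsg.Agent.Helper25.QPAct

/-! Board `qp74pieces`, piece CONJ: the conjugate `σ b σ⁻¹`, `σ = 1 + a`, of a member of `Qd`. -/

set_option autoImplicit false

noncomputable section

universe u v

namespace Cfsg.Agent.QP74

open Cfsg Cfsg.Agent.Helper25.QP Cfsg.Agent.Helper25.QuadPair Cfsg.Agent.QPP Polynomial

variable {k : Type u} [Field k] {M : Type v} [AddCommGroup M] [Module k M]

local notation "GLkM" => LinearMap.GeneralLinearGroup k M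

/-- `b' = σ b σ⁻¹` for `σ = 1 + a` (`a² = 0`) -/
def cj (a b : Module.End k M) : Module.End k M := (1 + a) * b * (1 - a)

theorem CONJ_aux_mul1 {a : Module.End k M} (ha : a * a = 0) : (1 - a) * (1 + a) = 1 := by
  have : (1 - a) * (1 + a) = 1 - a * a := by noncomm_ring
  rw [this, ha, sub_zero]

theorem CONJ_aux_mul2 {a : Module.End k M} (ha : a * a = 0) : (1 + a) * (1 - a) = 1 := by
  have : (1 + a) * (1 - a) = 1 - a * a := by noncomm_ring
  rw [this, ha, sub_zero]

/-- `σ = 1 + a` as a linear equivalence -/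
def CONJ_aux_equiv {a : Module.End k M} (ha : a * a = 0) : M ≃ₗ[k] M :=
  LinearEquiv.ofLinearMap (1 + a) (1 - a) (CONJ_aux_mul2 ha) (CONJ_aux_mul1 ha)

theorem CONJ_aux_range {a b : Module.End k M} (ha : a * a = 0) :
    LinearMap.range (cj a b) = (LinearMap.range b).map (CONJ_aux_equiv ha : M →ₗ[k] M) := by
  ext m
  constructor
  · rintro ⟨w, rfl⟩
    refine ⟨b ((1 - a) w), ⟨_, rfl⟩, ?_⟩
    rfl
  · rintro ⟨u, ⟨w, rfl⟩, rfl⟩
    refine ⟨(1 + a) w, ?_⟩
    show (1 + a) (b ((1 - a) ((1 + a) w))) = (1 + a) (b w)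
    have : (1 - a) ((1 + a) w) = w := by
      have h := congrArg (fun f : Module.End k M => f w) (CONJ_aux_mul1 ha)
      simpa [Module.End.mul_apply] using h
    rw [this]

theorem CONJ [FiniteDimensional k M] {G : Subgroup GLkM} {d : ℕ} {a b : Module.End k M}
    (ha : QFam G a) (hb : Qd G d b) : Qd G d (cj a b) := by
  have haa := ha.sq
  refine ⟨?_, ?_⟩
  · have hin : InG G (1 - a) := by
      have := ha.2 (-1)
      have e : (1 + (-1 : k) • a : Module.End k M) = 1 - a := by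
        rw [neg_smul, one_smul, sub_eq_add_neg]
      rwa [e] at this
    exact hb.1.conj hin (CONJ_aux_mul1 haa) (CONJ_aux_mul2 haa)
  · rw [CONJ_aux_range haa]
    rw [← hb.2]
    exact LinearEquiv.finrank_map_eq (CONJ_aux_equiv haa) (LinearMap.range b)

theorem CONJ_back {a b : Module.End k M} (ha : a * a = 0) : cj (-a) (cj a b) = b := by
  unfold cj
  have h1 := CONJ_aux_mul1 ha
  have e1 : (1 + -a : Module.End k M) = 1 - a := by rw [sub_eq_add_neg]
  have e2 : (1 - -a : Module.End k M) = 1 + a := by rw [sub_neg_eq_add]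
  rw [e1, e2]
  calc (1 - a) * ((1 + a) * b * (1 - a)) * (1 + a)
      = ((1 - a) * (1 + a)) * b * ((1 - a) * (1 + a)) := by simp only [mul_assoc]
    _ = b := by rw [h1, one_mul, mul_one]

/-- `range (σ b σ⁻¹) = σ (range b)` and `ker (σ b σ⁻¹) = σ (ker b)`, elementwise forms -/
theorem CONJ_range {a b : Module.End k M} (ha : a * a = 0) (m : M) :
    m ∈ LinearMap.range (cj a b) ↔ ∃ u ∈ LinearMap.range b, m = u + a u := by
  rw [CONJ_aux_range ha]
  constructor
  · rintro ⟨u, hu, rfl⟩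
    exact ⟨u, hu, rfl⟩
  · rintro ⟨u, hu, rfl⟩
    exact ⟨u, hu, rfl⟩

theorem CONJ_ker {a b : Module.End k M} (ha : a * a = 0) (m : M) :
    m ∈ LinearMap.ker (cj a b) ↔ b (m - a m) = 0 := by
  rw [LinearMap.mem_ker]
  have e : cj a b m = (CONJ_aux_equiv ha) (b (m - a m)) := rfl
  rw [e]
  exact (CONJ_aux_equiv ha).map_eq_zero_iff

end Cfsg.Agent.QP74
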