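import Mathlib

/-!
# qppieces SEC, step (iii): from the two additive groups `X`, `Y` of root elements to `IsField R`
-/

set_option autoImplicit false

namespace Cfsg.Agent.QPP

/-- SEC step (iii): `X ⊇ k` and `Y ∋ lam, -1` additive subgroups of `R = k[lam]`, stable under
multiplication by squares of elements of `X`, the nonzero elements of `X` units, `X → R/I` onto the
image of `Y` and `Y → R/I` injective: then `R` is a field. -/
theorem SEC_aux_iii {k : Type*} [Field k] (hk2 : ringChar k ≠ 2) {R : Type*} [CommRing R]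
    [Nontrivial R] [Algebra k R] (lam : R) (hgen : Algebra.adjoin k ({lam} : Set R) = ⊤)
    (X Y : AddSubgroup R) (I : Ideal R)
    (hkX : ∀ c : k, algebraMap k R c ∈ X) (hlamY : lam ∈ Y)
    (hunit : ∀ x ∈ X, x ≠ 0 → IsUnit x)
    (hXX : ∀ x ∈ X, ∀ t ∈ X, x ^ 2 * t ∈ X) (hXY : ∀ x ∈ X, ∀ y ∈ Y, x ^ 2 * y ∈ Y)
    (hneg : (-1 : R) ∈ Y)
    (hsurj : ∀ y ∈ Y, ∃ x ∈ X, x - y ∈ I) (hinj : ∀ y ∈ Y, y ∈ I → y = 0) :
    IsField R := by
  have h2 : (2 : k) ≠ 0 := Ring.two_ne_zero hk2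
  have h1X : (1 : R) ∈ X := by simpa using hkX 1
  -- polarisation: 2 x w ∈ Z for x ∈ X, w ∈ Z, for Z = X or Y
  have hpol : ∀ Z : AddSubgroup R, (∀ x ∈ X, ∀ w ∈ Z, x ^ 2 * w ∈ Z) →
      ∀ x ∈ X, ∀ w ∈ Z, 2 * x * w ∈ Z := by
    intro Z hZ x hx w hw
    have e : 2 * x * w = (x + 1) ^ 2 * w - x ^ 2 * w - (1 : R) ^ 2 * w := by ring
    rw [e]
    exact Z.sub_mem (Z.sub_mem (hZ _ (X.add_mem hx h1X) w hw) (hZ x hx w hw)) (hZ 1 h1X w hw)
  -- scalars
  have hsmul : ∀ Z : AddSubgroup R, (∀ x ∈ X, ∀ w ∈ Z, x ^ 2 * w ∈ Z) →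
      ∀ c : k, ∀ w ∈ Z, algebraMap k R c * w ∈ Z := by
    intro Z hZ c w hw
    have := hpol Z hZ (algebraMap k R (c / 2)) (hkX _) w hw
    have e : 2 * algebraMap k R (c / 2) = algebraMap k R c := by
      have : (2 : R) = algebraMap k R 2 := (map_ofNat (algebraMap k R) 2).symm
      rw [this, ← map_mul]
      congr 1
      field_simp
    rwa [e] at this
  have hmul : ∀ Z : AddSubgroup R, (∀ x ∈ X, ∀ w ∈ Z, x ^ 2 * w ∈ Z) →
      ∀ x ∈ X, ∀ w ∈ Z, x * w ∈ Z := by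
    intro Z hZ x hx w hw
    have h1 := hpol Z hZ x hx w hw
    have h3 := hsmul Z hZ (1 / 2) _ h1
    have e : algebraMap k R (1 / 2) * (2 * x * w) = x * w := by
      have : (2 : R) = algebraMap k R 2 := (map_ofNat (algebraMap k R) 2).symm
      rw [this, ← mul_assoc, ← mul_assoc, ← map_mul]
      have : (1 / 2 : k) * 2 = 1 := by field_simp
      rw [this, map_one, one_mul]
    rwa [e] at h3
  -- X ⊆ Y
  have hXleY : ∀ x ∈ X, x ∈ Y := by
    intro x hx
    have := hmul Y hXY x hx (-1) hneg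
    have h' : -(x * -1) ∈ Y := Y.neg_mem this
    simpa using h'
  -- Y ⊆ X
  have hYleX : ∀ y ∈ Y, y ∈ X := by
    intro y hy
    obtain ⟨x, hx, hxy⟩ := hsurj y hy
    have : x - y = 0 := hinj _ (Y.sub_mem (hXleY x hx) hy) hxy
    have : x = y := sub_eq_zero.mp this
    rwa [← this]
  have hlamX : lam ∈ X := hYleX lam hlamY
  -- X as a subalgebra
  let S : Subalgebra k R :=
    { carrier := (X : Set R)
      mul_mem' := fun {a b} ha hb => hmul X hXX a ha b hb
      one_mem' := h1X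
      add_mem' := fun {a b} ha hb => X.add_mem ha hb
      zero_mem' := X.zero_mem
      algebraMap_mem' := hkX }
  have hS : S = ⊤ := by
    apply top_le_iff.mp
    rw [← hgen]
    apply Algebra.adjoin_le
    intro r hr
    rw [Set.mem_singleton_iff] at hr
    rw [hr]
    exact hlamX
  have hall : ∀ r : R, r ∈ X := by
    intro r
    have : r ∈ S := by rw [hS]; exact Algebra.mem_top
    exact this
  refine ⟨exists_pair_ne R, mul_comm, ?_⟩
  intro a ha
  obtain ⟨u, hu⟩ := hunit a (hall a) ha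
  exact ⟨((u⁻¹ : Rˣ) : R), by rw [← hu]; exact u.mul_inv⟩

end Cfsg.Agent.QPP
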