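import Mathlib
import Cfsg.Agent.S2762
import Cfsg.Agent.S2763
import Cfsg.Agent.S3074
import Cfsg.Agent.Helper15.CharP
import Cfsg.Agent.Helper14.PCore
import Cfsg.Agent.Helper10.KInfStab4

set_option autoImplicit false
set_option linter.unusedSectionVars false
set_option linter.unusedVariables false
set_option linter.style.haveILetI false

/-! # In `Qd(p)` the lower K-infinity subgroup does not control strong fusion -/

namespace Cfsg.Agent.Helper10

open Subgroup Cfsg
open scoped commutatorElement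

universe u

variable {p : ℕ} [Fact p.Prime]

/-- for a group of class at most two, `K_∞(P) = P` -/
theorem kInfLower_eq_top_of_classTwo {P : Type u} [Group P]
    (h : ⁅(⊤ : Subgroup P), (⊤ : Subgroup P)⁆ ≤ Subgroup.center P) : kInfLower P = ⊤ := by
  have hc : (Subgroup.centralizer (((⊤ : Subgroup P) : Subgroup P) : Set P)) = Subgroup.center P := by
    rw [Subgroup.coe_top, Subgroup.centralizer_univ]
  have hmem : (⊤ : Subgroup P) ∈ kLowerStarFamily (kSeqOdd P 0) := by
    refine ⟨?_, ?_, ?_⟩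
    · show ⁅(⊤ : Subgroup P), (⊤ : Subgroup P)⁆ ≤ Subgroup.centralizer (((⊤ : Subgroup P) : Subgroup P) : Set P)
      rw [hc]; exact h
    · rw [Subgroup.normalizer_eq_top]; exact le_top
    · intro A _ _ _ _ _
      rw [hc, top_inf_eq]
      exact (Subgroup.commutator_mono le_rfl le_top).trans h
  have h0 : kSeqEven P 0 = ⊤ := top_le_iff.1 (le_sSup hmem)
  rw [eq_top_iff, ← h0]
  exact le_iSup (fun n => kSeqEven P n) 0

/-- if `K_∞(T) = T` and `N(K_∞(T))` controls strong fusion in a group with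
`C(O_p) ≤ O_p`, then `T` is normal -/
theorem normalizer_eq_top_of_controls {Q : Type u} [Group Q] [Finite Q] (T : Sylow p Q)
    (hK : kInfLower ↥(T : Subgroup Q) = ⊤)
    (hC : Subgroup.centralizer ((Cfsg.pCore p Q : Subgroup Q) : Set Q) ≤ Cfsg.pCore p Q)
    (h : Cfsg.ControlsStrongFusion p (Cfsg.inducedFunctor kInfLower (T : Subgroup Q))) :
    Subgroup.normalizer ((T : Subgroup Q) : Set Q) = ⊤ := by
  have hU : Cfsg.inducedFunctor kInfLower (T : Subgroup Q) = (T : Subgroup Q) := by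
    unfold Cfsg.inducedFunctor
    rw [hK, ← MonoidHom.range_eq_map, Subgroup.range_subtype]
  rw [hU] at h
  obtain ⟨T₁, hle, hctl⟩ := h
  have hT₁ : (T₁ : Subgroup Q) = (T : Subgroup Q) := T.is_maximal' T₁.isPGroup' hle
  rw [eq_top_iff]
  intro g _
  have hVT : (Cfsg.pCore p Q : Subgroup Q) ≤ (T₁ : Subgroup Q) := Cfsg.Agent.Helper14.pCore_le_sylow p T₁
  have hVn : (Cfsg.pCore p Q : Subgroup Q).Normal := Cfsg.Agent.Helper14.pCore_normal p
  obtain ⟨_, hA⟩ := hctl ((Cfsg.pCore p Q : Subgroup Q) : Set Q) (fun a ha => hVT ha)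
  obtain ⟨x, hx, hxa⟩ := hA g (by
    rintro _ ⟨a, ha, rfl⟩
    exact hVT (hVn.conj_mem a ha g))
  have hc : x⁻¹ * g ∈ Subgroup.centralizer ((Cfsg.pCore p Q : Subgroup Q) : Set Q) := by
    rw [Subgroup.mem_centralizer_iff]
    intro a ha
    have := hxa a ha
    have h2 : x⁻¹ * (g * a * g⁻¹) * x = a := by rw [this]; group
    calc a * (x⁻¹ * g) = (x⁻¹ * (g * a * g⁻¹) * x) * (x⁻¹ * g) := by rw [h2]
      _ = x⁻¹ * g * a := by group
  have h3 : x⁻¹ * g ∈ (T : Subgroup Q) := hT₁ ▸ hVT (hC hc)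
  have h4 : x⁻¹ * g ∈ Subgroup.normalizer ((T : Subgroup Q) : Set Q) := Subgroup.le_normalizer h3
  have : g = x * (x⁻¹ * g) := by group
  rw [this]
  exact Subgroup.mul_mem _ hx h4

/-- a group which is the product of a normal subgroup `V` and a copy `K` of `SL₂(F)` acting on `V` as on
its natural module has `C(V) ≤ V` -/
theorem centralizer_le_of_naturalSL2 {G : Type*} [Group G] [Finite G] {F : Type*} [Field F] [Finite F]
    (V K : Subgroup G) [hV : V.Normal] (hKV : K ⊔ V = ⊤)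
    (hiso : Nonempty (↥K ≃* Matrix.SpecialLinearGroup (Fin 2) F))
    (hnat : Cfsg.IsNaturalSL2Module F V K) : Subgroup.centralizer (V : Set G) ≤ V := by
  obtain ⟨_, ρ, ψ, hsurj, hker, _⟩ := hnat
  obtain ⟨e⟩ := hiso
  have hcomm : ∀ v ∈ V, ∀ w ∈ V, v * w = w * v := by
    intro v hv w hw
    have h1 : ψ (Additive.ofMul (⟨v, hv⟩ * ⟨w, hw⟩ : ↥V)) = ψ (Additive.ofMul (⟨w, hw⟩ * ⟨v, hv⟩ : ↥V)) := by
      rw [ofMul_mul, ofMul_mul, map_add, map_add, add_comm]
    have h2 := Additive.ofMul.injective (ψ.injective h1)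
    exact congrArg Subtype.val h2
  have hinj : Function.Injective ρ := (Finite.injective_iff_surjective_of_equiv e.toEquiv).2 hsurj
  have hker' : ρ.ker = ⊥ := (MonoidHom.ker_eq_bot_iff ρ).2 hinj
  intro c hc
  have hc' : c ∈ ((K ⊔ V : Subgroup G) : Set G) := by rw [hKV]; exact Set.mem_univ c
  rw [Subgroup.mul_normal] at hc'
  obtain ⟨k, hk, v, hv, rfl⟩ := Set.mem_mul.1 hc'
  have hvc : v ∈ Subgroup.centralizer (V : Set G) := by
    rw [Subgroup.mem_centralizer_iff]
    intro w hw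
    exact hcomm w hw v hv
  have hkc : k ∈ Subgroup.centralizer (V : Set G) := by
    have := Subgroup.mul_mem _ hc (Subgroup.inv_mem _ hvc)
    simpa using this
  have hk1 : (⟨k, hk⟩ : ↥K) ∈ ρ.ker := by
    rw [hker, Subgroup.mem_subgroupOf]; exact hkc
  rw [hker', Subgroup.mem_bot] at hk1
  have : k = 1 := congrArg Subtype.val hk1
  rw [this, one_mul]; exact hv

/-- `C(O_p) ≤ O_p` in `Qd(p)` -/
theorem qd_centralizer_pCore_le (p : ℕ) [Fact p.Prime] :
    Subgroup.centralizer ((Cfsg.pCore p ↥(Cfsg.qd p) : Subgroup ↥(Cfsg.qd p)) : Set ↥(Cfsg.qd p))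
      ≤ Cfsg.pCore p ↥(Cfsg.qd p) := by
  obtain ⟨_, K, _, _, hsup, hiso, hnat⟩ := Cfsg.Agent.S2762.result (F := ZMod p) (p := p)
  haveI : (Cfsg.pCore p ↥(Cfsg.qdOver (ZMod p))).Normal := Cfsg.Agent.Helper14.pCore_normal p
  exact centralizer_le_of_naturalSL2 (F := ZMod p) (Cfsg.pCore p ↥(Cfsg.qdOver (ZMod p))) K hsup hiso hnat

/-- in a group isomorphic to `Qd(p)`, `p` odd, the lower K-infinity subgroup of a Sylow `p`-subgroup
does not control strong fusion -/
theorem not_controls_of_equiv_qd (hp : p ≠ 2) {Q : Type u} [Group Q] [Finite Q] (e : Q ≃* ↥(Cfsg.qd p))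
    (T : Sylow p Q) :
    ¬ Cfsg.ControlsStrongFusion p (Cfsg.inducedFunctor kInfLower (T : Subgroup Q)) := by
  intro h
  -- the image of `T` in `Qd(p)`
  let T' : Sylow p ↥(Cfsg.qd p) :=
    T.comapOfInjective e.symm.toMonoidHom e.symm.injective
      (by rw [MonoidHom.range_eq_top.2 e.symm.surjective]; exact le_top)
  have hT' : (T' : Subgroup ↥(Cfsg.qd p)) = (T : Subgroup Q).comap e.symm.toMonoidHom := rfl
  have hT'map : (T' : Subgroup ↥(Cfsg.qd p)) = (T : Subgroup Q).map e.toMonoidHom := by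
    rw [hT']
    exact (Subgroup.map_equiv_eq_comap_symm e (T : Subgroup Q)).symm
  -- `T ≃ T'`
  let eT : ↥(T : Subgroup Q) ≃* ↥(T' : Subgroup ↥(Cfsg.qd p)) :=
    (e.subgroupMap (T : Subgroup Q)).trans (MulEquiv.subgroupCongr hT'map.symm)
  obtain ⟨⟨⟨_, _, hcomm⟩, _⟩, _, _⟩ := Cfsg.Agent.S3074.result p hp T'
  have hcl' : ⁅(⊤ : Subgroup ↥(T' : Subgroup ↥(Cfsg.qd p))), (⊤ : Subgroup ↥(T' : Subgroup ↥(Cfsg.qd p)))⁆
      ≤ Subgroup.center ↥(T' : Subgroup ↥(Cfsg.qd p)) := by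
    rw [← commutator_def]
    exact le_of_eq hcomm
  have hcl : ⁅(⊤ : Subgroup ↥(T : Subgroup Q)), (⊤ : Subgroup ↥(T : Subgroup Q))⁆
      ≤ Subgroup.center ↥(T : Subgroup Q) := by
    rw [Subgroup.commutator_le]
    intro x _ y _
    rw [Subgroup.mem_center_iff]
    intro z
    apply eT.injective
    have hmem : ⁅eT x, eT y⁆ ∈ Subgroup.center ↥(T' : Subgroup ↥(Cfsg.qd p)) :=
      hcl' (Subgroup.commutator_mem_commutator (Subgroup.mem_top _) (Subgroup.mem_top _))
    have := Subgroup.mem_center_iff.1 hmem (eT z)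
    rw [map_mul, map_mul, map_commutatorElement]
    exact this
  have hK : kInfLower ↥(T : Subgroup Q) = ⊤ := kInfLower_eq_top_of_classTwo hcl
  have hC : Subgroup.centralizer ((Cfsg.pCore p Q : Subgroup Q) : Set Q) ≤ Cfsg.pCore p Q :=
    Cfsg.Agent.Helper15.charP_of_mulEquiv p e.symm (qd_centralizer_pCore_le p)
  have hN := normalizer_eq_top_of_controls T hK hC h
  -- transport normality to `Qd(p)`
  have hN' : Subgroup.normalizer ((T' : Subgroup ↥(Cfsg.qd p)) : Set ↥(Cfsg.qd p)) = ⊤ := by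
    rw [eq_top_iff]
    intro g _
    rw [Subgroup.mem_normalizer_iff]
    intro x
    have hg : e.symm g ∈ Subgroup.normalizer ((T : Subgroup Q) : Set Q) := by rw [hN]; exact Subgroup.mem_top _
    rw [Subgroup.mem_normalizer_iff] at hg
    rw [hT', Subgroup.mem_comap, Subgroup.mem_comap]
    have := hg (e.symm x)
    simpa using this
  have h1 : (⊤ : Subgroup ↥(T' : Subgroup ↥(Cfsg.qd p))) ≠ ⊥ := by
    intro hbot
    -- `T'` is nontrivial since it has order `p ^ 3`
    obtain ⟨_, hcard, _⟩ := Cfsg.Agent.S3074.result p hp T'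
    have : Nat.card ↥(T' : Subgroup ↥(Cfsg.qd p)) = 1 := by
      rw [← Subgroup.card_top (G := ↥(T' : Subgroup ↥(Cfsg.qd p))), hbot, Subgroup.card_bot]
    rw [this] at hcard
    have hp1 : 1 < p := (Fact.out : p.Prime).one_lt
    have : 1 < p ^ 3 := Nat.one_lt_pow (by norm_num) hp1
    omega
  exact (Cfsg.Agent.S2763.result T' ⊤ h1 inferInstance).2 hN'

end Cfsg.Agent.Helper10
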