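import Mathlib
import Cfsg.Agent.Helper25.FusionNormal
import Cfsg.Agent.Helper25.OliverD
import Cfsg.Agent.Helper26.OL8
import Cfsg.Agent.Helper26.FusionChainLocal
import Cfsg.Agent.S5187
import Cfsg.Agent.Helper11.R2AB

set_option autoImplicit false
set_option linter.unusedVariables false
set_option linter.unusedSectionVars false

/-! Rank two `p`-groups are resistant (`p ≥ 5`): general fusion-system lemmas. -/

namespace Cfsg.Agent.Helper10.R2Fus

open Cfsg Cfsg.FusionSystem Cfsg.Agent.Helper25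

variable {Ω : Type*} [Group Ω] {S : Subgroup Ω}

/-- no essential subgroups: `S` is normal in `F` -/
theorem isNormal_of_no_essential [Finite S] (p : ℕ) [Fact p.Prime] (hS : IsPGroup p S)
    (F : FusionSystem S) (hF : F.IsSaturated p) (h : ∀ P : Subgroup Ω, ¬ F.IsEssential p P) :
    F.IsNormal S := by
  apply isNormal_of_alperin p hS F hF S
  rintro P (rfl | hP)
  · refine ⟨le_rfl, fun α _ => ?_⟩
    rw [Subgroup.subgroupOf_self]
    exact Subgroup.map_top_of_surjective _ α.surjective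
  · exact absurd hP (h P)

theorem stronglyClosed_self (F : FusionSystem S) : F.StronglyClosed S :=
  ⟨le_rfl, fun R _ φ hφ x => (F.le_of_mem hφ).2 x⟩

/-- the elements of order dividing `p` of an abelian subgroup -/
def omegaSub (p : ℕ) (E : Subgroup Ω) (hE : ∀ a ∈ E, ∀ b ∈ E, a * b = b * a) : Subgroup Ω where
  carrier := {x | x ∈ E ∧ x ^ p = 1}
  one_mem' := ⟨E.one_mem, one_pow p⟩
  mul_mem' := by
    rintro a b ⟨ha, ha1⟩ ⟨hb, hb1⟩
    refine ⟨E.mul_mem ha hb, ?_⟩
    have hc : Commute a b := hE a ha b hb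
    rw [hc.mul_pow, ha1, hb1, one_mul]
  inv_mem' := by
    rintro a ⟨ha, ha1⟩
    exact ⟨E.inv_mem ha, by rw [inv_pow, ha1, inv_one]⟩

/-- abelian subgroups of a group of `p`-rank two have Frattini quotient of order at most `p²` -/
theorem frattini_index_le [Finite S] (p : ℕ) [Fact p.Prime] (hS : IsPGroup p S)
    (hrank3 : ∀ E : Subgroup Ω, E ≤ S → Cfsg.IsElementaryAbelian p E → Nat.card E ≤ p ^ 2)
    (E : Subgroup Ω) (hES : E ≤ S) (hE : ∀ a ∈ E, ∀ b ∈ E, a * b = b * a) :
    (frattini ↥E).index ≤ p ^ 2 := by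
  have hfinE : Finite E := finite_of_le hES
  have hEp : IsPGroup p E := hS.to_le hES
  have h1 := Cfsg.Agent.Helper11.R2AB.frattini_index_le_of_abelian (G := ↥E) hEp
    (fun a b => Subtype.ext (hE a a.2 b b.2))
  refine h1.trans ?_
  have hle : omegaSub p E hE ≤ S := fun x hx => hES hx.1
  have h2 := hrank3 (omegaSub p E hE) hle ⟨⟨⟨fun a b => Subtype.ext (hE a a.2.1 b b.2.1)⟩⟩,
    fun a ha => ha.2⟩
  refine le_trans ?_ h2
  have hfinO : Finite (omegaSub p E hE) := finite_of_le hle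
  apply Nat.card_le_card_of_injective
    (fun x : {x : ↥E // x ^ p = 1} => (⟨(x.1 : Ω), ⟨x.1.2, by
      have := congrArg Subtype.val x.2
      simpa using this⟩⟩ : omegaSub p E hE))
  intro a b hab
  apply Subtype.ext
  apply Subtype.ext
  exact congrArg (fun t : omegaSub p E hE => (t : Ω)) hab

/-- abelian essential subgroups of a group of `p`-rank two, `p ≥ 5`, have order `p²` -/
theorem card_of_abelian_essential [Finite S] (p : ℕ) [Fact p.Prime] (hp : 5 ≤ p)
    (hS : IsPGroup p S) (F : FusionSystem S) (hF : F.IsSaturated p)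
    (hrank3 : ∀ E : Subgroup Ω, E ≤ S → Cfsg.IsElementaryAbelian p E → Nat.card E ≤ p ^ 2)
    (E : Subgroup Ω) (hEe : F.IsEssential p E) (hE : ∀ a ∈ E, ∀ b ∈ E, a * b = b * a) :
    Cfsg.IsElementaryAbelian p E ∧ Nat.card E = p ^ 2 := by
  have hES : E ≤ S := hEe.2.1.1
  have hfr := frattini_index_le p hS hrank3 E hES hE
  rcases Cfsg.Agent.S5187.result p hS F hF E hEe
    ⟨⟨fun a b => Subtype.ext (hE a a.2 b b.2)⟩⟩ hfr with h | ⟨h3, -⟩
  · exact h
  · omega

end Cfsg.Agent.Helper10.R2Fus
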