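import Mathlib
import Cfsg.Agent.Helper10.R2FusA
import Cfsg.Agent.Helper4.R2U

set_option autoImplicit false
set_option linter.unusedVariables false
set_option linter.unusedSectionVars false

/-! Rank two `p`-groups are resistant (`p ≥ 5`): the final contradiction. -/

namespace Cfsg.Agent.Helper10.R2Fus

open Cfsg Cfsg.FusionSystem Cfsg.Agent.Helper25 Cfsg.Agent.Helper26

variable {Ω : Type*} [Group Ω] {S : Subgroup Ω}

theorem pdvd_of_zpow_mem [Finite S] {p : ℕ} [Fact p.Prime] {A : Subgroup Ω} (hH : OL.Hyp p S A)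
    {w : Ω} (hw : w ∈ S) (hwA : w ∉ A) (m : ℤ) (hm : w ^ m ∈ A) : (p : ℤ) ∣ m := by
  by_contra hnd
  have hp := (Fact.out : p.Prime)
  have hc : IsCoprime (p : ℤ) m := (Nat.prime_iff_prime_int.mp hp).coprime_iff_not_dvd.mpr hnd
  obtain ⟨a, b, hab⟩ := hc
  apply hwA
  have : w = (w ^ p) ^ a * (w ^ m) ^ b := by
    rw [← zpow_natCast, ← zpow_mul, ← zpow_mul, ← zpow_add, mul_comm (p : ℤ) a, mul_comm m b, hab,
      zpow_one]
  rw [this]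
  exact A.mul_mem (A.zpow_mem (hH.pow_mem hw) a) (A.zpow_mem hm b)

theorem tail [Finite S] (p : ℕ) [Fact p.Prime] (hp : 5 ≤ p) {A : Subgroup Ω} (hH : OL.Hyp p S A)
    (F : FusionSystem S) (hF : F.IsSaturated p)
    (haut : ∀ γ : MulAut S, ∃ k : ℕ, k ^ 2 ≡ 1 [MOD p] ∧
      ∀ g : S, (((g ^ k)⁻¹ * γ g : S) : Ω) ∈ A)
    (E : Subgroup Ω) (hE : F.IsEssential p E)
    (hmax : ∀ P : Subgroup Ω, F.IsEssential p P → Nat.card P ≤ Nat.card E)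
    (h' : MulAut E) (hh' : h' ∈ F.autGroup E)
    (hnorm : ∀ t ∈ autInducedBy S E, h' * t * h'⁻¹ ∈ autInducedBy S E)
    (w : E) (hwA : (w : Ω) ∉ A) (hw2 : ((w : Ω) ^ 2)⁻¹ * ((h' w : E) : Ω) ∈ A) : False := by
  have hS := hH.hS
  have hFN := hE.2.1
  have hES : E ≤ S := hFN.1
  have hEne : E ≠ S := Oliver.ne_of_isEssential p hS F hF hE
  obtain ⟨Q, hEQ, hQS, hlt, ψ, hψ, hψh⟩ :=
    OL.exists_extension_of_normalizing p hS F hF hFN hEne hh' hnorm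
  obtain ⟨γ, hγ, hγψ⟩ :=
    Cfsg.Agent.Helper4.R2U.exists_aut_of_card_gt p hS F hF (Nat.card E) hmax Q hQS ψ hψ hlt
  obtain ⟨k, hk, hkA⟩ := haut γ
  have hwS : (w : Ω) ∈ S := hES w.2
  have h1 := hkA ⟨w, hwS⟩
  have h2 : ((γ ⟨w, hwS⟩ : S) : Ω) = ((h' w : E) : Ω) := by
    rw [← hγψ ⟨w, hEQ w.2⟩]
    exact hψh w w.2 (hEQ w.2)
  rw [Subgroup.coe_mul, Subgroup.coe_inv, Subgroup.coe_pow, h2] at h1
  have h3 : (w : Ω) ^ ((2 : ℤ) - k) ∈ A := by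
    have h4 := A.mul_mem hw2 (A.inv_mem h1)
    have e : ((w : Ω) ^ 2)⁻¹ * ((h' w : E) : Ω) * (((w : Ω) ^ k)⁻¹ * ((h' w : E) : Ω))⁻¹ =
        ((w : Ω) ^ ((2 : ℤ) - k))⁻¹ := by
      rw [zpow_sub, zpow_natCast, zpow_ofNat]
      group
    rw [e] at h4
    exact (A.inv_mem_iff).mp h4
  have h4 := pdvd_of_zpow_mem hH hwS hwA _ h3
  have h5 : (p : ℤ) ∣ 1 - ((k ^ 2 : ℕ) : ℤ) := (Nat.modEq_iff_dvd.mp hk)
  have h6 : (p : ℤ) ∣ 3 := by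
    have h7 : (3 : ℤ) = ((2 : ℤ) - k) * (2 + k) - (1 - ((k ^ 2 : ℕ) : ℤ)) := by
      push_cast
      ring
    rw [h7]
    exact dvd_sub (Dvd.dvd.mul_right h4 _) h5
  have h8 := Int.le_of_dvd (by norm_num) h6
  omega

end Cfsg.Agent.Helper10.R2Fus
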