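import Mathlib
import Cfsg.Agent.Helper10.R2FusB
import Cfsg.Agent.Helper25.R2TOR

set_option autoImplicit false
set_option linter.unusedVariables false
set_option linter.unusedSectionVars false

/-! Rank two `p`-groups are resistant (`p ≥ 5`): essential subgroups `Z(S)⟨x⟩`. -/

namespace Cfsg.Agent.Helper10.R2Fus

open Cfsg Cfsg.FusionSystem Cfsg.Agent.Helper25 Cfsg.Agent.Helper26 Cfsg.Agent.Helper26.ZI

variable {Ω : Type*} [Group Ω] {S : Subgroup Ω}

theorem htype [Finite S] (p : ℕ) [Fact p.Prime] (hp : 5 ≤ p) {A : Subgroup Ω}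
    (hH : OL.Hyp p S A) (F : FusionSystem S) (hF : F.IsSaturated p)
    (hrank3 : ∀ E : Subgroup Ω, E ≤ S → Cfsg.IsElementaryAbelian p E → Nat.card E ≤ p ^ 2)
    {x : Ω} (hx : x ∈ S) (hxA : x ∉ A) (hess : F.IsEssential p (OL.PP S x)) :
    ∃ h' ∈ F.autGroup (OL.PP S x),
      (∀ t ∈ autInducedBy S (OL.PP S x), h' * t * h'⁻¹ ∈ autInducedBy S (OL.PP S x)) ∧
      ∃ w : ↥(OL.PP S x), (w : Ω) ∉ A ∧ ((w : Ω) ^ 2)⁻¹ * ((h' w : ↥(OL.PP S x)) : Ω) ∈ A := by
  have hS := hH.hS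
  have hpp := (Fact.out : p.Prime)
  haveI := OL.finite_PP (S := S) hx
  have hA := OL.hPc (S := S) hx
  have hcard := (card_of_abelian_essential p hp hS F hF hrank3 _ hess (OL.PP_comm hx)).2
  have hcardZ : Nat.card (OL.ZZ S) = p := by
    have h1 := hH.card_PP hx hxA
    rw [hcard, pow_two] at h1
    exact (Nat.eq_of_mul_eq_mul_left hpp.pos h1).symm
  obtain ⟨g, hg, hgZ⟩ := OL.exists_moving hH F hF hx hxA hess
  obtain ⟨-, R, hR⟩ := (Cfsg.Agent.S5077.sylow_axiom p hS F hF _ hess.2.1).2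
  obtain ⟨u, huT, hu1, -⟩ := OL.exists_T_ne_one hH hx hxA
  obtain ⟨h, hh, hnorm, hsq⟩ := Cfsg.Agent.Helper25.R2TOR.torus_normalizing
    (E := ↥(OL.PP S x)) hp ⊥ (OL.Zs S x) bot_le
    (by rw [Subgroup.index_bot, hcard])
    (by rw [Subgroup.relIndex_bot_left, OL.card_Zs, hcardZ])
    (F.autGroup (OL.PP S x)) (autInducedBy S (OL.PP S x))
    (autInducedBy_le_autGroup F (OL.PP_le hx)) R hR
    (by
      intro τ hτ y
      have h1 := OL.T_delta hH hx hxA hτ y
      rw [delta_apply] at h1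
      exact OL.Z0_le S h1)
    (by
      refine ⟨u, huT, ?_⟩
      by_contra hall
      push Not at hall
      apply hu1
      apply MulEquiv.ext
      intro y
      have h1 := hall y
      rw [Subgroup.mem_bot, inv_mul_eq_one] at h1
      exact h1.symm)
    (by
      refine ⟨g, hg, ?_⟩
      by_contra hall
      push Not at hall
      apply hgZ
      rintro _ ⟨l, hl, rfl⟩
      exact hall l hl)
  refine ⟨h, hh, hnorm, OL.xh S x, hxA, ?_⟩
  have h1 := hsq (OL.xh S x)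
  exact hH.ZZ_le_A h1

end Cfsg.Agent.Helper10.R2Fus
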