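import Mathlib
import Cfsg.Agent.Helper10.R2FusB
import Cfsg.Agent.Helper25.R2TOR

set_option autoImplicit false
set_option linter.unusedVariables false
set_option linter.unusedSectionVars false
set_option linter.style.haveILetI false

/-! Rank two `p`-groups are resistant (`p ≥ 5`): essential subgroups `Z₂(S)⟨x⟩`. -/

namespace Cfsg.Agent.Helper10.R2Fus

open Cfsg Cfsg.FusionSystem Cfsg.Agent.Helper25 Cfsg.Agent.Helper26
open scoped commutatorElement

variable {Ω : Type*} [Group Ω] {S : Subgroup Ω}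

/-- the four step chain -/
def chain4 {P : Type*} [Group P] (X Y : Subgroup P) : ℕ → Subgroup P
  | 0 => ⊥
  | 1 => X
  | 2 => Y
  | _ => ⊤

theorem chain4_mono {P : Type*} [Group P] {X Y : Subgroup P} (h : X ≤ Y) :
    Monotone (chain4 X Y) := by
  apply monotone_nat_of_le_succ
  intro n
  match n with
  | 0 => exact bot_le
  | 1 => exact h
  | 2 => exact le_top
  | (k + 3) => exact le_top

set_option maxHeartbeats 1600000 in
theorem btype [Finite S] (p : ℕ) [Fact p.Prime] (hp : 5 ≤ p) {A : Subgroup Ω}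
    (hH : OL.Hyp p S A) (F : FusionSystem S) (hF : F.IsSaturated p)
    (hcl3 : ∀ a b : S, ((⁅a, b⁆ : S) : Ω) ∈ Oliver.W2 S)
    (E : Subgroup Ω) (hess : F.IsEssential p E) {x : Ω} (hxE : x ∈ E) (hxA : x ∉ A)
    (hWA : Oliver.W2 S ≤ A) (hEW : E = Oliver.W2 S ⊔ Subgroup.zpowers x)
    (hZW : (Oliver.ZS S).relIndex (Oliver.W2 S ⊓ A) = p) :
    ∃ h' ∈ F.autGroup E,
      (∀ t ∈ autInducedBy S E, h' * t * h'⁻¹ ∈ autInducedBy S E) ∧
      ∃ w : ↥E, (w : Ω) ∉ A ∧ ((w : Ω) ^ 2)⁻¹ * ((h' w : ↥E) : Ω) ∈ A := by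
  have hS := hH.hS
  have hpp := (Fact.out : p.Prime)
  have hAS := hH.hAS
  have hAc := hH.hAc
  have hAi : A.relIndex S = p := hH.hidx
  have hES : E ≤ S := hess.2.1.1
  have hEne : E ≠ S := Oliver.ne_of_isEssential p hS F hF hess
  haveI hfinE : Finite E := finite_of_le hES
  have hxS : x ∈ S := hES hxE
  have hWE : Oliver.W2 S ≤ E := by rw [hEW]; exact le_sup_left
  have hWS : Oliver.W2 S ≤ S := hWE.trans hES
  have hZcomm : ∀ z ∈ Oliver.ZS S, ∀ s ∈ S, s * z = z * s := fun z hz s hs =>
    (Oliver.mem_ZS.mp hz).2 s hs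
  have hZW' : Oliver.ZS S ≤ Oliver.W2 S := by
    intro z hz
    rw [Oliver.mem_W2]
    refine ⟨(Oliver.mem_ZS.mp hz).1, fun t ht => ?_⟩
    have : t⁻¹ * (z * t * z⁻¹) = 1 := by
      rw [← hZcomm z hz t ht, mul_inv_cancel_right, inv_mul_cancel]
    rw [this]
    exact Subgroup.one_mem _
  -- commutators
  have hcomm : ∀ e ∈ S, ∀ s ∈ S, e⁻¹ * (s * e * s⁻¹) ∈ Oliver.W2 S := by
    intro e he s hs
    have h1 := hcl3 ⟨e⁻¹, S.inv_mem he⟩ ⟨s, hs⟩
    rw [commutatorElement_def] at h1
    simp only [Subgroup.coe_mul, Subgroup.coe_inv, inv_inv] at h1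
    have e1 : e⁻¹ * (s * e * s⁻¹) = e⁻¹ * s * e * s⁻¹ := by group
    rw [e1]
    exact h1
  have hcomm' : ∀ s ∈ S, ∀ e ∈ S, s * e * s⁻¹ * e⁻¹ ∈ Oliver.W2 S := by
    intro s hs e he
    have h1 := hcl3 ⟨s, hs⟩ ⟨e, he⟩
    rw [commutatorElement_def] at h1
    simpa only [Subgroup.coe_mul, Subgroup.coe_inv] using h1
  -- `E` is normal in `S`
  have hEN : S ≤ Subgroup.normalizer (E : Set Ω) := by
    apply MaxClassEss.le_normalizer_of_conj_mem
    intro s hs e he
    have h1 := hWE (hcomm e (hES he) s hs)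
    have h2 := E.mul_mem he h1
    rwa [mul_inv_cancel_left] at h2
  -- the centre of `E`
  have hcen : ∀ u : ↥E, u ∈ Subgroup.center ↥E ↔ (u : Ω) ∈ Oliver.ZS S := by
    intro u
    constructor
    · intro hu
      rw [Subgroup.mem_center_iff] at hu
      by_cases huA : (u : Ω) ∈ A
      · apply Oliver.mem_ZS_of_comm hpp hAS hAi hAc hxS hxA huA
        have := hu ⟨x, hxE⟩
        exact (congrArg Subtype.val this).symm
      · exfalso
        have hle : Oliver.W2 S ≤ Oliver.ZS S := by
          intro q hq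
          apply Oliver.mem_ZS_of_comm hpp hAS hAi hAc (hES u.2) huA (hWA hq)
          have := hu ⟨q, hWE hq⟩
          exact congrArg Subtype.val this
        have h1 : (Oliver.ZS S).relIndex (Oliver.W2 S ⊓ A) = 1 :=
          Subgroup.relIndex_eq_one.mpr (inf_le_left.trans hle)
        rw [hZW] at h1
        exact hpp.one_lt.ne' h1
    · intro hu
      rw [Subgroup.mem_center_iff]
      intro g
      exact Subtype.ext (hZcomm _ hu _ (hES g.2))
  have hcenEq : Subgroup.center ↥E = (Oliver.ZS S).subgroupOf E := by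
    ext u
    rw [hcen u, Subgroup.mem_subgroupOf]
  -- normality of `W2` in `E`
  haveI hLn : ((Oliver.W2 S).subgroupOf E).Normal := by
    constructor
    intro n hn g
    rw [Subgroup.mem_subgroupOf] at hn ⊢
    have h1 := hcomm' g (hES g.2) n (hES n.2)
    have h2 := (Oliver.W2 S).mul_mem h1 hn
    simp only [Subgroup.coe_mul, Subgroup.coe_inv]
    rwa [inv_mul_cancel_right] at h2
  -- indices
  have hidxW : ((Oliver.W2 S).subgroupOf E).index = p := by
    apply OL.index_eq_of_sup_zpowers (p := p) _ (⟨x, hxE⟩ : ↥E)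
    · intro h1
      exact hxA (hWA h1)
    · show x ^ p ∈ Oliver.W2 S
      exact hZW' (hH.pow_p_mem_ZZ hxS hxA)
    · apply Subgroup.map_injective E.subtype_injective
      rw [Subgroup.map_sup, Subgroup.subgroupOf_map_subtype, MonoidHom.map_zpowers,
        ← MonoidHom.range_eq_map, Subgroup.range_subtype, inf_eq_left.mpr hWE]
      exact hEW.symm
  have hLN : (Subgroup.center ↥E).relIndex ((Oliver.W2 S).subgroupOf E) = p := by
    rw [hcenEq, Subgroup.relIndex_subgroupOf hWE]
    rwa [inf_eq_left.mpr hWA] at hZW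
  have hNL : Subgroup.center ↥E ≤ (Oliver.W2 S).subgroupOf E := by
    rw [hcenEq]
    intro u hu
    exact hZW' hu
  have hENidx : (Subgroup.center ↥E).index = p ^ 2 := by
    rw [← Subgroup.relIndex_mul_index hNL, hLN, hidxW, pow_two]
  obtain ⟨-, R, hR⟩ := (Cfsg.Agent.S5077.sylow_axiom p hS F hF _ hess.2.1).2
  -- an element of `A` outside `W2`
  obtain ⟨a, haA, haW⟩ : ∃ a ∈ A, a ∉ Oliver.W2 S := by
    by_contra hall
    push Not at hall
    apply hEne
    apply le_antisymm hES
    refine (Oliver.le_sup_zpowers hpp hAS hAi hxS hxA).trans ?_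
    rw [hEW]
    exact sup_le_sup_right hall _
  have haN : a ∈ Subgroup.normalizer (E : Set Ω) := hEN (hAS haA)
  obtain ⟨h, hh, hnorm, hsq⟩ := Cfsg.Agent.Helper25.R2TOR.torus_normalizing
    (E := ↥E) hp (Subgroup.center ↥E) ((Oliver.W2 S).subgroupOf E) hNL hENidx hLN
    (F.autGroup E) (autInducedBy S E) (autInducedBy_le_autGroup F hES) R hR
    (by
      intro τ hτ g
      obtain ⟨s, hs, hst⟩ := (mem_autInducedBy_iff S E τ).mp hτ
      rw [Subgroup.mem_subgroupOf]
      simp only [Subgroup.coe_mul, Subgroup.coe_inv]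
      rw [hst]
      exact hcomm _ (hES g.2) s hs)
    (by
      refine ⟨E.normalizerMonoidHom ⟨a, haN⟩,
        (mem_autInducedBy_iff S E _).mpr ⟨a, hAS haA, fun y => rfl⟩, ⟨x, hxE⟩, ?_⟩
      intro h1
      rw [hcen] at h1
      apply haW
      apply Oliver.mem_W2_of_comm hpp hAS hAi hAc hxS hxA haA
      exact h1)
    (by
      by_contra hall
      push Not at hall
      apply hEne
      apply le_antisymm hES
      have hC : centralizerIn S E ≤ E := hess.1.2 E (isConj_refl F hES)
      refine Cfsg.Agent.Helper26.le_of_stabilizes_chain p hS F hES hC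
        (opAutLeInn_of_isEssential F p hess) le_rfl Subgroup.le_normalizer
        (chain4 (Subgroup.center ↥E) ((Oliver.W2 S).subgroupOf E)) rfl (chain4_mono hNL)
        (m := 3) rfl ?_ ?_
      · intro β hβ i y hy
        match i with
        | 0 =>
          have : y = 1 := Subgroup.mem_bot.mp hy
          rw [this, map_one]
          exact Subgroup.one_mem _
        | 1 =>
          show β y ∈ Subgroup.center ↥E
          have hy' : y ∈ Subgroup.center ↥E := hy
          rw [Subgroup.mem_center_iff] at hy' ⊢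
          intro g
          have h1 := hy' (β.symm g)
          have h2 := congrArg β h1
          rw [map_mul, map_mul, MulEquiv.apply_symm_apply] at h2
          exact h2
        | 2 => exact hall β hβ y hy
        | (k + 3) => exact Subgroup.mem_top _
      · intro α hα i y hy
        obtain ⟨s, hs, hst⟩ := (mem_autInducedBy_iff S E α).mp hα
        match i with
        | 0 =>
          have hy' : (y : Ω) ∈ Oliver.ZS S := (hcen y).mp hy
          show α y * y⁻¹ ∈ (⊥ : Subgroup ↥E)
          rw [Subgroup.mem_bot]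
          apply Subtype.ext
          simp only [Subgroup.coe_mul, Subgroup.coe_inv, Subgroup.coe_one]
          rw [hst, hZcomm _ hy' s hs, mul_inv_cancel_right, mul_inv_cancel]
        | 1 =>
          have hy' : (y : Ω) ∈ Oliver.W2 S := hy
          show α y * y⁻¹ ∈ Subgroup.center ↥E
          rw [hcen]
          simp only [Subgroup.coe_mul, Subgroup.coe_inv]
          rw [hst]
          have h1 := (Oliver.mem_W2.mp hy').2 s⁻¹ (S.inv_mem hs)
          rw [inv_inv] at h1
          have e1 : s * (y : Ω) * s⁻¹ * (y : Ω)⁻¹ = s * ((y : Ω) * s⁻¹ * (y : Ω)⁻¹) := by group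
          rw [e1]
          exact h1
        | 2 =>
          show α y * y⁻¹ ∈ (Oliver.W2 S).subgroupOf E
          rw [Subgroup.mem_subgroupOf]
          simp only [Subgroup.coe_mul, Subgroup.coe_inv]
          rw [hst]
          exact hcomm' s hs _ (hES y.2)
        | (k + 3) => exact Subgroup.mem_top _)
  refine ⟨h, hh, hnorm, ⟨x, hxE⟩, hxA, ?_⟩
  have h1 := hsq ⟨x, hxE⟩
  rw [Subgroup.mem_subgroupOf] at h1
  simp only [Subgroup.coe_mul, Subgroup.coe_inv, Subgroup.coe_pow] at h1
  exact hWA h1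

end Cfsg.Agent.Helper10.R2Fus
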