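import Mathlib
import Cfsg.Agent.Helper10.R2FusC
import Cfsg.Agent.Helper10.R2FusD
import Cfsg.Agent.Helper8.R2GA
import Cfsg.Agent.Helper23.R2GAUT

set_option autoImplicit false
set_option linter.unusedVariables false
set_option linter.unusedSectionVars false
set_option linter.style.haveILetI false

/-! Rank two `p`-groups are resistant (`p ≥ 5`): the groups `G(p,n;s)` and `C(p,n)`. -/

namespace Cfsg.Agent.Helper10.R2Fus

open Cfsg Cfsg.FusionSystem Cfsg.Agent.Helper25 Cfsg.Agent.Helper26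
open scoped commutatorElement

variable {Ω : Type*} [Group Ω] {S : Subgroup Ω}

theorem exists_max_essential [Finite S] (p : ℕ) (F : FusionSystem S) (P₀ : Subgroup Ω)
    (hP₀ : F.IsEssential p P₀) :
    ∃ E : Subgroup Ω, F.IsEssential p E ∧
      ∀ P : Subgroup Ω, F.IsEssential p P → Nat.card P ≤ Nat.card E := by
  classical
  set T : Set ℕ := {k | ∃ P : Subgroup Ω, F.IsEssential p P ∧ Nat.card P = k} with hT
  have hne : T.Nonempty := ⟨_, P₀, hP₀, rfl⟩
  have hbdd : BddAbove T := by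
    refine ⟨Nat.card S, ?_⟩
    rintro k ⟨P, hP, rfl⟩
    exact Subgroup.card_le_of_le hP.2.1.1
  obtain ⟨E, hE, hEk⟩ := Nat.sSup_mem hne hbdd
  refine ⟨E, hE, fun P hP => ?_⟩
  rw [hEk]
  exact le_csSup hbdd ⟨P, hP, rfl⟩

set_option maxHeartbeats 1600000 in
theorem gcase [Finite S] (p : ℕ) [Fact p.Prime] (hp : 5 ≤ p) (hS : IsPGroup p S)
    (F : FusionSystem S) (hF : F.IsSaturated p)
    (hrank3 : ∀ E : Subgroup Ω, E ≤ S → Cfsg.IsElementaryAbelian p E → Nat.card E ≤ p ^ 2)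
    (n s : ℕ) (hn : 4 ≤ n) (hs : ¬ p ∣ s) (hcard : Nat.card S = p ^ n) (x y z : S)
    (hgen : Subgroup.closure ({x, y, z} : Set S) = ⊤) (hx : x ^ p = 1) (hy : y ^ p = 1)
    (hz : z ^ p ^ (n - 2) = 1) (hyz : y * z = z * y)
    (hxy : x⁻¹ * y * x = y * z ^ (s * p ^ (n - 3))) (hxz : x⁻¹ * z * x = y * z) :
    F.IsNormal S := by
  have hpp := (Fact.out : p.Prime)
  obtain ⟨hAc0, hAidx0, hxz', hcl⟩ := Cfsg.Agent.Helper8.R2GA.gpns_struct (G := ↥S)
    n s hn hs hcard x y z hgen hx hy hz hyz hxy hxz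
  set A₀ : Subgroup ↥S := Subgroup.closure ({y, z} : Set S) with hA₀
  set A : Subgroup Ω := A₀.map S.subtype with hA
  have hAS : A ≤ S := Subgroup.map_subtype_le A₀
  have hAc : ∀ a ∈ A, ∀ b ∈ A, a * b = b * a := by
    rintro _ ⟨a, ha, rfl⟩ _ ⟨b, hb, rfl⟩
    exact congrArg Subtype.val (hAc0 a ha b hb)
  have hsub : A.subgroupOf S = A₀ :=
    Subgroup.comap_map_eq_self_of_injective (Subgroup.subtype_injective S) A₀
  have hH : OL.Hyp p S A := by
    refine ⟨hS, hAS, hAc, ?_, ⟨x, x.2, z, z.2, ?_⟩⟩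
    · rw [hsub]; exact hAidx0
    · intro h1
      exact hxz' (Subtype.ext h1)
  have hAi : A.relIndex S = p := hH.hidx
  have hna : ¬ ∀ s ∈ S, ∀ t ∈ S, s * t = t * s := by
    intro h1
    exact hxz' (Subtype.ext (h1 x x.2 z z.2))
  have haut : ∀ γ : MulAut S, ∃ k : ℕ, k ^ 2 ≡ 1 [MOD p] ∧
      ∀ g : S, (((g ^ k)⁻¹ * γ g : S) : Ω) ∈ A := by
    intro γ
    obtain ⟨k, hk, hkA⟩ := Cfsg.Agent.Helper23.R2GAUT.gpns_aut (G := ↥S) hp
      n s hn hs hcard x y z hgen hx hy hz hyz hxy hxz γ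
    exact ⟨k, hk, fun g => Subgroup.mem_map_of_mem _ (hkA g)⟩
  have hcl3 : ∀ a b : S, ((⁅a, b⁆ : S) : Ω) ∈ Oliver.W2 S := fun a b =>
    Subgroup.mem_map_of_mem _ (hcl a b)
  have hAne : ¬ F.IsEssential p A := by
    intro hAe
    have h1 := (card_of_abelian_essential p hp hS F hF hrank3 A hAe hAc).2
    rw [hA, Subgroup.card_map_of_injective (Subgroup.subtype_injective S)] at h1
    have h2 := Subgroup.card_mul_index A₀
    rw [hAidx0, h1, hcard, ← pow_succ] at h2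
    have h3 := Nat.pow_right_injective hpp.two_le h2
    omega
  apply isNormal_of_no_essential p hS F hF
  intro P₀ hP₀
  obtain ⟨E, hE, hmax⟩ := exists_max_essential p F P₀ hP₀
  have hEA : E ≠ A := fun h => hAne (h ▸ hE)
  obtain ⟨x₀, hx₀E, hx₀A, hcases, -, hZW⟩ :=
    Oliver.core2 p hS F hF hna A hAS hAc hAi E hE hEA
  have hx₀S : x₀ ∈ S := hE.2.1.1 hx₀E
  rcases hcases with hEq | ⟨hWA, hEq⟩
  · subst hEq
    have hess : F.IsEssential p (OL.PP S x₀) := hE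
    obtain ⟨h', hh', hnorm, w, hwA, hw2⟩ := htype p hp hH F hF hrank3 hx₀S hx₀A hess
    exact tail p hp hH F hF haut (OL.PP S x₀) hess hmax h' hh' hnorm w hwA hw2
  · obtain ⟨h', hh', hnorm, w, hwA, hw2⟩ :=
      btype p hp hH F hF hcl3 E hE hx₀E hx₀A hWA hEq hZW
    exact tail p hp hH F hF haut E hE hmax h' hh' hnorm w hwA hw2

end Cfsg.Agent.Helper10.R2Fus
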