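import Mathlib
import Cfsg.Agent.Helper10.R2FusE
import Cfsg.Agent.Helper24.R2CC

set_option autoImplicit false
set_option linter.unusedVariables false
set_option linter.unusedSectionVars false
set_option linter.style.haveILetI false

/-! Rank two `p`-groups are resistant (`p ≥ 5`): the groups `C(p,n)`. -/

namespace Cfsg.Agent.Helper10.R2Fus

open Cfsg Cfsg.FusionSystem Cfsg.Agent.Helper25 Cfsg.Agent.Helper26

variable {Ω : Type*} [Group Ω] {S : Subgroup Ω}

set_option maxHeartbeats 1600000 in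
theorem ccase [Finite S] (p : ℕ) [Fact p.Prime] (hp : 5 ≤ p) (hS : IsPGroup p S)
    (F : FusionSystem S) (hF : F.IsSaturated p)
    (hrank3 : ∀ E : Subgroup Ω, E ≤ S → Cfsg.IsElementaryAbelian p E → Nat.card E ≤ p ^ 2)
    (hnotE : ¬ (Nat.card S = p ^ 3 ∧ Monoid.exponent ↥S = p))
    (n : ℕ) (hn : 3 ≤ n) (hcard : Nat.card S = p ^ n) (x y z : S)
    (hgen : Subgroup.closure ({x, y, z} : Set S) = ⊤) (hx : x ^ p = 1) (hy : y ^ p = 1)
    (hz : z ^ p ^ (n - 2) = 1) (hxz : x * z = z * x) (hyz : y * z = z * y)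
    (hxy : x⁻¹ * y * x = y * z ^ p ^ (n - 3)) :
    F.IsNormal S := by
  have hpp := (Fact.out : p.Prime)
  by_cases h3 : n = 3
  · subst h3
    exfalso
    apply hnotE
    refine ⟨hcard, Cfsg.Agent.Helper24.R2CC.cpn_exponent (G := ↥S) (by omega) hcard x y z hgen
      hx hy (by simpa using hz) hxz hyz (by simpa using hxy)⟩
  have hn4 : 4 ≤ n := by omega
  apply isNormal_of_no_essential p hS F hF
  intro E hE
  have hidx := Cfsg.Agent.Helper24.R2CC.cpn_center_index (G := ↥S) n hn hcard x y z hgen hx hy hz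
    hxz hyz hxy
  set Zc : Subgroup Ω := (Subgroup.center ↥S).map S.subtype with hZc
  have hZcS : Zc ≤ S := Subgroup.map_subtype_le _
  have hZcomm : ∀ u ∈ Zc, ∀ t ∈ S, t * u = u * t := by
    rintro _ ⟨u, hu, rfl⟩ t ht
    have := (Subgroup.mem_center_iff.mp hu) ⟨t, ht⟩
    exact congrArg Subtype.val this
  have hES : E ≤ S := hE.2.1.1
  have hEne : E ≠ S := Oliver.ne_of_isEssential p hS F hF hE
  have hC : centralizerIn S E ≤ E := hE.1.2 E (isConj_refl F hES)
  haveI hfinE : Finite E := finite_of_le hES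
  have hZE : Zc ≤ E := by
    intro u hu
    apply hC
    refine ⟨hZcS hu, ?_⟩
    show u ∈ Subgroup.centralizer (E : Set Ω)
    rw [Subgroup.mem_centralizer_iff]
    intro e he
    exact hZcomm u hu e (hES he)
  have hcardZ : Nat.card S ≤ Nat.card Zc * p ^ 2 := by
    rw [hZc, Subgroup.card_map_of_injective (Subgroup.subtype_injective S),
      ← Subgroup.card_mul_index (Subgroup.center ↥S)]
    exact Nat.mul_le_mul_left _ hidx
  by_cases hEZ : E ≤ Zc
  · apply hEne
    apply le_antisymm hES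
    intro t ht
    apply hC
    refine ⟨ht, ?_⟩
    show t ∈ Subgroup.centralizer (E : Set Ω)
    rw [Subgroup.mem_centralizer_iff]
    intro e he
    exact (hZcomm e (hEZ he) t ht).symm
  · obtain ⟨a, haE, haZ⟩ := SetLike.not_le_iff_exists.mp hEZ
    set K : Subgroup Ω := Zc ⊔ Subgroup.zpowers a with hK
    have hKE : K ≤ E := sup_le hZE ((Subgroup.zpowers_le).mpr haE)
    have hKS : K ≤ S := hKE.trans hES
    have hKc : ∀ s ∈ K, ∀ t ∈ K, s * t = t * s := by
      apply Oliver.comm_sup_zpowers Zc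
      · intro u hu v hv
        exact (hZcomm v hv u (hZcS hu))
      · intro b hb
        exact (hZcomm b hb a (hES haE)).symm
    have hlt : Zc < K := by
      refine lt_of_le_of_ne le_sup_left ?_
      intro h
      apply haZ
      rw [h]
      exact Subgroup.mem_sup_right (Subgroup.mem_zpowers a)
    have hltE : E < S := lt_of_le_of_ne hES hEne
    have hc1 := card_lt_of_lt hKS hlt
    have hc2 : Nat.card K ≤ Nat.card E := Subgroup.card_le_of_le hKE
    have hc3 := card_lt_of_lt le_rfl hltE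
    haveI : Finite Zc := finite_of_le hZcS
    haveI : Finite K := finite_of_le hKS
    obtain ⟨i, hi⟩ := IsPGroup.iff_card.mp (hS.to_le hZcS)
    obtain ⟨j, hj⟩ := IsPGroup.iff_card.mp (hS.to_le hKS)
    obtain ⟨c, hc⟩ := IsPGroup.iff_card.mp (hS.to_le hES)
    rw [hi, hj] at hc1
    rw [hj, hc] at hc2
    rw [hc, hcard] at hc3
    rw [hcard, hi, ← pow_add] at hcardZ
    have e1 := (Nat.pow_lt_pow_iff_right hpp.one_lt).mp hc1
    have e2 := (Nat.pow_le_pow_iff_right hpp.one_lt).mp hc2
    have e3 := (Nat.pow_lt_pow_iff_right hpp.one_lt).mp hc3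
    have e4 := (Nat.pow_le_pow_iff_right hpp.one_lt).mp hcardZ
    have hjc : j = c := by omega
    have hKeq : K = E := by
      apply Subgroup.eq_of_le_of_card_ge hKE
      rw [hj, hc, hjc]
    have hEc : ∀ s ∈ E, ∀ t ∈ E, s * t = t * s := by
      rw [← hKeq]
      exact hKc
    have h5 := (card_of_abelian_essential p hp hS F hF hrank3 E hE hEc).2
    rw [hc] at h5
    have e5 := Nat.pow_right_injective hpp.two_le h5
    omega

end Cfsg.Agent.Helper10.R2Fus
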