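import Mathlib
import Cfsg.Agent.Helper25.PFour
import Cfsg.Agent.Helper10.PGroupBasic

set_option autoImplicit false
set_option linter.style.haveILetI false

/-! General lemmas for the rank-two chief factor theorem. -/

namespace Cfsg.Agent.Helper10.RankTwo

open Subgroup
open scoped commutatorElement

universe u

variable {G : Type u} [Group G]

/-- The closure of a set of pairwise commuting elements of exponent `p` is commutative of
exponent `p`. -/
theorem closure_elemAb (p : ℕ) (S : Set G) (hcomm : ∀ a ∈ S, ∀ b ∈ S, a * b = b * a)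
    (hexp : ∀ a ∈ S, a ^ p = 1) :
    IsMulCommutative (closure S) ∧ ∀ x ∈ closure S, x ^ p = 1 := by
  have hc : ∀ x ∈ closure S, ∀ y ∈ closure S, x * y = y * x := by
    intro x hx y hy
    have h1 : ∀ y ∈ closure S, ∀ a ∈ S, a * y = y * a := by
      intro y hy a ha
      induction hy using Subgroup.closure_induction with
      | mem b hb => exact hcomm a ha b hb
      | one => simp
      | mul b c _ _ ihb ihc => rw [← mul_assoc, ihb, mul_assoc, ihc, mul_assoc]
      | inv b _ ihb =>
        have : b * a = a * b := ihb.symm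
        calc a * b⁻¹ = b⁻¹ * (b * a) * b⁻¹ := by group
          _ = b⁻¹ * (a * b) * b⁻¹ := by rw [this]
          _ = b⁻¹ * a := by group
    induction hx using Subgroup.closure_induction with
    | mem a ha => exact h1 y hy a ha
    | one => simp
    | mul b c _ _ ihb ihc => rw [mul_assoc, ihc, ← mul_assoc, ihb, mul_assoc]
    | inv b _ ihb =>
      calc b⁻¹ * y = b⁻¹ * (y * b) * b⁻¹ := by group
        _ = b⁻¹ * (b * y) * b⁻¹ := by rw [ihb]
        _ = y * b⁻¹ := by group
  refine ⟨⟨⟨fun a b => Subtype.ext (hc a a.2 b b.2)⟩⟩, ?_⟩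
  intro x hx
  induction hx using Subgroup.closure_induction with
  | mem a ha => exact hexp a ha
  | one => simp
  | mul b c hb hcc ihb ihc =>
    have : Commute b c := hc b hb c hcc
    rw [this.mul_pow, ihb, ihc, mul_one]
  | inv b _ ihb => rw [inv_pow, ihb, inv_one]

variable [Finite G]

theorem card_map_mk_mul (H N : Subgroup G) [H.Normal] (hle : H ≤ N) :
    Nat.card (N.map (QuotientGroup.mk' H)) * Nat.card H = Nat.card N := by
  have h1 : (N.map (QuotientGroup.mk' H)).index = N.index :=
    Subgroup.index_map_eq N (QuotientGroup.mk'_surjective H) (by rw [QuotientGroup.ker_mk']; exact hle)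
  have h2 := (N.map (QuotientGroup.mk' H)).card_mul_index
  have h3 := N.card_mul_index
  have h4 := Subgroup.card_eq_card_quotient_mul_card_subgroup H
  rw [h1] at h2
  have hpos : 0 < N.index := Nat.pos_of_ne_zero (Subgroup.index_ne_zero_of_finite)
  have h5 : Nat.card (N.map (QuotientGroup.mk' H)) * Nat.card H * N.index = Nat.card N * N.index := by
    rw [h3, h4, ← h2]; ring
  exact Nat.eq_of_mul_eq_mul_right hpos h5

theorem card_comap_mk (H : Subgroup G) [H.Normal] (N : Subgroup (G ⧸ H)) :
    Nat.card (N.comap (QuotientGroup.mk' H)) = Nat.card N * Nat.card H := by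
  have hle : H ≤ N.comap (QuotientGroup.mk' H) := by
    intro x hx
    rw [Subgroup.mem_comap, QuotientGroup.mk'_apply, (QuotientGroup.eq_one_iff x).mpr hx]
    exact N.one_mem
  rw [← card_map_mk_mul H _ hle, Subgroup.map_comap_eq_self_of_surjective (QuotientGroup.mk'_surjective H)]

/-- For a subgroup `H`, a finite subgroup `Z` central in `H` and an element `w` all of whose
commutators with `H` lie in `Z`, the centralizer of `w` has relative index at most `|Z|` in `H`. -/
theorem relIndex_centralizer_le (H Z : Subgroup G) (w : G)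
    (hZ : ∀ z ∈ Z, ∀ h ∈ H, h * z = z * h) (hw : ∀ h ∈ H, ⁅w, h⁆ ∈ Z) :
    (Subgroup.centralizer ({w} : Set G)).relIndex H ≤ Nat.card Z := by
  classical
  let θ : ↥H →* ↥Z := MonoidHom.mk' (fun h => ⟨⁅w, (h : G)⁆, hw h h.2⟩) (by
    intro a b
    apply Subtype.ext
    show ⁅w, (a : G) * (b : G)⁆ = ⁅w, (a : G)⁆ * ⁅w, (b : G)⁆
    have hb := hZ _ (hw b b.2) a a.2
    rw [commutatorElement_def] at hb
    simp only [commutatorElement_def]
    calc w * (↑a * ↑b) * w⁻¹ * (↑a * ↑b)⁻¹
        = w * ↑a * w⁻¹ * ((w * ↑b * w⁻¹ * (↑b : G)⁻¹) * (↑a : G)⁻¹) := by group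
      _ = w * ↑a * w⁻¹ * ((↑a : G)⁻¹ * (↑a * (w * ↑b * w⁻¹ * (↑b : G)⁻¹)) * (↑a : G)⁻¹) := by group
      _ = w * ↑a * w⁻¹ * ((↑a : G)⁻¹ * ((w * ↑b * w⁻¹ * (↑b : G)⁻¹) * ↑a) * (↑a : G)⁻¹) := by rw [hb]
      _ = w * ↑a * w⁻¹ * (↑a : G)⁻¹ * (w * ↑b * w⁻¹ * (↑b : G)⁻¹) := by group)
  have hker : θ.ker = (Subgroup.centralizer ({w} : Set G)).subgroupOf H := by
    ext h
    rw [MonoidHom.mem_ker, Subgroup.mem_subgroupOf, Subgroup.mem_centralizer_iff]
    constructor
    · intro hh
      have h1 : ⁅w, (h : G)⁆ = 1 := congrArg Subtype.val hh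
      intro x hx
      rw [Set.mem_singleton_iff] at hx
      subst hx
      rw [commutatorElement_eq_one_iff_mul_comm] at h1
      exact h1
    · intro hh
      apply Subtype.ext
      show ⁅w, (h : G)⁆ = 1
      rw [commutatorElement_eq_one_iff_mul_comm]
      exact hh w rfl
  have h1 : θ.ker.index = Nat.card θ.range := Subgroup.index_ker θ
  have h2 : Nat.card θ.range ≤ Nat.card Z := Nat.card_le_card_of_injective _ Subtype.val_injective
  unfold Subgroup.relIndex
  rw [← hker, h1]
  exact h2

/-- In a finite `p`-group, a normal subgroup `N` of order `p ^ 2` containing a central element `z`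
of order `p` satisfies `[N, P] ≤ ⟨z⟩`. -/
theorem comm_mem_zpowers {P : Type u} [Group P] [Finite P] {p : ℕ} [Fact p.Prime]
    (hP : IsPGroup p P) (N : Subgroup P) [N.Normal] (hN : Nat.card N = p ^ 2) (z : P)
    (hzN : z ∈ N) (hzc : z ∈ Subgroup.center P) (hz : orderOf z = p) :
    ∀ n ∈ N, ∀ h : P, ⁅n, h⁆ ∈ Subgroup.zpowers z := by
  have hp : p.Prime := Fact.out
  haveI hZn : (Subgroup.zpowers z).Normal := by
    constructor
    intro x hx g
    obtain ⟨k, rfl⟩ := Subgroup.mem_zpowers_iff.mp hx
    have : g * z ^ k * g⁻¹ = z ^ k := by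
      have hc0 : Commute g z := Subgroup.mem_center_iff.mp hzc g
      have hc : Commute g (z ^ k) := hc0.zpow_right k
      calc g * z ^ k * g⁻¹ = z ^ k * g * g⁻¹ := by rw [hc.eq]
        _ = z ^ k := by group
    rw [this]; exact hx
  let π := QuotientGroup.mk' (Subgroup.zpowers z)
  have hzle : Subgroup.zpowers z ≤ N := Subgroup.zpowers_le.mpr hzN
  have hcardZ : Nat.card (Subgroup.zpowers z) = p := by rw [Nat.card_zpowers, hz]
  have hcardN : Nat.card (N.map π) = p := by
    have := card_map_mk_mul (Subgroup.zpowers z) N hzle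
    rw [hcardZ, hN, pow_two] at this
    exact Nat.eq_of_mul_eq_mul_right hp.pos this
  haveI : (N.map π).Normal := Subgroup.Normal.map inferInstance π (QuotientGroup.mk'_surjective _)
  have hQ : IsPGroup p (P ⧸ Subgroup.zpowers z) := hP.to_quotient _
  have hne : N.map π ≠ ⊥ := by
    intro h
    rw [h, Subgroup.card_bot] at hcardN
    exact hp.one_lt.ne hcardN
  obtain ⟨y, hyN, hy1, hyc⟩ := exists_ne_one_mem_inf_center hQ (N.map π) hne
  -- `N.map π` has prime order, so it is generated by `y`
  have hgen : N.map π ≤ Subgroup.center (P ⧸ Subgroup.zpowers z) := by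
    have hyle : Subgroup.zpowers y ≤ N.map π := Subgroup.zpowers_le.mpr hyN
    have hyord : orderOf y = p := by
      have hdvd : orderOf y ∣ p := by
        rw [← hcardN]
        have := orderOf_dvd_natCard (⟨y, hyN⟩ : ↥(N.map π))
        rwa [Subgroup.orderOf_mk] at this
      rcases (Nat.dvd_prime hp).mp hdvd with h | h
      · exact absurd (orderOf_eq_one_iff.mp h) hy1
      · exact h
    have heq : Subgroup.zpowers y = N.map π := by
      apply Subgroup.eq_of_le_of_card_ge hyle
      rw [hcardN, Nat.card_zpowers, hyord]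
    rw [← heq]
    exact Subgroup.zpowers_le.mpr hyc
  intro n hn h
  have h1 : π n ∈ Subgroup.center (P ⧸ Subgroup.zpowers z) := hgen (Subgroup.mem_map_of_mem π hn)
  have h2 : π ⁅n, h⁆ = 1 := by
    rw [map_commutatorElement, commutatorElement_eq_one_iff_mul_comm]
    exact (Subgroup.mem_center_iff.mp h1 (π h)).symm
  have h3 : ⁅n, h⁆ ∈ π.ker := h2
  rwa [QuotientGroup.ker_mk'] at h3

end Cfsg.Agent.Helper10.RankTwo
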