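import Mathlib
import Cfsg.Agent.Helper10.RankTwoA

set_option autoImplicit false
set_option linter.style.haveILetI false

/-! Rank-two chief factor theorem: set-up, `zOne`, step 1 and the abelian case. -/

namespace Cfsg.Agent.Helper10.RankTwo

open Subgroup
open scoped commutatorElement

universe u

variable {G : Type u} [Group G]

/-- The configuration: `H/K` is a chief factor of `G` with `H` a `p`-group of rank at most 2. -/
structure Cfg (p : ℕ) (G : Type u) [Group G] (H K : Subgroup G) : Prop where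
  hn : H.Normal
  kn : K.Normal
  le : K ≤ H
  pg : IsPGroup p H
  rank : ∀ A : Subgroup G, A ≤ H → IsMulCommutative A → (∀ a ∈ A, a ^ p = 1) → Nat.card A ≤ p ^ 2
  chief : ∀ L : Subgroup G, L.Normal → K ≤ L → L ≤ H → L = K ∨ L = H

/-- `Ω₁(Z(H))` as a subgroup of `G`. -/
def zOne (p : ℕ) (H : Subgroup G) : Subgroup G where
  carrier := {x | x ∈ H ∧ (∀ h ∈ H, h * x = x * h) ∧ x ^ p = 1}
  one_mem' := ⟨H.one_mem, fun h _ => by simp, one_pow p⟩
  mul_mem' := by
    rintro x y ⟨hx, hxc, hxp⟩ ⟨hy, hyc, hyp⟩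
    refine ⟨H.mul_mem hx hy, ?_, ?_⟩
    · intro h hh
      rw [← mul_assoc, hxc h hh, mul_assoc, hyc h hh, mul_assoc]
    · have : Commute x y := hyc x hx
      rw [this.mul_pow, hxp, hyp, mul_one]
  inv_mem' := by
    rintro x ⟨hx, hxc, hxp⟩
    refine ⟨H.inv_mem hx, ?_, by rw [inv_pow, hxp, inv_one]⟩
    intro h hh
    have := hxc h hh
    calc h * x⁻¹ = x⁻¹ * (x * h) * x⁻¹ := by group
      _ = x⁻¹ * (h * x) * x⁻¹ := by rw [this]
      _ = x⁻¹ * h := by group

theorem mem_zOne {p : ℕ} {H : Subgroup G} {x : G} :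
    x ∈ zOne p H ↔ x ∈ H ∧ (∀ h ∈ H, h * x = x * h) ∧ x ^ p = 1 := Iff.rfl

theorem zOne_le (p : ℕ) (H : Subgroup G) : zOne p H ≤ H := fun _ hx => hx.1

theorem zOne_normal (p : ℕ) (H : Subgroup G) [hH : H.Normal] : (zOne p H).Normal := by
  constructor
  rintro x ⟨hx, hxc, hxp⟩ g
  refine ⟨hH.conj_mem x hx g, ?_, ?_⟩
  · intro h hh
    have h1 : g⁻¹ * h * g ∈ H := by
      have := hH.conj_mem h hh g⁻¹
      simpa using this
    have h2 := hxc _ h1
    calc h * (g * x * g⁻¹) = g * ((g⁻¹ * h * g) * x) * g⁻¹ := by group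
      _ = g * (x * (g⁻¹ * h * g)) * g⁻¹ := by rw [h2]
      _ = g * x * g⁻¹ * h := by group
  · rw [conj_pow, hxp]; group

theorem zOne_comm (p : ℕ) (H : Subgroup G) : IsMulCommutative (zOne p H) :=
  ⟨⟨fun a b => Subtype.ext (b.2.2.1 a a.2.1)⟩⟩

theorem zOne_exp (p : ℕ) (H : Subgroup G) : ∀ a ∈ zOne p H, a ^ p = 1 := fun _ ha => ha.2.2

theorem zOne_ne_bot [Finite G] {p : ℕ} [Fact p.Prime] {H : Subgroup G} (hpg : IsPGroup p H)
    (hne : H ≠ ⊥) : zOne p H ≠ ⊥ := by
  have hp : p.Prime := Fact.out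
  haveI : Nontrivial ↥H := (Subgroup.nontrivial_iff_ne_bot H).mpr hne
  haveI : Nontrivial (Subgroup.center ↥H) := hpg.center_nontrivial
  have hcp : IsPGroup p (Subgroup.center ↥H) := hpg.to_subgroup _
  obtain ⟨n, hn0, hn⟩ := hcp.nontrivial_iff_card.mp inferInstance
  have hdvd : p ∣ Nat.card (Subgroup.center ↥H) := hn.symm ▸ dvd_pow_self _ (ne_of_gt hn0)
  obtain ⟨x, hx⟩ := exists_prime_orderOf_dvd_card' p hdvd
  intro hbot
  have hmem : ((x : ↥H) : G) ∈ zOne p H := by
    refine ⟨(x : ↥H).2, ?_, ?_⟩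
    · intro h hh
      have := Subgroup.mem_center_iff.mp x.2 ⟨h, hh⟩
      exact congrArg Subtype.val this
    · have h1 : x ^ p = 1 := by rw [← hx]; exact pow_orderOf_eq_one x
      have h2 := congrArg (fun y : Subgroup.center ↥H => ((y : ↥H) : G)) h1
      simpa using h2
  rw [hbot, Subgroup.mem_bot] at hmem
  have hx1 : x = 1 := by
    apply Subtype.ext; apply Subtype.ext
    simpa using hmem
  rw [hx1, orderOf_one] at hx
  exact hp.one_lt.ne hx

theorem card_mul_relIndex [Finite G] {H K : Subgroup G} (h : H ≤ K) :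
    Nat.card H * H.relIndex K = Nat.card K := by
  have := Subgroup.relIndex_mul_relIndex ⊥ H K bot_le h
  rwa [Subgroup.relIndex_bot_left, Subgroup.relIndex_bot_left] at this

/-- The inductive hypothesis. -/
def IHyp (p : ℕ) (n : ℕ) : Prop :=
  ∀ m < n, ∀ (G' : Type u) [Group G'] [Finite G'] (H' K' : Subgroup G'), Cfg p G' H' K' →
    Nat.card H' = m → Nat.card H' ≤ p ^ 2 * Nat.card K'

variable [Finite G]

theorem step1 {p : ℕ} {n : ℕ} (IH : IHyp.{u} p n) {H K : Subgroup G} (c : Cfg p G H K)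
    (hn : Nat.card H = n) (hbig : p ^ 2 * Nat.card K < Nat.card H)
    (H0 : Subgroup G) (h0n : H0.Normal) (h0le : H0 ≤ H) (h0ne : H0 ≠ H) : H0 ≤ K := by
  haveI := c.kn
  haveI := h0n
  have hLn : (H0 ⊔ K).Normal := inferInstance
  rcases c.chief (H0 ⊔ K) hLn le_sup_right (sup_le h0le c.le) with h | h
  · exact le_sup_left.trans h.le
  · exfalso
    have hlt : Nat.card H0 < n := by
      rw [← hn]
      by_contra hge
      have hge := not_lt.mp hge
      exact h0ne (Subgroup.eq_of_le_of_card_ge h0le hge)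
    have c0 : Cfg p G H0 (H0 ⊓ K) :=
      { hn := h0n
        kn := inferInstance
        le := inf_le_left
        pg := c.pg.to_le h0le
        rank := fun A hA => c.rank A (hA.trans h0le)
        chief := by
          intro L hL hKL hLH
          haveI := hL
          have hLKn : (L ⊔ K).Normal := inferInstance
          rcases c.chief (L ⊔ K) hLKn le_sup_right (sup_le (hLH.trans h0le) c.le) with h' | h'
          · left
            exact le_antisymm (le_inf hLH (le_sup_left.trans h'.le)) hKL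
          · right
            apply le_antisymm hLH
            intro x hx
            have hxH : x ∈ ((L ⊔ K : Subgroup G) : Set G) := by
              rw [h']; exact h0le hx
            rw [Subgroup.mul_normal] at hxH
            obtain ⟨l, hl, k, hk, rfl⟩ := Set.mem_mul.mp hxH
            have hk0 : k ∈ H0 := by
              have := H0.mul_mem (H0.inv_mem (hLH hl)) hx
              simpa using this
            exact L.mul_mem hl (hKL ⟨hk0, hk⟩) }
    have hI := IH _ hlt G H0 (H0 ⊓ K) c0 rfl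
    have hri : (H0 ⊓ K).relIndex H0 = K.relIndex H := by
      rw [Subgroup.inf_relIndex_left, ← Subgroup.relIndex_sup_right (H := H0) (K := K), h]
    have e1 := card_mul_relIndex (inf_le_left : H0 ⊓ K ≤ H0)
    have e2 := card_mul_relIndex c.le
    rw [hri] at e1
    have hpos : 0 < Nat.card ↥(H0 ⊓ K) := Nat.card_pos
    have h3 : K.relIndex H ≤ p ^ 2 := by
      rw [← e1] at hI
      have : Nat.card ↥(H0 ⊓ K) * K.relIndex H ≤ Nat.card ↥(H0 ⊓ K) * p ^ 2 := by
        rw [mul_comm _ (p ^ 2)]; exact hI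
      exact Nat.le_of_mul_le_mul_left this hpos
    have : Nat.card H ≤ p ^ 2 * Nat.card K := by
      rw [← e2, mul_comm]; exact Nat.mul_le_mul_right _ h3
    omega

/-- The abelian case. -/
theorem comm_contra {p : ℕ} [Fact p.Prime] {H K : Subgroup G} (c : Cfg p G H K)
    (hbig : p ^ 2 * Nat.card K < Nat.card H)
    (hsub : ∀ H0 : Subgroup G, H0.Normal → H0 ≤ H → H0 ≠ H → H0 ≤ K)
    (hcomm : ∀ x ∈ H, ∀ y ∈ H, x * y = y * x) : False := by
  have hp : p.Prime := Fact.out
  haveI := c.hn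
  have hHne : H ≠ ⊥ := by
    intro h
    rw [h, Subgroup.card_bot] at hbig
    have : 0 < p ^ 2 * Nat.card K := Nat.mul_pos (pow_pos hp.pos 2) Nat.card_pos
    omega
  let ψ : ↥H →* G := MonoidHom.mk' (fun x => (x : G) ^ p) (by
    intro a b
    have : Commute (a : G) (b : G) := hcomm a a.2 b b.2
    show ((a : G) * (b : G)) ^ p = _
    rw [this.mul_pow])
  have hψ : ∀ x : ↥H, ψ x = (x : G) ^ p := fun x => rfl
  have hMle : ψ.range ≤ H := by
    rintro _ ⟨x, rfl⟩
    rw [hψ]; exact H.pow_mem x.2 p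
  have hMn : ψ.range.Normal := by
    constructor
    rintro _ ⟨x, rfl⟩ g
    refine ⟨⟨g * x * g⁻¹, c.hn.conj_mem x x.2 g⟩, ?_⟩
    rw [hψ, hψ, conj_pow]
  have hker : ∀ x : ↥H, x ∈ ψ.ker → (x : G) ∈ zOne p H := by
    intro x hx
    refine ⟨x.2, fun h hh => hcomm h hh x x.2, ?_⟩
    exact hx
  have hZc : Nat.card (zOne p H) ≤ p ^ 2 := c.rank _ (zOne_le p H) (zOne_comm p H) (zOne_exp p H)
  have h1 : Nat.card ψ.ker ≤ p ^ 2 := by
    refine le_trans ?_ hZc
    refine Nat.card_le_card_of_injective (fun x : ψ.ker => (⟨((x : ↥H) : G), hker x x.2⟩ : zOne p H)) ?_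
    intro a b hab
    have := congrArg Subtype.val hab
    exact Subtype.ext (Subtype.ext this)
  have h3 : Nat.card ψ.ker * Nat.card ψ.range = Nat.card H := by
    rw [← Subgroup.index_ker ψ, Subgroup.card_mul_index]
  have hne : ψ.range ≠ H := by
    intro heq
    rw [heq] at h3
    have hk1 : Nat.card ψ.ker = 1 := by
      have hpos : 0 < Nat.card H := Nat.card_pos
      have : Nat.card ψ.ker * Nat.card H = 1 * Nat.card H := by rw [h3, one_mul]
      exact Nat.eq_of_mul_eq_mul_right hpos this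
    obtain ⟨z, hz1⟩ := (Subgroup.ne_bot_iff_exists_ne_one.mp (zOne_ne_bot c.pg hHne))
    have hzk : (⟨(z : G), z.2.1⟩ : ↥H) ∈ ψ.ker := by
      rw [MonoidHom.mem_ker, hψ]; exact z.2.2.2
    have hsub1 : Subsingleton ψ.ker := (Nat.card_eq_one_iff_unique.mp hk1).1
    have := congrArg (fun y : ψ.ker => ((y : ↥H) : G)) (Subsingleton.elim (⟨_, hzk⟩ : ψ.ker) 1)
    simp only [OneMemClass.coe_one] at this
    exact hz1 (Subtype.ext this)
  have hMK := hsub ψ.range hMn hMle hne
  have h4 : Nat.card ψ.range ≤ Nat.card K := Subgroup.card_le_of_le hMK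
  have : Nat.card H ≤ p ^ 2 * Nat.card K := by
    rw [← h3]; exact Nat.mul_le_mul h1 h4
  omega

end Cfsg.Agent.Helper10.RankTwo
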