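import Mathlib
import Cfsg.Agent.Helper10.RankTwoB

set_option autoImplicit false
set_option linter.style.haveILetI false

/-! Rank-two chief factor theorem: case A (`Ω₁(Z(H))` of order `p²`). -/

namespace Cfsg.Agent.Helper10.RankTwo

open Subgroup
open scoped commutatorElement

universe u

variable {G : Type u} [Group G] [Finite G]

omit [Finite G] in
theorem comap_le_of_le_map {H Z : Subgroup G} [Z.Normal] (hZH : Z ≤ H)
    (X : Subgroup (G ⧸ Z)) (hX : X ≤ H.map (QuotientGroup.mk' Z)) :
    X.comap (QuotientGroup.mk' Z) ≤ H := by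
  intro b hb
  obtain ⟨h, hh, hhb⟩ := hX hb
  have h1 : h⁻¹ * b ∈ Z := by
    apply (QuotientGroup.eq_one_iff _).mp
    have : (QuotientGroup.mk' Z) (h⁻¹ * b) = 1 := by
      rw [map_mul, map_inv, hhb, inv_mul_cancel]
    exact this
  have := H.mul_mem hh (hZH h1)
  simpa using this

theorem caseA {p : ℕ} [Fact p.Prime] (hp2 : p ≠ 2) {n : ℕ} (IH : IHyp.{u} p n)
    {H K : Subgroup G} (c : Cfg p G H K) (hn : Nat.card H = n)
    (hbig : p ^ 2 * Nat.card K < Nat.card H)
    (hsub : ∀ H0 : Subgroup G, H0.Normal → H0 ≤ H → H0 ≠ H → H0 ≤ K)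
    (hZ : Nat.card (zOne p H) = p ^ 2) : False := by
  have hp : p.Prime := Fact.out
  haveI := c.hn
  haveI := c.kn
  haveI hZn : (zOne p H).Normal := zOne_normal p H
  have hZH : zOne p H ≤ H := zOne_le p H
  have hZK : zOne p H ≤ K := by
    apply hsub _ hZn hZH
    intro h
    rw [h] at hZ
    have : 0 < Nat.card K := Nat.card_pos
    rw [hZ] at hbig
    nlinarith
  -- every element of order dividing `p` of `H` lies in `zOne`
  have claimA : ∀ x ∈ H, x ^ p = 1 → x ∈ zOne p H := by
    intro x hx hxp
    have hS := closure_elemAb p ((zOne p H : Set G) ∪ {x}) (by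
      rintro a (ha | ha) b (hb | hb)
      · exact (hb.2.1 a ha.1)
      · rw [Set.mem_singleton_iff] at hb; subst hb
        exact (ha.2.1 b hx).symm
      · rw [Set.mem_singleton_iff] at ha; subst ha
        exact hb.2.1 a hx
      · rw [Set.mem_singleton_iff] at ha hb; subst ha; subst hb; rfl) (by
      rintro a (ha | ha)
      · exact ha.2.2
      · rw [Set.mem_singleton_iff] at ha; subst ha; exact hxp)
    have hle : closure ((zOne p H : Set G) ∪ {x}) ≤ H := by
      rw [Subgroup.closure_le]
      rintro a (ha | ha)
      · exact hZH ha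
      · rw [Set.mem_singleton_iff] at ha; subst ha; exact hx
    have hcard := c.rank _ hle hS.1 hS.2
    have hZle : zOne p H ≤ closure ((zOne p H : Set G) ∪ {x}) :=
      fun z hz => Subgroup.subset_closure (Or.inl hz)
    have heq : zOne p H = closure ((zOne p H : Set G) ∪ {x}) :=
      Subgroup.eq_of_le_of_card_ge hZle (by rw [hZ]; exact hcard)
    rw [heq]; exact Subgroup.subset_closure (Or.inr rfl)
  have hsurj := QuotientGroup.mk'_surjective (zOne p H)
  have c' : Cfg p (G ⧸ zOne p H) (H.map (QuotientGroup.mk' (zOne p H)))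
      (K.map (QuotientGroup.mk' (zOne p H))) :=
    { hn := Subgroup.Normal.map c.hn _ hsurj
      kn := Subgroup.Normal.map c.kn _ hsurj
      le := Subgroup.map_mono c.le
      pg := c.pg.map _
      rank := by
        intro A hA hAc hAe
        have hBH : A.comap (QuotientGroup.mk' (zOne p H)) ≤ H := comap_le_of_le_map hZH A hA
        have hcB := card_comap_mk (zOne p H) A
        have hcomm_mem : ∀ x ∈ A.comap (QuotientGroup.mk' (zOne p H)),
            ∀ y ∈ A.comap (QuotientGroup.mk' (zOne p H)), ⁅y, x⁆ ∈ zOne p H := by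
          intro x hx y hy
          apply (QuotientGroup.eq_one_iff _).mp
          have : (QuotientGroup.mk' (zOne p H)) ⁅y, x⁆ = 1 := by
            rw [map_commutatorElement, commutatorElement_eq_one_iff_mul_comm]
            have := hAc.is_comm.comm ⟨_, hy⟩ ⟨_, hx⟩
            exact congrArg Subtype.val this
          exact this
        have hmul : ∀ x ∈ A.comap (QuotientGroup.mk' (zOne p H)),
            ∀ y ∈ A.comap (QuotientGroup.mk' (zOne p H)), (x * y) ^ p = x ^ p * y ^ p := by
          intro x hx y hy
          have hc := hcomm_mem x hx y hy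
          have h1 : Commute ⁅y, x⁆ x := (hc.2.1 x (hBH hx)).symm
          have h2 : Commute ⁅y, x⁆ y := (hc.2.1 y (hBH hy)).symm
          rw [Cfsg.Agent.Helper25.PFour.mul_pow_of_central h1 h2 p]
          have h2p : 2 < p := lt_of_le_of_ne hp.two_le (Ne.symm hp2)
          obtain ⟨t, ht⟩ : p ∣ p.choose 2 := hp.dvd_choose_self (by norm_num) h2p
          rw [ht, pow_mul, hc.2.2, one_pow, mul_one]
        let φ : ↥(A.comap (QuotientGroup.mk' (zOne p H))) →* G :=
          MonoidHom.mk' (fun x => (x : G) ^ p) (fun a b => hmul a a.2 b b.2)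
        have hφ : ∀ x, φ x = (x : G) ^ p := fun x => rfl
        have hker : ∀ x : ↥(A.comap (QuotientGroup.mk' (zOne p H))), x ∈ φ.ker →
            (x : G) ∈ zOne p H := fun x hx => claimA x (hBH x.2) hx
        have hrange : φ.range ≤ zOne p H := by
          rintro _ ⟨x, rfl⟩
          rw [hφ]
          apply (QuotientGroup.eq_one_iff _).mp
          have : (QuotientGroup.mk' (zOne p H)) ((x : G) ^ p) = 1 := by
            rw [map_pow]
            exact hAe _ x.2
          exact this
        have h1 : Nat.card φ.ker ≤ Nat.card (zOne p H) := by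
          refine Nat.card_le_card_of_injective
            (fun x : φ.ker => (⟨((x : ↥(A.comap (QuotientGroup.mk' (zOne p H)))) : G),
              hker x x.2⟩ : zOne p H)) ?_
          intro a b hab
          have := congrArg Subtype.val hab
          exact Subtype.ext (Subtype.ext this)
        have h2 : Nat.card φ.range ≤ Nat.card (zOne p H) := Subgroup.card_le_of_le hrange
        have h3 : Nat.card φ.ker * Nat.card φ.range =
            Nat.card (A.comap (QuotientGroup.mk' (zOne p H))) := by
          rw [← Subgroup.index_ker φ, Subgroup.card_mul_index]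
        have h4 : Nat.card A * Nat.card (zOne p H) ≤ Nat.card (zOne p H) * Nat.card (zOne p H) := by
          rw [← hcB, ← h3]; exact Nat.mul_le_mul h1 h2
        have hpos : 0 < Nat.card (zOne p H) := Nat.card_pos
        have := Nat.le_of_mul_le_mul_right h4 hpos
        rwa [hZ] at this
      chief := by
        intro L hL hKL hLH
        haveI := hL
        have hLn : (L.comap (QuotientGroup.mk' (zOne p H))).Normal := inferInstance
        have h1 : K ≤ L.comap (QuotientGroup.mk' (zOne p H)) := Subgroup.map_le_iff_le_comap.mp hKL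
        have h2 : L.comap (QuotientGroup.mk' (zOne p H)) ≤ H := comap_le_of_le_map hZH L hLH
        rcases c.chief _ hLn h1 h2 with h | h
        · left; rw [← Subgroup.map_comap_eq_self_of_surjective hsurj L, h]
        · right; rw [← Subgroup.map_comap_eq_self_of_surjective hsurj L, h] }
  have hcardH := card_map_mk_mul (zOne p H) H hZH
  have hcardK := card_map_mk_mul (zOne p H) K hZK
  rw [hZ] at hcardH hcardK
  have hp2' : 1 < p ^ 2 := Nat.one_lt_pow (by norm_num) hp.one_lt
  have hlt : Nat.card (H.map (QuotientGroup.mk' (zOne p H))) < n := by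
    rw [← hn, ← hcardH]
    have : 0 < Nat.card (H.map (QuotientGroup.mk' (zOne p H))) := Nat.card_pos
    nlinarith
  have hI := IH _ hlt (G ⧸ zOne p H) _ _ c' rfl
  have : Nat.card H ≤ p ^ 2 * Nat.card K := by
    rw [← hcardH, ← hcardK]
    calc Nat.card (H.map (QuotientGroup.mk' (zOne p H))) * p ^ 2
        ≤ (p ^ 2 * Nat.card (K.map (QuotientGroup.mk' (zOne p H)))) * p ^ 2 :=
          Nat.mul_le_mul_right _ hI
      _ = p ^ 2 * (Nat.card (K.map (QuotientGroup.mk' (zOne p H))) * p ^ 2) := by ring
  omega

end Cfsg.Agent.Helper10.RankTwo
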