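import Mathlib
import Cfsg.Agent.Helper10.RankTwoC
import Cfsg.Agent.Helper9.NormalElemAb

set_option autoImplicit false
set_option linter.style.haveILetI false
set_option linter.unusedSectionVars false

/-! Rank-two chief factor theorem: case B (`Ω₁(Z(H))` of order `p`) and the main theorem. -/

namespace Cfsg.Agent.Helper10.RankTwo

open Subgroup
open scoped commutatorElement

universe u

variable {G : Type u} [Group G]

theorem two_lt_of_ne {p : ℕ} [hp : Fact p.Prime] (hp2 : p ≠ 2) : 2 < p :=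
  lt_of_le_of_ne hp.out.two_le (Ne.symm hp2)

theorem pow_choose_eq_one {p : ℕ} [hp : Fact p.Prime] (hp2 : p ≠ 2) {c : G} (hc : c ^ p = 1) :
    c ^ (p.choose 2) = 1 := by
  obtain ⟨t, ht⟩ : p ∣ p.choose 2 := hp.out.dvd_choose_self (by norm_num) (two_lt_of_ne hp2)
  rw [ht, pow_mul, hc, one_pow]

/-- The elements of order dividing `p` of `H` whose commutators with `H` lie in `zOne p H`. -/
def wSub (p : ℕ) [Fact p.Prime] (hp2 : p ≠ 2) (H : Subgroup G) : Subgroup G where
  carrier := {x | x ∈ H ∧ x ^ p = 1 ∧ ∀ h ∈ H, ⁅x, h⁆ ∈ zOne p H}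
  one_mem' := ⟨H.one_mem, one_pow p, fun h _ => by
    rw [commutatorElement_one_left]; exact (zOne p H).one_mem⟩
  mul_mem' := by
    rintro x y ⟨hx, hxp, hxc⟩ ⟨hy, hyp, hyc⟩
    refine ⟨H.mul_mem hx hy, ?_, ?_⟩
    · have hc := hyc x hx
      have h1 : Commute ⁅y, x⁆ x := (hc.2.1 x hx).symm
      have h2 : Commute ⁅y, x⁆ y := (hc.2.1 y hy).symm
      rw [Cfsg.Agent.Helper25.PFour.mul_pow_of_central h1 h2 p, hxp, hyp,
        pow_choose_eq_one hp2 hc.2.2]
      simp
    · intro h hh
      have e : ⁅x * y, h⁆ = (x * ⁅y, h⁆ * x⁻¹) * ⁅x, h⁆ := by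
        simp only [commutatorElement_def]; group
      have hc := hyc h hh
      have h3 : x * ⁅y, h⁆ * x⁻¹ = ⁅y, h⁆ := by
        rw [hc.2.1 x hx]; group
      rw [e, h3]; exact (zOne p H).mul_mem hc (hxc h hh)
  inv_mem' := by
    rintro x ⟨hx, hxp, hxc⟩
    refine ⟨H.inv_mem hx, by rw [inv_pow, hxp, inv_one], ?_⟩
    intro h hh
    have hc := hxc h hh
    have e : ⁅x⁻¹, h⁆ = x⁻¹ * (⁅x, h⁆)⁻¹ * x := by
      simp only [commutatorElement_def]; group
    have hci := (zOne p H).inv_mem hc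
    have h3 : x⁻¹ * (⁅x, h⁆)⁻¹ * x = (⁅x, h⁆)⁻¹ := by
      have h4 := hci.2.1 x hx
      calc x⁻¹ * (⁅x, h⁆)⁻¹ * x = x⁻¹ * ((⁅x, h⁆)⁻¹ * x) := by group
        _ = x⁻¹ * (x * (⁅x, h⁆)⁻¹) := by rw [h4]
        _ = (⁅x, h⁆)⁻¹ := by group
    rw [e, h3]; exact hci

theorem wSub_normal (p : ℕ) [Fact p.Prime] (hp2 : p ≠ 2) (H : Subgroup G) [hH : H.Normal] :
    (wSub p hp2 H).Normal := by
  haveI := zOne_normal p H
  constructor
  rintro x ⟨hx, hxp, hxc⟩ g
  refine ⟨hH.conj_mem x hx g, by rw [conj_pow, hxp]; group, ?_⟩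
  intro h hh
  have h1 : g⁻¹ * h * g ∈ H := by
    have := hH.conj_mem h hh g⁻¹
    simpa using this
  have e : ⁅g * x * g⁻¹, h⁆ = g * ⁅x, g⁻¹ * h * g⁆ * g⁻¹ := by
    simp only [commutatorElement_def]; group
  rw [e]
  exact (zOne_normal p H).conj_mem _ (hxc _ h1) g

theorem zOne_le_wSub (p : ℕ) [Fact p.Prime] (hp2 : p ≠ 2) (H : Subgroup G) :
    zOne p H ≤ wSub p hp2 H := by
  intro z hz
  refine ⟨hz.1, hz.2.2, ?_⟩
  intro h hh
  have : ⁅z, h⁆ = 1 := by
    rw [commutatorElement_eq_one_iff_mul_comm]; exact (hz.2.1 h hh).symm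
  rw [this]; exact (zOne p H).one_mem

variable [Finite G]

theorem card_ge_mul_of_lt {p : ℕ} [Fact p.Prime] {A B : Subgroup G} (hB : IsPGroup p B)
    (hlt : A < B) : p * Nat.card A ≤ Nat.card B := by
  have hp : p.Prime := Fact.out
  obtain ⟨k, hk⟩ := Subgroup.card_dvd_of_le hlt.le
  have hk1 : k ≠ 1 := by
    intro h; rw [h, mul_one] at hk
    exact hlt.ne (Subgroup.eq_of_le_of_card_ge hlt.le hk.le)
  obtain ⟨b, hb⟩ := hB.exists_card_eq
  have hkd : k ∣ p ^ b := by rw [← hb, hk]; exact dvd_mul_left k _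
  obtain ⟨j, _, rfl⟩ := (Nat.dvd_prime_pow hp).mp hkd
  have hj0 : j ≠ 0 := by rintro rfl; exact hk1 (pow_zero p)
  have : p ≤ p ^ j := by
    calc p = p ^ 1 := (pow_one p).symm
      _ ≤ p ^ j := Nat.pow_le_pow_right hp.pos (Nat.one_le_iff_ne_zero.mpr hj0)
  rw [hk, mul_comm]; exact Nat.mul_le_mul_left _ this

/-- Closure of `zOne` together with a set of pairwise commuting elements of order dividing `p`. -/
theorem elemAb_closure {p : ℕ} {H K : Subgroup G} (c : Cfg p G H K) (T : Set G)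
    (hT : ∀ t ∈ T, t ∈ H ∧ t ^ p = 1) (hTc : ∀ a ∈ T, ∀ b ∈ T, a * b = b * a) :
    closure ((zOne p H : Set G) ∪ T) ≤ H ∧ Nat.card (closure ((zOne p H : Set G) ∪ T)) ≤ p ^ 2 := by
  have hS := closure_elemAb p ((zOne p H : Set G) ∪ T) (by
    rintro a (ha | ha) b (hb | hb)
    · exact (hb.2.1 a ha.1)
    · exact (ha.2.1 b (hT b hb).1).symm
    · exact hb.2.1 a (hT a ha).1
    · exact hTc a ha b hb) (by
    rintro a (ha | ha)
    · exact ha.2.2
    · exact (hT a ha).2)
  have hle : closure ((zOne p H : Set G) ∪ T) ≤ H := by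
    rw [Subgroup.closure_le]
    rintro a (ha | ha)
    · exact ha.1
    · exact (hT a ha).1
  exact ⟨hle, c.rank _ hle hS.1 hS.2⟩

theorem caseB {p : ℕ} [Fact p.Prime] (hp2 : p ≠ 2)
    {H K : Subgroup G} (c : Cfg p G H K)
    (hbig : p ^ 2 * Nat.card K < Nat.card H)
    (hsub : ∀ H0 : Subgroup G, H0.Normal → H0 ≤ H → H0 ≠ H → H0 ≤ K)
    (hZ : Nat.card (zOne p H) = p) : False := by
  have hp : p.Prime := Fact.out
  haveI := c.hn
  haveI := c.kn
  haveI hZn : (zOne p H).Normal := zOne_normal p H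
  have hnc : ¬ IsCyclic ↥H := by
    intro hcyc
    refine comm_contra c hbig hsub ?_
    intro x hx y hy
    have := (IsCyclic.isMulCommutative (α := ↥H)).is_comm.comm ⟨x, hx⟩ ⟨y, hy⟩
    exact congrArg Subtype.val this
  obtain ⟨N, hNn, hNe, hNc⟩ := Cfsg.Agent.Helper9.exists_normal_elemAb_sq hp2 c.pg hnc
  haveI := hNn
  have hpp : p < p ^ 2 := by
    have := hp.one_lt
    nlinarith
  have hNne : N ≠ ⊥ := by
    intro h
    rw [h, Subgroup.card_bot] at hNc
    have := hp.one_lt
    omega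
  obtain ⟨z, hzN, hz1, hzc⟩ := exists_ne_one_mem_inf_center c.pg N hNne
  have hzp : z ^ p = 1 := hNe.2 z hzN
  have hzord : orderOf z = p := orderOf_eq_prime hzp hz1
  have hcomm := comm_mem_zpowers c.pg N hNc z hzN hzc hzord
  have hzZ : (z : G) ∈ zOne p H := by
    refine ⟨z.2, fun h hh => congrArg Subtype.val (Subgroup.mem_center_iff.mp hzc ⟨h, hh⟩), ?_⟩
    have := congrArg Subtype.val hzp
    simpa using this
  have hWH : wSub p hp2 H ≤ H := fun _ hx => hx.1
  haveI hWn : (wSub p hp2 H).Normal := wSub_normal p hp2 H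
  have hZW : zOne p H ≤ wSub p hp2 H := zOne_le_wSub p hp2 H
  have hNW : N.map H.subtype ≤ wSub p hp2 H := by
    rintro _ ⟨n, hn, rfl⟩
    refine ⟨n.2, ?_, ?_⟩
    · have := congrArg Subtype.val (hNe.2 n hn)
      simpa using this
    · intro h hh
      have h1 := hcomm n hn ⟨h, hh⟩
      obtain ⟨k, hk⟩ := Subgroup.mem_zpowers_iff.mp h1
      have h2 : ⁅((H.subtype n : G)), h⁆ = (z : G) ^ k := by
        have := congrArg Subtype.val hk
        simp only [commutatorElement_def] at this ⊢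
        simpa using this.symm
      rw [h2]; exact (zOne p H).zpow_mem hzZ k
  have hWcard : p ^ 2 ≤ Nat.card (wSub p hp2 H) := by
    calc p ^ 2 = Nat.card N := hNc.symm
      _ = Nat.card (N.map H.subtype) := (Subgroup.card_map_of_injective H.subtype_injective).symm
      _ ≤ Nat.card (wSub p hp2 H) := Subgroup.card_le_of_le hNW
  -- choose `w1`
  obtain ⟨w1, hw1W, hw1Z⟩ : ∃ w1 ∈ wSub p hp2 H, w1 ∉ zOne p H := by
    by_contra hcon
    have hle : wSub p hp2 H ≤ zOne p H := by
      intro w hw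
      by_contra hwZ
      exact hcon ⟨w, hw, hwZ⟩
    have := Subgroup.card_le_of_le hle
    rw [hZ] at this
    omega
  have hA1 := elemAb_closure c {w1} (by
    intro t ht; rw [Set.mem_singleton_iff] at ht; subst ht; exact ⟨hw1W.1, hw1W.2.1⟩) (by
    intro a ha b hb; rw [Set.mem_singleton_iff] at ha hb; subst ha; subst hb; rfl)
  have hZA1 : zOne p H < closure ((zOne p H : Set G) ∪ {w1}) := by
    refine lt_of_le_of_ne (fun z hz => Subgroup.subset_closure (Or.inl hz)) ?_
    intro h
    apply hw1Z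
    rw [h]; exact Subgroup.subset_closure (Or.inr rfl)
  have hA1card : Nat.card (closure ((zOne p H : Set G) ∪ {w1})) = p ^ 2 := by
    apply le_antisymm hA1.2
    have := card_ge_mul_of_lt (c.pg.to_le hA1.1) hZA1
    rw [hZ] at this
    rw [pow_two]; exact this
  -- centralizer of `w1` in `W` lies in `A1`
  have hCW : Subgroup.centralizer ({w1} : Set G) ⊓ wSub p hp2 H ≤
      closure ((zOne p H : Set G) ∪ {w1}) := by
    rintro x ⟨hxc, hxW⟩
    have hxw : w1 * x = x * w1 := Subgroup.mem_centralizer_iff.mp hxc w1 rfl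
    have hA := elemAb_closure c {w1, x} (by
      rintro t (ht | ht)
      · subst ht; exact ⟨hw1W.1, hw1W.2.1⟩
      · rw [Set.mem_singleton_iff] at ht; subst ht; exact ⟨hxW.1, hxW.2.1⟩) (by
      rintro a (ha | ha) b (hb | hb)
      · subst ha; subst hb; rfl
      · rw [Set.mem_singleton_iff] at hb; subst ha; subst hb; exact hxw
      · rw [Set.mem_singleton_iff] at ha; subst ha; subst hb; exact hxw.symm
      · rw [Set.mem_singleton_iff] at ha hb; subst ha; subst hb; rfl)
    have hle : closure ((zOne p H : Set G) ∪ {w1}) ≤ closure ((zOne p H : Set G) ∪ {w1, x}) := by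
      apply Subgroup.closure_mono
      rintro a (ha | ha)
      · exact Or.inl ha
      · rw [Set.mem_singleton_iff] at ha; subst ha; exact Or.inr (Or.inl rfl)
    have heq := Subgroup.eq_of_le_of_card_ge hle (by rw [hA1card]; exact hA.2)
    rw [heq]
    exact Subgroup.subset_closure (Or.inr (Or.inr rfl))
  have hZcW : ∀ z ∈ zOne p H, ∀ h ∈ wSub p hp2 H, h * z = z * h :=
    fun z hz h hh => hz.2.1 h hh.1
  have hZcH : ∀ z ∈ zOne p H, ∀ h ∈ H, h * z = z * h := fun z hz h hh => hz.2.1 h hh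
  have hWcard3 : Nat.card (wSub p hp2 H) ≤ p ^ 3 := by
    have r1 := relIndex_centralizer_le (wSub p hp2 H) (zOne p H) w1 hZcW
      (fun h hh => hw1W.2.2 h hh.1)
    rw [hZ] at r1
    have e1 := card_mul_relIndex (inf_le_right :
      Subgroup.centralizer ({w1} : Set G) ⊓ wSub p hp2 H ≤ wSub p hp2 H)
    rw [Subgroup.inf_relIndex_right] at e1
    have e2 := Subgroup.card_le_of_le hCW
    rw [hA1card] at e2
    calc Nat.card (wSub p hp2 H) = _ := e1.symm
      _ ≤ p ^ 2 * p := Nat.mul_le_mul e2 r1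
      _ = p ^ 3 := by ring
  -- choose `w2`
  obtain ⟨w2, hw2W, hW2⟩ : ∃ w2 ∈ wSub p hp2 H,
      wSub p hp2 H ≤ closure ((zOne p H : Set G) ∪ {w1, w2}) := by
    by_cases hWA : wSub p hp2 H ≤ closure ((zOne p H : Set G) ∪ {w1})
    · refine ⟨w1, hw1W, hWA.trans (Subgroup.closure_mono ?_)⟩
      rintro a (ha | ha)
      · exact Or.inl ha
      · rw [Set.mem_singleton_iff] at ha; subst ha; exact Or.inr (Or.inl rfl)
    · obtain ⟨w2, hw2W, hw2A⟩ : ∃ w2 ∈ wSub p hp2 H, w2 ∉ closure ((zOne p H : Set G) ∪ {w1}) := by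
        by_contra hcon
        apply hWA
        intro w hw
        by_contra hwA
        exact hcon ⟨w, hw, hwA⟩
      refine ⟨w2, hw2W, ?_⟩
      have hA2W : closure ((zOne p H : Set G) ∪ {w1, w2}) ≤ wSub p hp2 H := by
        rw [Subgroup.closure_le]
        rintro a (ha | ha | ha)
        · exact hZW ha
        · subst ha; exact hw1W
        · rw [Set.mem_singleton_iff] at ha; subst ha; exact hw2W
      have hlt : closure ((zOne p H : Set G) ∪ {w1}) < closure ((zOne p H : Set G) ∪ {w1, w2}) := by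
        refine lt_of_le_of_ne (Subgroup.closure_mono ?_) ?_
        · rintro a (ha | ha)
          · exact Or.inl ha
          · rw [Set.mem_singleton_iff] at ha; subst ha; exact Or.inr (Or.inl rfl)
        · intro h
          apply hw2A
          rw [h]; exact Subgroup.subset_closure (Or.inr (Or.inr rfl))
      have h3 := card_ge_mul_of_lt (c.pg.to_le (hA2W.trans hWH)) hlt
      rw [hA1card] at h3
      have heq := Subgroup.eq_of_le_of_card_ge hA2W (by
        calc Nat.card (wSub p hp2 H) ≤ p ^ 3 := hWcard3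
          _ = p * p ^ 2 := by ring
          _ ≤ _ := h3)
      exact heq.ge
  -- the centralizer of `W` in `H`
  have hDn : (H ⊓ Subgroup.centralizer (wSub p hp2 H : Set G)).Normal := inferInstance
  have hDne : H ⊓ Subgroup.centralizer (wSub p hp2 H : Set G) ≠ H := by
    intro h
    have hHc : H ≤ Subgroup.centralizer (wSub p hp2 H : Set G) := by
      intro x hx
      have hx' : x ∈ H ⊓ Subgroup.centralizer (wSub p hp2 H : Set G) := by rw [h]; exact hx
      exact hx'.2
    have hle : wSub p hp2 H ≤ zOne p H := by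
      intro w hw
      refine ⟨hw.1, fun h hh => ?_, hw.2.1⟩
      exact (Subgroup.mem_centralizer_iff.mp (hHc hh) w hw).symm
    have := Subgroup.card_le_of_le hle
    rw [hZ] at this
    omega
  have hDK := hsub _ hDn inf_le_left hDne
  have r1 := relIndex_centralizer_le H (zOne p H) w1 hZcH hw1W.2.2
  have r2 := relIndex_centralizer_le H (zOne p H) w2 hZcH hw2W.2.2
  rw [hZ] at r1 r2
  have r3 : (Subgroup.centralizer ({w1} : Set G) ⊓ Subgroup.centralizer ({w2} : Set G)).relIndex H
      ≤ p * p := le_trans Subgroup.relIndex_inf_le (Nat.mul_le_mul r1 r2)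
  have hle : (Subgroup.centralizer ({w1} : Set G) ⊓ Subgroup.centralizer ({w2} : Set G)) ⊓ H ≤
      H ⊓ Subgroup.centralizer (wSub p hp2 H : Set G) := by
    intro h hmem
    have hh : h ∈ H := hmem.2
    have hc1 : h ∈ Subgroup.centralizer ({w1} : Set G) := hmem.1.1
    have hc2 : h ∈ Subgroup.centralizer ({w2} : Set G) := hmem.1.2
    refine ⟨hh, ?_⟩
    show h ∈ Subgroup.centralizer (wSub p hp2 H : Set G)
    rw [Subgroup.mem_centralizer_iff]
    intro x hx
    have hcl : closure ((zOne p H : Set G) ∪ {w1, w2}) ≤ Subgroup.centralizer ({h} : Set G) := by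
      rw [Subgroup.closure_le]
      rintro a (ha | ha | ha)
      · rw [SetLike.mem_coe, Subgroup.mem_centralizer_iff]
        intro y hy; rw [Set.mem_singleton_iff] at hy; subst hy
        exact ha.2.1 y hh
      · subst ha
        rw [SetLike.mem_coe, Subgroup.mem_centralizer_iff]
        intro y hy; rw [Set.mem_singleton_iff] at hy; subst hy
        exact (Subgroup.mem_centralizer_iff.mp hc1 a rfl).symm
      · rw [Set.mem_singleton_iff] at ha; subst ha
        rw [SetLike.mem_coe, Subgroup.mem_centralizer_iff]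
        intro y hy; rw [Set.mem_singleton_iff] at hy; subst hy
        exact (Subgroup.mem_centralizer_iff.mp hc2 a rfl).symm
    have := Subgroup.mem_centralizer_iff.mp (hcl (hW2 hx)) h rfl
    exact this.symm
  have hne0 : ((Subgroup.centralizer ({w1} : Set G) ⊓ Subgroup.centralizer ({w2} : Set G)) ⊓ H).relIndex H
      ≠ 0 := by
    unfold Subgroup.relIndex
    exact Subgroup.index_ne_zero_of_finite
  have r4 := Subgroup.relIndex_le_of_le_left hle hne0
  rw [Subgroup.inf_relIndex_right] at r4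
  have e1 := card_mul_relIndex (inf_le_left : H ⊓ Subgroup.centralizer (wSub p hp2 H : Set G) ≤ H)
  have e2 := Subgroup.card_le_of_le hDK
  have : Nat.card H ≤ p ^ 2 * Nat.card K := by
    rw [← e1, mul_comm]
    apply Nat.mul_le_mul _ e2
    rw [pow_two]
    exact r4.trans r3
  omega

theorem main_aux (p : ℕ) [Fact p.Prime] (hp2 : p ≠ 2) : ∀ n : ℕ, ∀ (G : Type u) [Group G] [Finite G]
    (H K : Subgroup G), Cfg p G H K → Nat.card H = n → Nat.card H ≤ p ^ 2 * Nat.card K := by
  intro n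
  induction n using Nat.strong_induction_on with
  | _ n ih =>
  intro G _ _ H K c hn
  have hp : p.Prime := Fact.out
  by_contra hbig
  have hbig := not_le.mp hbig
  have IH : IHyp.{u} p n := fun m hm G' _ _ H' K' c' hm' => ih m hm G' H' K' c' hm'
  have hsub := step1 IH c hn hbig
  have hHne : H ≠ ⊥ := by
    intro h
    rw [h, Subgroup.card_bot] at hbig
    have : 0 < p ^ 2 * Nat.card K := Nat.mul_pos (pow_pos hp.pos 2) Nat.card_pos
    omega
  have hZne := zOne_ne_bot c.pg hHne
  have hZle : Nat.card (zOne p H) ≤ p ^ 2 :=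
    c.rank _ (zOne_le p H) (zOne_comm p H) (zOne_exp p H)
  have hZp : IsPGroup p (zOne p H) := c.pg.to_le (zOne_le p H)
  obtain ⟨k, hk⟩ := hZp.exists_card_eq
  have hk0 : k ≠ 0 := by
    rintro rfl
    rw [pow_zero] at hk
    exact hZne (Subgroup.card_eq_one.mp hk)
  have hk2 : k ≤ 2 := by
    rw [hk] at hZle
    exact (Nat.pow_le_pow_iff_right hp.one_lt).mp hZle
  have hk12 : k = 1 ∨ k = 2 := by omega
  rcases hk12 with rfl | rfl
  · rw [pow_one] at hk
    exact caseB hp2 c hbig hsub hk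
  · exact caseA hp2 IH c hn hbig hsub hk

/-- **Rank-two chief factor theorem.** A chief factor `H/K` of a finite group `G` with `H` a
`p`-group (`p` odd) without elementary abelian subgroups of order `p ^ 3` has order at most `p ^ 2`. -/
theorem chief_card_le {G : Type u} [Group G] [Finite G] {p : ℕ} [Fact p.Prime] (hp2 : p ≠ 2)
    {H K : Subgroup G} (c : Cfg p G H K) : Nat.card H ≤ p ^ 2 * Nat.card K :=
  main_aux p hp2 _ G H K c rfl

end Cfsg.Agent.Helper10.RankTwo
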