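import Mathlib
import Cfsg.Agent.Helper10.RankTwoD

set_option autoImplicit false
set_option linter.style.haveILetI false

/-! Rank-two chief factor theorem for arbitrary `p`-chief factors (via Frattini). -/

namespace Cfsg.Agent.Helper10.RankTwo

open Subgroup
open scoped commutatorElement

universe u

theorem chief_relIndex {G : Type u} [Group G] [Finite G] {p : ℕ} [Fact p.Prime] (hp2 : p ≠ 2)
    (hr : ∀ A : Subgroup G, IsMulCommutative A → (∀ a ∈ A, a ^ p = 1) → Nat.card A ≤ p ^ 2)
    (H K : Subgroup G) [hHn : H.Normal] [hKn : K.Normal] (hKH : K < H)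
    (hpow : ∃ n : ℕ, K.relIndex H = p ^ n)
    (hchief : ∀ L : Subgroup G, L.Normal → K ≤ L → L ≤ H → L = K ∨ L = H) :
    K.relIndex H = p ∨ K.relIndex H = p ^ 2 := by
  have hp : p.Prime := Fact.out
  obtain ⟨n, hn⟩ := hpow
  obtain ⟨P0⟩ : Nonempty (Sylow p ↥H) := inferInstance
  set P : Subgroup G := (P0 : Subgroup ↥H).map H.subtype with hP
  have hPH : P ≤ H := by
    rintro _ ⟨x, _, rfl⟩; exact x.2
  have hPN : P ≤ (Subgroup.normalizer (P : Set G)) := Subgroup.le_normalizer
  have hfrat : (Subgroup.normalizer (P : Set G)) ⊔ H = ⊤ := Sylow.normalizer_sup_eq_top P0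
  have hPpg : IsPGroup p P := P0.isPGroup'.map _
  -- `H = K ⊔ P`
  have hKPH : K ⊔ P ≤ H := sup_le hKH.le hPH
  have hHKP : H ≤ K ⊔ P := by
    rw [← Subgroup.relIndex_eq_one]
    have d1 : (K ⊔ P).relIndex H ∣ p ^ n := by
      rw [← hn]; exact Subgroup.relIndex_dvd_of_le_left H le_sup_left
    have d2 : (K ⊔ P).relIndex H ∣ P.relIndex H := Subgroup.relIndex_dvd_of_le_left H le_sup_right
    have hPi : P.relIndex H = (P0 : Subgroup ↥H).index := by
      unfold Subgroup.relIndex
      congr 1
      rw [hP]
      ext x
      rw [Subgroup.mem_subgroupOf, Subgroup.mem_map]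
      constructor
      · rintro ⟨y, hy, hyx⟩
        have : y = x := Subtype.ext hyx
        rwa [← this]
      · intro hx; exact ⟨x, hx, rfl⟩
    have hnd : ¬ p ∣ P.relIndex H := by rw [hPi]; exact P0.not_dvd_index
    obtain ⟨j, _, hj⟩ := (Nat.dvd_prime_pow hp).mp d1
    rw [hj] at d2 ⊢
    rcases Nat.eq_zero_or_pos j with rfl | hj0
    · exact pow_zero p
    · exact absurd (dvd_trans (dvd_pow_self p hj0.ne') d2) hnd
  have hHeq : K ⊔ P = H := le_antisymm hKPH hHKP
  have htop : (Subgroup.normalizer (P : Set G)) ⊔ K = ⊤ := by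
    rw [eq_top_iff, ← hfrat]
    refine sup_le le_sup_left ?_
    calc H ≤ K ⊔ P := hHKP
      _ ≤ (Subgroup.normalizer (P : Set G)) ⊔ K := sup_le le_sup_right (hPN.trans le_sup_left)
  -- the configuration inside the normalizer
  have hH'n : (P.subgroupOf (Subgroup.normalizer (P : Set G))).Normal := Subgroup.normal_in_normalizer
  have hK'n : ((P ⊓ K).subgroupOf (Subgroup.normalizer (P : Set G))).Normal := by
    constructor
    intro x hx g
    rw [Subgroup.mem_subgroupOf] at hx ⊢
    refine ⟨?_, ?_⟩
    · have := hH'n.conj_mem x (Subgroup.mem_subgroupOf.mpr hx.1) g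
      exact Subgroup.mem_subgroupOf.mp this
    · exact hKn.conj_mem _ hx.2 _
  have c : Cfg p ↥(Subgroup.normalizer (P : Set G)) (P.subgroupOf (Subgroup.normalizer (P : Set G))) ((P ⊓ K).subgroupOf (Subgroup.normalizer (P : Set G))) :=
    { hn := hH'n
      kn := hK'n
      le := by
        intro x hx
        rw [Subgroup.mem_subgroupOf] at hx ⊢
        exact hx.1
      pg := hPpg.comap_subtype
      rank := by
        intro A _ hAc hAe
        have hcard : Nat.card (A.map (Subgroup.normalizer (P : Set G)).subtype) = Nat.card A :=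
          Subgroup.card_map_of_injective (Subgroup.normalizer (P : Set G)).subtype_injective
        rw [← hcard]
        apply hr
        · refine ⟨⟨fun a b => ?_⟩⟩
          obtain ⟨a', ha', haa⟩ := a.2
          obtain ⟨b', hb', hbb⟩ := b.2
          apply Subtype.ext
          show (a : G) * (b : G) = (b : G) * (a : G)
          rw [← haa, ← hbb]
          have := hAc.is_comm.comm ⟨a', ha'⟩ ⟨b', hb'⟩
          have h2 := congrArg (fun y : ↥A => ((y : ↥(Subgroup.normalizer (P : Set G))) : G)) this
          simpa using h2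
        · rintro _ ⟨a, ha, rfl⟩
          have := congrArg Subtype.val (hAe a ha)
          simpa using this
      chief := by
        intro L hL hKL hLH
        -- `L0 = L.map subtype`
        have hL0P : L.map (Subgroup.normalizer (P : Set G)).subtype ≤ P := by
          rintro _ ⟨x, hx, rfl⟩
          exact Subgroup.mem_subgroupOf.mp (hLH hx)
        have hPKL0 : P ⊓ K ≤ L.map (Subgroup.normalizer (P : Set G)).subtype := by
          intro x hx
          have hxN : x ∈ (Subgroup.normalizer (P : Set G)) := hPN hx.1
          exact ⟨⟨x, hxN⟩, hKL (Subgroup.mem_subgroupOf.mpr hx), rfl⟩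
        have hnorm : (L.map (Subgroup.normalizer (P : Set G)).subtype ⊔ K).Normal := by
          rw [← Subgroup.normalizer_eq_top_iff, eq_top_iff, ← htop]
          refine sup_le ?_ (le_sup_right.trans Subgroup.le_normalizer)
          intro g hg
          rw [Subgroup.mem_normalizer_iff]
          -- conjugation by `g` preserves `L0 ⊔ K`
          have hconj : ∀ g' ∈ (Subgroup.normalizer (P : Set G)), ∀ y ∈ L.map (Subgroup.normalizer (P : Set G)).subtype ⊔ K,
              g' * y * g'⁻¹ ∈ L.map (Subgroup.normalizer (P : Set G)).subtype ⊔ K := by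
            intro g' hg' y hy
            have hy' : y ∈ ((L.map (Subgroup.normalizer (P : Set G)).subtype ⊔ K : Subgroup G) : Set G) := hy
            rw [Subgroup.mul_normal] at hy'
            obtain ⟨l, hl, k, hk, rfl⟩ := Set.mem_mul.mp hy'
            obtain ⟨l', hl', rfl⟩ := hl
            have h1 : g' * ((Subgroup.normalizer (P : Set G)).subtype l') * g'⁻¹ ∈ L.map (Subgroup.normalizer (P : Set G)).subtype := by
              refine ⟨(⟨g', hg'⟩ : ↥(Subgroup.normalizer (P : Set G))) * l' * (⟨g', hg'⟩ : ↥(Subgroup.normalizer (P : Set G)))⁻¹,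
                hL.conj_mem l' hl' _, ?_⟩
              simp
            have h2 : g' * k * g'⁻¹ ∈ K := hKn.conj_mem k hk g'
            have e : g' * ((Subgroup.normalizer (P : Set G)).subtype l' * k) * g'⁻¹ =
                (g' * (Subgroup.normalizer (P : Set G)).subtype l' * g'⁻¹) * (g' * k * g'⁻¹) := by group
            rw [e]
            exact Subgroup.mul_mem _ (Subgroup.mem_sup_left h1) (Subgroup.mem_sup_right h2)
          intro y
          constructor
          · exact hconj g hg y
          · intro hy
            have := hconj g⁻¹ (Subgroup.inv_mem _ hg) _ hy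
            have e : g⁻¹ * (g * y * g⁻¹) * g⁻¹⁻¹ = y := by group
            rwa [e] at this
        rcases hchief _ hnorm le_sup_right (sup_le (hL0P.trans hPH) hKH.le) with h | h
        · left
          apply le_antisymm _ hKL
          intro x hx
          rw [Subgroup.mem_subgroupOf]
          have hxL0 : (x : G) ∈ L.map (Subgroup.normalizer (P : Set G)).subtype := ⟨x, hx, rfl⟩
          refine ⟨hL0P hxL0, ?_⟩
          rw [← h]; exact Subgroup.mem_sup_left hxL0
        · right
          apply le_antisymm hLH
          intro x hx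
          rw [Subgroup.mem_subgroupOf] at hx
          have hxH : (x : G) ∈ ((L.map (Subgroup.normalizer (P : Set G)).subtype ⊔ K : Subgroup G) : Set G) := by
            rw [h]; exact hPH hx
          rw [Subgroup.mul_normal] at hxH
          obtain ⟨l, hl, k, hk, hlk⟩ := Set.mem_mul.mp hxH
          have hkP : k ∈ P := by
            have : k = l⁻¹ * (x : G) := by rw [← hlk]; group
            rw [this]; exact P.mul_mem (P.inv_mem (hL0P hl)) hx
          have hkL : k ∈ L.map (Subgroup.normalizer (P : Set G)).subtype := hPKL0 ⟨hkP, hk⟩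
          have hxL : (x : G) ∈ L.map (Subgroup.normalizer (P : Set G)).subtype := by
            rw [← hlk]; exact Subgroup.mul_mem _ hl hkL
          obtain ⟨x', hx', hxx⟩ := hxL
          have : x' = x := Subtype.ext hxx
          rwa [← this] }
  have hmain := chief_card_le hp2 c
  have e1 : Nat.card (P.subgroupOf (Subgroup.normalizer (P : Set G))) = Nat.card P :=
    Nat.card_congr (Subgroup.subgroupOfEquivOfLe hPN).toEquiv
  have e2 : Nat.card ((P ⊓ K).subgroupOf (Subgroup.normalizer (P : Set G))) = Nat.card ↥(P ⊓ K) :=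
    Nat.card_congr (Subgroup.subgroupOfEquivOfLe (inf_le_left.trans hPN)).toEquiv
  rw [e1, e2] at hmain
  have hri : K.relIndex H = (P ⊓ K).relIndex P := by
    rw [Subgroup.inf_relIndex_left, ← hHeq, Subgroup.relIndex_sup_left]
  have e3 := card_mul_relIndex (inf_le_left : P ⊓ K ≤ P)
  rw [← hri] at e3
  have hle : K.relIndex H ≤ p ^ 2 := by
    have hpos : 0 < Nat.card ↥(P ⊓ K) := Nat.card_pos
    rw [← e3, mul_comm (p ^ 2)] at hmain
    exact Nat.le_of_mul_le_mul_left hmain hpos
  rw [hn] at hle ⊢
  have hn2 : n ≤ 2 := (Nat.pow_le_pow_iff_right hp.one_lt).mp hle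
  have hn0 : n ≠ 0 := by
    rintro rfl
    rw [pow_zero, Subgroup.relIndex_eq_one] at hn
    exact absurd hn (not_le_of_gt hKH)
  have : n = 1 ∨ n = 2 := by omega
  rcases this with rfl | rfl
  · left; exact pow_one p
  · right; rfl

end Cfsg.Agent.Helper10.RankTwo
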