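import Mathlib
import Cfsg.Agent.Helper27.S0429Defs
import Cfsg.Agent.Helper10.S0429CLS
import Cfsg.Agent.Helper10.S0429KAP2core
import Cfsg.Agent.Helper27.S0429CLS4h
import Cfsg.Agent.Helper21.S0429CLSPART
import Cfsg.Agent.Helper18.S0429M3SUMcore

/-!
# S0429 board (helper10): piece KAP2 (from KAPCLS, CLS4, and M3SUM's core + CLSPART).
-/

set_option autoImplicit false

namespace Cfsg.Agent.S0429P

open Finset

variable {V : Type*} [Fintype V] [DecidableEq V] {G : SimpleGraph V} [DecidableRel G.Adj]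

/-- KAP2 (M). -/
theorem KAP2 (h : G.IsSRGWith 77 16 0 4) {a b z : V} (hab : Far G a b) (hz : Far G a z)
    (hzb : z ∉ cls G a b) (hk : kap G a z b = 2) : (G.neighborFinset z ∩ cls G a b).card = 2 :=
  KAP2_core (fun _ hp => KAPCLS h hab hp hz hzb) (CLS4 h hab)
    (M3SUM_aux_core_h18 h (fun hx => CLSPART h hab hx) hz) hk

end Cfsg.Agent.S0429P
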