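import Mathlib
import Cfsg.Agent.Helper27.S0429Defs
import Cfsg.Agent.Helper10.S0429CLS
import Cfsg.Agent.Helper10.S0429KAP2
import Cfsg.Agent.Helper10.S0429KAP2core
import Cfsg.Agent.Helper25.S0429KAPVAL
import Cfsg.Agent.Helper27.S0429CLS4h
import Cfsg.Agent.Helper1.S0429SYNQ
import Cfsg.Agent.Helper23.S0429SYNcore

/-!
# S0429 board (helper10): piece SYN1 (from CLSEQ, KAPVAL, KAP1, KAP2, and SYN's core + SYNQ).
-/

set_option autoImplicit false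

namespace Cfsg.Agent.S0429P

open Finset

variable {V : Type*} [Fintype V] [DecidableEq V] {G : SimpleGraph V} [DecidableRel G.Adj]

/-- own copy of SYN (via `SYN_aux_core` and SYNQ). -/
theorem SYN1_aux_syn (h : G.IsSRGWith 77 16 0 4) {a b1 b2 b3 : V} (h1 : Far G a b1) (h2 : Far G a b2)
    (h3 : Far G a b3)
    (h12 : b2 ∉ cls G a b1) (h13 : b3 ∉ cls G a b1) (h23 : b3 ∉ cls G a b2)
    (k12 : kap G a b1 b2 = 2) (k13 : kap G a b1 b3 = 2) (k23 : kap G a b2 b3 = 2)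
    {z : V} (hz : Far G a z) (hz1 : z ∉ cls G a b1) (hz2 : z ∉ cls G a b2) (hz3 : z ∉ cls G a b3) :
    (G.neighborFinset z ∩ (cls G a b1 ∪ cls G a b2 ∪ cls G a b3)).card = 2 := by
  have d12 := cls_disjoint_core (fun hab hc => CLSEQ h hab hc) h1 h2 h12
  have d13 := cls_disjoint_core (fun hab hc => CLSEQ h hab hc) h1 h3 h13
  have d23 := cls_disjoint_core (fun hab hc => CLSEQ h hab hc) h2 h3 h23
  have hU : (cls G a b1 ∪ cls G a b2 ∪ cls G a b3).card = 12 := by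
    rw [Finset.card_union_of_disjoint, Finset.card_union_of_disjoint d12, CLS4 h h1, CLS4 h h2,
      CLS4 h h3]
    rw [Finset.disjoint_union_left]
    exact ⟨d13, d23⟩
  have hzU : z ∉ cls G a b1 ∪ cls G a b2 ∪ cls G a b3 := by
    simp only [Finset.mem_union, not_or]
    exact ⟨⟨hz1, hz2⟩, hz3⟩
  exact SYN_aux_core h hU (SYNQ h h1 h2 h3 h12 h13 h23 k12 k13 k23) hz hzU

/-- SYN1 (M): exactly one of the three `kap` is `2`. -/
theorem SYN1 (h : G.IsSRGWith 77 16 0 4) {a b1 b2 b3 : V} (h1 : Far G a b1) (h2 : Far G a b2) (h3 : Far G a b3)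
    (h12 : b2 ∉ cls G a b1) (h13 : b3 ∉ cls G a b1) (h23 : b3 ∉ cls G a b2)
    (k12 : kap G a b1 b2 = 2) (k13 : kap G a b1 b3 = 2) (k23 : kap G a b2 b3 = 2)
    {z : V} (hz : Far G a z) (hz1 : z ∉ cls G a b1) (hz2 : z ∉ cls G a b2) (hz3 : z ∉ cls G a b3) :
    (kap G a z b1 = 2 ∧ kap G a z b2 = 1 ∧ kap G a z b3 = 1) ∨
    (kap G a z b1 = 1 ∧ kap G a z b2 = 2 ∧ kap G a z b3 = 1) ∨
    (kap G a z b1 = 1 ∧ kap G a z b2 = 1 ∧ kap G a z b3 = 2) :=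
  SYN1_core
    (cls_disjoint_core (fun hab hc => CLSEQ h hab hc) h1 h2 h12)
    (cls_disjoint_core (fun hab hc => CLSEQ h hab hc) h1 h3 h13)
    (cls_disjoint_core (fun hab hc => CLSEQ h hab hc) h2 h3 h23)
    (KAPVAL h h1 hz hz1) (KAPVAL h h2 hz hz2) (KAPVAL h h3 hz hz3)
    (KAP1 h h1 hz hz1) (KAP1 h h2 hz hz2) (KAP1 h h3 hz hz3)
    (KAP2 h h1 hz hz1) (KAP2 h h2 hz hz2) (KAP2 h h3 hz hz3)
    (SYN1_aux_syn h h1 h2 h3 h12 h13 h23 k12 k13 k23 hz hz1 hz2 hz3)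

end Cfsg.Agent.S0429P
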