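import Mathlib

set_option autoImplicit false

/-! # S0679: the arithmetic of step (2) (helper10)

`n ∣ 2^7 * 3^3`, `n ≡ 1 (mod 11)` ⟹ `n ∈ {1, 12, 144, 1728}`; hence for `|G| = 55 n` the orders `55, 660, 7920, 95040`. -/

namespace Cfsg.Agent.Helper10.S0679Arith

theorem divisors_mod_eleven {n : ℕ} (hdvd : n ∣ 2 ^ 7 * 3 ^ 3) (hmod : n % 11 = 1) :
    n = 1 ∨ n = 12 ∨ n = 144 ∨ n = 1728 := by
  obtain ⟨k1, k2, h1, h2, rfl⟩ := (Nat.dvd_mul).mp hdvd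
  obtain ⟨a, ha, rfl⟩ := (Nat.dvd_prime_pow Nat.prime_two).mp h1
  obtain ⟨b, hb, rfl⟩ := (Nat.dvd_prime_pow Nat.prime_three).mp h2
  interval_cases a <;> interval_cases b <;> simp_all

/-- the same for the group order: `N = 55 n` -/
theorem order_cases {N n : ℕ} (hN : N = 55 * n) (hdvd : n ∣ 2 ^ 7 * 3 ^ 3) (hmod : n % 11 = 1) :
    N = 55 ∨ N = 660 ∨ N = 7920 ∨ N = 95040 := by
  rcases divisors_mod_eleven hdvd hmod with rfl | rfl | rfl | rfl <;> simp [hN]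

/-- a number `n` with `n ∣ 2^8·3^4·5^2·7·11`-type constraints: the `{2,3}`-part of a divisor of `11!` not divisible by
`7, 25, 81, 256` and of the form `55 n` -/
theorem dvd_of_factorial {N n : ℕ} (hN : N = 55 * n) (hfac : N ∣ Nat.factorial 11) (h7 : ¬ 7 ∣ N)
    (h25 : ¬ 25 ∣ N) (h81 : ¬ 81 ∣ N) (h256 : ¬ 256 ∣ N) : n ∣ 2 ^ 7 * 3 ^ 3 := by
  -- 11! = 2^8 * 3^4 * 5^2 * 7 * 11
  have h11 : Nat.factorial 11 = 2 ^ 8 * 3 ^ 4 * 5 ^ 2 * 7 * 11 := by decide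
  subst hN
  rw [h11] at hfac
  -- n ∣ 2^8 * 3^4 * 5 * 7
  have h1 : n ∣ 2 ^ 8 * 3 ^ 4 * 5 * 7 := by
    have : 55 * n ∣ 55 * (2 ^ 8 * 3 ^ 4 * 5 * 7) := by
      have e : 55 * (2 ^ 8 * 3 ^ 4 * 5 * 7) = 2 ^ 8 * 3 ^ 4 * 5 ^ 2 * 7 * 11 := by norm_num
      rw [e]; exact hfac
    exact (Nat.mul_dvd_mul_iff_left (by norm_num)).mp this
  -- write n = 2^a 3^b 5^c 7^d
  obtain ⟨m1, k7, hm1, hk7, rfl⟩ := (Nat.dvd_mul).mp h1
  obtain ⟨m2, k5, hm2, hk5, rfl⟩ := (Nat.dvd_mul).mp hm1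
  obtain ⟨k2, k3, hk2, hk3, rfl⟩ := (Nat.dvd_mul).mp hm2
  obtain ⟨a, ha, rfl⟩ := (Nat.dvd_prime_pow Nat.prime_two).mp hk2
  obtain ⟨b, hb, rfl⟩ := (Nat.dvd_prime_pow Nat.prime_three).mp hk3
  have h5 : k5 = 1 ∨ k5 = 5 := (Nat.dvd_prime Nat.prime_five).mp hk5
  have h7' : k7 = 1 ∨ k7 = 7 := (Nat.dvd_prime (by norm_num : Nat.Prime 7)).mp hk7
  have hk7 : k7 = 1 := by
    rcases h7' with h | h
    · exact h
    · exfalso; apply h7; subst h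
      exact Dvd.dvd.mul_left (Dvd.dvd.mul_left (dvd_refl 7) _) _
  have hk5 : k5 = 1 := by
    rcases h5 with h | h
    · exact h
    · exfalso; apply h25; subst h
      refine ⟨2 ^ a * 3 ^ b * k7 * 11 / 5 * 1, ?_⟩
      subst hk7
      ring_nf
      omega
  subst hk7 hk5
  have ha7 : a ≤ 7 := by
    by_contra h
    have : a = 8 := by omega
    subst this
    apply h256
    exact ⟨55 * 3 ^ b, by ring⟩
  have hb3 : b ≤ 3 := by
    by_contra h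
    have : b = 4 := by omega
    subst this
    apply h81
    exact ⟨55 * 2 ^ a, by ring⟩
  simp only [mul_one]
  exact Nat.mul_dvd_mul (Nat.pow_dvd_pow 2 ha7) (Nat.pow_dvd_pow 3 hb3)

end Cfsg.Agent.Helper10.S0679Arith
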