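import Mathlib
import Cfsg.Agent.Helper10.S0679ARITH

set_option autoImplicit false
set_option linter.unusedSectionVars false
set_option linter.unusedVariables false

/-! # S0679, piece 1-ARITHN (helper10): the arithmetic of chapter (1); (1-ARITHD is `Cfsg.Agent.Helper22.S0679ARITHD`) -/

namespace Cfsg.Agent.S0679P

/-- 1-ARITHN (S; pure arithmetic) -/
theorem ONE.ARITHN {m n : ℕ} (hm : m ∣ 39916800) (h7 : ¬ 7 ∣ m) (h25 : ¬ 25 ∣ m) (h81 : ¬ 81 ∣ m)
    (h256 : ¬ 256 ∣ m) (hmn : m = 11 * 5 * n) (hn : n % 11 = 1) (h110 : 110 ∣ m) :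
    m = 660 ∨ m = 7920 ∨ m = 95040 := by
  have hN : m = 55 * n := by rw [hmn]
  have hfac : m ∣ Nat.factorial 11 := by
    have : Nat.factorial 11 = 39916800 := by decide
    rw [this]; exact hm
  have hdvd := Cfsg.Agent.Helper10.S0679Arith.dvd_of_factorial hN hfac h7 h25 h81 h256
  rcases Cfsg.Agent.Helper10.S0679Arith.order_cases hN hdvd hn with h | h | h | h
  · exfalso
    rw [h] at h110
    omega
  · exact Or.inl h
  · exact Or.inr (Or.inl h)
  · exact Or.inr (Or.inr h)

end Cfsg.Agent.S0679P
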