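import Mathlib

set_option autoImplicit false
set_option linter.unusedSectionVars false

/-! # S0679, generic `Equiv.Perm` tools (b): elements commuting with `x` (helper10)

* `PermB.apply_mem_support_iff`, `PermB.apply_fixed_iff`: `y` commuting with `x` preserves `supp x` and `Fix x`;
* `PermB.card_modEq_filter_fixed`: a `p`-element preserves every invariant finite set modulo `p`
  (`#S ≡ #{a ∈ S | y a = a}`);
* `PermB.disjoint_support_of_commute`: `y ^ p = 1`, `y` commutes with `x`, `#supp x = p + 1` ⟹ `y` fixes `supp x` pointwise;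
* `PermB.isCycle_of_commute`: on `2 p + 1` points (`11 = 2 * 5 + 1`), an element of order `p` commuting with an
  `x` whose support has `p + 1` points (types `3^2 1^5`, `2^3 1^5` for `p = 5`) is a `p`-cycle;
* `PermB.exists_smul_eq_of_card_prime`: a `p`-group preserving a set of `p` points, none of them fixed by the
  whole group, is transitive on it. -/

namespace Cfsg.Agent.Helper10.PermB

open Equiv Equiv.Perm

variable {α : Type*} [Fintype α] [DecidableEq α]

/-- `y` commuting with `x` preserves the support of `x` -/
theorem apply_mem_support_iff {x y : Perm α} (hc : Commute x y) (a : α) :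
    y a ∈ x.support ↔ a ∈ x.support := by
  have h : ∀ b, x (y b) = y (x b) := fun b => by
    have := congrArg (fun f : Perm α => f b) hc.eq
    simpa [Perm.mul_apply] using this
  rw [Perm.mem_support, Perm.mem_support, h]
  exact not_congr y.injective.eq_iff

/-- `y` commuting with `x` preserves the fixed points of `x` -/
theorem apply_fixed_iff {x y : Perm α} (hc : Commute x y) (a : α) :
    x (y a) = y a ↔ x a = a := by
  have := apply_mem_support_iff hc a
  rw [Perm.mem_support, Perm.mem_support] at this
  exact not_iff_not.mp this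

/-- a `p`-element preserves the cardinality of an invariant finite set modulo `p` -/
theorem card_modEq_filter_fixed {p n : ℕ} [Fact p.Prime] (y : Perm α) (hy : y ^ p ^ n = 1)
    (S : Finset α) (hS : ∀ a, y a ∈ S ↔ a ∈ S) :
    S.card ≡ (S.filter (fun a => y a = a)).card [MOD p] := by
  classical
  have h1 : (y.subtypePerm hS) ^ p ^ n = 1 := by
    ext ⟨a, ha⟩
    simp [Perm.subtypePerm_pow, hy]
  have h2 := Perm.card_compl_support_modEq h1
  have h3 : Fintype.card {a // a ∈ S} = S.card := Fintype.card_coe S
  have h4 : ((y.subtypePerm hS).support)ᶜ.card = (S.filter (fun a => y a = a)).card := by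
    rw [← Finset.card_map (Function.Embedding.subtype (fun a => a ∈ S))]
    congr 1
    ext a
    simp only [Finset.mem_map, Finset.mem_compl, Perm.mem_support, not_not,
      Function.Embedding.coe_subtype, Finset.mem_filter, Subtype.exists, exists_and_right,
      exists_eq_right, Perm.subtypePerm_apply, Subtype.mk.injEq]
    constructor
    · rintro ⟨h, hh⟩
      exact ⟨h, hh⟩
    · rintro ⟨h, hh⟩
      exact ⟨h, hh⟩
  rw [h3, h4] at h2
  exact h2.symm

/-- `y ^ p = 1`, `y` commutes with `x`, and `x` moves exactly `p + 1` points: then `y` fixes every point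
moved by `x` -/
theorem disjoint_support_of_commute {p : ℕ} [hp : Fact p.Prime] {x y : Perm α} (hc : Commute x y)
    (hy : y ^ p = 1) (hx : x.support.card = p + 1) : Disjoint x.support y.support := by
  classical
  have hS : ∀ a, y a ∈ x.support ↔ a ∈ x.support := apply_mem_support_iff hc
  have hmod := card_modEq_filter_fixed (p := p) (n := 1) y (by simpa using hy) x.support hS
  set A := x.support.filter (fun a => y a = a) with hA
  have hAle : A.card ≤ p + 1 := by
    rw [← hx]; exact Finset.card_filter_le _ _
  rw [hx] at hmod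
  have hp2 : 2 ≤ p := hp.out.two_le
  -- `#A ≡ 1 mod p`, `#A ≤ p + 1`
  have hcases : A.card = 1 ∨ A.card = p + 1 := by
    have h1 : (p + 1) % p = 1 := by
      rw [Nat.add_mod_left]; exact Nat.mod_eq_of_lt (by omega)
    have h2 : A.card % p = 1 := by
      have := hmod
      unfold Nat.ModEq at this
      rw [h1] at this
      exact this.symm
    by_cases hlt : A.card < p
    · left
      rw [Nat.mod_eq_of_lt hlt] at h2
      exact h2
    · right
      push Not at hlt
      have h3 : A.card = p * (A.card / p) + A.card % p := (Nat.div_add_mod _ _).symm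
      have h4 : A.card / p < 2 := by
        rw [Nat.div_lt_iff_lt_mul (by omega)]
        omega
      have h5 : 1 ≤ A.card / p := (Nat.one_le_div_iff (by omega)).mpr hlt
      have h6 : A.card / p = 1 := by omega
      rw [h6, h2] at h3
      omega
  rcases hcases with h1 | h1
  · -- a single fixed point `w` of `y` in `supp x`: then `x w = w`
    exfalso
    obtain ⟨w, hw⟩ := Finset.card_eq_one.mp h1
    have hwA : w ∈ A := by rw [hw]; exact Finset.mem_singleton_self w
    have hwS : w ∈ x.support := (Finset.mem_filter.mp hwA).1
    have hyw : y w = w := (Finset.mem_filter.mp hwA).2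
    have hxw : x w ∈ A := by
      rw [hA, Finset.mem_filter]
      refine ⟨Perm.apply_mem_support.mpr hwS, ?_⟩
      have := congrArg (fun f : Perm α => f w) hc.eq
      simp only [Perm.mul_apply] at this
      rw [← this, hyw]
    rw [hw, Finset.mem_singleton] at hxw
    exact (Perm.mem_support.mp hwS) hxw
  · -- all of `supp x` is fixed by `y`
    have hAS : A = x.support := by
      apply Finset.eq_of_subset_of_card_le (Finset.filter_subset _ _)
      rw [h1, hx]
    rw [Finset.disjoint_left]
    intro a ha hay
    rw [← hAS] at ha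
    exact (Perm.mem_support.mp hay) (Finset.mem_filter.mp ha).2

/-- on `2 p + 1` points an element of order `p` commuting with an `x` moving exactly `p + 1` points is a
`p`-cycle (for `p = 5`: `11` points, `x` of type `3^2 1^5` or `2^3 1^5`) -/
theorem isCycle_of_commute {p : ℕ} [hp : Fact p.Prime] (hα : Fintype.card α = 2 * p + 1)
    {x y : Perm α} (hc : Commute x y) (hy : orderOf y = p) (hx : x.support.card = p + 1) :
    y.IsCycle ∧ y.support.card = p := by
  classical
  have hyp : y ^ p = 1 := by rw [← hy]; exact pow_orderOf_eq_one y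
  have hd := disjoint_support_of_commute hc hyp hx
  have hsub : y.support ⊆ x.supportᶜ := by
    intro a ha
    rw [Finset.mem_compl]
    exact fun hxa => (Finset.disjoint_left.mp hd) hxa ha
  have hle : y.support.card ≤ p := by
    have := Finset.card_le_card hsub
    rw [Finset.card_compl, hα, hx] at this
    omega
  have hp2 : 2 ≤ p := hp.out.two_le
  have hcyc : y.IsCycle := by
    apply Perm.isCycle_of_prime_order (by rw [hy]; exact hp.out)
    rw [hy]; omega
  exact ⟨hcyc, by rw [← hcyc.orderOf, hy]⟩

/-- a `p`-group of permutations preserving a set `S` of `p` points, no point of which is fixed by the whole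
group, is transitive on `S` -/
theorem exists_smul_eq_of_card_prime {p : ℕ} [hp : Fact p.Prime] (T : Subgroup (Perm α))
    (hT : IsPGroup p T) (S : Finset α) (hS : ∀ t ∈ T, ∀ a, t a ∈ S ↔ a ∈ S) (hcard : S.card = p)
    (hnf : ∀ a ∈ S, ∃ t ∈ T, t a ≠ a) {a b : α} (ha : a ∈ S) (hb : b ∈ S) : ∃ t ∈ T, t a = b := by
  classical
  -- the orbit of `a` as a finset
  set O : Finset α := Finset.univ.filter (fun c => ∃ t ∈ T, t a = c) with hO
  have hOS : O ⊆ S := by
    intro c hc
    obtain ⟨t, ht, rfl⟩ := (Finset.mem_filter.mp hc).2
    exact (hS t ht a).mpr ha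
  have horb : ∀ c, c ∈ O ↔ c ∈ MulAction.orbit T a := by
    intro c
    rw [hO, Finset.mem_filter]
    constructor
    · rintro ⟨-, t, ht, rfl⟩
      exact ⟨⟨t, ht⟩, rfl⟩
    · rintro ⟨⟨t, ht⟩, rfl⟩
      exact ⟨Finset.mem_univ _, t, ht, rfl⟩
  obtain ⟨n, hn⟩ := hT.card_orbit a
  have hOcard : O.card = p ^ n := by
    rw [← hn, Nat.card_eq_fintype_card, ← Set.toFinset_card]
    congr 1
    ext c
    rw [Set.mem_toFinset]
    exact horb c
  have hle : O.card ≤ p := by rw [← hcard]; exact Finset.card_le_card hOS
  have hp2 : 2 ≤ p := hp.out.two_le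
  have hn1 : n ≤ 1 := by
    by_contra h
    push Not at h
    have : p ^ 2 ≤ p ^ n := Nat.pow_le_pow_right (by omega) h
    have h3 : p * 2 ≤ p ^ 2 := by rw [pow_two]; exact Nat.mul_le_mul_left p hp2
    omega
  have hn0 : n ≠ 0 := by
    rintro rfl
    rw [pow_zero] at hOcard
    obtain ⟨t, ht, hta⟩ := hnf a ha
    obtain ⟨w, hw⟩ := Finset.card_eq_one.mp hOcard
    have h1 : a ∈ O := by
      rw [hO, Finset.mem_filter]; exact ⟨Finset.mem_univ _, 1, T.one_mem, rfl⟩
    have h2 : t a ∈ O := by
      rw [hO, Finset.mem_filter]; exact ⟨Finset.mem_univ _, t, ht, rfl⟩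
    rw [hw, Finset.mem_singleton] at h1 h2
    exact hta (h2.trans h1.symm)
  have hn' : n = 1 := by omega
  have hOS' : O = S := by
    apply Finset.eq_of_subset_of_card_le hOS
    rw [hOcard, hn', pow_one, hcard]
  rw [← hOS'] at hb
  exact (Finset.mem_filter.mp hb).2

end Cfsg.Agent.Helper10.PermB
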