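import Cfsg.Agent.Helper27.S0745Defs

/-!
# S0745 / S0746, board `s0745pieces`, row CARDG: `|G| = n (n-1) ⋯ (n-t+1) · c`
-/

set_option autoImplicit false

namespace Cfsg.Agent.S0745P

open Equiv

variable {α : Type*} [Fintype α] [DecidableEq α]

/-- CARDG -/
theorem card_G {G : Subgroup (Perm α)} {t c r : ℕ} (h : Hyp G t c r) :
    Nat.card G = (Fintype.card α).descFactorial t * c := by
  classical
  -- a base embedding
  have hle : Fintype.card (Fin t) ≤ Fintype.card α := by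
    rw [Fintype.card_fin, h.deg]; omega
  obtain ⟨x₀⟩ : Nonempty (Fin t ↪ α) := Function.Embedding.nonempty_of_card_le hle
  let s₀ : Finset α := Finset.univ.map x₀
  have hs₀ : s₀.card = t := by simp [s₀]
  have hmem : ∀ a, a ∈ s₀ ↔ ∃ i, x₀ i = a := by simp [s₀]
  choose σ hσG hσ using fun y : Fin t ↪ α => h.trans x₀ y
  let Φ : ↥G → (Fin t ↪ α) := fun g => x₀.trans (g : Perm α).toEmbedding
  have hΦ : ∀ g i, Φ g i = (g : Perm α) (x₀ i) := fun _ _ => rfl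
  have hmem1 : ∀ g : ↥G, (σ (Φ g))⁻¹ * (g : Perm α) ∈ PS G s₀ := by
    intro g
    refine ⟨G.mul_mem (G.inv_mem (hσG _)) g.2, ?_⟩
    intro a ha
    obtain ⟨i, rfl⟩ := (hmem a).1 ha
    rw [Perm.mul_apply, Perm.inv_eq_iff_eq, hσ (Φ g) i, hΦ]
  have hmem2 : ∀ (y : Fin t ↪ α) (k : ↥(PS G s₀)), σ y * (k : Perm α) ∈ G :=
    fun y k => G.mul_mem (hσG y) k.2.1
  have hΦσ : ∀ (y : Fin t ↪ α) (k : ↥(PS G s₀)), Φ ⟨σ y * (k : Perm α), hmem2 y k⟩ = y := by
    intro y k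
    ext i
    rw [hΦ]
    change (σ y * (k : Perm α)) (x₀ i) = y i
    rw [Perm.mul_apply, k.2.2 (x₀ i) ((hmem _).2 ⟨i, rfl⟩), hσ y i]
  let e : ↥G ≃ (Fin t ↪ α) × ↥(PS G s₀) :=
    { toFun := fun g => (Φ g, ⟨(σ (Φ g))⁻¹ * (g : Perm α), hmem1 g⟩)
      invFun := fun yk => ⟨σ yk.1 * (yk.2 : Perm α), hmem2 yk.1 yk.2⟩
      left_inv := by
        intro g
        apply Subtype.ext
        change σ (Φ g) * ((σ (Φ g))⁻¹ * (g : Perm α)) = g
        rw [mul_inv_cancel_left]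
      right_inv := by
        rintro ⟨y, k⟩
        refine Prod.ext (hΦσ y k) (Subtype.ext ?_)
        change (σ (Φ ⟨σ y * (k : Perm α), hmem2 y k⟩))⁻¹ * (σ y * (k : Perm α)) = k
        rw [hΦσ y k, inv_mul_cancel_left] }
  rw [Nat.card_congr e, Nat.card_prod, Nat.card_eq_fintype_card, Fintype.card_embedding_eq,
    Fintype.card_fin, h.cardH s₀ hs₀]

end Cfsg.Agent.S0745P
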