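import Mathlib

/-! # S0747, board `s0747pieces`, row B_EVEN (core): if any two points of `Δ` are interchanged by an element of `G`
fixing the other points of `Δ`, every permutation of `Δ` is induced by an element of `G`
(the induced permutations form a subgroup of `Perm Δ` containing all swaps). -/

set_option autoImplicit false

namespace Cfsg.Agent.S0747P

/-- Core of B_EVEN: the swap property (the conclusion of the row B_SWAP) is taken as a hypothesis. -/
theorem B_EVEN_aux_core {α : Type*} [Fintype α] [DecidableEq α] (G : Subgroup (Equiv.Perm α)) (Δ : Finset α)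
    (hswap : ∀ u v : α, u ∈ Δ → v ∈ Δ → u ≠ v →
      ∃ g ∈ G, g u = v ∧ g v = u ∧ ∀ w ∈ Δ, w ≠ u → w ≠ v → g w = w)
    (σ : Equiv.Perm ↥Δ) : ∃ g ∈ G, ∀ x : ↥Δ, g (x : α) = σ x := by
  classical
  -- the subgroup of induced permutations
  let H : Subgroup (Equiv.Perm ↥Δ) :=
    { carrier := {τ | ∃ g ∈ G, ∀ x : ↥Δ, g (x : α) = τ x}
      one_mem' := ⟨1, G.one_mem, fun x => rfl⟩
      mul_mem' := by
        rintro τ₁ τ₂ ⟨g₁, hg₁, h₁⟩ ⟨g₂, hg₂, h₂⟩
        refine ⟨g₁ * g₂, G.mul_mem hg₁ hg₂, fun x => ?_⟩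
        rw [Equiv.Perm.mul_apply, h₂ x, h₁ (τ₂ x), Equiv.Perm.mul_apply]
      inv_mem' := by
        rintro τ ⟨g, hg, h⟩
        refine ⟨g⁻¹, G.inv_mem hg, fun x => ?_⟩
        rw [Equiv.Perm.inv_eq_iff_eq]
        have := h (τ⁻¹ x)
        rw [this]
        simp }
  have hH : H = ⊤ := by
    rw [eq_top_iff, ← Equiv.Perm.closure_isSwap, Subgroup.closure_le]
    rintro τ ⟨a, b, hab, rfl⟩
    have hab' : (a : α) ≠ (b : α) := fun h => hab (Subtype.ext h)
    obtain ⟨g, hg, hga, hgb, hgw⟩ := hswap a b a.2 b.2 hab'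
    refine ⟨g, hg, fun x => ?_⟩
    by_cases hxa : x = a
    · subst hxa
      rw [Equiv.swap_apply_left]; exact hga
    · by_cases hxb : x = b
      · subst hxb
        rw [Equiv.swap_apply_right]; exact hgb
      · rw [Equiv.swap_apply_of_ne_of_ne hxa hxb]
        exact hgw x x.2 (fun h => hxa (Subtype.ext h)) (fun h => hxb (Subtype.ext h))
  have : σ ∈ H := hH ▸ Subgroup.mem_top σ
  exact this

end Cfsg.Agent.S0747P
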