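import Mathlib
import Cfsg.Agent.Helper10.S0747BEVENcore
import Cfsg.Agent.Helper19.S0747BSWAP

/-! # S0747, board `s0747pieces`, row B_EVEN: under the hypotheses of B_SWAP every permutation of every `(k+1)`-set
is induced by an element of `G`. -/

set_option autoImplicit false

namespace Cfsg.Agent.S0747P

open MulAction

/-- B_EVEN: under the hypotheses of B_SWAP every permutation of every `(k+1)`-set is induced (the induced permutations
form a subgroup of `Perm Δ` containing all swaps: `Equiv.Perm.closure_isSwap`). -/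
theorem B_EVEN {α : Type*} [Fintype α] [DecidableEq α] (G : Subgroup (Equiv.Perm α)) {k : ℕ} (hk : 1 ≤ k)
    (hsemi : ∀ g ∈ G, g ≠ 1 → (Finset.univ.filter fun a => g a = a).card ≤ k)
    (heven : ∀ T : Finset α, T.card = k → Even (Nat.card (fixingSubgroup ↥G (T : Set α))))
    (Δ : Finset α) (hΔ : Δ.card = k + 1) (σ : Equiv.Perm ↥Δ) : ∃ g ∈ G, ∀ x : ↥Δ, g (x : α) = σ x :=
  B_EVEN_aux_core G Δ (fun u v hu hv huv => B_SWAP G hk hsemi heven Δ hΔ u v hu hv huv) σ

end Cfsg.Agent.S0747P
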