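import Mathlib
import Cfsg.Prelude.Def_Spor_Ru

/-! # S1628: data (generated): an adapted `ℤ[i]`-basis `av j = (1+i)^(ev j) • wv j` of the Conway–Wales lattice
(as stored), coefficient certificates for the generating table and the four monomial maps, parity masks. -/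

set_option autoImplicit false
set_option linter.all false

namespace Cfsg.Agent.S1628P

open Cfsg.Spor

def wT : Fin 28 → Fin 7 → Fin 4 → GaussianInt := ![
  ![![⟨-1, 0⟩, ⟨0, 0⟩, ⟨0, 0⟩, ⟨1, 2⟩], ![⟨0, 0⟩, ⟨0, 0⟩, ⟨-2, -1⟩, ⟨1, 0⟩], ![⟨0, 0⟩, ⟨0, 0⟩, ⟨2, -1⟩, ⟨0, -1⟩], ![⟨2, 0⟩, ⟨2, -1⟩, ⟨-2, 0⟩, ⟨1, 0⟩], ![⟨-1, -3⟩, ⟨-2, 1⟩, ⟨0, 1⟩, ⟨1, 1⟩], ![⟨0, 0⟩, ⟨1, 2⟩, ⟨0, -2⟩, ⟨-1, 0⟩], ![⟨0, -1⟩, ⟨1, 0⟩, ⟨2, -1⟩, ⟨1, -2⟩]],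
  ![![⟨0, 0⟩, ⟨1, 0⟩, ⟨0, 0⟩, ⟨1, -2⟩], ![⟨0, 0⟩, ⟨0, 0⟩, ⟨-1, 3⟩, ⟨0, 2⟩], ![⟨0, 0⟩, ⟨0, 1⟩, ⟨-1, -2⟩, ⟨0, 0⟩], ![⟨1, -3⟩, ⟨0, -2⟩, ⟨0, 1⟩, ⟨-2, 1⟩], ![⟨-1, 1⟩, ⟨4, 2⟩, ⟨-1, -2⟩, ⟨-2, -1⟩], ![⟨-1, 3⟩, ⟨2, -1⟩, ⟨-2, 0⟩, ⟨-2, -1⟩], ![⟨1, -1⟩, ⟨1, 0⟩, ⟨1, -2⟩, ⟨1, -1⟩]],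
  ![![⟨1, 1⟩, ⟨0, 0⟩, ⟨0, -1⟩, ⟨-2, -1⟩], ![⟨0, 0⟩, ⟨0, 0⟩, ⟨3, 0⟩, ⟨1, 0⟩], ![⟨0, 0⟩, ⟨1, 0⟩, ⟨-2, 2⟩, ⟨0, 1⟩], ![⟨-3, -1⟩, ⟨-1, 2⟩, ⟨0, -1⟩, ⟨0, 0⟩], ![⟨1, 3⟩, ⟨1, -2⟩, ⟨1, -1⟩, ⟨-1, -2⟩], ![⟨-1, -1⟩, ⟨0, -2⟩, ⟨-1, -1⟩, ⟨-1, 1⟩], ![⟨0, 0⟩, ⟨1, 0⟩, ⟨-1, 0⟩, ⟨1, 1⟩]],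
  ![![⟨0, 0⟩, ⟨0, 0⟩, ⟨0, 0⟩, ⟨1, -3⟩], ![⟨0, 0⟩, ⟨0, -1⟩, ⟨0, 1⟩, ⟨1, 1⟩], ![⟨0, 0⟩, ⟨0, 0⟩, ⟨-3, -2⟩, ⟨0, 1⟩], ![⟨1, -3⟩, ⟨-1, -1⟩, ⟨-2, -1⟩, ⟨-2, 1⟩], ![⟨-1, 1⟩, ⟨1, 0⟩, ⟨0, -2⟩, ⟨1, 2⟩], ![⟨1, 1⟩, ⟨-1, -2⟩, ⟨-1, 0⟩, ⟨-1, 1⟩], ![⟨1, -1⟩, ⟨-1, 0⟩, ⟨2, -2⟩, ⟨-2, -1⟩]],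
  ![![⟨0, 0⟩, ⟨0, 0⟩, ⟨0, 0⟩, ⟨1, 1⟩], ![⟨0, 1⟩, ⟨0, 0⟩, ⟨0, 2⟩, ⟨0, 1⟩], ![⟨0, 0⟩, ⟨-1, 1⟩, ⟨2, -1⟩, ⟨0, -1⟩], ![⟨0, 0⟩, ⟨1, -1⟩, ⟨3, 0⟩, ⟨0, -1⟩], ![⟨0, 0⟩, ⟨1, 2⟩, ⟨-1, -1⟩, ⟨1, -2⟩], ![⟨-1, 1⟩, ⟨2, 1⟩, ⟨-2, -1⟩, ⟨-1, -1⟩], ![⟨-1, -2⟩, ⟨1, 1⟩, ⟨0, -1⟩, ⟨1, -1⟩]],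
  ![![⟨0, 0⟩, ⟨0, 0⟩, ⟨0, 0⟩, ⟨0, 2⟩], ![⟨0, 0⟩, ⟨0, 0⟩, ⟨1, -1⟩, ⟨-1, -1⟩], ![⟨0, 0⟩, ⟨-1, 1⟩, ⟨2, 2⟩, ⟨-1, 1⟩], ![⟨-1, 2⟩, ⟨1, 2⟩, ⟨1, 0⟩, ⟨0, 1⟩], ![⟨3, -1⟩, ⟨-2, 0⟩, ⟨-1, -1⟩, ⟨0, 0⟩], ![⟨-2, 2⟩, ⟨1, 3⟩, ⟨-1, -1⟩, ⟨-2, 0⟩], ![⟨0, -1⟩, ⟨-1, 0⟩, ⟨0, 1⟩, ⟨2, -1⟩]],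
  ![![⟨0, 0⟩, ⟨0, 0⟩, ⟨0, 0⟩, ⟨0, 0⟩], ![⟨0, 0⟩, ⟨0, 0⟩, ⟨0, 0⟩, ⟨0, 0⟩], ![⟨0, 0⟩, ⟨1, -1⟩, ⟨0, 0⟩, ⟨-1, -1⟩], ![⟨0, 0⟩, ⟨0, 0⟩, ⟨0, 0⟩, ⟨0, -2⟩], ![⟨-1, 0⟩, ⟨-1, 0⟩, ⟨0, 3⟩, ⟨1, 0⟩], ![⟨1, -3⟩, ⟨-1, -1⟩, ⟨0, -2⟩, ⟨2, 2⟩], ![⟨0, 1⟩, ⟨1, -2⟩, ⟨-2, 1⟩, ⟨0, 1⟩]],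
  ![![⟨0, 0⟩, ⟨0, 0⟩, ⟨0, 0⟩, ⟨0, 0⟩], ![⟨-1, 1⟩, ⟨0, 0⟩, ⟨0, 2⟩, ⟨1, 1⟩], ![⟨0, -1⟩, ⟨0, 1⟩, ⟨1, 0⟩, ⟨-2, -1⟩], ![⟨0, 0⟩, ⟨2, 0⟩, ⟨3, 3⟩, ⟨1, -1⟩], ![⟨0, 0⟩, ⟨0, 0⟩, ⟨-2, 0⟩, ⟨0, 0⟩], ![⟨-1, 1⟩, ⟨1, 1⟩, ⟨-1, 1⟩, ⟨1, 1⟩], ![⟨0, -1⟩, ⟨1, 2⟩, ⟨-1, -2⟩, ⟨1, 0⟩]],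
  ![![⟨0, 0⟩, ⟨0, 0⟩, ⟨0, 0⟩, ⟨2, 0⟩], ![⟨0, 0⟩, ⟨0, 0⟩, ⟨0, 2⟩, ⟨0, 2⟩], ![⟨0, 0⟩, ⟨-1, 1⟩, ⟨1, -1⟩, ⟨0, 2⟩], ![⟨0, 0⟩, ⟨0, 0⟩, ⟨2, 2⟩, ⟨0, 2⟩], ![⟨0, 0⟩, ⟨2, 2⟩, ⟨-1, -1⟩, ⟨1, 1⟩], ![⟨-1, 2⟩, ⟨2, 1⟩, ⟨-1, 2⟩, ⟨-1, 0⟩], ![⟨0, -1⟩, ⟨2, 1⟩, ⟨2, 1⟩, ⟨1, 0⟩]],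
  ![![⟨0, 0⟩, ⟨2, 2⟩, ⟨0, 0⟩, ⟨1, -1⟩], ![⟨0, 0⟩, ⟨0, 0⟩, ⟨1, 1⟩, ⟨2, 0⟩], ![⟨0, 0⟩, ⟨2, 0⟩, ⟨2, 0⟩, ⟨-1, 1⟩], ![⟨0, 0⟩, ⟨0, 0⟩, ⟨1, 1⟩, ⟨0, 0⟩], ![⟨0, 0⟩, ⟨1, 1⟩, ⟨0, 0⟩, ⟨0, 0⟩], ![⟨0, 0⟩, ⟨1, -1⟩, ⟨1, 1⟩, ⟨-1, 1⟩], ![⟨0, -1⟩, ⟨0, -1⟩, ⟨0, 1⟩, ⟨0, -1⟩]],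
  ![![⟨0, 0⟩, ⟨0, 0⟩, ⟨0, 0⟩, ⟨0, 0⟩], ![⟨0, 0⟩, ⟨0, 0⟩, ⟨0, 0⟩, ⟨-1, 1⟩], ![⟨0, 0⟩, ⟨0, 0⟩, ⟨1, 0⟩, ⟨-1, 0⟩], ![⟨0, 0⟩, ⟨0, 0⟩, ⟨-1, -1⟩, ⟨0, 0⟩], ![⟨0, 0⟩, ⟨0, 0⟩, ⟨-1, 1⟩, ⟨0, 0⟩], ![⟨0, 0⟩, ⟨0, 0⟩, ⟨0, 0⟩, ⟨-1, 1⟩], ![⟨0, 0⟩, ⟨-1, 0⟩, ⟨0, 0⟩, ⟨0, -1⟩]],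
  ![![⟨0, 0⟩, ⟨0, 0⟩, ⟨0, 0⟩, ⟨2, -2⟩], ![⟨0, 0⟩, ⟨0, 0⟩, ⟨1, -1⟩, ⟨1, -1⟩], ![⟨0, 0⟩, ⟨0, -1⟩, ⟨0, 0⟩, ⟨0, 1⟩], ![⟨0, 0⟩, ⟨0, 0⟩, ⟨0, 0⟩, ⟨1, -1⟩], ![⟨0, 0⟩, ⟨1, 1⟩, ⟨0, 0⟩, ⟨-1, 1⟩], ![⟨0, 0⟩, ⟨-1, -1⟩, ⟨0, -1⟩, ⟨0, 1⟩], ![⟨0, 0⟩, ⟨0, 0⟩, ⟨1, -1⟩, ⟨-1, -1⟩]],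
  ![![⟨0, 0⟩, ⟨0, 0⟩, ⟨0, 0⟩, ⟨1, -1⟩], ![⟨0, 0⟩, ⟨0, 0⟩, ⟨1, 0⟩, ⟨0, -1⟩], ![⟨0, 0⟩, ⟨0, 0⟩, ⟨0, 0⟩, ⟨-1, 1⟩], ![⟨0, 0⟩, ⟨1, -1⟩, ⟨1, -1⟩, ⟨1, -1⟩], ![⟨0, 0⟩, ⟨1, 1⟩, ⟨0, 0⟩, ⟨0, 0⟩], ![⟨0, 0⟩, ⟨0, 0⟩, ⟨0, 0⟩, ⟨0, 0⟩], ![⟨0, 0⟩, ⟨1, 0⟩, ⟨1, 0⟩, ⟨0, 0⟩]],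
  ![![⟨0, 0⟩, ⟨0, 0⟩, ⟨0, 0⟩, ⟨1, -1⟩], ![⟨0, 0⟩, ⟨0, 0⟩, ⟨0, 0⟩, ⟨1, -1⟩], ![⟨0, 0⟩, ⟨0, 0⟩, ⟨0, 0⟩, ⟨-1, 1⟩], ![⟨0, 0⟩, ⟨0, -1⟩, ⟨0, 0⟩, ⟨-1, 0⟩], ![⟨0, 0⟩, ⟨0, 0⟩, ⟨1, -1⟩, ⟨1, 1⟩], ![⟨0, 0⟩, ⟨0, 0⟩, ⟨0, 0⟩, ⟨1, 1⟩], ![⟨0, 0⟩, ⟨-1, -1⟩, ⟨0, 1⟩, ⟨1, 0⟩]],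
  ![![⟨0, 0⟩, ⟨0, 0⟩, ⟨0, 0⟩, ⟨0, 0⟩], ![⟨0, 0⟩, ⟨0, 0⟩, ⟨0, 0⟩, ⟨0, 0⟩], ![⟨0, 0⟩, ⟨0, 0⟩, ⟨0, 0⟩, ⟨1, -1⟩], ![⟨0, 0⟩, ⟨0, 0⟩, ⟨0, -1⟩, ⟨1, 0⟩], ![⟨0, 0⟩, ⟨0, 0⟩, ⟨0, 0⟩, ⟨1, -1⟩], ![⟨0, 0⟩, ⟨0, 0⟩, ⟨0, -1⟩, ⟨0, -1⟩], ![⟨0, 0⟩, ⟨0, 0⟩, ⟨0, -1⟩, ⟨1, 0⟩]],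
  ![![⟨0, 0⟩, ⟨0, 0⟩, ⟨0, 0⟩, ⟨0, 0⟩], ![⟨0, 0⟩, ⟨0, 0⟩, ⟨0, 0⟩, ⟨0, 0⟩], ![⟨0, 0⟩, ⟨0, 0⟩, ⟨0, 0⟩, ⟨1, -1⟩], ![⟨0, 0⟩, ⟨0, 0⟩, ⟨0, 0⟩, ⟨1, -1⟩], ![⟨0, 0⟩, ⟨0, -1⟩, ⟨0, 0⟩, ⟨0, -1⟩], ![⟨0, 0⟩, ⟨0, 0⟩, ⟨0, -1⟩, ⟨0, -1⟩], ![⟨0, 0⟩, ⟨1, 0⟩, ⟨0, -1⟩, ⟨0, 0⟩]],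
  ![![⟨0, 0⟩, ⟨0, 0⟩, ⟨0, 0⟩, ⟨0, 0⟩], ![⟨0, 0⟩, ⟨0, 0⟩, ⟨0, 0⟩, ⟨1, -1⟩], ![⟨0, 0⟩, ⟨0, 0⟩, ⟨0, 0⟩, ⟨0, 0⟩], ![⟨0, 0⟩, ⟨0, 0⟩, ⟨0, 0⟩, ⟨0, 0⟩], ![⟨0, 0⟩, ⟨0, 0⟩, ⟨1, -1⟩, ⟨1, -1⟩], ![⟨0, 0⟩, ⟨1, 0⟩, ⟨0, 0⟩, ⟨0, -1⟩], ![⟨0, 0⟩, ⟨0, -1⟩, ⟨1, 0⟩, ⟨1, -1⟩]],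
  ![![⟨0, 0⟩, ⟨0, 0⟩, ⟨0, 0⟩, ⟨0, 0⟩], ![⟨0, 0⟩, ⟨0, 0⟩, ⟨0, 0⟩, ⟨0, 0⟩], ![⟨0, 0⟩, ⟨0, 0⟩, ⟨0, 0⟩, ⟨-1, 1⟩], ![⟨0, 0⟩, ⟨0, 0⟩, ⟨0, 0⟩, ⟨0, 0⟩], ![⟨0, 0⟩, ⟨0, 0⟩, ⟨0, -1⟩, ⟨-1, 0⟩], ![⟨0, 0⟩, ⟨0, 0⟩, ⟨0, -1⟩, ⟨0, 1⟩], ![⟨0, 0⟩, ⟨1, 0⟩, ⟨1, -1⟩, ⟨-1, 0⟩]],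
  ![![⟨0, 0⟩, ⟨0, 0⟩, ⟨0, 0⟩, ⟨0, -1⟩], ![⟨0, 0⟩, ⟨0, 0⟩, ⟨0, 0⟩, ⟨0, -1⟩], ![⟨0, 0⟩, ⟨0, 0⟩, ⟨0, 0⟩, ⟨0, -1⟩], ![⟨0, 0⟩, ⟨0, 0⟩, ⟨0, 0⟩, ⟨0, -1⟩], ![⟨0, 0⟩, ⟨0, 0⟩, ⟨0, 0⟩, ⟨0, -1⟩], ![⟨0, 0⟩, ⟨0, 0⟩, ⟨0, 0⟩, ⟨0, -1⟩], ![⟨0, 0⟩, ⟨0, 0⟩, ⟨0, 0⟩, ⟨0, -1⟩]],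
  ![![⟨0, 0⟩, ⟨0, 0⟩, ⟨0, 0⟩, ⟨0, 0⟩], ![⟨0, 0⟩, ⟨0, 0⟩, ⟨0, 0⟩, ⟨-1, 0⟩], ![⟨0, 0⟩, ⟨0, 0⟩, ⟨0, 0⟩, ⟨0, 0⟩], ![⟨0, 0⟩, ⟨0, 0⟩, ⟨0, 0⟩, ⟨0, 0⟩], ![⟨0, 0⟩, ⟨0, 0⟩, ⟨0, 0⟩, ⟨0, 0⟩], ![⟨0, 0⟩, ⟨0, 0⟩, ⟨0, 0⟩, ⟨0, 0⟩], ![⟨0, 0⟩, ⟨0, 0⟩, ⟨0, 0⟩, ⟨0, 0⟩]],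
  ![![⟨0, 0⟩, ⟨0, 0⟩, ⟨0, 0⟩, ⟨0, 0⟩], ![⟨0, 0⟩, ⟨0, 0⟩, ⟨0, 0⟩, ⟨0, 0⟩], ![⟨0, 0⟩, ⟨0, 0⟩, ⟨0, 0⟩, ⟨-1, 0⟩], ![⟨0, 0⟩, ⟨0, 0⟩, ⟨0, 0⟩, ⟨0, 0⟩], ![⟨0, 0⟩, ⟨0, 0⟩, ⟨0, 0⟩, ⟨0, 0⟩], ![⟨0, 0⟩, ⟨0, 0⟩, ⟨0, 0⟩, ⟨0, 0⟩], ![⟨0, 0⟩, ⟨0, 0⟩, ⟨0, 0⟩, ⟨0, 0⟩]],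
  ![![⟨0, 0⟩, ⟨0, 0⟩, ⟨0, 0⟩, ⟨0, 0⟩], ![⟨0, 0⟩, ⟨0, 0⟩, ⟨0, 0⟩, ⟨0, 0⟩], ![⟨0, 0⟩, ⟨0, 0⟩, ⟨0, 0⟩, ⟨0, 0⟩], ![⟨0, 0⟩, ⟨0, 0⟩, ⟨0, 0⟩, ⟨-1, 0⟩], ![⟨0, 0⟩, ⟨0, 0⟩, ⟨0, 0⟩, ⟨0, 0⟩], ![⟨0, 0⟩, ⟨0, 0⟩, ⟨0, 0⟩, ⟨0, 0⟩], ![⟨0, 0⟩, ⟨0, 0⟩, ⟨0, 0⟩, ⟨0, 0⟩]],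
  ![![⟨0, 0⟩, ⟨0, 0⟩, ⟨0, 0⟩, ⟨0, 0⟩], ![⟨0, 0⟩, ⟨0, 0⟩, ⟨0, 0⟩, ⟨0, 0⟩], ![⟨0, 0⟩, ⟨0, 0⟩, ⟨0, 0⟩, ⟨0, 0⟩], ![⟨0, 0⟩, ⟨0, 0⟩, ⟨0, 0⟩, ⟨0, 0⟩], ![⟨0, 0⟩, ⟨0, 0⟩, ⟨0, 0⟩, ⟨-1, 0⟩], ![⟨0, 0⟩, ⟨0, 0⟩, ⟨0, 0⟩, ⟨0, 0⟩], ![⟨0, 0⟩, ⟨0, 0⟩, ⟨0, 0⟩, ⟨0, 0⟩]],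
  ![![⟨0, 0⟩, ⟨0, 0⟩, ⟨0, 0⟩, ⟨0, 0⟩], ![⟨0, 0⟩, ⟨0, 0⟩, ⟨0, 0⟩, ⟨0, 0⟩], ![⟨0, 0⟩, ⟨0, 0⟩, ⟨0, 0⟩, ⟨0, 0⟩], ![⟨0, 0⟩, ⟨0, 0⟩, ⟨0, 0⟩, ⟨0, 0⟩], ![⟨0, 0⟩, ⟨0, 0⟩, ⟨0, 0⟩, ⟨0, 0⟩], ![⟨0, 0⟩, ⟨0, 0⟩, ⟨-1, 0⟩, ⟨0, 0⟩], ![⟨0, 0⟩, ⟨0, 0⟩, ⟨0, 0⟩, ⟨0, 0⟩]],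
  ![![⟨0, 0⟩, ⟨0, 0⟩, ⟨0, 0⟩, ⟨0, 0⟩], ![⟨0, 0⟩, ⟨0, 0⟩, ⟨0, 0⟩, ⟨0, 0⟩], ![⟨0, 0⟩, ⟨0, 0⟩, ⟨0, 0⟩, ⟨0, 0⟩], ![⟨0, 0⟩, ⟨0, 0⟩, ⟨0, 0⟩, ⟨0, 0⟩], ![⟨0, 0⟩, ⟨0, 0⟩, ⟨0, 0⟩, ⟨0, 0⟩], ![⟨0, 0⟩, ⟨0, 0⟩, ⟨0, 0⟩, ⟨-1, 0⟩], ![⟨0, 0⟩, ⟨0, 0⟩, ⟨0, 0⟩, ⟨0, 0⟩]],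
  ![![⟨0, 0⟩, ⟨0, 0⟩, ⟨0, 0⟩, ⟨0, 0⟩], ![⟨0, 0⟩, ⟨0, 0⟩, ⟨0, 0⟩, ⟨0, 0⟩], ![⟨0, 0⟩, ⟨0, 0⟩, ⟨0, 0⟩, ⟨0, 0⟩], ![⟨0, 0⟩, ⟨0, 0⟩, ⟨0, 0⟩, ⟨0, 0⟩], ![⟨0, 0⟩, ⟨0, 0⟩, ⟨0, 0⟩, ⟨0, 0⟩], ![⟨0, 0⟩, ⟨0, 0⟩, ⟨0, 0⟩, ⟨0, 0⟩], ![⟨0, 0⟩, ⟨-1, 0⟩, ⟨0, 0⟩, ⟨0, 0⟩]],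
  ![![⟨0, 0⟩, ⟨0, 0⟩, ⟨0, 0⟩, ⟨0, 0⟩], ![⟨0, 0⟩, ⟨0, 0⟩, ⟨0, 0⟩, ⟨0, 0⟩], ![⟨0, 0⟩, ⟨0, 0⟩, ⟨0, 0⟩, ⟨0, 0⟩], ![⟨0, 0⟩, ⟨0, 0⟩, ⟨0, 0⟩, ⟨0, 0⟩], ![⟨0, 0⟩, ⟨0, 0⟩, ⟨0, 0⟩, ⟨0, 0⟩], ![⟨0, 0⟩, ⟨0, 0⟩, ⟨0, 0⟩, ⟨0, 0⟩], ![⟨0, 0⟩, ⟨0, 0⟩, ⟨-1, 0⟩, ⟨0, 0⟩]],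
  ![![⟨0, 0⟩, ⟨0, 0⟩, ⟨0, 0⟩, ⟨0, 0⟩], ![⟨0, 0⟩, ⟨0, 0⟩, ⟨0, 0⟩, ⟨0, 0⟩], ![⟨0, 0⟩, ⟨0, 0⟩, ⟨0, 0⟩, ⟨0, 0⟩], ![⟨0, 0⟩, ⟨0, 0⟩, ⟨0, 0⟩, ⟨0, 0⟩], ![⟨0, 0⟩, ⟨0, 0⟩, ⟨0, 0⟩, ⟨0, 0⟩], ![⟨0, 0⟩, ⟨0, 0⟩, ⟨0, 0⟩, ⟨0, 0⟩], ![⟨0, 0⟩, ⟨0, 0⟩, ⟨0, 0⟩, ⟨-1, 0⟩]]]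

def aT : Fin 28 → Fin 7 → Fin 4 → GaussianInt := ![
  ![![⟨-1, 0⟩, ⟨0, 0⟩, ⟨0, 0⟩, ⟨1, 2⟩], ![⟨0, 0⟩, ⟨0, 0⟩, ⟨-2, -1⟩, ⟨1, 0⟩], ![⟨0, 0⟩, ⟨0, 0⟩, ⟨2, -1⟩, ⟨0, -1⟩], ![⟨2, 0⟩, ⟨2, -1⟩, ⟨-2, 0⟩, ⟨1, 0⟩], ![⟨-1, -3⟩, ⟨-2, 1⟩, ⟨0, 1⟩, ⟨1, 1⟩], ![⟨0, 0⟩, ⟨1, 2⟩, ⟨0, -2⟩, ⟨-1, 0⟩], ![⟨0, -1⟩, ⟨1, 0⟩, ⟨2, -1⟩, ⟨1, -2⟩]],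
  ![![⟨0, 0⟩, ⟨1, 0⟩, ⟨0, 0⟩, ⟨1, -2⟩], ![⟨0, 0⟩, ⟨0, 0⟩, ⟨-1, 3⟩, ⟨0, 2⟩], ![⟨0, 0⟩, ⟨0, 1⟩, ⟨-1, -2⟩, ⟨0, 0⟩], ![⟨1, -3⟩, ⟨0, -2⟩, ⟨0, 1⟩, ⟨-2, 1⟩], ![⟨-1, 1⟩, ⟨4, 2⟩, ⟨-1, -2⟩, ⟨-2, -1⟩], ![⟨-1, 3⟩, ⟨2, -1⟩, ⟨-2, 0⟩, ⟨-2, -1⟩], ![⟨1, -1⟩, ⟨1, 0⟩, ⟨1, -2⟩, ⟨1, -1⟩]],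
  ![![⟨1, 1⟩, ⟨0, 0⟩, ⟨0, -1⟩, ⟨-2, -1⟩], ![⟨0, 0⟩, ⟨0, 0⟩, ⟨3, 0⟩, ⟨1, 0⟩], ![⟨0, 0⟩, ⟨1, 0⟩, ⟨-2, 2⟩, ⟨0, 1⟩], ![⟨-3, -1⟩, ⟨-1, 2⟩, ⟨0, -1⟩, ⟨0, 0⟩], ![⟨1, 3⟩, ⟨1, -2⟩, ⟨1, -1⟩, ⟨-1, -2⟩], ![⟨-1, -1⟩, ⟨0, -2⟩, ⟨-1, -1⟩, ⟨-1, 1⟩], ![⟨0, 0⟩, ⟨1, 0⟩, ⟨-1, 0⟩, ⟨1, 1⟩]],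
  ![![⟨0, 0⟩, ⟨0, 0⟩, ⟨0, 0⟩, ⟨1, -3⟩], ![⟨0, 0⟩, ⟨0, -1⟩, ⟨0, 1⟩, ⟨1, 1⟩], ![⟨0, 0⟩, ⟨0, 0⟩, ⟨-3, -2⟩, ⟨0, 1⟩], ![⟨1, -3⟩, ⟨-1, -1⟩, ⟨-2, -1⟩, ⟨-2, 1⟩], ![⟨-1, 1⟩, ⟨1, 0⟩, ⟨0, -2⟩, ⟨1, 2⟩], ![⟨1, 1⟩, ⟨-1, -2⟩, ⟨-1, 0⟩, ⟨-1, 1⟩], ![⟨1, -1⟩, ⟨-1, 0⟩, ⟨2, -2⟩, ⟨-2, -1⟩]],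
  ![![⟨0, 0⟩, ⟨0, 0⟩, ⟨0, 0⟩, ⟨1, 1⟩], ![⟨0, 1⟩, ⟨0, 0⟩, ⟨0, 2⟩, ⟨0, 1⟩], ![⟨0, 0⟩, ⟨-1, 1⟩, ⟨2, -1⟩, ⟨0, -1⟩], ![⟨0, 0⟩, ⟨1, -1⟩, ⟨3, 0⟩, ⟨0, -1⟩], ![⟨0, 0⟩, ⟨1, 2⟩, ⟨-1, -1⟩, ⟨1, -2⟩], ![⟨-1, 1⟩, ⟨2, 1⟩, ⟨-2, -1⟩, ⟨-1, -1⟩], ![⟨-1, -2⟩, ⟨1, 1⟩, ⟨0, -1⟩, ⟨1, -1⟩]],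
  ![![⟨0, 0⟩, ⟨0, 0⟩, ⟨0, 0⟩, ⟨0, 2⟩], ![⟨0, 0⟩, ⟨0, 0⟩, ⟨1, -1⟩, ⟨-1, -1⟩], ![⟨0, 0⟩, ⟨-1, 1⟩, ⟨2, 2⟩, ⟨-1, 1⟩], ![⟨-1, 2⟩, ⟨1, 2⟩, ⟨1, 0⟩, ⟨0, 1⟩], ![⟨3, -1⟩, ⟨-2, 0⟩, ⟨-1, -1⟩, ⟨0, 0⟩], ![⟨-2, 2⟩, ⟨1, 3⟩, ⟨-1, -1⟩, ⟨-2, 0⟩], ![⟨0, -1⟩, ⟨-1, 0⟩, ⟨0, 1⟩, ⟨2, -1⟩]],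
  ![![⟨0, 0⟩, ⟨0, 0⟩, ⟨0, 0⟩, ⟨0, 0⟩], ![⟨0, 0⟩, ⟨0, 0⟩, ⟨0, 0⟩, ⟨0, 0⟩], ![⟨0, 0⟩, ⟨1, -1⟩, ⟨0, 0⟩, ⟨-1, -1⟩], ![⟨0, 0⟩, ⟨0, 0⟩, ⟨0, 0⟩, ⟨0, -2⟩], ![⟨-1, 0⟩, ⟨-1, 0⟩, ⟨0, 3⟩, ⟨1, 0⟩], ![⟨1, -3⟩, ⟨-1, -1⟩, ⟨0, -2⟩, ⟨2, 2⟩], ![⟨0, 1⟩, ⟨1, -2⟩, ⟨-2, 1⟩, ⟨0, 1⟩]],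
  ![![⟨0, 0⟩, ⟨0, 0⟩, ⟨0, 0⟩, ⟨0, 0⟩], ![⟨-1, 1⟩, ⟨0, 0⟩, ⟨0, 2⟩, ⟨1, 1⟩], ![⟨0, -1⟩, ⟨0, 1⟩, ⟨1, 0⟩, ⟨-2, -1⟩], ![⟨0, 0⟩, ⟨2, 0⟩, ⟨3, 3⟩, ⟨1, -1⟩], ![⟨0, 0⟩, ⟨0, 0⟩, ⟨-2, 0⟩, ⟨0, 0⟩], ![⟨-1, 1⟩, ⟨1, 1⟩, ⟨-1, 1⟩, ⟨1, 1⟩], ![⟨0, -1⟩, ⟨1, 2⟩, ⟨-1, -2⟩, ⟨1, 0⟩]],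
  ![![⟨0, 0⟩, ⟨0, 0⟩, ⟨0, 0⟩, ⟨2, 0⟩], ![⟨0, 0⟩, ⟨0, 0⟩, ⟨0, 2⟩, ⟨0, 2⟩], ![⟨0, 0⟩, ⟨-1, 1⟩, ⟨1, -1⟩, ⟨0, 2⟩], ![⟨0, 0⟩, ⟨0, 0⟩, ⟨2, 2⟩, ⟨0, 2⟩], ![⟨0, 0⟩, ⟨2, 2⟩, ⟨-1, -1⟩, ⟨1, 1⟩], ![⟨-1, 2⟩, ⟨2, 1⟩, ⟨-1, 2⟩, ⟨-1, 0⟩], ![⟨0, -1⟩, ⟨2, 1⟩, ⟨2, 1⟩, ⟨1, 0⟩]],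
  ![![⟨0, 0⟩, ⟨0, 4⟩, ⟨0, 0⟩, ⟨2, 0⟩], ![⟨0, 0⟩, ⟨0, 0⟩, ⟨0, 2⟩, ⟨2, 2⟩], ![⟨0, 0⟩, ⟨2, 2⟩, ⟨2, 2⟩, ⟨-2, 0⟩], ![⟨0, 0⟩, ⟨0, 0⟩, ⟨0, 2⟩, ⟨0, 0⟩], ![⟨0, 0⟩, ⟨0, 2⟩, ⟨0, 0⟩, ⟨0, 0⟩], ![⟨0, 0⟩, ⟨2, 0⟩, ⟨0, 2⟩, ⟨-2, 0⟩], ![⟨1, -1⟩, ⟨1, -1⟩, ⟨-1, 1⟩, ⟨1, -1⟩]],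
  ![![⟨0, 0⟩, ⟨0, 0⟩, ⟨0, 0⟩, ⟨0, 0⟩], ![⟨0, 0⟩, ⟨0, 0⟩, ⟨0, 0⟩, ⟨-2, -2⟩], ![⟨0, 0⟩, ⟨0, 0⟩, ⟨0, 2⟩, ⟨0, -2⟩], ![⟨0, 0⟩, ⟨0, 0⟩, ⟨2, -2⟩, ⟨0, 0⟩], ![⟨0, 0⟩, ⟨0, 0⟩, ⟨-2, -2⟩, ⟨0, 0⟩], ![⟨0, 0⟩, ⟨0, 0⟩, ⟨0, 0⟩, ⟨-2, -2⟩], ![⟨0, 0⟩, ⟨0, -2⟩, ⟨0, 0⟩, ⟨2, 0⟩]],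
  ![![⟨0, 0⟩, ⟨0, 0⟩, ⟨0, 0⟩, ⟨4, 4⟩], ![⟨0, 0⟩, ⟨0, 0⟩, ⟨2, 2⟩, ⟨2, 2⟩], ![⟨0, 0⟩, ⟨2, 0⟩, ⟨0, 0⟩, ⟨-2, 0⟩], ![⟨0, 0⟩, ⟨0, 0⟩, ⟨0, 0⟩, ⟨2, 2⟩], ![⟨0, 0⟩, ⟨-2, 2⟩, ⟨0, 0⟩, ⟨-2, -2⟩], ![⟨0, 0⟩, ⟨2, -2⟩, ⟨2, 0⟩, ⟨-2, 0⟩], ![⟨0, 0⟩, ⟨0, 0⟩, ⟨2, 2⟩, ⟨2, -2⟩]],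
  ![![⟨0, 0⟩, ⟨0, 0⟩, ⟨0, 0⟩, ⟨2, 2⟩], ![⟨0, 0⟩, ⟨0, 0⟩, ⟨0, 2⟩, ⟨2, 0⟩], ![⟨0, 0⟩, ⟨0, 0⟩, ⟨0, 0⟩, ⟨-2, -2⟩], ![⟨0, 0⟩, ⟨2, 2⟩, ⟨2, 2⟩, ⟨2, 2⟩], ![⟨0, 0⟩, ⟨-2, 2⟩, ⟨0, 0⟩, ⟨0, 0⟩], ![⟨0, 0⟩, ⟨0, 0⟩, ⟨0, 0⟩, ⟨0, 0⟩], ![⟨0, 0⟩, ⟨0, 2⟩, ⟨0, 2⟩, ⟨0, 0⟩]],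
  ![![⟨0, 0⟩, ⟨0, 0⟩, ⟨0, 0⟩, ⟨2, 2⟩], ![⟨0, 0⟩, ⟨0, 0⟩, ⟨0, 0⟩, ⟨2, 2⟩], ![⟨0, 0⟩, ⟨0, 0⟩, ⟨0, 0⟩, ⟨-2, -2⟩], ![⟨0, 0⟩, ⟨2, 0⟩, ⟨0, 0⟩, ⟨0, -2⟩], ![⟨0, 0⟩, ⟨0, 0⟩, ⟨2, 2⟩, ⟨-2, 2⟩], ![⟨0, 0⟩, ⟨0, 0⟩, ⟨0, 0⟩, ⟨-2, 2⟩], ![⟨0, 0⟩, ⟨2, -2⟩, ⟨-2, 0⟩, ⟨0, 2⟩]],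
  ![![⟨0, 0⟩, ⟨0, 0⟩, ⟨0, 0⟩, ⟨0, 0⟩], ![⟨0, 0⟩, ⟨0, 0⟩, ⟨0, 0⟩, ⟨0, 0⟩], ![⟨0, 0⟩, ⟨0, 0⟩, ⟨0, 0⟩, ⟨2, 2⟩], ![⟨0, 0⟩, ⟨0, 0⟩, ⟨2, 0⟩, ⟨0, 2⟩], ![⟨0, 0⟩, ⟨0, 0⟩, ⟨0, 0⟩, ⟨2, 2⟩], ![⟨0, 0⟩, ⟨0, 0⟩, ⟨2, 0⟩, ⟨2, 0⟩], ![⟨0, 0⟩, ⟨0, 0⟩, ⟨2, 0⟩, ⟨0, 2⟩]],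
  ![![⟨0, 0⟩, ⟨0, 0⟩, ⟨0, 0⟩, ⟨0, 0⟩], ![⟨0, 0⟩, ⟨0, 0⟩, ⟨0, 0⟩, ⟨0, 0⟩], ![⟨0, 0⟩, ⟨0, 0⟩, ⟨0, 0⟩, ⟨2, 2⟩], ![⟨0, 0⟩, ⟨0, 0⟩, ⟨0, 0⟩, ⟨2, 2⟩], ![⟨0, 0⟩, ⟨2, 0⟩, ⟨0, 0⟩, ⟨2, 0⟩], ![⟨0, 0⟩, ⟨0, 0⟩, ⟨2, 0⟩, ⟨2, 0⟩], ![⟨0, 0⟩, ⟨0, 2⟩, ⟨2, 0⟩, ⟨0, 0⟩]],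
  ![![⟨0, 0⟩, ⟨0, 0⟩, ⟨0, 0⟩, ⟨0, 0⟩], ![⟨0, 0⟩, ⟨0, 0⟩, ⟨0, 0⟩, ⟨2, 2⟩], ![⟨0, 0⟩, ⟨0, 0⟩, ⟨0, 0⟩, ⟨0, 0⟩], ![⟨0, 0⟩, ⟨0, 0⟩, ⟨0, 0⟩, ⟨0, 0⟩], ![⟨0, 0⟩, ⟨0, 0⟩, ⟨2, 2⟩, ⟨2, 2⟩], ![⟨0, 0⟩, ⟨0, 2⟩, ⟨0, 0⟩, ⟨2, 0⟩], ![⟨0, 0⟩, ⟨2, 0⟩, ⟨0, 2⟩, ⟨2, 2⟩]],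
  ![![⟨0, 0⟩, ⟨0, 0⟩, ⟨0, 0⟩, ⟨0, 0⟩], ![⟨0, 0⟩, ⟨0, 0⟩, ⟨0, 0⟩, ⟨0, 0⟩], ![⟨0, 0⟩, ⟨0, 0⟩, ⟨0, 0⟩, ⟨-2, -2⟩], ![⟨0, 0⟩, ⟨0, 0⟩, ⟨0, 0⟩, ⟨0, 0⟩], ![⟨0, 0⟩, ⟨0, 0⟩, ⟨2, 0⟩, ⟨0, -2⟩], ![⟨0, 0⟩, ⟨0, 0⟩, ⟨2, 0⟩, ⟨-2, 0⟩], ![⟨0, 0⟩, ⟨0, 2⟩, ⟨2, 2⟩, ⟨0, -2⟩]],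
  ![![⟨0, 0⟩, ⟨0, 0⟩, ⟨0, 0⟩, ⟨2, 2⟩], ![⟨0, 0⟩, ⟨0, 0⟩, ⟨0, 0⟩, ⟨2, 2⟩], ![⟨0, 0⟩, ⟨0, 0⟩, ⟨0, 0⟩, ⟨2, 2⟩], ![⟨0, 0⟩, ⟨0, 0⟩, ⟨0, 0⟩, ⟨2, 2⟩], ![⟨0, 0⟩, ⟨0, 0⟩, ⟨0, 0⟩, ⟨2, 2⟩], ![⟨0, 0⟩, ⟨0, 0⟩, ⟨0, 0⟩, ⟨2, 2⟩], ![⟨0, 0⟩, ⟨0, 0⟩, ⟨0, 0⟩, ⟨2, 2⟩]],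
  ![![⟨0, 0⟩, ⟨0, 0⟩, ⟨0, 0⟩, ⟨0, 0⟩], ![⟨0, 0⟩, ⟨0, 0⟩, ⟨0, 0⟩, ⟨4, 0⟩], ![⟨0, 0⟩, ⟨0, 0⟩, ⟨0, 0⟩, ⟨0, 0⟩], ![⟨0, 0⟩, ⟨0, 0⟩, ⟨0, 0⟩, ⟨0, 0⟩], ![⟨0, 0⟩, ⟨0, 0⟩, ⟨0, 0⟩, ⟨0, 0⟩], ![⟨0, 0⟩, ⟨0, 0⟩, ⟨0, 0⟩, ⟨0, 0⟩], ![⟨0, 0⟩, ⟨0, 0⟩, ⟨0, 0⟩, ⟨0, 0⟩]],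
  ![![⟨0, 0⟩, ⟨0, 0⟩, ⟨0, 0⟩, ⟨0, 0⟩], ![⟨0, 0⟩, ⟨0, 0⟩, ⟨0, 0⟩, ⟨0, 0⟩], ![⟨0, 0⟩, ⟨0, 0⟩, ⟨0, 0⟩, ⟨4, 0⟩], ![⟨0, 0⟩, ⟨0, 0⟩, ⟨0, 0⟩, ⟨0, 0⟩], ![⟨0, 0⟩, ⟨0, 0⟩, ⟨0, 0⟩, ⟨0, 0⟩], ![⟨0, 0⟩, ⟨0, 0⟩, ⟨0, 0⟩, ⟨0, 0⟩], ![⟨0, 0⟩, ⟨0, 0⟩, ⟨0, 0⟩, ⟨0, 0⟩]],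
  ![![⟨0, 0⟩, ⟨0, 0⟩, ⟨0, 0⟩, ⟨0, 0⟩], ![⟨0, 0⟩, ⟨0, 0⟩, ⟨0, 0⟩, ⟨0, 0⟩], ![⟨0, 0⟩, ⟨0, 0⟩, ⟨0, 0⟩, ⟨0, 0⟩], ![⟨0, 0⟩, ⟨0, 0⟩, ⟨0, 0⟩, ⟨4, 0⟩], ![⟨0, 0⟩, ⟨0, 0⟩, ⟨0, 0⟩, ⟨0, 0⟩], ![⟨0, 0⟩, ⟨0, 0⟩, ⟨0, 0⟩, ⟨0, 0⟩], ![⟨0, 0⟩, ⟨0, 0⟩, ⟨0, 0⟩, ⟨0, 0⟩]],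
  ![![⟨0, 0⟩, ⟨0, 0⟩, ⟨0, 0⟩, ⟨0, 0⟩], ![⟨0, 0⟩, ⟨0, 0⟩, ⟨0, 0⟩, ⟨0, 0⟩], ![⟨0, 0⟩, ⟨0, 0⟩, ⟨0, 0⟩, ⟨0, 0⟩], ![⟨0, 0⟩, ⟨0, 0⟩, ⟨0, 0⟩, ⟨0, 0⟩], ![⟨0, 0⟩, ⟨0, 0⟩, ⟨0, 0⟩, ⟨4, 0⟩], ![⟨0, 0⟩, ⟨0, 0⟩, ⟨0, 0⟩, ⟨0, 0⟩], ![⟨0, 0⟩, ⟨0, 0⟩, ⟨0, 0⟩, ⟨0, 0⟩]],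
  ![![⟨0, 0⟩, ⟨0, 0⟩, ⟨0, 0⟩, ⟨0, 0⟩], ![⟨0, 0⟩, ⟨0, 0⟩, ⟨0, 0⟩, ⟨0, 0⟩], ![⟨0, 0⟩, ⟨0, 0⟩, ⟨0, 0⟩, ⟨0, 0⟩], ![⟨0, 0⟩, ⟨0, 0⟩, ⟨0, 0⟩, ⟨0, 0⟩], ![⟨0, 0⟩, ⟨0, 0⟩, ⟨0, 0⟩, ⟨0, 0⟩], ![⟨0, 0⟩, ⟨0, 0⟩, ⟨4, 0⟩, ⟨0, 0⟩], ![⟨0, 0⟩, ⟨0, 0⟩, ⟨0, 0⟩, ⟨0, 0⟩]],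
  ![![⟨0, 0⟩, ⟨0, 0⟩, ⟨0, 0⟩, ⟨0, 0⟩], ![⟨0, 0⟩, ⟨0, 0⟩, ⟨0, 0⟩, ⟨0, 0⟩], ![⟨0, 0⟩, ⟨0, 0⟩, ⟨0, 0⟩, ⟨0, 0⟩], ![⟨0, 0⟩, ⟨0, 0⟩, ⟨0, 0⟩, ⟨0, 0⟩], ![⟨0, 0⟩, ⟨0, 0⟩, ⟨0, 0⟩, ⟨0, 0⟩], ![⟨0, 0⟩, ⟨0, 0⟩, ⟨0, 0⟩, ⟨4, 0⟩], ![⟨0, 0⟩, ⟨0, 0⟩, ⟨0, 0⟩, ⟨0, 0⟩]],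
  ![![⟨0, 0⟩, ⟨0, 0⟩, ⟨0, 0⟩, ⟨0, 0⟩], ![⟨0, 0⟩, ⟨0, 0⟩, ⟨0, 0⟩, ⟨0, 0⟩], ![⟨0, 0⟩, ⟨0, 0⟩, ⟨0, 0⟩, ⟨0, 0⟩], ![⟨0, 0⟩, ⟨0, 0⟩, ⟨0, 0⟩, ⟨0, 0⟩], ![⟨0, 0⟩, ⟨0, 0⟩, ⟨0, 0⟩, ⟨0, 0⟩], ![⟨0, 0⟩, ⟨0, 0⟩, ⟨0, 0⟩, ⟨0, 0⟩], ![⟨0, 0⟩, ⟨4, 0⟩, ⟨0, 0⟩, ⟨0, 0⟩]],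
  ![![⟨0, 0⟩, ⟨0, 0⟩, ⟨0, 0⟩, ⟨0, 0⟩], ![⟨0, 0⟩, ⟨0, 0⟩, ⟨0, 0⟩, ⟨0, 0⟩], ![⟨0, 0⟩, ⟨0, 0⟩, ⟨0, 0⟩, ⟨0, 0⟩], ![⟨0, 0⟩, ⟨0, 0⟩, ⟨0, 0⟩, ⟨0, 0⟩], ![⟨0, 0⟩, ⟨0, 0⟩, ⟨0, 0⟩, ⟨0, 0⟩], ![⟨0, 0⟩, ⟨0, 0⟩, ⟨0, 0⟩, ⟨0, 0⟩], ![⟨0, 0⟩, ⟨0, 0⟩, ⟨4, 0⟩, ⟨0, 0⟩]],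
  ![![⟨0, 0⟩, ⟨0, 0⟩, ⟨0, 0⟩, ⟨0, 0⟩], ![⟨0, 0⟩, ⟨0, 0⟩, ⟨0, 0⟩, ⟨0, 0⟩], ![⟨0, 0⟩, ⟨0, 0⟩, ⟨0, 0⟩, ⟨0, 0⟩], ![⟨0, 0⟩, ⟨0, 0⟩, ⟨0, 0⟩, ⟨0, 0⟩], ![⟨0, 0⟩, ⟨0, 0⟩, ⟨0, 0⟩, ⟨0, 0⟩], ![⟨0, 0⟩, ⟨0, 0⟩, ⟨0, 0⟩, ⟨0, 0⟩], ![⟨0, 0⟩, ⟨0, 0⟩, ⟨0, 0⟩, ⟨4, 0⟩]]]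

def ev : Fin 28 → ℕ := ![0, 0, 0, 0, 0, 0, 0, 0, 0, 1, 2, 2, 2, 2, 2, 2, 2, 2, 3, 4, 4, 4, 4, 4, 4, 4, 4, 4]

/-- the adapted basis vectors `av j = (1+i)^(ev j) • wv j` -/
def av (j : Fin 28) : RuVec := fun p => aT j p.1 p.2

/-- the unimodular part of the adapted basis -/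
def wv (j : Fin 28) : RuVec := fun p => wT j p.1 p.2

def tcoef : Fin 20 → Fin 28 → GaussianInt := ![
  ![⟨-4, 0⟩, ⟨40, 88⟩, ⟨0, 0⟩, ⟨0, 0⟩, ⟨0, 0⟩, ⟨72, 112⟩, ⟨204, 228⟩, ⟨0, 0⟩, ⟨216, 0⟩, ⟨-22, 10⟩, ⟨18, 100⟩, ⟨60, -108⟩, ⟨-184, 102⟩, ⟨278, -8⟩, ⟨-34, -270⟩, ⟨-158, -64⟩, ⟨38, 108⟩, ⟨64, -318⟩, ⟨-349, 175⟩, ⟨172, -165⟩, ⟨391, 286⟩, ⟨194, 429⟩, ⟨530, 7⟩, ⟨-11, 473⟩, ⟨583, -198⟩, ⟨-605, 226⟩, ⟨89, 383⟩, ⟨243, -153⟩],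
  ![⟨-1, 2⟩, ⟨17, 0⟩, ⟨0, 1⟩, ⟨0, 0⟩, ⟨0, 0⟩, ⟨23, -4⟩, ⟨52, -16⟩, ⟨0, 0⟩, ⟨17, -34⟩, ⟨0, 4⟩, ⟨18, 5⟩, ⟨-13, -18⟩, ⟨2, 38⟩, ⟨22, -46⟩, ⟨-47, -14⟩, ⟨-24, 21⟩, ⟨21, 2⟩, ⟨-50, -36⟩, ⟨1, 70⟩, ⟨-14, -42⟩, ⟨78, -43⟩, ⟨87, 3⟩, ⟨45, -89⟩, ⟨78, 37⟩, ⟨13, -111⟩, ⟨-11, 118⟩, ⟨72, 15⟩, ⟨-5, -54⟩],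
  ![⟨1, 0⟩, ⟨-23, -8⟩, ⟨0, -1⟩, ⟨0, 0⟩, ⟨0, 0⟩, ⟨-35, -6⟩, ⟨-78, -2⟩, ⟨0, 0⟩, ⟨-37, 40⟩, ⟨2, -6⟩, ⟨-21, -14⟩, ⟨9, 31⟩, ⟨13, -54⟩, ⟨-50, 56⟩, ⟨54, 44⟩, ⟨36, -18⟩, ⟨-27, -13⟩, ⟨54, 70⟩, ⟨33, -98⟩, ⟨0, 61⟩, ⟨-122, 27⟩, ⟨-115, -38⟩, ⟨-95, 102⟩, ⟨-86, -89⟩, ⟨-63, 146⟩, ⟨63, -155⟩, ⟨-89, -55⟩, ⟨-17, 76⟩],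
  ![⟨-1, 2⟩, ⟨23, 8⟩, ⟨0, 1⟩, ⟨0, 0⟩, ⟨0, 0⟩, ⟨33, 6⟩, ⟨78, 2⟩, ⟨0, 0⟩, ⟨39, -40⟩, ⟨-2, 6⟩, ⟨22, 14⟩, ⟨-9, -31⟩, ⟨-14, 54⟩, ⟨51, -55⟩, ⟨-55, -42⟩, ⟨-40, 19⟩, ⟨27, 12⟩, ⟨-53, -70⟩, ⟨-33, 98⟩, ⟨0, -63⟩, ⟨125, -25⟩, ⟨119, 40⟩, ⟨99, -103⟩, ⟨87, 86⟩, ⟨67, -146⟩, ⟨-65, 157⟩, ⟨89, 53⟩, ⟨17, -76⟩],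
  ![⟨1, 0⟩, ⟨-17, 0⟩, ⟨0, -1⟩, ⟨0, 0⟩, ⟨0, 0⟩, ⟨-25, 4⟩, ⟨-52, 16⟩, ⟨0, 0⟩, ⟨-15, 34⟩, ⟨0, -4⟩, ⟨-17, -5⟩, ⟨13, 18⟩, ⟨-3, -38⟩, ⟨-21, 47⟩, ⟨46, 16⟩, ⟨20, -20⟩, ⟨-19, -3⟩, ⟨49, 34⟩, ⟨0, -71⟩, ⟨12, 39⟩, ⟨-76, 43⟩, ⟨-85, -1⟩, ⟨-42, 86⟩, ⟨-76, -39⟩, ⟨-12, 110⟩, ⟨7, -115⟩, ⟨-71, -16⟩, ⟨4, 52⟩],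
  ![⟨-2, 1⟩, ⟨-23, 32⟩, ⟨0, 1⟩, ⟨0, 0⟩, ⟨1, -2⟩, ⟨-26, 48⟩, ⟨-38, 121⟩, ⟨0, 1⟩, ⟨47, 81⟩, ⟨-8, -6⟩, ⟨-31, 29⟩, ⟨51, -2⟩, ⟨-77, -44⟩, ⟨65, 99⟩, ⟨89, -69⟩, ⟨-16, -71⟩, ⟨-30, 36⟩, ⟨125, -46⟩, ⟨-138, -88⟩, ⟨96, 24⟩, ⟨-16, 204⟩, ⟨-107, 166⟩, ⟨118, 189⟩, ⟨-165, 96⟩, ⟨199, 167⟩, ⟨-213, -165⟩, ⟨-113, 114⟩, ⟨108, 51⟩],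
  ![⟨-2, 1⟩, ⟨29, 8⟩, ⟨0, 1⟩, ⟨0, -1⟩, ⟨0, 0⟩, ⟨42, 3⟩, ⟨95, -5⟩, ⟨0, 0⟩, ⟨42, -51⟩, ⟨-2, 7⟩, ⟨27, 16⟩, ⟨-14, -36⟩, ⟨-11, 65⟩, ⟨53, -70⟩, ⟨-72, -48⟩, ⟨-45, 23⟩, ⟨33, 13⟩, ⟨-66, -77⟩, ⟨-27, 120⟩, ⟨-5, -74⟩, ⟨143, -38⟩, ⟨140, 37⟩, ⟨104, -125⟩, ⟨113, 98⟩, ⟨65, -178⟩, ⟨-63, 189⟩, ⟨112, 56⟩, ⟨11, -91⟩],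
  ![⟨-2, 1⟩, ⟨13, 20⟩, ⟨0, 1⟩, ⟨-1, 0⟩, ⟨0, 0⟩, ⟨21, 24⟩, ⟨57, 49⟩, ⟨0, 0⟩, ⟨53, -6⟩, ⟨-5, 3⟩, ⟨8, 25⟩, ⟨11, -29⟩, ⟨-42, 32⟩, ⟨69, -12⟩, ⟨-19, -67⟩, ⟨-43, -11⟩, ⟨13, 26⟩, ⟨3, -80⟩, ⟨-80, 55⟩, ⟨37, -47⟩, ⟨105, 59⟩, ⟨63, 101⟩, ⟨133, -16⟩, ⟨16, 117⟩, ⟨137, -67⟩, ⟨-141, 77⟩, ⟨39, 92⟩, ⟨54, -48⟩],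
  ![⟨0, -1⟩, ⟨13, 20⟩, ⟨0, -1⟩, ⟨0, 1⟩, ⟨0, 0⟩, ⟨22, 27⟩, ⟨59, 52⟩, ⟨0, 0⟩, ⟨54, -6⟩, ⟨-5, 3⟩, ⟨8, 26⟩, ⟨11, -28⟩, ⟨-43, 29⟩, ⟨67, -8⟩, ⟨-20, -67⟩, ⟨-42, -11⟩, ⟨11, 26⟩, ⟨13, -79⟩, ⟨-80, 52⟩, ⟨39, -43⟩, ⟨107, 67⟩, ⟨58, 104⟩, ⟨132, -7⟩, ⟨11, 118⟩, ⟨144, -63⟩, ⟨-145, 71⟩, ⟨33, 91⟩, ⟨54, -39⟩],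
  ![⟨0, -1⟩, ⟨-7, -12⟩, ⟨0, -1⟩, ⟨1, 0⟩, ⟨0, 0⟩, ⟨-11, -16⟩, ⟨-30, -31⟩, ⟨0, 0⟩, ⟨-30, 2⟩, ⟨3, -2⟩, ⟨-2, -13⟩, ⟨-8, 17⟩, ⟨25, -17⟩, ⟨-40, 5⟩, ⟨4, 39⟩, ⟨23, 7⟩, ⟨-6, -15⟩, ⟨-4, 47⟩, ⟨49, -29⟩, ⟨-22, 26⟩, ⟨-58, -34⟩, ⟨-32, -57⟩, ⟨-76, 7⟩, ⟨-1, -69⟩, ⟨-80, 35⟩, ⟨83, -38⟩, ⟨-15, -56⟩, ⟨-34, 26⟩],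
  ![⟨0, -1⟩, ⟨-47, 52⟩, ⟨0, -1⟩, ⟨0, 0⟩, ⟨-1, -2⟩, ⟨-56, 82⟩, ⟨-91, 203⟩, ⟨1, 0⟩, ⟨68, 145⟩, ⟨-13, -12⟩, ⟨-59, 42⟩, ⟨89, 9⟩, ⟨-125, -93⟩, ⟨90, 187⟩, ⟨169, -100⟩, ⟨-12, -120⟩, ⟨-61, 56⟩, ⟨236, -55⟩, ⟨-219, -185⟩, ⟨160, 64⟩, ⟨-67, 351⟩, ⟨-223, 261⟩, ⟨160, 356⟩, ⟨-316, 127⟩, ⟨312, 329⟩, ⟨-336, -333⟩, ⟨-229, 170⟩, ⟨174, 119⟩],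
  ![⟨0, -1⟩, ⟨-35, 28⟩, ⟨0, -1⟩, ⟨0, 0⟩, ⟨0, -1⟩, ⟨-44, 46⟩, ⟨-79, 119⟩, ⟨0, 1⟩, ⟨27, 98⟩, ⟨-7, -9⟩, ⟨-42, 20⟩, ⟨56, 15⟩, ⟨-69, -72⟩, ⟨37, 127⟩, ⟨119, -45⟩, ⟨6, -78⟩, ⟨-43, 29⟩, ⟨153, -10⟩, ⟨-120, -139⟩, ⟨94, 57⟩, ⟨-81, 213⟩, ⟨-169, 140⟩, ⟨63, 240⟩, ⟨-214, 48⟩, ⟨161, 240⟩, ⟨-177, -245⟩, ⟨-164, 84⟩, ⟨98, 92⟩],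
  ![⟨-2, 1⟩, ⟨63, 60⟩, ⟨0, 1⟩, ⟨0, 0⟩, ⟨-1, 0⟩, ⟨100, 70⟩, ⟨249, 119⟩, ⟨0, 0⟩, ⟨181, -78⟩, ⟨-15, 16⟩, ⟨50, 75⟩, ⟨13, -112⟩, ⟨-117, 153⟩, ⟨233, -110⟩, ⟨-119, -215⟩, ⟨-149, 6⟩, ⟨69, 77⟩, ⟨-66, -288⟩, ⟨-236, 273⟩, ⟨85, -198⟩, ⟨429, 93⟩, ⟨318, 283⟩, ⟨443, -191⟩, ⟨153, 398⟩, ⟨415, -376⟩, ⟨-420, 407⟩, ⟨209, 289⟩, ⟨151, -218⟩],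
  ![⟨-2, 1⟩, ⟨63, 0⟩, ⟨0, 1⟩, ⟨0, 0⟩, ⟨0, 1⟩, ⟨88, -14⟩, ⟨189, -61⟩, ⟨0, 0⟩, ⟨54, -129⟩, ⟨0, 16⟩, ⟨62, 15⟩, ⟨-48, -65⟩, ⟨14, 137⟩, ⟨67, -171⟩, ⟨-167, -54⟩, ⟨-74, 74⟩, ⟨74, 7⟩, ⟨-176, -120⟩, ⟨11, 258⟩, ⟨-51, -145⟩, ⟨268, -163⟩, ⟨303, -7⟩, ⟨138, -315⟩, ⟨276, 136⟩, ⟨30, -400⟩, ⟨-20, 417⟩, ⟨251, 51⟩, ⟨-26, -188⟩],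
  ![⟨-2, 1⟩, ⟨-5, 36⟩, ⟨0, 1⟩, ⟨-1, 0⟩, ⟨1, -1⟩, ⟨-1, 50⟩, ⟨19, 116⟩, ⟨0, 1⟩, ⟨71, 47⟩, ⟨-9, -1⟩, ⟨-15, 38⟩, ⟨43, -24⟩, ⟨-83, -3⟩, ⟨96, 55⟩, ⟨47, -98⟩, ⟨-41, -54⟩, ⟨-9, 44⟩, ⟨82, -94⟩, ⟨-155, -15⟩, ⟨91, -21⟩, ⟨69, 176⟩, ⟨-22, 184⟩, ⟨179, 110⟩, ⟨-98, 155⟩, ⟨233, 57⟩, ⟨-248, -48⟩, ⟨-47, 148⟩, ⟨114, -4⟩],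
  ![⟨-2, 1⟩, ⟨43, 80⟩, ⟨0, 1⟩, ⟨0, 1⟩, ⟨-1, -1⟩, ⟨76, 103⟩, ⟨208, 201⟩, ⟨1, 0⟩, ⟨205, -17⟩, ⟨-20, 11⟩, ⟨25, 92⟩, ⟨49, -107⟩, ⟨-167, 113⟩, ⟨267, -32⟩, ⟨-49, -252⟩, ⟨-152, -41⟩, ⟨43, 98⟩, ⟨30, -305⟩, ⟨-322, 193⟩, ⟨148, -168⟩, ⟨396, 235⟩, ⟨224, 387⟩, ⟨503, -45⟩, ⟨23, 443⟩, ⟨537, -236⟩, ⟨-550, 266⟩, ⟨115, 354⟩, ⟨219, -166⟩],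
  ![⟨0, -1⟩, ⟨-5, 72⟩, ⟨0, -1⟩, ⟨-1, 0⟩, ⟨-1, -1⟩, ⟨5, 102⟩, ⟨51, 223⟩, ⟨1, 0⟩, ⟨143, 76⟩, ⟨-18, -1⟩, ⟨-24, 71⟩, ⟨78, -50⟩, ⟨-157, 1⟩, ⟨184, 95⟩, ⟨76, -190⟩, ⟨-83, -95⟩, ⟨-14, 82⟩, ⟨158, -184⟩, ⟨-290, -11⟩, ⟨168, -46⟩, ⟨154, 329⟩, ⟨-27, 348⟩, ⟨343, 194⟩, ⟨-179, 303⟩, ⟨454, 80⟩, ⟨-477, -68⟩, ⟨-82, 282⟩, ⟨210, -11⟩],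
  ![⟨0, -1⟩, ⟨3, 12⟩, ⟨0, -1⟩, ⟨0, -1⟩, ⟨-1, 1⟩, ⟨6, 15⟩, ⟨19, 31⟩, ⟨0, -1⟩, ⟨26, 3⟩, ⟨-3, 1⟩, ⟨-1, 11⟩, ⟨10, -11⟩, ⟨-24, 8⟩, ⟨32, 5⟩, ⟨4, -33⟩, ⟨-16, -11⟩, ⟨2, 14⟩, ⟨16, -38⟩, ⟨-44, 12⟩, ⟨23, -16⟩, ⟨38, 39⟩, ⟨11, 52⟩, ⟨59, 13⟩, ⟨-15, 56⟩, ⟨70, -12⟩, ⟨-77, 12⟩, ⟨-2, 48⟩, ⟨32, -12⟩],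
  ![⟨0, -1⟩, ⟨11, 36⟩, ⟨0, -1⟩, ⟨0, 0⟩, ⟨-1, 0⟩, ⟨22, 48⟩, ⟨66, 97⟩, ⟨0, 0⟩, ⟨82, 8⟩, ⟨-9, 3⟩, ⟨2, 37⟩, ⟨28, -38⟩, ⟨-73, 30⟩, ⟨104, 8⟩, ⟨2, -104⟩, ⟨-54, -30⟩, ⟨9, 41⟩, ⟨40, -113⟩, ⟨-140, 51⟩, ⟨71, -52⟩, ⟨132, 125⟩, ⟨52, 166⟩, ⟨193, 26⟩, ⟨-31, 176⟩, ⟨228, -47⟩, ⟨-235, 57⟩, ⟨12, 146⟩, ⟨95, -45⟩],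
  ![⟨0, -1⟩, ⟨-37, 32⟩, ⟨0, -1⟩, ⟨0, 0⟩, ⟨0, -1⟩, ⟨-46, 52⟩, ⟨-81, 134⟩, ⟨0, 0⟩, ⟨34, 108⟩, ⟨-8, -9⟩, ⟨-46, 24⟩, ⟨62, 14⟩, ⟨-79, -77⟩, ⟨45, 140⟩, ⟨129, -55⟩, ⟨4, -88⟩, ⟨-47, 34⟩, ⟨171, -19⟩, ⟨-137, -150⟩, ⟨107, 59⟩, ⟨-81, 239⟩, ⟨-183, 163⟩, ⟨79, 266⟩, ⟨-234, 64⟩, ⟨187, 260⟩, ⟨-208, -266⟩, ⟨-179, 100⟩, ⟨112, 100⟩]]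

def mRj : Fin 28 → Fin 28 → GaussianInt := ![
  ![⟨-3, -1⟩, ⟨8, 19⟩, ⟨-2, 1⟩, ⟨0, 0⟩, ⟨0, 0⟩, ⟨17, 24⟩, ⟨44, 51⟩, ⟨0, 0⟩, ⟨47, 4⟩, ⟨-5, 2⟩, ⟨3, 24⟩, ⟨16, -23⟩, ⟨-45, 20⟩, ⟨65, 7⟩, ⟨-5, -60⟩, ⟨-33, -19⟩, ⟨6, 27⟩, ⟨22, -80⟩, ⟨-84, 30⟩, ⟨46, -34⟩, ⟨88, 73⟩, ⟨36, 106⟩, ⟨129, 17⟩, ⟨-9, 111⟩, ⟨137, -35⟩, ⟨-145, 40⟩, ⟨12, 92⟩, ⟨65, -26⟩],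
  ![⟨1, 2⟩, ⟨-4, -24⟩, ⟨2, 1⟩, ⟨0, 0⟩, ⟨-1, 1⟩, ⟨-11, -35⟩, ⟨-34, -76⟩, ⟨0, -1⟩, ⟨-51, -22⟩, ⟨6, -1⟩, ⟨7, -29⟩, ⟨-25, 21⟩, ⟨58, -5⟩, ⟨-67, -31⟩, ⟨-20, 73⟩, ⟨34, 32⟩, ⟨3, -28⟩, ⟨-56, 75⟩, ⟨100, -5⟩, ⟨-59, 20⟩, ⟨-66, -115⟩, ⟨0, -129⟩, ⟨-128, -65⟩, ⟨49, -123⟩, ⟨-164, -12⟩, ⟨176, 6⟩, ⟨21, -108⟩, ⟨-74, 7⟩],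
  ![⟨3, -1⟩, ⟨-17, -71⟩, ⟨1, -2⟩, ⟨0, 0⟩, ⟨1, 1⟩, ⟨-39, -94⟩, ⟨-124, -197⟩, ⟨-1, 0⟩, ⟨-167, -29⟩, ⟨18, -4⟩, ⟨-3, -79⟩, ⟨-61, 74⟩, ⟨157, -57⟩, ⟨-221, -32⟩, ⟨-10, 209⟩, ⟨112, 64⟩, ⟨-14, -89⟩, ⟨-86, 243⟩, ⟨296, -83⟩, ⟨-154, 105⟩, ⟨-268, -269⟩, ⟨-99, -356⟩, ⟨-415, -70⟩, ⟨69, -356⟩, ⟨-474, 78⟩, ⟨494, -99⟩, ⟨-19, -306⟩, ⟨-212, 86⟩],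
  ![⟨2, 4⟩, ⟨0, -4⟩, ⟨3, 1⟩, ⟨0, 0⟩, ⟨0, -1⟩, ⟨-3, -7⟩, ⟨-2, -15⟩, ⟨0, 0⟩, ⟨-4, -7⟩, ⟨1, 0⟩, ⟨5, -5⟩, ⟨-7, 1⟩, ⟨13, 5⟩, ⟨-9, -16⟩, ⟨-11, 13⟩, ⟨1, 9⟩, ⟨5, -6⟩, ⟨-22, 17⟩, ⟨18, 12⟩, ⟨-16, -4⟩, ⟨-2, -27⟩, ⟨17, -26⟩, ⟨-20, -32⟩, ⟨22, -24⟩, ⟨-28, -16⟩, ⟨34, 19⟩, ⟨18, -25⟩, ⟨-20, -11⟩],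
  ![⟨-2, 0⟩, ⟨12, 32⟩, ⟨-1, 1⟩, ⟨0, -1⟩, ⟨-2, 0⟩, ⟨24, 40⟩, ⟨69, 80⟩, ⟨1, -1⟩, ⟨79, 0⟩, ⟨-8, 3⟩, ⟨7, 34⟩, ⟨23, -38⟩, ⟨-67, 38⟩, ⟨104, -3⟩, ⟨-10, -97⟩, ⟨-55, -21⟩, ⟨12, 40⟩, ⟨21, -119⟩, ⟨-130, 61⟩, ⟨63, -60⟩, ⟨144, 100⟩, ⟨71, 153⟩, ⟨195, 1⟩, ⟨-8, 166⟩, ⟨211, -72⟩, ⟨-216, 81⟩, ⟨30, 139⟩, ⟨93, -55⟩],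
  ![⟨-2, -2⟩, ⟨32, 56⟩, ⟨-2, 0⟩, ⟨0, 0⟩, ⟨-2, 0⟩, ⟨58, 73⟩, ⟨153, 141⟩, ⟨1, -1⟩, ⟨147, -13⟩, ⟨-14, 8⟩, ⟨18, 68⟩, ⟨35, -76⟩, ⟨-122, 81⟩, ⟨192, -19⟩, ⟨-38, -184⟩, ⟨-108, -28⟩, ⟨27, 73⟩, ⟨29, -226⟩, ⟨-230, 134⟩, ⟨109, -118⟩, ⟨287, 172⟩, ⟨157, 281⟩, ⟨365, -22⟩, ⟨16, 322⟩, ⟨388, -170⟩, ⟨-397, 189⟩, ⟨81, 258⟩, ⟨161, -112⟩],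
  ![⟨0, 0⟩, ⟨-44, -52⟩, ⟨0, 0⟩, ⟨0, 0⟩, ⟨2, 0⟩, ⟨-72, -64⟩, ⟨-184, -111⟩, ⟨-1, 1⟩, ⟨-148, 50⟩, ⟨13, -11⟩, ⟨-35, -61⟩, ⟨-18, 86⟩, ⟨102, -112⟩, ⟨-190, 70⟩, ⟨79, 174⟩, ⟨116, 1⟩, ⟨-47, -66⟩, ⟨28, 228⟩, ⟨203, -195⟩, ⟨-79, 147⟩, ⟨-332, -103⟩, ⟨-230, -241⟩, ⟨-359, 119⟩, ⟨-87, -315⟩, ⟨-353, 267⟩, ⟨353, -287⟩, ⟨-142, -236⟩, ⟨-132, 156⟩],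
  ![⟨0, 0⟩, ⟨28, -36⟩, ⟨0, 0⟩, ⟨1, -1⟩, ⟨-1, 1⟩, ⟨34, -58⟩, ⟨52, -142⟩, ⟨0, -1⟩, ⟨-50, -96⟩, ⟨9, 7⟩, ⟨39, -31⟩, ⟨-60, -1⟩, ⟨89, 58⟩, ⟨-69, -124⟩, ⟨-111, 74⟩, ⟨16, 81⟩, ⟨38, -39⟩, ⟨-156, 49⟩, ⟨155, 116⟩, ⟨-110, -36⟩, ⟨30, -241⟩, ⟨139, -190⟩, ⟨-126, -233⟩, ⟨206, -103⟩, ⟨-226, -209⟩, ⟨244, 209⟩, ⟨147, -128⟩, ⟨-123, -72⟩],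
  ![⟨-2, 2⟩, ⟨64, 0⟩, ⟨0, 2⟩, ⟨0, 0⟩, ⟨-2, 0⟩, ⟨90, -14⟩, ⟨196, -64⟩, ⟨1, -1⟩, ⟨61, -134⟩, ⟨0, 16⟩, ⟨69, 15⟩, ⟨-50, -68⟩, ⟨13, 146⟩, ⟨77, -180⟩, ⟨-178, -54⟩, ⟨-80, 82⟩, ⟨77, 9⟩, ⟨-185, -129⟩, ⟨6, 270⟩, ⟨-52, -154⟩, ⟨294, -168⟩, ⟨327, -4⟩, ⟨157, -336⟩, ⟨290, 136⟩, ⟨42, -424⟩, ⟨-23, 442⟩, ⟨268, 50⟩, ⟨-23, -198⟩],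
  ![⟨2, 2⟩, ⟨60, -160⟩, ⟨0, 2⟩, ⟨0, 0⟩, ⟨0, 4⟩, ⟨54, -234⟩, ⟨28, -542⟩, ⟨-2, -2⟩, ⟨-276, -270⟩, ⟨40, 15⟩, ⟨100, -147⟩, ⟨-210, 61⟩, ⟨362, 100⟩, ⟨-364, -339⟩, ⟨-300, 380⟩, ⟨127, 268⟩, ⟨86, -178⟩, ⟨-478, 321⟩, ⟨658, 219⟩, ⟨-416, -5⟩, ⟨-141, -851⟩, ⟨282, -782⟩, ⟨-661, -662⟩, ⟨603, -572⟩, ⟨-985, -476⟩, ⟨1046, 462⟩, ⟨368, -590⟩, ⟨-492, -110⟩],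
  ![⟨0, 0⟩, ⟨-28, -4⟩, ⟨0, 0⟩, ⟨0, 0⟩, ⟨0, 0⟩, ⟨-40, 0⟩, ⟨-88, 16⟩, ⟨0, 0⟩, ⟨-32, 56⟩, ⟨1, -7⟩, ⟨-29, -10⟩, ⟨18, 32⟩, ⟨0, -62⟩, ⟨-38, 74⟩, ⟨76, 32⟩, ⟨37, -29⟩, ⟨-33, -7⟩, ⟨69, 59⟩, ⟨9, -118⟩, ⟨15, 66⟩, ⟨-132, 53⟩, ⟨-137, -13⟩, ⟨-78, 132⟩, ⟨-116, -74⟩, ⟨-40, 176⟩, ⟨30, -185⟩, ⟨-110, -32⟩, ⟨4, 82⟩],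
  ![⟨-8, 0⟩, ⟨76, 12⟩, ⟨-4, 4⟩, ⟨0, 0⟩, ⟨2, 2⟩, ⟨112, 0⟩, ⟨242, -30⟩, ⟨-2, 0⟩, ⟨92, -136⟩, ⟨-3, 19⟩, ⟨71, 37⟩, ⟨-40, -89⟩, ⟨-21, 165⟩, ⟨128, -178⟩, ⟨-190, -102⟩, ⟨-110, 64⟩, ⟨86, 30⟩, ⟨-180, -204⟩, ⟨-56, 303⟩, ⟨-18, -186⟩, ⟨370, -121⟩, ⟨363, 85⟩, ⟨267, -330⟩, ⟨303, 240⟩, ⟨143, -467⟩, ⟨-141, 493⟩, ⟨290, 134⟩, ⟨33, -227⟩],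
  ![⟨-4, 0⟩, ⟨52, 12⟩, ⟨-2, 2⟩, ⟨0, 0⟩, ⟨0, 0⟩, ⟨78, 6⟩, ⟨174, -10⟩, ⟨0, 0⟩, ⟨76, -92⟩, ⟨-3, 13⟩, ⟨49, 31⟩, ⟨-25, -65⟩, ⟨-24, 117⟩, ⟨101, -121⟩, ⟨-131, -85⟩, ⟨-84, 44⟩, ⟨59, 25⟩, ⟨-119, -153⟩, ⟨-54, 213⟩, ⟨-6, -134⟩, ⟨270, -68⟩, ⟨256, 77⟩, ⟨205, -225⟩, ⟨207, 182⟩, ⟨125, -327⟩, ⟨-125, 347⟩, ⟨202, 109⟩, ⟨32, -162⟩],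
  ![⟨-4, 0⟩, ⟨-12, 12⟩, ⟨-2, 2⟩, ⟨0, 0⟩, ⟨0, 0⟩, ⟨-12, 18⟩, ⟨-22, 50⟩, ⟨0, 0⟩, ⟨16, 40⟩, ⟨-3, -3⟩, ⟨-17, 13⟩, ⟨24, 2⟩, ⟨-34, -24⟩, ⟨27, 50⟩, ⟨42, -30⟩, ⟨-3, -35⟩, ⟨-16, 16⟩, ⟨54, -22⟩, ⟨-61, -48⟩, ⟨45, 15⟩, ⟨-16, 90⟩, ⟨-58, 75⟩, ⟨50, 94⟩, ⟨-76, 41⟩, ⟨80, 86⟩, ⟨-92, -83⟩, ⟨-54, 54⟩, ⟨53, 27⟩],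
  ![⟨0, 0⟩, ⟨0, 0⟩, ⟨0, 0⟩, ⟨0, 0⟩, ⟨0, 0⟩, ⟨0, 0⟩, ⟨0, 0⟩, ⟨0, 0⟩, ⟨0, 0⟩, ⟨0, 0⟩, ⟨1, -1⟩, ⟨0, 0⟩, ⟨0, 0⟩, ⟨0, 0⟩, ⟨0, 3⟩, ⟨0, 0⟩, ⟨0, 0⟩, ⟨3, 1⟩, ⟨0, 0⟩, ⟨1, 0⟩, ⟨3, 1⟩, ⟨1, 0⟩, ⟨1, 0⟩, ⟨-1, -2⟩, ⟨2, -1⟩, ⟨1, -1⟩, ⟨-1, -3⟩, ⟨0, 2⟩],
  ![⟨0, 0⟩, ⟨16, 8⟩, ⟨0, 0⟩, ⟨0, 0⟩, ⟨0, 0⟩, ⟨24, 8⟩, ⟨56, 6⟩, ⟨0, 0⟩, ⟨30, -30⟩, ⟨-2, 4⟩, ⟨17, 9⟩, ⟨-5, -23⟩, ⟨-12, 40⟩, ⟨40, -40⟩, ⟨-37, -29⟩, ⟨-28, 15⟩, ⟨20, 10⟩, ⟨-34, -52⟩, ⟨-29, 71⟩, ⟨2, -45⟩, ⟨96, -15⟩, ⟨88, 31⟩, ⟨75, -75⟩, ⟨56, 63⟩, ⟨56,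 -108⟩, ⟨-51, 113⟩, ⟨61, 38⟩, ⟨15, -54⟩],
  ![⟨0, 0⟩, ⟨16, -32⟩, ⟨0, 0⟩, ⟨0, 0⟩, ⟨0, 0⟩, ⟨16, -48⟩, ⟨16, -112⟩, ⟨0, 0⟩, ⟨-54, -60⟩, ⟨8, 4⟩, ⟨23, -29⟩, ⟨-45, 9⟩, ⟨75, 25⟩, ⟨-74, -76⟩, ⟨-70, 74⟩, ⟨22, 54⟩, ⟨21, -36⟩, ⟨-99, 63⟩, ⟨136, 58⟩, ⟨-85, -7⟩, ⟨-16, -175⟩, ⟨68, -158⟩, ⟨-130, -143⟩, ⟨135, -108⟩, ⟨-196, -112⟩, ⟨211, 108⟩, ⟨85, -119⟩, ⟨-103, -28⟩],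
  ![⟨0, 0⟩, ⟨28, 4⟩, ⟨0, 0⟩, ⟨0, 0⟩, ⟨0, 0⟩, ⟨40, 0⟩, ⟨88, -16⟩, ⟨0, 0⟩, ⟨32, -56⟩, ⟨-1, 7⟩, ⟨27, 11⟩, ⟨-18, -32⟩, ⟨-1, 63⟩, ⟨40, -74⟩, ⟨-73, -35⟩, ⟨-37, 31⟩, ⟨33, 7⟩, ⟨-74, -63⟩, ⟨-10, 117⟩, ⟨-17, -67⟩, ⟨129, -58⟩, ⟨137, 13⟩, ⟨78, -135⟩, ⟨116, 76⟩, ⟨35, -178⟩, ⟨-32, 188⟩, ⟨111, 37⟩, ⟨-3, -87⟩],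
  ![⟨-4, 0⟩, ⟨32, 48⟩, ⟨-2, 2⟩, ⟨0, 0⟩, ⟨0, 0⟩, ⟨56, 60⟩, ⟨144, 116⟩, ⟨0, 0⟩, ⟨128, -20⟩, ⟨-12, 8⟩, ⟨21, 57⟩, ⟨27, -71⟩, ⟨-102, 80⟩, ⟨171, -31⟩, ⟨-44, -156⟩, ⟨-99, -23⟩, ⟨32, 62⟩, ⟨7, -203⟩, ⟨-199, 138⟩, ⟨91, -115⟩, ⟨271, 133⟩, ⟨162, 242⟩, ⟨328, -48⟩, ⟨37, 287⟩, ⟨336, -178⟩, ⟨-342, 196⟩, ⟨90, 224⟩, ⟨140, -114⟩],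
  ![⟨0, 0⟩, ⟨0, 0⟩, ⟨0, 0⟩, ⟨0, 0⟩, ⟨0, 0⟩, ⟨0, 0⟩, ⟨0, 0⟩, ⟨0, 0⟩, ⟨0, 0⟩, ⟨0, 0⟩, ⟨0, 0⟩, ⟨0, 0⟩, ⟨0, -2⟩, ⟨-2, 2⟩, ⟨-2, 2⟩, ⟨-2, -2⟩, ⟨0, 0⟩, ⟨4, 0⟩, ⟨2, 0⟩, ⟨1, 0⟩, ⟨2, 2⟩, ⟨-2, 2⟩, ⟨2, 4⟩, ⟨0, 0⟩, ⟨3, 1⟩, ⟨-2, -3⟩, ⟨-2, -1⟩, ⟨1, 3⟩],
  ![⟨0, 0⟩, ⟨0, 0⟩, ⟨0, 0⟩, ⟨0, 0⟩, ⟨0, 0⟩, ⟨0, 0⟩, ⟨0, 0⟩, ⟨0, 0⟩, ⟨0, 0⟩, ⟨0, 0⟩, ⟨0, -2⟩, ⟨0, 0⟩, ⟨0, 0⟩, ⟨0, 0⟩, ⟨2, 2⟩, ⟨0, 0⟩, ⟨0, 0⟩, ⟨2, -2⟩, ⟨0, 0⟩, ⟨1, -1⟩, ⟨3, -2⟩, ⟨1, -1⟩, ⟨1, -1⟩, ⟨-2, 0⟩, ⟨1, -3⟩, ⟨0, -1⟩, ⟨-3, -1⟩, ⟨2, 1⟩],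
  ![⟨0, 0⟩, ⟨0, 0⟩, ⟨0, 0⟩, ⟨0, 0⟩, ⟨0, 0⟩, ⟨0, 0⟩, ⟨0, 0⟩, ⟨0, 0⟩, ⟨0, 0⟩, ⟨0, 0⟩, ⟨0, 0⟩, ⟨0, 0⟩, ⟨0, 0⟩, ⟨0, 0⟩, ⟨2, 0⟩, ⟨0, 0⟩, ⟨0, 0⟩, ⟨0, 0⟩, ⟨0, 0⟩, ⟨0, 0⟩, ⟨-1, -1⟩, ⟨0, -1⟩, ⟨-1, -1⟩, ⟨-1, 0⟩, ⟨-1, 0⟩, ⟨0, 0⟩, ⟨-1, 0⟩, ⟨0, -1⟩],
  ![⟨0, 0⟩, ⟨0, 0⟩, ⟨0, 0⟩, ⟨0, 0⟩, ⟨0, 0⟩, ⟨0, 0⟩, ⟨0, 0⟩, ⟨0, 0⟩, ⟨0, 0⟩, ⟨0, 0⟩, ⟨0, 0⟩, ⟨0, 0⟩, ⟨0, 0⟩, ⟨0, 0⟩, ⟨0, 0⟩, ⟨0, 0⟩, ⟨0, 0⟩, ⟨2, 0⟩, ⟨0, 0⟩, ⟨0, 0⟩, ⟨1, 1⟩, ⟨0, 0⟩, ⟨0, 1⟩, ⟨-1, 0⟩, ⟨1, 0⟩, ⟨0, -1⟩, ⟨-1, -1⟩, ⟨0, 1⟩],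
  ![⟨0, 0⟩, ⟨0, 0⟩, ⟨0, 0⟩, ⟨0, 0⟩, ⟨0, 0⟩, ⟨0, 0⟩, ⟨0, 0⟩, ⟨0, 0⟩, ⟨0, 0⟩, ⟨0, 0⟩, ⟨0, 0⟩, ⟨0, 0⟩, ⟨0, 0⟩, ⟨0, 0⟩, ⟨0, 0⟩, ⟨0, 0⟩, ⟨0, 0⟩, ⟨0, 0⟩, ⟨0, 0⟩, ⟨0, 0⟩, ⟨0, 0⟩, ⟨0, 0⟩, ⟨0, 0⟩, ⟨0, 0⟩, ⟨-1, 0⟩, ⟨0, 0⟩, ⟨0, 0⟩, ⟨0, 0⟩],
  ![⟨0, 0⟩, ⟨0, 0⟩, ⟨0, 0⟩, ⟨0, 0⟩, ⟨0, 0⟩, ⟨0, 0⟩, ⟨0, 0⟩, ⟨0, 0⟩, ⟨0, 0⟩, ⟨0, 0⟩, ⟨0, 0⟩, ⟨0, 0⟩, ⟨0, 0⟩, ⟨0, 0⟩, ⟨0, 0⟩, ⟨0, 0⟩, ⟨0, 0⟩, ⟨0, 0⟩, ⟨0, 0⟩, ⟨0, 0⟩, ⟨0, 0⟩, ⟨0, 0⟩, ⟨0, 0⟩, ⟨1, 0⟩, ⟨0, 0⟩, ⟨0, 0⟩, ⟨0, 0⟩, ⟨0, 0⟩],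
  ![⟨0, 0⟩, ⟨8, -56⟩, ⟨0, 0⟩, ⟨0, 0⟩, ⟨0, 0⟩, ⟨0, -80⟩, ⟨-32, -176⟩, ⟨0, 0⟩, ⟨-112, -64⟩, ⟨14, 2⟩, ⟨20, -56⟩, ⟨-64, 36⟩, ⟨126, 2⟩, ⟨-148, -80⟩, ⟨-66, 146⟩, ⟨62, 74⟩, ⟨14, -66⟩, ⟨-124, 144⟩, ⟨234, 20⟩, ⟨-134, 32⟩, ⟨-114, -262⟩, ⟨26, -276⟩, ⟨-270, -158⟩, ⟨149, -231⟩, ⟨-357, -75⟩, ⟨375, 62⟩, ⟨70, -221⟩, ⟨-170, 5⟩],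
  ![⟨0, 0⟩, ⟨0, 0⟩, ⟨0, 0⟩, ⟨0, 0⟩, ⟨0, 0⟩, ⟨0, 0⟩, ⟨0, 0⟩, ⟨0, 0⟩, ⟨0, 0⟩, ⟨0, 0⟩, ⟨0, 0⟩, ⟨0, 0⟩, ⟨0, 0⟩, ⟨0, 0⟩, ⟨0, 0⟩, ⟨0, 0⟩, ⟨0, 0⟩, ⟨0, 0⟩, ⟨0, 0⟩, ⟨0, 0⟩, ⟨0, 0⟩, ⟨0, 0⟩, ⟨0, 0⟩, ⟨0, 0⟩, ⟨0, 0⟩, ⟨0, 0⟩, ⟨0, 0⟩, ⟨-1, 0⟩],
  ![⟨0, 0⟩, ⟨0, 0⟩, ⟨0, 0⟩, ⟨0, 0⟩, ⟨0, 0⟩, ⟨0, 0⟩, ⟨0, 0⟩, ⟨0, 0⟩, ⟨0, 0⟩, ⟨0, 0⟩, ⟨0, 0⟩, ⟨0, 0⟩, ⟨0, 0⟩, ⟨0, 0⟩, ⟨0, 0⟩, ⟨0, 0⟩, ⟨0, 0⟩, ⟨0, 0⟩, ⟨0, 0⟩, ⟨0, 0⟩, ⟨0, 0⟩, ⟨0, 0⟩, ⟨0, 0⟩, ⟨0, 0⟩, ⟨0, 0⟩, ⟨0, 0⟩, ⟨1, 0⟩, ⟨0, 0⟩]]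

def mRk : Fin 28 → Fin 28 → GaussianInt := ![
  ![⟨1, 1⟩, ⟨-29, -54⟩, ⟨1, 0⟩, ⟨0, -1⟩, ⟨1, 0⟩, ⟨-53, -71⟩, ⟨-142, -135⟩, ⟨-2, 1⟩, ⟨-138, 14⟩, ⟨13, -7⟩, ⟨-17, -64⟩, ⟨-32, 73⟩, ⟨112, -78⟩, ⟨-180, 23⟩, ⟨40, 177⟩, ⟨100, 25⟩, ⟨-28, -66⟩, ⟨-17, 204⟩, ⟨216, -132⟩, ⟨-97, 111⟩, ⟨-265, -161⟩, ⟨-148, -262⟩, ⟨-336, 29⟩, ⟨-19, -301⟩, ⟨-360, 159⟩, ⟨368, -183⟩, ⟨-84, -243⟩, ⟨-143, 111⟩],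
  ![⟨0, 0⟩, ⟨19, -58⟩, ⟨0, 0⟩, ⟨2, 0⟩, ⟨0, 0⟩, ⟨18, -85⟩, ⟨4, -193⟩, ⟨1, 2⟩, ⟨-105, -91⟩, ⟨15, 5⟩, ⟨31, -55⟩, ⟨-75, 24⟩, ⟨133, 29⟩, ⟨-139, -120⟩, ⟨-94, 135⟩, ⟨54, 92⟩, ⟨29, -70⟩, ⟨-171, 132⟩, ⟨242, 76⟩, ⟨-151, 5⟩, ⟨-74, -310⟩, ⟨86, -295⟩, ⟨-263, -234⟩, ⟨206, -213⟩, ⟨-370, -156⟩, ⟨390, 150⟩, ⟨121, -216⟩, ⟨-185, -39⟩],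
  ![⟨-1, -2⟩, ⟨-50, 77⟩, ⟨-1, -1⟩, ⟨0, -1⟩, ⟨-1, 0⟩, ⟨-55, 116⟩, ⟨-79, 277⟩, ⟨2, -2⟩, ⟨110, 170⟩, ⟨-19, -13⟩, ⟨-70, 64⟩, ⟨115, -6⟩, ⟨-174, -95⟩, ⟨145, 219⟩, ⟨194, -164⟩, ⟨-30, -152⟩, ⟨-69, 80⟩, ⟨288, -105⟩, ⟨-309, -193⟩, ⟨212, 56⟩, ⟨-33, 458⟩, ⟨-246, 369⟩, ⟨254, 428⟩, ⟨-383, 222⟩, ⟨449, 367⟩, ⟨-481, -367⟩, ⟨-259, 261⟩, ⟨236, 121⟩],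
  ![⟨0, 0⟩, ⟨-69, 27⟩, ⟨0, 0⟩, ⟨1, -1⟩, ⟨-1, -4⟩, ⟨-91, 50⟩, ⟨-183, 147⟩, ⟨3, 2⟩, ⟨-8, 169⟩, ⟨-6, -17⟩, ⟨-78, 8⟩, ⟨79, 48⟩, ⟨-69, -145⟩, ⟨-6, 210⟩, ⟨216, -19⟩, ⟨51, -121⟩, ⟨-83, 17⟩, ⟨235, 71⟩, ⟨-117, -266⟩, ⟨115, 135⟩, ⟨-240, 284⟩, ⟨-333, 124⟩, ⟨-35, 395⟩, ⟨-358, -31⟩, ⟨123, 455⟩, ⟨-143, -467⟩, ⟨-295, 53⟩, ⟨100, 183⟩],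
  ![⟨0, 0⟩, ⟨-1, -101⟩, ⟨0, 0⟩, ⟨1, 0⟩, ⟨3, 3⟩, ⟨-19, -142⟩, ⟨-99, -305⟩, ⟨-2, 1⟩, ⟨-213, -90⟩, ⟨25, 0⟩, ⟨22, -102⟩, ⟨-102, 80⟩, ⟨221, -24⟩, ⟨-277, -108⟩, ⟨-82, 274⟩, ⟨131, 120⟩, ⟨10, -117⟩, ⟨-193, 282⟩, ⟨412, -23⟩, ⟨-230, 88⟩, ⟨-268, -439⟩, ⟨-17, -494⟩, ⟨-515, -218⟩, ⟨208, -444⟩, ⟨-652, -48⟩, ⟨679, 26⟩, ⟨73, -406⟩, ⟨-298, 47⟩],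
  ![⟨0, 0⟩, ⟨60, -6⟩, ⟨0, 0⟩, ⟨-1, 1⟩, ⟨1, 3⟩, ⟨82, -19⟩, ⟨172, -74⟩, ⟨-2, -2⟩, ⟨37, -129⟩, ⟨1, 15⟩, ⟨60, 9⟩, ⟨-51, -55⟩, ⟨27, 127⟩, ⟨45, -166⟩, ⟨-168, -31⟩, ⟨-58, 80⟩, ⟨69, 0⟩, ⟨-174, -94⟩, ⟨35, 235⟩, ⟨-64, -125⟩, ⟨235, -174⟩, ⟨281, -33⟩, ⟨97, -302⟩, ⟨268, 99⟩, ⟨-10, -373⟩, ⟨22, 392⟩, ⟨241, 19⟩, ⟨-46, -165⟩],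
  ![⟨0, 0⟩, ⟨-8, 16⟩, ⟨0, 0⟩, ⟨0, 0⟩, ⟨0, 0⟩, ⟨-8, 24⟩, ⟨-5, 56⟩, ⟨0, 0⟩, ⟨31, 29⟩, ⟨-4, -2⟩, ⟨-9, 16⟩, ⟨23, -5⟩, ⟨-41, -11⟩, ⟨42, 41⟩, ⟨31, -37⟩, ⟨-17, -26⟩, ⟨-10, 22⟩, ⟨55, -43⟩, ⟨-72, -30⟩, ⟨46, -1⟩, ⟨22, 94⟩, ⟨-29, 89⟩, ⟨81, 74⟩, ⟨-64, 59⟩, ⟨111, 49⟩, ⟨-118, -51⟩, ⟨-42, 64⟩, ⟨60, 15⟩],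
  ![⟨0, 0⟩, ⟨4, -108⟩, ⟨0, 0⟩, ⟨1, -1⟩, ⟨1, 3⟩, ⟨-13, -153⟩, ⟨-88, -330⟩, ⟨-1, 0⟩, ⟨-218, -104⟩, ⟨27, 1⟩, ⟨28, -106⟩, ⟨-112, 80⟩, ⟨232, -14⟩, ⟨-285, -125⟩, ⟨-99, 282⟩, ⟨130, 133⟩, ⟨14, -121⟩, ⟨-214, 280⟩, ⟨437, -7⟩, ⟨-246, 79⟩, ⟨-258, -477⟩, ⟨6, -520⟩, ⟨-528, -253⟩, ⟨243, -456⟩, ⟨-685, -86⟩, ⟨710, 60⟩, ⟨95, -420⟩, ⟨-313, 36⟩],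
  ![⟨0, 0⟩, ⟨62, -144⟩, ⟨0, 0⟩, ⟨2, 0⟩, ⟨2, 2⟩, ⟨62, -214⟩, ⟨51, -495⟩, ⟨-1, 1⟩, ⟨-246, -257⟩, ⟨36, 16⟩, ⟨96, -131⟩, ⟨-195, 46⟩, ⟨330, 106⟩, ⟨-325, -330⟩, ⟨-285, 332⟩, ⟨111, 245⟩, ⟨89, -163⟩, ⟨-455, 285⟩, ⟨596, 235⟩, ⟨-381, -20⟩, ⟨-106, -789⟩, ⟨287, -712⟩, ⟨-594, -636⟩, ⟨578, -496⟩, ⟨-894, -474⟩, ⟨948, 465⟩, ⟨361, -526⟩, ⟨-453, -125⟩],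
  ![⟨0, 0⟩, ⟨126, -116⟩, ⟨0, 0⟩, ⟨2, -2⟩, ⟨0, 6⟩, ⟨156, -190⟩, ⟨268, -480⟩, ⟨-2, -2⟩, ⟨-134, -372⟩, ⟨29, 32⟩, ⟨154, -92⟩, ⟨-216, -38⟩, ⟨286, 253⟩, ⟨-184, -475⟩, ⟨-434, 212⟩, ⟨6, 296⟩, ⟨160, -123⟩, ⟨-580, 83⟩, ⟨502, 497⟩, ⟨-376, -191⟩, ⟨239, -848⟩, ⟨599, -597⟩, ⟨-323, -899⟩, ⟨796, -247⟩, ⟨-697, -875⟩, ⟨752, 882⟩, ⟨589, -372⟩, ⟨-401, -324⟩],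
  ![⟨0, 0⟩, ⟨84, 92⟩, ⟨0, 0⟩, ⟨-2, 2⟩, ⟨-2, 2⟩, ⟨134, 114⟩, ⟨338, 198⟩, ⟨0, -2⟩, ⟨262, -94⟩, ⟨-23, 21⟩, ⟨61, 114⟩, ⟨29, -155⟩, ⟨-180, 200⟩, ⟨333, -127⟩, ⟨-154, -316⟩, ⟨-210, -4⟩, ⟨86, 116⟩, ⟨-52, -406⟩, ⟨-354, 353⟩, ⟨137, -262⟩, ⟨589, 187⟩, ⟨407, 435⟩, ⟨637, -208⟩, ⟨168, 575⟩, ⟨626, -476⟩, ⟨-634, 520⟩, ⟨263, 425⟩, ⟨226, -279⟩],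
  ![⟨0, 0⟩, ⟨8, -128⟩, ⟨0, 0⟩, ⟨2, -2⟩, ⟨2, 2⟩, ⟨-12, -184⟩, ⟨-100, -400⟩, ⟨0, 0⟩, ⟨-264, -134⟩, ⟨31, 3⟩, ⟨39, -133⟩, ⟨-136, 91⟩, ⟨285, -7⟩, ⟨-343, -167⟩, ⟨-123, 345⟩, ⟨161, 165⟩, ⟨26, -150⟩, ⟨-273, 341⟩, ⟨526, 13⟩, ⟨-302, 88⟩, ⟨-297, -595⟩, ⟨28, -641⟩, ⟨-640, -334⟩, ⟨302, -550⟩, ⟨-832, -129⟩, ⟨868, 95⟩, ⟨124, -513⟩, ⟨-383, 30⟩],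
  ![⟨0, 0⟩, ⟨14, -42⟩, ⟨0, 0⟩, ⟨0, -2⟩, ⟨0, 2⟩, ⟨12, -64⟩, ⟨2, -146⟩, ⟨0, 0⟩, ⟨-76, -72⟩, ⟨10, 4⟩, ⟨24, -42⟩, ⟨-53, 19⟩, ⟨96, 25⟩, ⟨-100, -90⟩, ⟨-71, 103⟩, ⟨40, 72⟩, ⟨22, -46⟩, ⟨-125, 87⟩, ⟨176, 52⟩, ⟨-111, 0⟩, ⟨-48, -233⟩, ⟨68, -217⟩, ⟨-188, -172⟩, ⟨150, -158⟩, ⟨-274, -123⟩, ⟨286, 112⟩, ⟨87, -160⟩, ⟨-132, -27⟩],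
  ![⟨0, 0⟩, ⟨-54, -14⟩, ⟨0, 0⟩, ⟨2, -2⟩, ⟨0, 0⟩, ⟨-76, -12⟩, ⟨-170, 2⟩, ⟨0, 0⟩, ⟨-72, 92⟩, ⟨3, -13⟩, ⟨-46, -30⟩, ⟨28, 66⟩, ⟨16, -112⟩, ⟨-86, 125⟩, ⟨133, 89⟩, ⟨82, -42⟩, ⟨-58, -20⟩, ⟨111, 125⟩, ⟨41, -218⟩, ⟨12, 125⟩, ⟨-251, 60⟩, ⟨-242, -65⟩, ⟨-177, 219⟩, ⟨-199, -176⟩, ⟨-119, 311⟩, ⟨108, -333⟩, ⟨-201, -96⟩, ⟨-9, 155⟩],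
  ![⟨0, 0⟩, ⟨-20, -44⟩, ⟨0, 0⟩, ⟨0, 0⟩, ⟨0, 0⟩, ⟨-36, -58⟩, ⟨-102, -114⟩, ⟨0, 0⟩, ⟨-108, 2⟩, ⟨11, -5⟩, ⟨-9, -49⟩, ⟨-31, 53⟩, ⟨94, -52⟩, ⟨-142, 2⟩, ⟨13, 132⟩, ⟨77, 25⟩, ⟨-18, -54⟩, ⟨-33, 165⟩, ⟨177, -82⟩, ⟨-84, 82⟩, ⟨-199, -140⟩, ⟨-99, -213⟩, ⟨-267, -2⟩, ⟨11, -235⟩, ⟨-292, 103⟩, ⟨304, -115⟩, ⟨-39, -192⟩, ⟨-124, 74⟩],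
  ![⟨0, 0⟩, ⟨0, -40⟩, ⟨0, 0⟩, ⟨0, 0⟩, ⟨0, 0⟩, ⟨-8, -56⟩, ⟨-40, -120⟩, ⟨0, 0⟩, ⟨-84, -34⟩, ⟨10, 0⟩, ⟨9, -41⟩, ⟨-42, 30⟩, ⟨90, -10⟩, ⟨-113, -45⟩, ⟨-34, 106⟩, ⟨49, 44⟩, ⟨4, -48⟩, ⟨-75, 119⟩, ⟨167, -3⟩, ⟨-91, 35⟩, ⟨-107, -172⟩, ⟨-7, -198⟩, ⟨-207, -88⟩, ⟨85, -177⟩, ⟨-257, -17⟩, ⟨273, 9⟩, ⟨32, -163⟩, ⟨-122, 18⟩],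
  ![⟨0, 0⟩, ⟨-20, -52⟩, ⟨0, 0⟩, ⟨2, -2⟩, ⟨0, 0⟩, ⟨-36, -72⟩, ⟨-106, -146⟩, ⟨0, 0⟩, ⟨-124, -12⟩, ⟨13, -5⟩, ⟨-3, -61⟩, ⟨-40, 60⟩, ⟨112, -48⟩, ⟨-160, -12⟩, ⟨6, 162⟩, ⟨88, 42⟩, ⟨-14, -63⟩, ⟨-56, 178⟩, ⟨211, -80⟩, ⟨-106, 82⟩, ⟨-208, -192⟩, ⟨-85, -260⟩, ⟨-305, -37⟩, ⟨34, -275⟩, ⟨-350, 78⟩, ⟨362, -97⟩, ⟨-31, -228⟩, ⟨-144, 71⟩],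
  ![⟨0, 0⟩, ⟨16, -32⟩, ⟨0, 0⟩, ⟨0, 0⟩, ⟨0, 0⟩, ⟨16, -48⟩, ⟨16, -114⟩, ⟨0, 0⟩, ⟨-54, -64⟩, ⟨8, 4⟩, ⟨25, -31⟩, ⟨-45, 9⟩, ⟨74, 30⟩, ⟨-68, -80⟩, ⟨-68, 78⟩, ⟨22, 64⟩, ⟨24, -36⟩, ⟨-110, 55⟩, ⟨133, 59⟩, ⟨-89, -11⟩, ⟨-8, -188⟩, ⟨81, -162⟩, ⟨-124, -160⟩, ⟨138, -112⟩, ⟨-200, -127⟩, ⟨213, 123⟩, ⟨89, -119⟩, ⟨-100, -35⟩],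
  ![⟨0, 0⟩, ⟨-34, -34⟩, ⟨0, 0⟩, ⟨2, -2⟩, ⟨0, 0⟩, ⟨-52, -44⟩, ⟨-132, -76⟩, ⟨0, 0⟩, ⟨-100, 36⟩, ⟨8, -8⟩, ⟨-24, -46⟩, ⟨-10, 60⟩, ⟨71, -77⟩, ⟨-131, 45⟩, ⟨62, 122⟩, ⟨86, -2⟩, ⟨-35, -45⟩, ⟨21, 165⟩, ⟨136, -133⟩, ⟨-51, 103⟩, ⟨-233, -75⟩, ⟨-159, -175⟩, ⟨-256, 80⟩, ⟨-71, -225⟩, ⟨-245, 187⟩, ⟨252, -206⟩, ⟨-105, -169⟩, ⟨-90, 108⟩],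
  ![⟨0, 0⟩, ⟨-80, -16⟩, ⟨0, 0⟩, ⟨0, -4⟩, ⟨0, 0⟩, ⟨-116, -12⟩, ⟨-260, 20⟩, ⟨0, 0⟩, ⟨-108, 148⟩, ⟨4, -20⟩, ⟨-78, -40⟩, ⟨44, 96⟩, ⟨24, -178⟩, ⟨-138, 194⟩, ⟨204, 114⟩, ⟨120, -82⟩, ⟨-92, -30⟩, ⟨186, 206⟩, ⟨62, -326⟩, ⟨25, 196⟩, ⟨-400, 120⟩, ⟨-394, -88⟩, ⟨-278, 362⟩, ⟨-316, -249⟩, ⟨-166, 501⟩, ⟨152, -531⟩, ⟨-310, -134⟩, ⟨-21, 240⟩],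
  ![⟨0, 0⟩, ⟨0, 0⟩, ⟨0, 0⟩, ⟨0, 0⟩, ⟨0, 0⟩, ⟨0, 0⟩, ⟨0, 0⟩, ⟨0, 0⟩, ⟨0, 0⟩, ⟨0, 0⟩, ⟨0, 0⟩, ⟨-2, 0⟩, ⟨2, -2⟩, ⟨-4, 0⟩, ⟨-4, 0⟩, ⟨-2, -2⟩, ⟨-2, -2⟩, ⟨4, 8⟩, ⟨6, 2⟩, ⟨0, 2⟩, ⟨-3, 4⟩, ⟨-3, -1⟩, ⟨-6, 4⟩, ⟨2, -3⟩, ⟨1, 4⟩, ⟨5, -3⟩, ⟨2, -4⟩, ⟨-5, 3⟩],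
  ![⟨0, 0⟩, ⟨0, 0⟩, ⟨0, 0⟩, ⟨0, 0⟩, ⟨0, 0⟩, ⟨0, 0⟩, ⟨0, 0⟩, ⟨0, 0⟩, ⟨0, 0⟩, ⟨0, 0⟩, ⟨0, 0⟩, ⟨0, 0⟩, ⟨0, 0⟩, ⟨-2, 0⟩, ⟨0, 0⟩, ⟨0, 0⟩, ⟨0, 0⟩, ⟨2, 2⟩, ⟨2, 0⟩, ⟨0, 0⟩, ⟨-2, 0⟩, ⟨-1, -2⟩, ⟨-3, 1⟩, ⟨-1, -1⟩, ⟨-1, 1⟩, ⟨2, -2⟩, ⟨-1, -2⟩, ⟨-2, 1⟩],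
  ![⟨0, 0⟩, ⟨0, 0⟩, ⟨0, 0⟩, ⟨0, 0⟩, ⟨0, 0⟩, ⟨0, 0⟩, ⟨0, 0⟩, ⟨0, 0⟩, ⟨0, 0⟩, ⟨0, 0⟩, ⟨0, 0⟩, ⟨0, 0⟩, ⟨0, 0⟩, ⟨0, 0⟩, ⟨0, 0⟩, ⟨-2, 0⟩, ⟨0, 0⟩, ⟨0, 0⟩, ⟨0, 0⟩, ⟨0, 0⟩, ⟨1, 1⟩, ⟨1, 1⟩, ⟨1, 0⟩, ⟨1, 0⟩, ⟨1, 0⟩, ⟨0, 1⟩, ⟨1, 0⟩, ⟨0, 0⟩],
  ![⟨0, 0⟩, ⟨-8, -24⟩, ⟨0, 0⟩, ⟨0, 0⟩, ⟨0, 0⟩, ⟨-16, -32⟩, ⟨-48, -64⟩, ⟨0, 0⟩, ⟨-56, -4⟩, ⟨6, -2⟩, ⟨-2, -26⟩, ⟨-18, 26⟩, ⟨50, -22⟩, ⟨-72, -4⟩, ⟨2, 70⟩, ⟨38, 18⟩, ⟨-6, -28⟩, ⟨-24, 80⟩, ⟨94, -36⟩, ⟨-47, 37⟩, ⟨-94, -82⟩, ⟨-40, -114⟩, ⟨-134, -14⟩, ⟨16, -121⟩,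 ⟨-154, 38⟩, ⟨160, -45⟩, ⟨-13, -100⟩, ⟨-65, 33⟩],
  ![⟨0, 0⟩, ⟨0, 0⟩, ⟨0, 0⟩, ⟨0, 0⟩, ⟨0, 0⟩, ⟨0, 0⟩, ⟨0, 0⟩, ⟨0, 0⟩, ⟨0, 0⟩, ⟨0, 0⟩, ⟨0, 0⟩, ⟨0, 0⟩, ⟨0, 0⟩, ⟨0, 0⟩, ⟨0, 0⟩, ⟨0, 0⟩, ⟨0, 2⟩, ⟨2, -2⟩, ⟨0, 0⟩, ⟨1, -1⟩, ⟨2, 0⟩, ⟨0, 0⟩, ⟨2, 0⟩, ⟨-1, 1⟩, ⟨1, -2⟩, ⟨-1, -2⟩, ⟨-1, 0⟩, ⟨2, 0⟩],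
  ![⟨0, 0⟩, ⟨0, 0⟩, ⟨0, 0⟩, ⟨0, 0⟩, ⟨0, 0⟩, ⟨0, 0⟩, ⟨0, 0⟩, ⟨0, 0⟩, ⟨0, 0⟩, ⟨0, 0⟩, ⟨0, 0⟩, ⟨0, 0⟩, ⟨0, 0⟩, ⟨0, 0⟩, ⟨0, 0⟩, ⟨0, 0⟩, ⟨0, 0⟩, ⟨0, 0⟩, ⟨0, 0⟩, ⟨0, 0⟩, ⟨0, 0⟩, ⟨0, 0⟩, ⟨0, 0⟩, ⟨0, 0⟩, ⟨0, 0⟩, ⟨0, 0⟩, ⟨0, 0⟩, ⟨1, 0⟩],
  ![⟨0, 0⟩, ⟨8, -56⟩, ⟨0, 0⟩, ⟨0, 0⟩, ⟨0, 0⟩, ⟨0, -80⟩, ⟨-32, -176⟩, ⟨0, 0⟩, ⟨-112, -64⟩, ⟨14, 2⟩, ⟨20, -56⟩, ⟨-64, 36⟩, ⟨126, 2⟩, ⟨-148, -80⟩, ⟨-66, 146⟩, ⟨62, 74⟩, ⟨14, -66⟩, ⟨-124, 144⟩, ⟨234, 20⟩, ⟨-134, 32⟩, ⟨-114, -262⟩, ⟨26, -276⟩, ⟨-270, -158⟩,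 ⟨149, -231⟩, ⟨-357, -75⟩, ⟨375, 62⟩, ⟨70, -221⟩, ⟨-170, 5⟩],
  ![⟨0, 0⟩, ⟨0, 0⟩, ⟨0, 0⟩, ⟨0, 0⟩, ⟨0, 0⟩, ⟨0, 0⟩, ⟨0, 0⟩, ⟨0, 0⟩, ⟨0, 0⟩, ⟨0, 0⟩, ⟨0, 0⟩, ⟨0, 0⟩, ⟨0, 0⟩, ⟨0, 0⟩, ⟨0, 0⟩, ⟨0, 0⟩, ⟨0, 0⟩, ⟨0, 0⟩, ⟨0, 0⟩, ⟨0, 0⟩, ⟨0, 0⟩, ⟨0, 0⟩, ⟨0, 0⟩, ⟨0, 0⟩, ⟨0, 0⟩, ⟨-1, 0⟩, ⟨0, 0⟩, ⟨0, 0⟩]]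

def mSign : Fin 28 → Fin 28 → GaussianInt := ![
  ![⟨-1, 0⟩, ⟨32, -24⟩, ⟨0, 0⟩, ⟨0, 0⟩, ⟨0, 0⟩, ⟨40, -40⟩, ⟨74, -98⟩, ⟨0, 0⟩, ⟨-20, -80⟩, ⟨6, 8⟩, ⟨35, -14⟩, ⟨-48, -14⟩, ⟨55, 60⟩, ⟨-31, -103⟩, ⟨-100, 32⟩, ⟨-12, 61⟩, ⟨36, -22⟩, ⟨-118, 1⟩, ⟨101, 118⟩, ⟨-73, -51⟩, ⟨74, -170⟩, ⟨141, -109⟩, ⟨-44, -193⟩, ⟨183, -28⟩, ⟨-125, -205⟩, ⟨136, 204⟩, ⟨136, -64⟩, ⟨-78, -75⟩],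
  ![⟨0, 0⟩, ⟨-17, -8⟩, ⟨0, 0⟩, ⟨0, 0⟩, ⟨0, 0⟩, ⟨-24, -8⟩, ⟨-54, -10⟩, ⟨0, 0⟩, ⟨-28, 24⟩, ⟨2, -4⟩, ⟨-14, -11⟩, ⟨4, 23⟩, ⟨14, -34⟩, ⟨-36, 32⟩, ⟨33, 31⟩, ⟨32, -6⟩, ⟨-17, -9⟩, ⟨23, 46⟩, ⟨27, -65⟩, ⟨-6, 41⟩, ⟨-86, 1⟩, ⟨-75, -39⟩, ⟨-74, 57⟩, ⟨-50, -67⟩, ⟨-62, 91⟩, ⟨56, -99⟩, ⟨-55, -41⟩, ⟨-15, 46⟩],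
  ![⟨0, 0⟩, ⟨-32, 24⟩, ⟨-1, 0⟩, ⟨0, 0⟩, ⟨0, 0⟩, ⟨-40, 40⟩, ⟨-74, 98⟩, ⟨0, 0⟩, ⟨20, 80⟩, ⟨-6, -8⟩, ⟨-34, 14⟩, ⟨49, 14⟩, ⟨-57, -60⟩, ⟨33, 105⟩, ⟨101, -29⟩, ⟨10, -61⟩, ⟨-35, 23⟩, ⟨120, -6⟩, ⟨-103, -120⟩, ⟨75, 50⟩, ⟨-69, 171⟩, ⟨-139, 113⟩, ⟨51, 193⟩, ⟨-184, 29⟩, ⟨129, 203⟩, ⟨-141, -203⟩, ⟨-138, 65⟩, ⟨82, 76⟩],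
  ![⟨0, 0⟩, ⟨-8, -48⟩, ⟨0, 0⟩, ⟨1, 0⟩, ⟨0, 0⟩, ⟨-18, -66⟩, ⟨-64, -140⟩, ⟨0, 0⟩, ⟨-102, -30⟩, ⟨12, -2⟩, ⟨6, -48⟩, ⟨-44, 44⟩, ⟨102, -22⟩, ⟨-132, -36⟩, ⟨-25, 132⟩, ⟨68, 52⟩, ⟨-1, -56⟩, ⟨-83, 139⟩, ⟨190, -33⟩, ⟨-105, 53⟩, ⟨-147, -196⟩, ⟨-30, -231⟩, ⟨-250, -81⟩, ⟨79, -223⟩, ⟨-311, 10⟩, ⟨318, -18⟩, ⟨16, -192⟩, ⟨-135, 33⟩],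
  ![⟨0, 0⟩, ⟨-28, -44⟩, ⟨0, 0⟩, ⟨0, 0⟩, ⟨1, 0⟩, ⟨-48, -56⟩, ⟨-128, -104⟩, ⟨0, 0⟩, ⟨-118, 22⟩, ⟨11, -7⟩, ⟨-20, -52⟩, ⟨-24, 64⟩, ⟨91, -75⟩, ⟨-155, 33⟩, ⟨38, 143⟩, ⟨89, 15⟩, ⟨-31, -54⟩, ⟨5, 177⟩, ⟨179, -127⟩, ⟨-74, 104⟩, ⟨-236, -113⟩, ⟨-150, -210⟩, ⟨-286, 56⟩, ⟨-35, -252⟩, ⟨-294, 162⟩, ⟨303, -188⟩, ⟨-85, -200⟩, ⟨-117, 111⟩],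
  ![⟨0, 0⟩, ⟨24, 32⟩, ⟨0, 0⟩, ⟨0, 0⟩, ⟨0, 0⟩, ⟨39, 40⟩, ⟨98, 74⟩, ⟨0, 0⟩, ⟨80, -20⟩, ⟨-8, 6⟩, ⟨14, 34⟩, ⟨13, -47⟩, ⟨-59, 53⟩, ⟨100, -30⟩, ⟨-34, -98⟩, ⟨-63, -11⟩, ⟨20, 36⟩, ⟨6, -116⟩, ⟨-114, 100⟩, ⟨52, -73⟩, ⟨172, 77⟩, ⟨108, 140⟩, ⟨192, -40⟩, ⟨27, 180⟩, ⟨208, -125⟩, ⟨-201, 131⟩, ⟨62, 131⟩, ⟨74, -73⟩],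
  ![⟨0, 0⟩, ⟨-4, -12⟩, ⟨0, 0⟩, ⟨0, 0⟩, ⟨0, 0⟩, ⟨-8, -16⟩, ⟨-23, -32⟩, ⟨0, 0⟩, ⟨-26, -2⟩, ⟨3, -1⟩, ⟨0, -12⟩, ⟨-8, 12⟩, ⟨23, -9⟩, ⟨-32, -2⟩, ⟨1, 33⟩, ⟨17, 9⟩, ⟨-1, -13⟩, ⟨-16, 36⟩, ⟨42, -17⟩, ⟨-23, 16⟩, ⟨-44, -40⟩, ⟨-16, -52⟩, ⟨-60, -10⟩, ⟨11, -57⟩, ⟨-74, 17⟩, ⟨74, -16⟩, ⟨-3, -46⟩, ⟨-30, 13⟩],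
  ![⟨0, 0⟩, ⟨-4, -12⟩, ⟨0, 0⟩, ⟨0, 0⟩, ⟨0, 0⟩, ⟨-8, -16⟩, ⟨-24, -32⟩, ⟨1, 0⟩, ⟨-30, -2⟩, ⟨3, -1⟩, ⟨-2, -14⟩, ⟨-10, 14⟩, ⟨27, -13⟩, ⟨-42, -2⟩, ⟨-2, 34⟩, ⟨21, 9⟩, ⟨-5, -15⟩, ⟨-6, 46⟩, ⟨54, -19⟩, ⟨-24, 21⟩, ⟨-52, -39⟩, ⟨-27, -61⟩, ⟨-77, 0⟩, ⟨6, -63⟩, ⟨-81, 22⟩, ⟨87, -31⟩, ⟨-8, -54⟩, ⟨-39, 22⟩],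
  ![⟨0, 0⟩, ⟨0, 0⟩, ⟨0, 0⟩, ⟨0, 0⟩, ⟨0, 0⟩, ⟨0, 0⟩, ⟨0, 0⟩, ⟨0, 0⟩, ⟨-1, 0⟩, ⟨0, 0⟩, ⟨-1, -1⟩, ⟨-1, 1⟩, ⟨2, -2⟩, ⟨-4, 0⟩, ⟨-2, 0⟩, ⟨2, 0⟩, ⟨-2, 0⟩, ⟨5, 3⟩, ⟨4, 0⟩, ⟨1, 2⟩, ⟨-1, 1⟩, ⟨-4, -4⟩, ⟨-5, 5⟩, ⟨-2, -2⟩, ⟨-1, 1⟩, ⟨4, -7⟩, ⟨-3, -4⟩, ⟨-2, 4⟩],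
  ![⟨0, 0⟩, ⟨0, 0⟩, ⟨0, 0⟩, ⟨0, 0⟩, ⟨0, 0⟩, ⟨0, 0⟩, ⟨0, 0⟩, ⟨0, 0⟩, ⟨0, 0⟩, ⟨-1, 0⟩, ⟨2, -2⟩, ⟨2, 2⟩, ⟨-2, 0⟩, ⟨2, 2⟩, ⟨2, 6⟩, ⟨2, 4⟩, ⟨0, 4⟩, ⟨8, -8⟩, ⟨-4, -6⟩, ⟨5, 0⟩, ⟨10, 1⟩, ⟨3, 1⟩, ⟨8, 3⟩, ⟨-7, -2⟩, ⟨6, -5⟩, ⟨-3, -5⟩, ⟨-7, -5⟩, ⟨6, 6⟩],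
  ![⟨0, 0⟩, ⟨0, 0⟩, ⟨0, 0⟩, ⟨0, 0⟩, ⟨0, 0⟩, ⟨0, 0⟩, ⟨0, 0⟩, ⟨0, 0⟩, ⟨0, 0⟩, ⟨0, 0⟩, ⟨1, 0⟩, ⟨0, 0⟩, ⟨0, 0⟩, ⟨0, 0⟩, ⟨-2, 2⟩, ⟨0, 0⟩, ⟨0, 0⟩, ⟨0, 0⟩, ⟨0, 0⟩, ⟨0, 0⟩, ⟨2, 0⟩, ⟨1, 1⟩, ⟨2, 0⟩, ⟨1, -1⟩, ⟨2, 0⟩, ⟨0, 1⟩, ⟨1, -1⟩, ⟨0, 1⟩],
  ![⟨0, 0⟩, ⟨0, 0⟩, ⟨0, 0⟩, ⟨0, 0⟩, ⟨0, 0⟩, ⟨0, 0⟩, ⟨0, 0⟩, ⟨0, 0⟩, ⟨0, 0⟩, ⟨0, 0⟩, ⟨0, 0⟩, ⟨1, 0⟩, ⟨0, 0⟩, ⟨0, 0⟩, ⟨0, 0⟩, ⟨0, 0⟩, ⟨2, 2⟩, ⟨0, -4⟩, ⟨-4, 0⟩, ⟨2, 0⟩, ⟨4, 0⟩, ⟨1, 1⟩, ⟨4, 0⟩, ⟨-1, 2⟩, ⟨2, -1⟩, ⟨-3, -1⟩, ⟨-2, 0⟩, ⟨3, 1⟩],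
  ![⟨0, 0⟩, ⟨0, 0⟩, ⟨0, 0⟩, ⟨0, 0⟩, ⟨0, 0⟩, ⟨0, 0⟩, ⟨0, 0⟩, ⟨0, 0⟩, ⟨0, 0⟩, ⟨0, 0⟩, ⟨0, 0⟩, ⟨0, 0⟩, ⟨1, 0⟩, ⟨-2, -2⟩, ⟨-2, -2⟩, ⟨0, 0⟩, ⟨0, 0⟩, ⟨0, 4⟩, ⟨0, 2⟩, ⟨1, 1⟩, ⟨-1, 1⟩, ⟨0, -2⟩, ⟨-3, 1⟩, ⟨1, -1⟩, ⟨0, 2⟩, ⟨4, -1⟩, ⟨2, -3⟩, ⟨-3, 1⟩],
  ![⟨0, 0⟩, ⟨0, 0⟩, ⟨0, 0⟩, ⟨0, 0⟩, ⟨0, 0⟩, ⟨0, 0⟩, ⟨0, 0⟩, ⟨0, 0⟩, ⟨0, 0⟩, ⟨0, 0⟩, ⟨0, 0⟩, ⟨0, 0⟩, ⟨0, 0⟩, ⟨-1, 0⟩, ⟨0, 0⟩, ⟨0, 0⟩, ⟨0, 0⟩, ⟨2, 2⟩, ⟨0, 0⟩, ⟨1, 1⟩, ⟨-1, 1⟩, ⟨0, 0⟩, ⟨-2, 2⟩, ⟨-1, -1⟩, ⟨1, 1⟩, ⟨1, -1⟩, ⟨0, -2⟩, ⟨-1, 1⟩],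
  ![⟨0, 0⟩, ⟨0, 0⟩, ⟨0, 0⟩, ⟨0, 0⟩, ⟨0, 0⟩, ⟨0, 0⟩, ⟨0, 0⟩, ⟨0, 0⟩, ⟨0, 0⟩, ⟨0, 0⟩, ⟨0, 0⟩, ⟨0, 0⟩, ⟨0, 0⟩, ⟨0, 0⟩, ⟨-1, 0⟩, ⟨0, 0⟩, ⟨0, 0⟩, ⟨0, 0⟩, ⟨0, 0⟩, ⟨0, 0⟩, ⟨1, 1⟩, ⟨0, 0⟩, ⟨1, 1⟩, ⟨0, 0⟩, ⟨0, 0⟩, ⟨0, 0⟩, ⟨0, 0⟩, ⟨0, 0⟩],
  ![⟨0, 0⟩, ⟨0, 0⟩, ⟨0, 0⟩, ⟨0, 0⟩, ⟨0, 0⟩, ⟨0, 0⟩, ⟨0, 0⟩, ⟨0, 0⟩, ⟨0, 0⟩, ⟨0, 0⟩, ⟨0, 0⟩, ⟨0, 0⟩, ⟨0, 0⟩, ⟨0, 0⟩, ⟨0, 0⟩, ⟨1, 0⟩, ⟨0, 0⟩, ⟨0, 0⟩, ⟨0, 0⟩, ⟨0, 0⟩, ⟨0, 0⟩, ⟨-1, -1⟩, ⟨0, 0⟩, ⟨-1, 0⟩, ⟨-1, 0⟩, ⟨0, -1⟩, ⟨-1, 0⟩, ⟨0, 0⟩],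
  ![⟨0, 0⟩, ⟨0, 0⟩, ⟨0, 0⟩, ⟨0, 0⟩, ⟨0, 0⟩, ⟨0, 0⟩, ⟨0, 0⟩, ⟨0, 0⟩, ⟨0, 0⟩, ⟨0, 0⟩, ⟨0, 0⟩, ⟨0, 0⟩, ⟨0, 0⟩, ⟨0, 0⟩, ⟨0, 0⟩, ⟨0, 0⟩, ⟨-1, 0⟩, ⟨2, 2⟩, ⟨0, 0⟩, ⟨1, 1⟩, ⟨0, 2⟩, ⟨0, 0⟩, ⟨0, 2⟩, ⟨-1, -1⟩, ⟨1, 1⟩, ⟨1, -1⟩, ⟨0, -2⟩, ⟨-1, 1⟩],
  ![⟨0, 0⟩, ⟨0, 0⟩, ⟨0, 0⟩, ⟨0, 0⟩, ⟨0, 0⟩, ⟨0, 0⟩, ⟨0, 0⟩, ⟨0, 0⟩, ⟨0, 0⟩, ⟨0, 0⟩, ⟨0, 0⟩, ⟨0, 0⟩, ⟨0, 0⟩, ⟨0, 0⟩, ⟨0, 0⟩, ⟨0, 0⟩, ⟨0, 0⟩, ⟨1, 0⟩, ⟨0, 0⟩, ⟨0, 0⟩, ⟨0, 0⟩, ⟨0, 0⟩, ⟨0, 0⟩, ⟨-1, 0⟩, ⟨1, 0⟩, ⟨0, -1⟩, ⟨-1, -1⟩, ⟨0, 1⟩],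
  ![⟨0, 0⟩, ⟨0, 0⟩, ⟨0, 0⟩, ⟨0, 0⟩, ⟨0, 0⟩, ⟨0, 0⟩, ⟨0, 0⟩, ⟨0, 0⟩, ⟨0, 0⟩, ⟨0, 0⟩, ⟨0, 0⟩, ⟨0, 0⟩, ⟨0, 0⟩, ⟨0, 0⟩, ⟨0, 0⟩, ⟨0, 0⟩, ⟨0, 0⟩, ⟨0, 0⟩, ⟨-1, 0⟩, ⟨1, 1⟩, ⟨1, 1⟩, ⟨0, 0⟩, ⟨1, 1⟩, ⟨0, 0⟩, ⟨0, 0⟩, ⟨0, 0⟩, ⟨0, 0⟩, ⟨0, 0⟩],
  ![⟨0, 0⟩, ⟨0, 0⟩, ⟨0, 0⟩, ⟨0, 0⟩, ⟨0, 0⟩, ⟨0, 0⟩, ⟨0, 0⟩, ⟨0, 0⟩, ⟨0, 0⟩, ⟨0, 0⟩, ⟨0, 0⟩, ⟨0, 0⟩, ⟨0, 0⟩, ⟨0, 0⟩, ⟨0, 0⟩, ⟨0, 0⟩, ⟨0, 0⟩, ⟨0, 0⟩, ⟨0, 0⟩, ⟨1, 0⟩, ⟨0, 0⟩, ⟨0, 0⟩, ⟨0, 0⟩, ⟨0, 0⟩, ⟨0, 0⟩, ⟨0, 0⟩, ⟨0, 0⟩, ⟨0, 0⟩],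
  ![⟨0, 0⟩, ⟨0, 0⟩, ⟨0, 0⟩, ⟨0, 0⟩, ⟨0, 0⟩, ⟨0, 0⟩, ⟨0, 0⟩, ⟨0, 0⟩, ⟨0, 0⟩, ⟨0, 0⟩, ⟨0, 0⟩, ⟨0, 0⟩, ⟨0, 0⟩, ⟨0, 0⟩, ⟨0, 0⟩, ⟨0, 0⟩, ⟨0, 0⟩, ⟨0, 0⟩, ⟨0, 0⟩, ⟨0, 0⟩, ⟨1, 0⟩, ⟨0, 0⟩, ⟨0, 0⟩, ⟨0, 0⟩, ⟨0, 0⟩, ⟨0, 0⟩, ⟨0, 0⟩, ⟨0, 0⟩],
  ![⟨0, 0⟩, ⟨0, 0⟩, ⟨0, 0⟩, ⟨0, 0⟩, ⟨0, 0⟩, ⟨0, 0⟩, ⟨0, 0⟩, ⟨0, 0⟩, ⟨0, 0⟩, ⟨0, 0⟩, ⟨0, 0⟩, ⟨0, 0⟩, ⟨0, 0⟩, ⟨0, 0⟩, ⟨0, 0⟩, ⟨0, 0⟩, ⟨0, 0⟩, ⟨0, 0⟩, ⟨0, 0⟩, ⟨0, 0⟩, ⟨0, 0⟩, ⟨-1, 0⟩, ⟨0, 0⟩, ⟨0, 0⟩, ⟨0, 0⟩, ⟨0, 0⟩, ⟨0, 0⟩, ⟨0, 0⟩],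
  ![⟨0, 0⟩, ⟨0, 0⟩, ⟨0, 0⟩, ⟨0, 0⟩, ⟨0, 0⟩, ⟨0, 0⟩, ⟨0, 0⟩, ⟨0, 0⟩, ⟨0, 0⟩, ⟨0, 0⟩, ⟨0, 0⟩, ⟨0, 0⟩, ⟨0, 0⟩, ⟨0, 0⟩, ⟨0, 0⟩, ⟨0, 0⟩, ⟨0, 0⟩, ⟨0, 0⟩, ⟨0, 0⟩, ⟨0, 0⟩, ⟨0, 0⟩, ⟨0, 0⟩, ⟨1, 0⟩, ⟨0, 0⟩, ⟨0, 0⟩, ⟨0, 0⟩, ⟨0, 0⟩, ⟨0, 0⟩],
  ![⟨0, 0⟩, ⟨0, 0⟩, ⟨0, 0⟩, ⟨0, 0⟩, ⟨0, 0⟩, ⟨0, 0⟩, ⟨0, 0⟩, ⟨0, 0⟩, ⟨0, 0⟩, ⟨0, 0⟩, ⟨0, 0⟩, ⟨0, 0⟩, ⟨0, 0⟩, ⟨0, 0⟩, ⟨0, 0⟩, ⟨0, 0⟩, ⟨0, 0⟩, ⟨0, 0⟩, ⟨0, 0⟩, ⟨0, 0⟩, ⟨0, 0⟩, ⟨0, 0⟩, ⟨0, 0⟩, ⟨-1, 0⟩, ⟨0, 0⟩, ⟨0, 0⟩, ⟨0, 0⟩, ⟨0, 0⟩],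
  ![⟨0, 0⟩, ⟨0, 0⟩, ⟨0, 0⟩, ⟨0, 0⟩, ⟨0, 0⟩, ⟨0, 0⟩, ⟨0, 0⟩, ⟨0, 0⟩, ⟨0, 0⟩, ⟨0, 0⟩, ⟨0, 0⟩, ⟨0, 0⟩, ⟨0, 0⟩, ⟨0, 0⟩, ⟨0, 0⟩, ⟨0, 0⟩, ⟨0, 0⟩, ⟨0, 0⟩, ⟨0, 0⟩, ⟨0, 0⟩, ⟨0, 0⟩, ⟨0, 0⟩, ⟨0, 0⟩, ⟨0, 0⟩, ⟨-1, 0⟩, ⟨0, 0⟩, ⟨0, 0⟩, ⟨0, 0⟩],
  ![⟨0, 0⟩, ⟨0, 0⟩, ⟨0, 0⟩, ⟨0, 0⟩, ⟨0, 0⟩, ⟨0, 0⟩, ⟨0, 0⟩, ⟨0, 0⟩, ⟨0, 0⟩, ⟨0, 0⟩, ⟨0, 0⟩, ⟨0, 0⟩, ⟨0, 0⟩, ⟨0, 0⟩, ⟨0, 0⟩, ⟨0, 0⟩, ⟨0, 0⟩, ⟨0, 0⟩, ⟨0, 0⟩, ⟨0, 0⟩, ⟨0, 0⟩, ⟨0, 0⟩, ⟨0, 0⟩, ⟨0, 0⟩, ⟨0, 0⟩, ⟨-1, 0⟩, ⟨0, 0⟩, ⟨0, 0⟩],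
  ![⟨0, 0⟩, ⟨0, 0⟩, ⟨0, 0⟩, ⟨0, 0⟩, ⟨0, 0⟩, ⟨0, 0⟩, ⟨0, 0⟩, ⟨0, 0⟩, ⟨0, 0⟩, ⟨0, 0⟩, ⟨0, 0⟩, ⟨0, 0⟩, ⟨0, 0⟩, ⟨0, 0⟩, ⟨0, 0⟩, ⟨0, 0⟩, ⟨0, 0⟩, ⟨0, 0⟩, ⟨0, 0⟩, ⟨0, 0⟩, ⟨0, 0⟩, ⟨0, 0⟩, ⟨0, 0⟩, ⟨0, 0⟩, ⟨0, 0⟩, ⟨0, 0⟩, ⟨-1, 0⟩, ⟨0, 0⟩],
  ![⟨0, 0⟩, ⟨0, 0⟩, ⟨0, 0⟩, ⟨0, 0⟩, ⟨0, 0⟩, ⟨0, 0⟩, ⟨0, 0⟩, ⟨0, 0⟩, ⟨0, 0⟩, ⟨0, 0⟩, ⟨0, 0⟩, ⟨0, 0⟩, ⟨0, 0⟩, ⟨0, 0⟩, ⟨0, 0⟩, ⟨0, 0⟩, ⟨0, 0⟩, ⟨0, 0⟩, ⟨0, 0⟩, ⟨0, 0⟩, ⟨0, 0⟩, ⟨0, 0⟩, ⟨0, 0⟩, ⟨0, 0⟩, ⟨0, 0⟩, ⟨0, 0⟩, ⟨0, 0⟩, ⟨-1, 0⟩]]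

def mShift : Fin 28 → Fin 28 → GaussianInt := ![
  ![⟨3, -1⟩, ⟨-48, -44⟩, ⟨1, -2⟩, ⟨0, 0⟩, ⟨2, -2⟩, ⟨-78, -50⟩, ⟨-191, -83⟩, ⟨0, 2⟩, ⟨-137, 64⟩, ⟨11, -12⟩, ⟨-40, -56⟩, ⟨-7, 84⟩, ⟨86, -120⟩, ⟨-178, 90⟩, ⟨100, 161⟩, ⟨112, -9⟩, ⟨-51, -59⟩, ⟨59, 219⟩, ⟨175, -211⟩, ⟨-62, 151⟩, ⟨-331, -61⟩, ⟨-250, -211⟩, ⟨-336, 155⟩, ⟨-126, -297⟩, ⟨-308, 295⟩, ⟨308, -321⟩, ⟨-171, -215⟩, ⟨-112, 169⟩],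
  ![⟨-2, -4⟩, ⟨-128, 152⟩, ⟨-3, -1⟩, ⟨-1, 0⟩, ⟨-2, -4⟩, ⟨-148, 240⟩, ⟨-236, 584⟩, ⟨3, 1⟩, ⟨206, 400⟩, ⟨-38, -32⟩, ⟨-164, 124⟩, ⟨256, 12⟩, ⟨-367, -243⟩, ⟨289, 516⟩, ⟨473, -309⟩, ⟨-41, -334⟩, ⟨-164, 163⟩, ⟨638, -196⟩, ⟨-655, -496⟩, ⟨456, 161⟩, ⟨-149, 990⟩, ⟨-598, 767⟩, ⟨502, 974⟩, ⟨-878, 405⟩, ⟨916, 888⟩, ⟨-992, -886⟩, ⟨-624, 528⟩, ⟨516, 305⟩],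
  ![⟨-3, 3⟩, ⟨120, 56⟩, ⟨0, 3⟩, ⟨0, 1⟩, ⟨-4, 2⟩, ⟨181, 53⟩, ⟨423, 51⟩, ⟨1, -3⟩, ⟨230, -202⟩, ⟨-14, 30⟩, ⟨111, 88⟩, ⟨-37, -168⟩, ⟨-98, 282⟩, ⟨291, -275⟩, ⟨-288, -258⟩, ⟨-215, 86⟩, ⟨134, 81⟩, ⟨-239, -392⟩, ⟨-212, 510⟩, ⟨28, -328⟩, ⟨678, -72⟩, ⟨606, 264⟩, ⟨559, -495⟩, ⟨422, 504⟩, ⟨426, -753⟩, ⟨-416, 804⟩, ⟨456, 320⟩, ⟨114, -391⟩],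
  ![⟨-1, -1⟩, ⟨-84, 107⟩, ⟨-1, 0⟩, ⟨0, 0⟩, ⟨-2, -4⟩, ⟨-95, 167⟩, ⟨-145, 405⟩, ⟨3, 1⟩, ⟨153, 269⟩, ⟨-27, -21⟩, ⟨-109, 90⟩, ⟨174, 1⟩, ⟨-256, -154⟩, ⟨211, 339⟩, ⟨316, -228⟩, ⟨-37, -225⟩, ⟨-108, 115⟩, ⟨425, -144⟩, ⟨-459, -317⟩, ⟨313, 97⟩, ⟨-80, 676⟩, ⟨-383, 534⟩, ⟨361, 643⟩, ⟨-585, 297⟩, ⟨643, 580⟩, ⟨-694, -575⟩, ⟨-406, 374⟩, ⟨354, 187⟩],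
  ![⟨-2, -3⟩, ⟨-52, 72⟩, ⟨-2, 0⟩, ⟨-1, -1⟩, ⟨0, 0⟩, ⟨-58, 110⟩, ⟨-90, 266⟩, ⟨0, 0⟩, ⟨99, 172⟩, ⟨-18, -13⟩, ⟨-72, 58⟩, ⟨116, -1⟩, ⟨-170, -101⟩, ⟨139, 226⟩, ⟨205, -147⟩, ⟨-24, -153⟩, ⟨-69, 79⟩, ⟨285, -110⟩, ⟨-304, -207⟩, ⟨211, 60⟩, ⟨-42, 443⟩, ⟨-254, 358⟩, ⟨250, 431⟩, ⟨-387, 210⟩, ⟨430, 373⟩, ⟨-469, -378⟩, ⟨-274, 255⟩, ⟨244, 128⟩],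
  ![⟨0, 2⟩, ⟨40, -20⟩, ⟨1, 1⟩, ⟨-1, -1⟩, ⟨1, 3⟩, ⟨49, -39⟩, ⟨96, -106⟩, ⟨-2, -1⟩, ⟨-11, -106⟩, ⟨5, 10⟩, ⟨46, -15⟩, ⟨-52, -23⟩, ⟨58, 82⟩, ⟨-20, -133⟩, ⟨-128, 33⟩, ⟨-20, 75⟩, ⟨50, -18⟩, ⟨-150, -16⟩, ⟨99, 158⟩, ⟨-83, -75⟩, ⟨117, -201⟩, ⟨191, -114⟩, ⟨-22, -247⟩, ⟨217, -15⟩, ⟨-120, -268⟩, ⟨136, 268⟩, ⟨172, -63⟩, ⟨-81, -106⟩],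
  ![⟨0, 0⟩, ⟨44, -32⟩, ⟨0, 0⟩, ⟨1, 1⟩, ⟨0, 0⟩, ⟨57, -52⟩, ⟨104, -134⟩, ⟨0, 0⟩, ⟨-26, -115⟩, ⟨8, 11⟩, ⟨51, -19⟩, ⟨-66, -21⟩, ⟨77, 87⟩, ⟨-39, -150⟩, ⟨-144, 46⟩, ⟨-13, 88⟩, ⟨52, -32⟩, ⟨-174, 5⟩, ⟨135, 172⟩, ⟨-105, -71⟩, ⟨109, -241⟩, ⟨206, -153⟩, ⟨-59, -281⟩, ⟨256, -41⟩, ⟨-171, -291⟩, ⟨192, 296⟩, ⟨197, -91⟩, ⟨-110, -110⟩],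
  ![⟨-1, -3⟩, ⟨-36, 72⟩, ⟨-2, 0⟩, ⟨-1, 0⟩, ⟨-1, 0⟩, ⟨-35, 109⟩, ⟨-40, 252⟩, ⟨0, 0⟩, ⟨116, 137⟩, ⟨-18, -9⟩, ⟨-53, 62⟩, ⟨104, -18⟩, ⟨-168, -63⟩, ⟨161, 179⟩, ⟨160, -160⟩, ⟨-44, -128⟩, ⟨-49, 82⟩, ⟨238, -142⟩, ⟨-306, -139⟩, ⟨197, 22⟩, ⟨37, 402⟩, ⟨-167, 358⟩, ⟨292, 342⟩, ⟨-316, 242⟩, ⟨445, 264⟩, ⟨-475, -262⟩, ⟨-205, 265⟩, ⟨237, 78⟩],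
  ![⟨-2, -2⟩, ⟨-44, 60⟩, ⟨-2, 0⟩, ⟨-1, -1⟩, ⟨0, 0⟩, ⟨-50, 92⟩, ⟨-77, 222⟩, ⟨0, 0⟩, ⟨83, 144⟩, ⟨-15, -11⟩, ⟨-59, 48⟩, ⟨97, 0⟩, ⟨-143, -85⟩, ⟨118, 191⟩, ⟨171, -120⟩, ⟨-22, -126⟩, ⟨-58, 65⟩, ⟨239, -91⟩, ⟨-254, -176⟩, ⟨176, 51⟩, ⟨-34, 374⟩, ⟨-211, 302⟩, ⟨211, 361⟩, ⟨-323, 171⟩, ⟨362, 314⟩, ⟨-392, -315⟩, ⟨-228, 211⟩, ⟨204, 108⟩],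
  ![⟨-2, -2⟩, ⟨20, 96⟩, ⟨-2, 0⟩, ⟨-2, 2⟩, ⟨0, 0⟩, ⟨46, 134⟩, ⟨150, 278⟩, ⟨0, 0⟩, ⟨215, 49⟩, ⟨-24, 5⟩, ⟨-5, 105⟩, ⟨86, -94⟩, ⟨-210, 58⟩, ⟨283, 63⟩, ⟨27, -277⟩, ⟨-144, -95⟩, ⟨10, 116⟩, ⟨144, -308⟩, ⟨-393, 86⟩, ⟨209, -120⟩, ⟨331, 388⟩, ⟨91, 482⟩, ⟨537, 139⟩, ⟨-127, 471⟩, ⟨640, -58⟩, ⟨-663, 86⟩, ⟨-3, 407⟩, ⟨282, -86⟩],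
  ![⟨0, 0⟩, ⟨0, 0⟩, ⟨0, 0⟩, ⟨0, 0⟩, ⟨0, 0⟩, ⟨0, 0⟩, ⟨0, 0⟩, ⟨0, 0⟩, ⟨0, 0⟩, ⟨0, 0⟩, ⟨-1, -1⟩, ⟨0, 0⟩, ⟨1, 0⟩, ⟨-1, -1⟩, ⟨0, -2⟩, ⟨1, -1⟩, ⟨-1, 0⟩, ⟨1, 1⟩, ⟨-1, 1⟩, ⟨1, 0⟩, ⟨0, 1⟩, ⟨-1, -1⟩, ⟨-2, 2⟩, ⟨-1, 1⟩, ⟨1, 1⟩, ⟨2, -2⟩, ⟨-1, 0⟩, ⟨0, 2⟩],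
  ![⟨-4, 0⟩, ⟨72, 56⟩, ⟨-2, 2⟩, ⟨0, 2⟩, ⟨0, 0⟩, ⟨114, 66⟩, ⟨274, 106⟩, ⟨0, 0⟩, ⟨182, -94⟩, ⟨-14, 18⟩, ⟨59, 78⟩, ⟨5, -119⟩, ⟨-115, 170⟩, ⟨241, -127⟩, ⟨-145, -216⟩, ⟨-158, 19⟩, ⟨78, 77⟩, ⟨-88, -309⟩, ⟨-229, 299⟩, ⟨76, -214⟩, ⟨467, 72⟩, ⟨356, 285⟩, ⟨465, -229⟩, ⟨195, 414⟩, ⟨416, -429⟩, ⟨-420, 462⟩, ⟨244, 295⟩, ⟨151, -235⟩],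
  ![⟨-2, -2⟩, ⟨-8, 40⟩, ⟨-2, 0⟩, ⟨0, 0⟩, ⟨0, 0⟩, ⟨-2, 58⟩, ⟨14, 130⟩, ⟨0, 0⟩, ⟨74, 54⟩, ⟨-10, -2⟩, ⟨-18, 38⟩, ⟨50, -21⟩, ⟨-94, -11⟩, ⟨103, 74⟩, ⟨60, -97⟩, ⟨-39, -58⟩, ⟨-14, 49⟩, ⟨109, -109⟩, ⟨-169, -37⟩, ⟨103, -15⟩, ⟨74, 200⟩, ⟨-40, 204⟩, ⟨194, 141⟩, ⟨-129, 164⟩, ⟨258, 74⟩, ⟨-276, -75⟩, ⟨-74, 159⟩, ⟨133, 15⟩],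
  ![⟨0, 0⟩, ⟨0, 0⟩, ⟨0, 0⟩, ⟨0, 0⟩, ⟨0, 0⟩, ⟨0, 0⟩, ⟨0, 0⟩, ⟨0, 0⟩, ⟨0, 0⟩, ⟨0, 0⟩, ⟨0, 0⟩, ⟨1, 0⟩, ⟨-1, 1⟩, ⟨2, 0⟩, ⟨3, 1⟩, ⟨1, 1⟩, ⟨0, 0⟩, ⟨-2, -2⟩, ⟨-2, -1⟩, ⟨-1, -1⟩, ⟨0, -3⟩, ⟨1, 0⟩, ⟨1, -2⟩, ⟨-2, 0⟩, ⟨-1, -1⟩, ⟨-1, 2⟩, ⟨-1, 1⟩, ⟨2, -1⟩],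
  ![⟨0, 0⟩, ⟨0, 0⟩, ⟨0, 0⟩, ⟨0, 0⟩, ⟨0, 0⟩, ⟨0, 0⟩, ⟨0, 0⟩, ⟨0, 0⟩, ⟨0, 0⟩, ⟨0, 0⟩, ⟨0, -1⟩, ⟨0, 0⟩, ⟨0, 0⟩, ⟨0, 0⟩, ⟨1, 1⟩, ⟨0, 0⟩, ⟨0, 0⟩, ⟨2, -1⟩, ⟨0, 0⟩, ⟨1, 0⟩, ⟨2, 0⟩, ⟨1, 0⟩, ⟨1, 0⟩, ⟨-1, 0⟩, ⟨1, -1⟩, ⟨0, -1⟩, ⟨-2, -1⟩, ⟨1, 1⟩],
  ![⟨0, 0⟩, ⟨0, 0⟩, ⟨0, 0⟩, ⟨0, 0⟩, ⟨0, 0⟩, ⟨0, 0⟩, ⟨0, 0⟩, ⟨0, 0⟩, ⟨0, 0⟩, ⟨0, 0⟩, ⟨0, 0⟩, ⟨0, 0⟩, ⟨0, 0⟩, ⟨1, 0⟩, ⟨0, 0⟩, ⟨0, 0⟩, ⟨1, 0⟩, ⟨-1, -2⟩, ⟨-1, 0⟩, ⟨0, 0⟩, ⟨2, 0⟩, ⟨1, 1⟩, ⟨2, -1⟩, ⟨1, 1⟩, ⟨0, -1⟩, ⟨-2, 1⟩, ⟨0, 1⟩, ⟨1, -1⟩],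
  ![⟨0, 0⟩, ⟨0, 0⟩, ⟨0, 0⟩, ⟨0, 0⟩, ⟨0, 0⟩, ⟨0, 0⟩, ⟨0, 0⟩, ⟨0, 0⟩, ⟨0, 0⟩, ⟨0, 0⟩, ⟨0, 0⟩, ⟨0, 0⟩, ⟨0, 0⟩, ⟨0, 0⟩, ⟨1, 1⟩, ⟨0, 1⟩, ⟨0, -1⟩, ⟨-1, 1⟩, ⟨1, 0⟩, ⟨-1, 0⟩, ⟨-1, -2⟩, ⟨1, -1⟩, ⟨-1, -2⟩, ⟨0, -1⟩, ⟨-1, 0⟩, ⟨1, 1⟩, ⟨0, -1⟩, ⟨-1, -1⟩],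
  ![⟨0, 0⟩, ⟨0, 0⟩, ⟨0, 0⟩, ⟨0, 0⟩, ⟨0, 0⟩, ⟨0, 0⟩, ⟨0, 0⟩, ⟨0, 0⟩, ⟨0, 0⟩, ⟨0, 0⟩, ⟨0, 0⟩, ⟨0, 0⟩, ⟨0, 0⟩, ⟨0, 0⟩, ⟨1, 0⟩, ⟨0, 0⟩, ⟨1, 0⟩, ⟨0, -1⟩, ⟨0, 0⟩, ⟨-1, -1⟩, ⟨0, -1⟩, ⟨0, -1⟩, ⟨-1, -1⟩, ⟨0, 1⟩, ⟨-1, -1⟩, ⟨-1, 0⟩, ⟨-1, 0⟩, ⟨0, -1⟩],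
  ![⟨0, 0⟩, ⟨0, 0⟩, ⟨0, 0⟩, ⟨0, 0⟩, ⟨0, 0⟩, ⟨0, 0⟩, ⟨0, 0⟩, ⟨0, 0⟩, ⟨0, 0⟩, ⟨0, 0⟩, ⟨0, 0⟩, ⟨0, 0⟩, ⟨0, 0⟩, ⟨0, 0⟩, ⟨0, 0⟩, ⟨0, 0⟩, ⟨0, 0⟩, ⟨0, 0⟩, ⟨1, 0⟩, ⟨0, 0⟩, ⟨0, 0⟩, ⟨0, 0⟩, ⟨0, 0⟩, ⟨0, 0⟩, ⟨0, 0⟩, ⟨0, 0⟩, ⟨0, 0⟩, ⟨0, 0⟩],
  ![⟨0, 0⟩, ⟨0, 0⟩, ⟨0, 0⟩, ⟨0, 0⟩, ⟨0, 0⟩, ⟨0, 0⟩, ⟨0, 0⟩, ⟨0, 0⟩, ⟨0, 0⟩, ⟨0, 0⟩, ⟨0, 0⟩, ⟨0, 0⟩, ⟨0, 0⟩, ⟨0, 0⟩, ⟨0, 0⟩, ⟨0, 0⟩, ⟨0, 0⟩, ⟨0, 0⟩, ⟨1, -1⟩, ⟨-1, 0⟩, ⟨-1, 0⟩, ⟨-1, 0⟩, ⟨-1, 0⟩, ⟨0, 0⟩, ⟨-1, 0⟩, ⟨0, 0⟩, ⟨0, 0⟩, ⟨-1, 0⟩],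
  ![⟨0, 0⟩, ⟨0, 0⟩, ⟨0, 0⟩, ⟨0, 0⟩, ⟨0, 0⟩, ⟨0, 0⟩, ⟨0, 0⟩, ⟨0, 0⟩, ⟨0, 0⟩, ⟨0, 0⟩, ⟨0, 0⟩, ⟨0, 0⟩, ⟨0, 0⟩, ⟨0, 0⟩, ⟨0, 0⟩, ⟨0, 0⟩, ⟨0, 0⟩, ⟨0, 0⟩, ⟨0, 0⟩, ⟨1, 0⟩, ⟨0, 0⟩, ⟨0, 0⟩, ⟨0, 0⟩, ⟨0, 0⟩, ⟨0, 0⟩, ⟨0, 0⟩, ⟨0, 0⟩, ⟨0, 0⟩],
  ![⟨0, 0⟩, ⟨0, 0⟩, ⟨0, 0⟩, ⟨0, 0⟩, ⟨0, 0⟩, ⟨0, 0⟩, ⟨0, 0⟩, ⟨0, 0⟩, ⟨0, 0⟩, ⟨0, 0⟩, ⟨0, 0⟩, ⟨0, 0⟩, ⟨0, 0⟩, ⟨0, 0⟩, ⟨0, 0⟩, ⟨0, 0⟩, ⟨0, 0⟩, ⟨0, 0⟩, ⟨0, 0⟩, ⟨0, 0⟩, ⟨1, 0⟩, ⟨0, 0⟩, ⟨0, 0⟩, ⟨0, 0⟩, ⟨0, 0⟩, ⟨0, 0⟩, ⟨0, 0⟩, ⟨0, 0⟩],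
  ![⟨0, 0⟩, ⟨0, 0⟩, ⟨0, 0⟩, ⟨0, 0⟩, ⟨0, 0⟩, ⟨0, 0⟩, ⟨0, 0⟩, ⟨0, 0⟩, ⟨0, 0⟩, ⟨0, 0⟩, ⟨0, 0⟩, ⟨0, 0⟩, ⟨0, 0⟩, ⟨0, 0⟩, ⟨0, 0⟩, ⟨0, 0⟩, ⟨0, 0⟩, ⟨0, 0⟩, ⟨0, 0⟩, ⟨0, 0⟩, ⟨0, 0⟩, ⟨1, 0⟩, ⟨0, 0⟩, ⟨0, 0⟩, ⟨0, 0⟩, ⟨0, 0⟩, ⟨0, 0⟩, ⟨0, 0⟩],
  ![⟨0, 0⟩, ⟨0, 0⟩, ⟨0, 0⟩, ⟨0, 0⟩, ⟨0, 0⟩, ⟨0, 0⟩, ⟨0, 0⟩, ⟨0, 0⟩, ⟨0, 0⟩, ⟨0, 0⟩, ⟨0, 0⟩, ⟨0, 0⟩, ⟨0, 0⟩, ⟨0, 0⟩, ⟨0, 0⟩, ⟨0, 0⟩, ⟨0, 0⟩, ⟨2, 0⟩, ⟨0, 0⟩, ⟨0, 0⟩, ⟨1, 1⟩, ⟨0, 0⟩, ⟨0, 1⟩, ⟨-1, 0⟩, ⟨1, 0⟩, ⟨0, -1⟩, ⟨-1, -1⟩, ⟨0, 1⟩],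
  ![⟨0, 0⟩, ⟨0, 0⟩, ⟨0, 0⟩, ⟨0, 0⟩, ⟨0, 0⟩, ⟨0, 0⟩, ⟨0, 0⟩, ⟨0, 0⟩, ⟨0, 0⟩, ⟨0, 0⟩, ⟨0, 0⟩, ⟨0, 0⟩, ⟨0, 0⟩, ⟨0, 0⟩, ⟨0, 0⟩, ⟨0, 0⟩, ⟨0, 0⟩, ⟨0, 0⟩, ⟨0, 0⟩, ⟨0, 0⟩, ⟨0, 0⟩, ⟨0, 0⟩, ⟨1, 0⟩, ⟨0, 0⟩, ⟨0, 0⟩, ⟨0, 0⟩, ⟨0, 0⟩, ⟨0, 0⟩],
  ![⟨0, 0⟩, ⟨0, 0⟩, ⟨0, 0⟩, ⟨0, 0⟩, ⟨0, 0⟩, ⟨0, 0⟩, ⟨0, 0⟩, ⟨0, 0⟩, ⟨0, 0⟩, ⟨0, 0⟩, ⟨0, 0⟩, ⟨0, 0⟩, ⟨0, 0⟩, ⟨0, 0⟩, ⟨0, 0⟩, ⟨0, 0⟩, ⟨0, -2⟩, ⟨-2, 2⟩, ⟨0, 0⟩, ⟨-1, 1⟩, ⟨-2, 0⟩, ⟨0, 0⟩, ⟨-2, 0⟩, ⟨1, -1⟩, ⟨-1, 2⟩, ⟨1, 2⟩, ⟨1, 0⟩, ⟨-2, 0⟩],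
  ![⟨0, 0⟩, ⟨0, 0⟩, ⟨0, 0⟩, ⟨0, 0⟩, ⟨0, 0⟩, ⟨0, 0⟩, ⟨0, 0⟩, ⟨0, 0⟩, ⟨0, 0⟩, ⟨0, 0⟩, ⟨0, 0⟩, ⟨0, 0⟩, ⟨0, 0⟩, ⟨0, 0⟩, ⟨0, 0⟩, ⟨0, 0⟩, ⟨0, 0⟩, ⟨0, 0⟩, ⟨0, 0⟩, ⟨0, 0⟩, ⟨0, 0⟩, ⟨0, 0⟩, ⟨0, 0⟩, ⟨1, 0⟩, ⟨0, 0⟩, ⟨0, 0⟩, ⟨0, 0⟩, ⟨0, 0⟩],
  ![⟨0, 0⟩, ⟨0, 0⟩, ⟨0, 0⟩, ⟨0, 0⟩, ⟨0, 0⟩, ⟨0, 0⟩, ⟨0, 0⟩, ⟨0, 0⟩, ⟨0, 0⟩, ⟨0, 0⟩, ⟨0, 0⟩, ⟨0, 0⟩, ⟨0, 0⟩, ⟨0, 0⟩, ⟨0, 0⟩, ⟨0, 0⟩, ⟨0, 0⟩, ⟨0, 0⟩, ⟨0, 0⟩, ⟨0, 0⟩, ⟨0, 0⟩, ⟨0, 0⟩, ⟨0, 0⟩, ⟨0, 0⟩, ⟨1, 0⟩, ⟨0, 0⟩, ⟨0, 0⟩, ⟨0, 0⟩]]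

/-- parity masks of the `wv j` -/
def sMask : Fin 28 → ℕ := ![262581449, 111986186, 101345996, 174771296, 90885264, 251719680, 252641280, 251662080, 267386880, 251658240, 167775232, 12585472, 100663488, 201367552, 213958656, 113901568, 111149056, 181141504, 143165576, 128, 2048, 32768, 524288, 4194304, 8388608, 33554432, 67108864, 134217728]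

end Cfsg.Agent.S1628P
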