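import Mathlib
import Cfsg.Prelude.Def_Spor_Ru

/-! # S1628 (the Conway–Wales lattice is even and rootless): shared definitions -/

set_option autoImplicit false

namespace Cfsg.Agent.S1628P

open Cfsg.Spor

/-- `π = 1 + i`. -/
def pi1 : GaussianInt := ⟨1, 1⟩

/-- The parity ring homomorphism `ℤ[i] → 𝔽₂` (`i ↦ 1`). -/
def par : GaussianInt →+* ZMod 2 := Zsqrtd.lift ⟨1, by decide⟩

/-- The Hermitian form on coordinate vectors. -/
def herm (x y : RuVec) : GaussianInt := ∑ p, x p * star (y p)

/-- Linear index `0..27` of a coordinate. -/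
def idx (p : RuIdx) : ℕ := 4 * p.1.val + p.2.val

/-- The `𝔽₂`-vector whose support is given by the bits of `m`. -/
def vecOf (m : ℕ) : RuIdx → ZMod 2 := fun p => if m.testBit (idx p) then 1 else 0

/-- popcount of the low `f` bits of `m`. -/
def pc : ℕ → ℕ → ℕ
  | 0, _ => 0
  | f + 1, m => m % 2 + pc f (m / 2)

/-- xor-combination of the masks `g i, …, g (i+r-1)` selected by `ε`. -/
def comb (g : ℕ → ℕ) (ε : ℕ → ZMod 2) : ℕ → ℕ → ℕ
  | _, 0 => 0
  | i, r + 1 => (if ε i = 1 then g i else 0) ^^^ comb g ε (i + 1) r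

/-- bitwise or of the masks `g i, …, g (i+r-1)`. -/
def sufOr (g : ℕ → ℕ) : ℕ → ℕ → ℕ
  | _, 0 => 0
  | i, r + 1 => g i ||| sufOr g (i + 1) r

/-- The enumeration checker with pruning: every `acc ^^^ comb g ε i r` (with `nz` or some selected `ε j ≠ 0`)
has popcount `> b` or lies in `exc`. A branch is cut when the bits of `acc` outside the union of the supports
of the remaining masks already number more than `b`. -/
def chk (g : ℕ → ℕ) (b : ℕ) (exc : List ℕ) : ℕ → ℕ → ℕ → Bool → Bool
  | 0, _, acc, nz => !nz || decide (b < pc 28 acc) || exc.contains acc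
  | r + 1, i, acc, nz =>
      decide (b + pc 28 (acc &&& sufOr g i (r + 1)) < pc 28 acc) ||
        (chk g b exc r (i + 1) acc nz && chk g b exc r (i + 1) (acc ^^^ g i) true)

/-- The vector `∑ j, (c j * π ^ f j) • w j`. -/
def rep {n : ℕ} (w : Fin n → RuVec) (f : Fin n → ℕ) (c : Fin n → GaussianInt) : RuVec :=
  ∑ j, (c j * pi1 ^ f j) • w j

end Cfsg.Agent.S1628P
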