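import Mathlib
import Cfsg.Prelude.Def_Spor_Ru
import Cfsg.Agent.Helper10.S1628Defs
import Cfsg.Agent.Helper10.S1628Data

/-! # S1628: kernel-checked certificates (generated) -/

set_option autoImplicit false
set_option linter.all false
set_option maxRecDepth 100000
set_option maxHeartbeats 0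

namespace Cfsg.Agent.S1628P

open Cfsg.Spor

/-- masks indexed by naturals -/
def sMaskN (i : ℕ) : ℕ := if h : i < 28 then sMask ⟨i, h⟩ else 0

/-- the test vector with coefficients `d` -/
def vOf (d : Fin 28 → GaussianInt) : RuVec := ∑ j, d j • av j

/-- validity of a test `(mask, p0, coefficients)` at level `k` with weight `b` -/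
def valid (k b : ℕ) (t : ℕ × RuIdx × (Fin 28 → GaussianInt)) : Prop :=
  t.1.testBit (idx t.2.1) = true ∧
  (∀ p : RuIdx, p ≠ t.2.1 → t.1.testBit (idx p) = true → ∑ j, t.2.2 j * av j p = 0) ∧
  (2 ^ k * (∑ j, t.2.2 j * av j t.2.1).norm) % 16 ≠ 0 ∧ pc 28 t.1 = b

instance (k b : ℕ) (t : ℕ × RuIdx × (Fin 28 → GaussianInt)) : Decidable (valid k b t) := by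
  unfold valid; infer_instance

def tests0 : List (ℕ × RuIdx × (Fin 28 → GaussianInt)) := [
  (267386880, ((5 : Fin 7), (0 : Fin 4)), ![⟨3, -4⟩, ⟨1, 0⟩, ⟨-1, 0⟩, ⟨0, 0⟩, ⟨3, 3⟩, ⟨0, 0⟩, ⟨-5, -5⟩, ⟨-13, -2⟩, ⟨-3, -3⟩, ⟨-1, 1⟩, ⟨-17, 26⟩, ⟨0, 0⟩, ⟨-3, 14⟩, ⟨0, 0⟩, ⟨0, 0⟩, ⟨0, 0⟩, ⟨0, 0⟩, ⟨0, 0⟩, ⟨-5, 33⟩, ⟨0, 0⟩, ⟨0, 0⟩, ⟨0, 0⟩, ⟨0, 0⟩, ⟨0, 5⟩, ⟨0, 0⟩, ⟨0, 0⟩, ⟨0, 0⟩, ⟨30, -22⟩]),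
  (251662080, ((2 : Fin 7), (0 : Fin 4)), ![⟨-20, 2⟩, ⟨10, -10⟩, ⟨-20, -14⟩, ⟨0, 0⟩, ⟨-1, -1⟩, ⟨1, 0⟩, ⟨0, 0⟩, ⟨2, 0⟩, ⟨1, 0⟩, ⟨-1, 0⟩, ⟨0, 0⟩, ⟨6, 1⟩, ⟨0, 0⟩, ⟨0, 0⟩, ⟨0, 0⟩, ⟨0, 0⟩, ⟨14, 9⟩, ⟨0, 0⟩, ⟨0, 0⟩, ⟨0, 0⟩, ⟨0, 0⟩, ⟨0, 0⟩, ⟨0, 0⟩, ⟨0, 0⟩, ⟨0, 0⟩, ⟨0, 0⟩, ⟨9, -12⟩, ⟨-1, -6⟩]),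
  (15732480, ((2 : Fin 7), (0 : Fin 4)), ![⟨-21, -11⟩, ⟨-2, 14⟩, ⟨-6, -10⟩, ⟨1, 0⟩, ⟨-3, -2⟩, ⟨2, 2⟩, ⟨5, 14⟩, ⟨2, 0⟩, ⟨1, -1⟩, ⟨0, 0⟩, ⟨0, 0⟩, ⟨0, 0⟩, ⟨0, 0⟩, ⟨0, 0⟩, ⟨0, 0⟩, ⟨0, 0⟩, ⟨15, -2⟩, ⟨0, 0⟩, ⟨0, 0⟩, ⟨0, 0⟩, ⟨0, 0⟩, ⟨0, 0⟩, ⟨0, 0⟩, ⟨-2, -7⟩, ⟨-16, -7⟩, ⟨0, 0⟩, ⟨0, 0⟩, ⟨0, 0⟩]),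
  (252641280, ((4 : Fin 7), (0 : Fin 4)), ![⟨1, 1⟩, ⟨-1, -1⟩, ⟨0, 2⟩, ⟨-3, 0⟩, ⟨1, 0⟩, ⟨0, 0⟩, ⟨-1, -5⟩, ⟨-1, 0⟩, ⟨0, 0⟩, ⟨0, 0⟩, ⟨0, 0⟩, ⟨0, 0⟩, ⟨0, 0⟩, ⟨2, 9⟩, ⟨-7, 10⟩, ⟨1, -1⟩, ⟨-8, -7⟩, ⟨0, 0⟩, ⟨26, -1⟩, ⟨0, 0⟩, ⟨0, 0⟩, ⟨0, 0⟩, ⟨0, 0⟩, ⟨0, 0⟩, ⟨0, 0⟩, ⟨0, 0⟩, ⟨0, 0⟩, ⟨-6, -3⟩]),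
  (16711680, ((4 : Fin 7), (0 : Fin 4)), ![⟨0, -4⟩, ⟨-6, 0⟩, ⟨0, 0⟩, ⟨0, -3⟩, ⟨1, 0⟩, ⟨0, 0⟩, ⟨-5, 1⟩, ⟨5, 1⟩, ⟨0, 0⟩, ⟨0, 0⟩, ⟨0, 0⟩, ⟨5, -6⟩, ⟨-12, -6⟩, ⟨1, -1⟩, ⟨8, 0⟩, ⟨-12, -2⟩, ⟨3, 0⟩, ⟨0, 0⟩, ⟨-4, -7⟩, ⟨0, 0⟩, ⟨0, 0⟩, ⟨0, 0⟩, ⟨0, 0⟩, ⟨0, 0⟩, ⟨0, 0⟩, ⟨0, 0⟩, ⟨0, 0⟩, ⟨0, 0⟩]),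
  (986880, ((2 : Fin 7), (0 : Fin 4)), ![⟨-10, 19⟩, ⟨1, 10⟩, ⟨-4, 13⟩, ⟨-1, 1⟩, ⟨1, -1⟩, ⟨0, 0⟩, ⟨13, 1⟩, ⟨0, -2⟩, ⟨-3, 1⟩, ⟨-1, 1⟩, ⟨0, 0⟩, ⟨0, 0⟩, ⟨-6, -1⟩, ⟨0, 0⟩, ⟨0, 0⟩, ⟨0, 0⟩, ⟨-13, -8⟩, ⟨0, 0⟩, ⟨0, 0⟩, ⟨0, 0⟩, ⟨0, 0⟩, ⟨0, 0⟩, ⟨-1, 16⟩, ⟨0, 0⟩, ⟨0, 0⟩, ⟨0, 0⟩, ⟨0, 0⟩, ⟨0, 0⟩]),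
  (251719680, ((3 : Fin 7), (0 : Fin 4)), ![⟨2, 10⟩, ⟨-5, -5⟩, ⟨0, 0⟩, ⟨10, 2⟩, ⟨12, -4⟩, ⟨0, 0⟩, ⟨7, 5⟩, ⟨-1, 0⟩, ⟨1, 0⟩, ⟨-5, 18⟩, ⟨-11, 20⟩, ⟨0, 0⟩, ⟨0, 0⟩, ⟨-1, 0⟩, ⟨0, 0⟩, ⟨0, 0⟩, ⟨-36, -24⟩, ⟨0, 0⟩, ⟨0, 0⟩, ⟨0, 0⟩, ⟨0, 0⟩, ⟨0, 0⟩, ⟨0, 0⟩, ⟨0, 0⟩, ⟨0, 0⟩, ⟨0, 0⟩, ⟨-10, 25⟩, ⟨9, 19⟩]),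
  (15790080, ((3 : Fin 7), (0 : Fin 4)), ![⟨0, 2⟩, ⟨-1, -1⟩, ⟨0, 0⟩, ⟨2, 0⟩, ⟨13, 1⟩, ⟨0, 0⟩, ⟨2, 1⟩, ⟨-6, 4⟩, ⟨1, -1⟩, ⟨4, 5⟩, ⟨0, 0⟩, ⟨0, 0⟩, ⟨0, 0⟩, ⟨0, 0⟩, ⟨0, 1⟩, ⟨0, 0⟩, ⟨-8, 8⟩, ⟨13, 7⟩, ⟨0, 0⟩, ⟨0, 0⟩, ⟨0, 0⟩, ⟨0, 0⟩, ⟨0, 0⟩, ⟨0, 0⟩, ⟨18, 3⟩, ⟨0, 0⟩, ⟨0, 0⟩, ⟨0, 0⟩]),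
  (65280, ((2 : Fin 7), (0 : Fin 4)), ![⟨5, -9⟩, ⟨-10, 2⟩, ⟨4, 2⟩, ⟨1, 0⟩, ⟨-1, 0⟩, ⟨-1, -1⟩, ⟨-6, 1⟩, ⟨2, 0⟩, ⟨0, 0⟩, ⟨0, 0⟩, ⟨3, 0⟩, ⟨0, 0⟩, ⟨0, 0⟩, ⟨0, 0⟩, ⟨2, -1⟩, ⟨0, 0⟩, ⟨0, 0⟩, ⟨0, 0⟩, ⟨0, 0⟩, ⟨0, 0⟩, ⟨0, 0⟩, ⟨-7, 2⟩, ⟨0, 0⟩, ⟨0, 0⟩, ⟨0, 0⟩, ⟨0, 0⟩, ⟨0, 0⟩, ⟨0, 0⟩]),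
  (1044480, ((3 : Fin 7), (0 : Fin 4)), ![⟨-2, 4⟩, ⟨5, -3⟩, ⟨0, 0⟩, ⟨-4, 2⟩, ⟨-6, 0⟩, ⟨-2, -2⟩, ⟨6, 0⟩, ⟨2, -1⟩, ⟨-1, 0⟩, ⟨7, 4⟩, ⟨0, 0⟩, ⟨0, 0⟩, ⟨0, 0⟩, ⟨0, 0⟩, ⟨2, -5⟩, ⟨-2, 3⟩, ⟨0, 0⟩, ⟨4, -15⟩, ⟨0, 0⟩, ⟨0, 0⟩, ⟨0, 0⟩, ⟨0, 0⟩, ⟨12, 0⟩, ⟨0, 0⟩, ⟨0, 0⟩, ⟨0, 0⟩, ⟨0, 0⟩, ⟨0, 0⟩]),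
  (251658480, ((1 : Fin 7), (0 : Fin 4)), ![⟨1, -1⟩, ⟨0, -2⟩, ⟨0, 0⟩, ⟨0, 0⟩, ⟨0, 0⟩, ⟨1, 0⟩, ⟨2, -1⟩, ⟨-1, 1⟩, ⟨0, 0⟩, ⟨0, 1⟩, ⟨0, 0⟩, ⟨0, 0⟩, ⟨0, 0⟩, ⟨0, 0⟩, ⟨-3, -3⟩, ⟨0, 0⟩, ⟨0, 0⟩, ⟨4, -1⟩, ⟨0, 0⟩, ⟨0, 0⟩, ⟨0, 0⟩, ⟨0, 0⟩, ⟨0, 0⟩, ⟨0, 0⟩, ⟨0, 0⟩, ⟨0, 0⟩, ⟨0, 0⟩, ⟨-1, 4⟩]),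
  (15728880, ((1 : Fin 7), (0 : Fin 4)), ![⟨-1, 0⟩, ⟨-8, 5⟩, ⟨1, 0⟩, ⟨0, 0⟩, ⟨0, 0⟩, ⟨-10, 2⟩, ⟨-13, 2⟩, ⟨1, 1⟩, ⟨5, -3⟩, ⟨0, 1⟩, ⟨0, 0⟩, ⟨0, 0⟩, ⟨2, -4⟩, ⟨0, 0⟩, ⟨-14, -19⟩, ⟨0, 0⟩, ⟨0, 0⟩, ⟨0, 0⟩, ⟨-2, 3⟩, ⟨0, 0⟩, ⟨0, 0⟩, ⟨0, 0⟩, ⟨0, 0⟩, ⟨0, 0⟩, ⟨8, 15⟩, ⟨0, 0⟩, ⟨0, 0⟩, ⟨0, 0⟩]),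
  (4080, ((1 : Fin 7), (0 : Fin 4)), ![⟨0, 0⟩, ⟨-1, 1⟩, ⟨0, 0⟩, ⟨0, 0⟩, ⟨0, -2⟩, ⟨2, -2⟩, ⟨8, -2⟩, ⟨0, 0⟩, ⟨0, -1⟩, ⟨-1, 3⟩, ⟨0, 0⟩, ⟨0, 0⟩, ⟨5, -1⟩, ⟨0, 0⟩, ⟨9, -1⟩, ⟨0, 0⟩, ⟨0, 0⟩, ⟨0, 0⟩, ⟨0, 0⟩, ⟨0, 0⟩, ⟨0, 0⟩, ⟨0, 0⟩, ⟨0, 0⟩, ⟨0, 0⟩, ⟨0, 0⟩, ⟨0, 0⟩, ⟨0, 0⟩, ⟨0, 0⟩]),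
  (983280, ((1 : Fin 7), (0 : Fin 4)), ![⟨0, 0⟩, ⟨-1, 1⟩, ⟨0, 0⟩, ⟨0, 0⟩, ⟨0, 0⟩, ⟨0, 2⟩, ⟨2, 4⟩, ⟨-1, -1⟩, ⟨1, 0⟩, ⟨1, 1⟩, ⟨0, 0⟩, ⟨0, 0⟩, ⟨0, 0⟩, ⟨0, 0⟩, ⟨-2, 2⟩, ⟨4, 1⟩, ⟨0, 0⟩, ⟨3, -3⟩, ⟨0, 0⟩, ⟨0, 0⟩, ⟨0, 0⟩, ⟨0, 0⟩, ⟨0, 0⟩, ⟨0, 0⟩, ⟨0, 0⟩, ⟨0, 0⟩, ⟨0, 0⟩, ⟨0, 0⟩]),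
  (61680, ((1 : Fin 7), (0 : Fin 4)), ![⟨0, 0⟩, ⟨0, 0⟩, ⟨0, 0⟩, ⟨0, 0⟩, ⟨0, 0⟩, ⟨0, 0⟩, ⟨2, -1⟩, ⟨-1, 1⟩, ⟨0, 0⟩, ⟨1, 0⟩, ⟨0, 0⟩, ⟨0, 0⟩, ⟨0, -1⟩, ⟨0, 0⟩, ⟨2, 0⟩, ⟨0, 0⟩, ⟨0, 0⟩, ⟨0, 0⟩, ⟨0, 0⟩, ⟨0, 0⟩, ⟨0, 0⟩, ⟨0, 0⟩, ⟨0, 0⟩, ⟨0, 0⟩, ⟨0, 0⟩, ⟨0, 0⟩, ⟨0, 0⟩, ⟨0, 0⟩]),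
  (251658255, ((0 : Fin 7), (0 : Fin 4)), ![⟨-2, 0⟩, ⟨0, 0⟩, ⟨0, 0⟩, ⟨0, 0⟩, ⟨2, 0⟩, ⟨1, 0⟩, ⟨3, -2⟩, ⟨0, 0⟩, ⟨0, 0⟩, ⟨0, 0⟩, ⟨-1, -4⟩, ⟨0, 0⟩, ⟨0, 0⟩, ⟨0, 0⟩, ⟨2, 1⟩, ⟨2, -5⟩, ⟨0, 0⟩, ⟨0, 0⟩, ⟨0, 0⟩, ⟨0, 0⟩, ⟨0, 0⟩, ⟨0, 0⟩, ⟨0, 0⟩, ⟨0, 0⟩, ⟨0, 0⟩, ⟨0, 0⟩, ⟨0, 0⟩, ⟨0, 0⟩]),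
  (15728655, ((0 : Fin 7), (0 : Fin 4)), ![⟨0, -2⟩, ⟨0, 0⟩, ⟨0, 0⟩, ⟨-3, -6⟩, ⟨-4, -13⟩, ⟨0, 0⟩, ⟨0, 0⟩, ⟨0, 0⟩, ⟨4, 8⟩, ⟨0, 0⟩, ⟨0, -11⟩, ⟨0, 0⟩, ⟨0, 0⟩, ⟨0, 0⟩, ⟨13, -18⟩, ⟨0, 0⟩, ⟨0, 0⟩, ⟨0, 0⟩, ⟨0, 0⟩, ⟨0, 0⟩, ⟨0, 0⟩, ⟨0, 0⟩, ⟨0, 0⟩, ⟨0, 0⟩, ⟨0, 0⟩, ⟨0, 0⟩, ⟨0, 0⟩, ⟨0, 0⟩]),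
  (3855, ((0 : Fin 7), (0 : Fin 4)), ![⟨0, -2⟩, ⟨0, 0⟩, ⟨0, 0⟩, ⟨0, 0⟩, ⟨1, 3⟩, ⟨-1, 0⟩, ⟨-1, 3⟩, ⟨0, 0⟩, ⟨-1, 0⟩, ⟨0, 0⟩, ⟨0, 0⟩, ⟨0, 0⟩, ⟨0, 0⟩, ⟨0, 0⟩, ⟨0, 3⟩, ⟨0, 0⟩, ⟨0, 0⟩, ⟨0, 0⟩, ⟨0, 0⟩, ⟨0, 0⟩, ⟨0, 0⟩, ⟨0, 0⟩, ⟨0, 0⟩, ⟨0, 0⟩, ⟨0, 0⟩, ⟨0, 0⟩, ⟨0, 0⟩, ⟨0, 0⟩]),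
  (983055, ((0 : Fin 7), (0 : Fin 4)), ![⟨0, -2⟩, ⟨0, 0⟩, ⟨0, 0⟩, ⟨-1, 0⟩, ⟨-4, 1⟩, ⟨0, 0⟩, ⟨-5, 1⟩, ⟨6, -3⟩, ⟨1, 1⟩, ⟨0, 0⟩, ⟨0, 0⟩, ⟨0, 0⟩, ⟨0, 0⟩, ⟨0, 0⟩, ⟨0, 0⟩, ⟨0, 0⟩, ⟨0, 0⟩, ⟨4, 3⟩, ⟨0, 0⟩, ⟨0, 0⟩, ⟨0, 0⟩, ⟨0, 0⟩, ⟨0, 0⟩, ⟨0, 0⟩, ⟨0, 0⟩, ⟨0, 0⟩, ⟨0, 0⟩, ⟨0, 0⟩]),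
  (61455, ((0 : Fin 7), (0 : Fin 4)), ![⟨0, 2⟩, ⟨0, 0⟩, ⟨0, 0⟩, ⟨1, 1⟩, ⟨2, -2⟩, ⟨0, 2⟩, ⟨-5, 7⟩, ⟨1, 0⟩, ⟨0, 0⟩, ⟨0, 0⟩, ⟨0, 0⟩, ⟨0, 0⟩, ⟨0, 0⟩, ⟨0, 0⟩, ⟨-4, 4⟩, ⟨0, 0⟩, ⟨0, 0⟩, ⟨0, 0⟩, ⟨0, 0⟩, ⟨0, 0⟩, ⟨0, 0⟩, ⟨0, 0⟩, ⟨0, 0⟩, ⟨0, 0⟩, ⟨0, 0⟩, ⟨0, 0⟩, ⟨0, 0⟩, ⟨0, 0⟩]),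
  (255, ((0 : Fin 7), (0 : Fin 4)), ![⟨0, -2⟩, ⟨0, 0⟩, ⟨0, 0⟩, ⟨0, 0⟩, ⟨-5, 3⟩, ⟨0, 0⟩, ⟨0, 0⟩, ⟨1, -4⟩, ⟨0, 0⟩, ⟨0, 0⟩, ⟨-1, -4⟩, ⟨0, 0⟩, ⟨2, 0⟩, ⟨0, 0⟩, ⟨0, 0⟩, ⟨0, 0⟩, ⟨0, 0⟩, ⟨0, 0⟩, ⟨0, 0⟩, ⟨0, 0⟩, ⟨0, 0⟩, ⟨0, 0⟩, ⟨0, 0⟩, ⟨0, 0⟩, ⟨0, 0⟩, ⟨0, 0⟩, ⟨0, 0⟩, ⟨0, 0⟩])]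

def tests1 : List (ℕ × RuIdx × (Fin 28 → GaussianInt)) := [
  (251658240, ((6 : Fin 7), (0 : Fin 4)), ![⟨-2, 0⟩, ⟨1, 0⟩, ⟨1, 0⟩, ⟨0, 0⟩, ⟨0, 0⟩, ⟨0, 0⟩, ⟨0, 0⟩, ⟨0, 0⟩, ⟨0, 0⟩, ⟨0, 0⟩, ⟨0, 0⟩, ⟨1, -1⟩, ⟨0, 0⟩, ⟨0, 0⟩, ⟨0, 0⟩, ⟨0, 0⟩, ⟨0, 0⟩, ⟨0, 0⟩, ⟨0, 0⟩, ⟨0, 0⟩, ⟨0, 0⟩, ⟨0, 0⟩, ⟨0, 0⟩, ⟨0, 0⟩, ⟨0, 0⟩, ⟨0, 0⟩, ⟨0, 0⟩, ⟨0, 0⟩]),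
  (15728640, ((5 : Fin 7), (0 : Fin 4)), ![⟨-1, 0⟩, ⟨1, 0⟩, ⟨0, 0⟩, ⟨0, 0⟩, ⟨-1, 1⟩, ⟨0, 0⟩, ⟨1, 2⟩, ⟨2, 4⟩, ⟨1, -1⟩, ⟨0, 0⟩, ⟨2, 4⟩, ⟨0, 0⟩, ⟨0, 0⟩, ⟨0, 0⟩, ⟨0, 0⟩, ⟨0, 0⟩, ⟨0, 0⟩, ⟨0, 0⟩, ⟨0, 0⟩, ⟨0, 0⟩, ⟨0, 0⟩, ⟨0, 0⟩, ⟨0, 0⟩, ⟨0, 0⟩, ⟨0, 0⟩, ⟨0, 0⟩, ⟨0, 0⟩, ⟨0, 0⟩]),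
  (3840, ((2 : Fin 7), (0 : Fin 4)), ![⟨3, -2⟩, ⟨-1, 3⟩, ⟨5, 1⟩, ⟨0, 0⟩, ⟨1, 0⟩, ⟨0, 0⟩, ⟨0, 0⟩, ⟨-1, 1⟩, ⟨0, 0⟩, ⟨0, 0⟩, ⟨0, 0⟩, ⟨0, 0⟩, ⟨0, 0⟩, ⟨0, 0⟩, ⟨0, 0⟩, ⟨0, 0⟩, ⟨0, 0⟩, ⟨0, 0⟩, ⟨0, 0⟩, ⟨0, 0⟩, ⟨0, 0⟩, ⟨0, 0⟩, ⟨0, 0⟩, ⟨0, 0⟩, ⟨0, 0⟩, ⟨0, 0⟩, ⟨0, 0⟩, ⟨0, 0⟩]),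
  (983040, ((4 : Fin 7), (0 : Fin 4)), ![⟨0, 1⟩, ⟨1, 0⟩, ⟨0, 0⟩, ⟨-1, 0⟩, ⟨0, 0⟩, ⟨0, 0⟩, ⟨2, 0⟩, ⟨-1, 3⟩, ⟨0, 0⟩, ⟨0, 0⟩, ⟨0, 0⟩, ⟨0, 0⟩, ⟨0, 0⟩, ⟨0, 0⟩, ⟨1, 0⟩, ⟨0, 0⟩, ⟨0, 0⟩, ⟨0, 0⟩, ⟨0, 0⟩, ⟨0, 0⟩, ⟨0, 0⟩, ⟨0, 0⟩, ⟨0, 0⟩, ⟨0, 0⟩, ⟨0, 0⟩, ⟨0, 0⟩, ⟨0, 0⟩, ⟨0, 0⟩]),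
  (61440, ((3 : Fin 7), (0 : Fin 4)), ![⟨1, -1⟩, ⟨0, 1⟩, ⟨0, 0⟩, ⟨-1, -1⟩, ⟨-2, -1⟩, ⟨0, 0⟩, ⟨0, -1⟩, ⟨0, 0⟩, ⟨0, 0⟩, ⟨-1, -4⟩, ⟨0, 0⟩, ⟨0, 0⟩, ⟨0, 0⟩, ⟨0, 0⟩, ⟨0, 0⟩, ⟨0, 0⟩, ⟨0, 0⟩, ⟨0, 0⟩, ⟨0, 0⟩, ⟨0, 0⟩, ⟨0, 0⟩, ⟨0, 0⟩, ⟨0, 0⟩, ⟨0, 0⟩, ⟨0, 0⟩, ⟨0, 0⟩, ⟨0, 0⟩, ⟨0, 0⟩]),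
  (240, ((1 : Fin 7), (0 : Fin 4)), ![⟨0, 0⟩, ⟨1, 0⟩, ⟨0, 0⟩, ⟨0, 0⟩, ⟨0, 0⟩, ⟨0, -3⟩, ⟨0, 0⟩, ⟨1, 0⟩, ⟨0, 0⟩, ⟨-1, -2⟩, ⟨0, 0⟩, ⟨0, 0⟩, ⟨0, 0⟩, ⟨0, 0⟩, ⟨0, 0⟩, ⟨0, 0⟩, ⟨0, 0⟩, ⟨0, 0⟩, ⟨0, 0⟩, ⟨0, 0⟩, ⟨0, 0⟩, ⟨0, 0⟩, ⟨0, 0⟩, ⟨0, 0⟩, ⟨0, 0⟩, ⟨0, 0⟩, ⟨0, 0⟩, ⟨0, 0⟩]),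
  (15, ((0 : Fin 7), (0 : Fin 4)), ![⟨1, -1⟩, ⟨0, 0⟩, ⟨0, 0⟩, ⟨0, 0⟩, ⟨-2, 1⟩, ⟨0, 0⟩, ⟨0, 0⟩, ⟨0, 0⟩, ⟨0, 0⟩, ⟨0, 0⟩, ⟨0, 0⟩, ⟨0, 0⟩, ⟨0, 0⟩, ⟨0, 0⟩, ⟨0, 0⟩, ⟨0, 0⟩, ⟨0, 0⟩, ⟨0, 0⟩, ⟨0, 0⟩, ⟨0, 0⟩, ⟨0, 0⟩, ⟨0, 0⟩, ⟨0, 0⟩, ⟨0, 0⟩, ⟨0, 0⟩, ⟨0, 0⟩, ⟨0, 0⟩, ⟨0, 0⟩])]

theorem tests0_valid : ∀ t ∈ tests0, valid 0 8 t := by decide +kernel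
theorem tests1_valid : ∀ t ∈ tests1, valid 1 4 t := by decide +kernel

theorem av_eq_cert : ∀ j : Fin 28, ∀ p : RuIdx, av j p = pi1 ^ ev j * wv j p := by decide +kernel

theorem table_length : ruTable.length = 20 := by decide +kernel

theorem table_cert : ∀ i : Fin 20, ∀ p : RuIdx, ruTable.getD i.val 0 p = ∑ j, tcoef i j * av j p := by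
  decide +kernel

theorem Rj_cert : ∀ j : Fin 28, ∀ p : RuIdx, ruRj (av j) p = ∑ k, mRj j k * av k p := by decide +kernel
theorem Rk_cert : ∀ j : Fin 28, ∀ p : RuIdx, ruRk (av j) p = ∑ k, mRk j k * av k p := by decide +kernel
theorem Sign_cert : ∀ j : Fin 28, ∀ p : RuIdx, ruSign (av j) p = ∑ k, mSign j k * av k p := by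
  decide +kernel
theorem Shift_cert : ∀ j : Fin 28, ∀ p : RuIdx, ruShift (av j) p = ∑ k, mShift j k * av k p := by
  decide +kernel

theorem gram_cert : ∀ j k : Fin 28,
    (∑ p : RuIdx, av j p * star (av k p)).re % 4 = 0 ∧ (∑ p : RuIdx, av j p * star (av k p)).im % 4 = 0 := by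
  decide +kernel

theorem gramdiag_cert : ∀ j : Fin 28, (∑ p : RuIdx, (av j p).norm) % 8 = 0 := by decide +kernel

theorem smask_cert : ∀ j : Fin 28, ∀ p : RuIdx,
    ((wv j p).re + (wv j p).im) % 2 = if (sMask j).testBit (idx p) then 1 else 0 := by decide +kernel

theorem ev_cert0 : ∀ j : Fin 28, (ev j - 0 = 0 ↔ j.val < 9) := by decide +kernel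
theorem ev_cert1 : ∀ j : Fin 28, (ev j - 1 = 0 ↔ j.val < 10) := by decide +kernel
theorem ev_cert2 : ∀ j : Fin 28, (ev j - 2 = 0 ↔ j.val < 18) := by decide +kernel
theorem ev_cert3 : ∀ j : Fin 28, (ev j - 3 = 0 ↔ j.val < 19) := by decide +kernel

theorem chk0 : chk sMaskN 8 (tests0.map (·.1)) 9 0 0 false = true := by decide +kernel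
theorem chk1 : chk sMaskN 4 (tests1.map (·.1)) 10 0 0 false = true := by decide +kernel
theorem chk2 : chk sMaskN 2 [] 18 0 0 false = true := by decide +kernel
theorem chk3 : chk sMaskN 1 [] 19 0 0 false = true := by decide +kernel

theorem norm_table0 : ruNorm (ruTable.getD 0 0) = 16 := by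
  unfold ruNorm
  decide +kernel

end Cfsg.Agent.S1628P
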