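import Mathlib
import Cfsg.Prelude.Def_Spor_Ru
import Cfsg.Agent.Helper10.S1628Defs

/-! # S1628 piece GZ: parity and norm of Gaussian integers -/

set_option autoImplicit false

namespace Cfsg.Agent.S1628P

open Cfsg.Spor

theorem par_apply (z : GaussianInt) : par z = ((z.re + z.im : ℤ) : ZMod 2) := by
  unfold par
  rw [Zsqrtd.lift_apply_apply]
  push_cast
  ring

theorem par_pi1 : par pi1 = 0 := by
  rw [par_apply]
  decide

theorem par_star (z : GaussianInt) : par (star z) = par z := by
  rw [par_apply, par_apply]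
  simp only [Zsqrtd.re_star, Zsqrtd.im_star]
  push_cast
  have : (2 : ZMod 2) = 0 := by decide
  linear_combination (-(z.im : ZMod 2)) * this

theorem par_eq_ite (z : GaussianInt) : par z = if (z.re + z.im) % 2 = 1 then 1 else 0 := by
  rw [par_apply]
  split_ifs with h
  · have : ((z.re + z.im : ℤ) : ZMod 2) = ((1 : ℤ) : ZMod 2) := by
      rw [ZMod.intCast_eq_intCast_iff_dvd_sub]
      omega
    rw [this]
    simp
  · have : ((z.re + z.im : ℤ) : ZMod 2) = ((0 : ℤ) : ZMod 2) := by
      rw [ZMod.intCast_eq_intCast_iff_dvd_sub]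
      omega
    rw [this]
    simp

theorem exists_eq_pi1_mul (z : GaussianInt) (h : par z = 0) : ∃ z' : GaussianInt, z = pi1 * z' := by
  rw [par_eq_ite] at h
  have h2 : (z.re + z.im) % 2 = 0 := by
    by_contra hne
    have : (z.re + z.im) % 2 = 1 := by omega
    rw [if_pos this] at h
    exact one_ne_zero h
  refine ⟨⟨(z.re + z.im) / 2, (z.im - z.re) / 2⟩, ?_⟩
  unfold pi1
  apply Zsqrtd.ext
  · simp only [Zsqrtd.re_mul]
    omega
  · simp only [Zsqrtd.im_mul]
    omega

theorem norm_pi1 : pi1.norm = 2 := by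
  unfold pi1 Zsqrtd.norm
  norm_num

theorem eq_zero_of_norm_eq_zero (z : GaussianInt) (h : z.norm = 0) : z = 0 :=
  (Zsqrtd.norm_eq_zero_iff (by norm_num) z).mp h

theorem val_par_le_norm (z : GaussianInt) : ((par z).val : ℤ) ≤ z.norm := by
  have hnn : 0 ≤ z.norm := GaussianInt.norm_nonneg z
  by_cases hz : z = 0
  · subst hz
    simp
  · have hpos : 0 < z.norm := by
      rcases hnn.lt_or_eq with h | h
      · exact h
      · exact absurd (eq_zero_of_norm_eq_zero z h.symm) hz
    have : (par z).val ≤ 1 := by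
      have := ZMod.val_lt (par z)
      omega
    omega

end Cfsg.Agent.S1628P
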