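import Mathlib
import Cfsg.Prelude.Def_Spor_Ru
import Cfsg.Agent.Helper10.S1628Defs
import Cfsg.Agent.Helper10.S1628GZ

/-! # S1628 piece TOWERA: parity of `rep`, and the descent step -/

set_option autoImplicit false

namespace Cfsg.Agent.S1628P

open Cfsg.Spor

theorem par_rep {n : ℕ} (w : Fin n → RuVec) (f : Fin n → ℕ) (c : Fin n → GaussianInt) (p : RuIdx) :
    par (rep w f c p) = ∑ j, if f j = 0 then par (c j) * par (w j p) else 0 := by
  unfold rep
  rw [Finset.sum_apply, map_sum]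
  apply Finset.sum_congr rfl
  intro j _
  rw [Pi.smul_apply, smul_eq_mul, map_mul, map_mul, map_pow, par_pi1]
  split_ifs with h
  · rw [h, pow_zero, mul_one]
  · rw [zero_pow h, mul_zero, zero_mul]

theorem rep_descend {n : ℕ} (w : Fin n → RuVec) (f : Fin n → ℕ) (c : Fin n → GaussianInt)
    (h : ∀ j, f j = 0 → par (c j) = 0) :
    ∃ c' : Fin n → GaussianInt, rep w f c = pi1 • rep w (fun j => f j - 1) c' := by
  classical
  have hex : ∀ j, ∃ z : GaussianInt, c j * pi1 ^ f j = pi1 * (z * pi1 ^ (f j - 1)) := by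
    intro j
    by_cases hj : f j = 0
    · obtain ⟨z, hz⟩ := exists_eq_pi1_mul (c j) (h j hj)
      refine ⟨z, ?_⟩
      rw [hj, hz]
      simp
    · refine ⟨c j, ?_⟩
      obtain ⟨m, hm⟩ := Nat.exists_eq_succ_of_ne_zero hj
      rw [hm, Nat.succ_sub_one, pow_succ]
      ring
  choose c' hc' using hex
  refine ⟨c', ?_⟩
  unfold rep
  rw [Finset.smul_sum]
  apply Finset.sum_congr rfl
  intro j _
  rw [smul_smul, hc' j]

end Cfsg.Agent.S1628P
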