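import Mathlib
import Cfsg.Prelude.Def_Spor_Ru
import Cfsg.Agent.Helper10.S1628Defs

/-! # S1628 piece VEC: the Hermitian form and `ruNorm` -/

set_option autoImplicit false

namespace Cfsg.Agent.S1628P

open Cfsg.Spor

theorem herm_add_left (x y z : RuVec) : herm (x + y) z = herm x z + herm y z := by
  unfold herm
  rw [← Finset.sum_add_distrib]
  exact Finset.sum_congr rfl fun p _ => by rw [Pi.add_apply, add_mul]

theorem herm_add_right (x y z : RuVec) : herm x (y + z) = herm x y + herm x z := by
  unfold herm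
  rw [← Finset.sum_add_distrib]
  exact Finset.sum_congr rfl fun p _ => by rw [Pi.add_apply, star_add, mul_add]

theorem herm_smul_left (c : GaussianInt) (x y : RuVec) : herm (c • x) y = c * herm x y := by
  unfold herm
  rw [Finset.mul_sum]
  exact Finset.sum_congr rfl fun p _ => by rw [Pi.smul_apply, smul_eq_mul, mul_assoc]

theorem herm_smul_right (c : GaussianInt) (x y : RuVec) : herm x (c • y) = star c * herm x y := by
  unfold herm
  rw [Finset.mul_sum]
  exact Finset.sum_congr rfl fun p _ => by
    rw [Pi.smul_apply, smul_eq_mul, star_mul']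
    ring

theorem herm_zero_left (y : RuVec) : herm 0 y = 0 := by
  unfold herm
  exact Finset.sum_eq_zero fun p _ => by rw [Pi.zero_apply, zero_mul]

theorem herm_zero_right (x : RuVec) : herm x 0 = 0 := by
  unfold herm
  exact Finset.sum_eq_zero fun p _ => by rw [Pi.zero_apply, star_zero, mul_zero]

theorem herm_self (x : RuVec) : herm x x = ((ruNorm x : ℤ) : GaussianInt) := by
  unfold herm ruNorm
  rw [Int.cast_sum]
  exact Finset.sum_congr rfl fun p _ => (Zsqrtd.norm_eq_mul_conj (x p)).symm

namespace VEC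

theorem norm_add (a b : GaussianInt) : (a + b).norm = a.norm + b.norm + 2 * (a * star b).re := by
  simp only [Zsqrtd.norm, Zsqrtd.re_add, Zsqrtd.im_add, Zsqrtd.re_mul, Zsqrtd.re_star, Zsqrtd.im_star]
  ring

end VEC

theorem ruNorm_add (x y : RuVec) : ruNorm (x + y) = ruNorm x + ruNorm y + 2 * (herm x y).re := by
  unfold ruNorm herm
  have hre : (∑ p, x p * star (y p)).re = ∑ p, (x p * star (y p)).re := by
    have := map_sum (⟨⟨fun z : GaussianInt => z.re, rfl⟩, fun a b => Zsqrtd.re_add a b⟩ : GaussianInt →+ ℤ)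
      (fun p => x p * star (y p)) Finset.univ
    exact this
  rw [hre, Finset.mul_sum, ← Finset.sum_add_distrib, ← Finset.sum_add_distrib]
  exact Finset.sum_congr rfl fun p _ => by rw [Pi.add_apply, VEC.norm_add]

theorem ruNorm_smul (c : GaussianInt) (x : RuVec) : ruNorm (c • x) = c.norm * ruNorm x := by
  unfold ruNorm
  rw [Finset.mul_sum]
  exact Finset.sum_congr rfl fun p _ => by rw [Pi.smul_apply, smul_eq_mul, Zsqrtd.norm_mul]

theorem ruNorm_nonneg (x : RuVec) : 0 ≤ ruNorm x := by
  unfold ruNorm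
  exact Finset.sum_nonneg fun p _ => GaussianInt.norm_nonneg (x p)

theorem ruNorm_pos (x : RuVec) (hx : x ≠ 0) : 0 < ruNorm x := by
  unfold ruNorm
  obtain ⟨p, hp⟩ : ∃ p, x p ≠ 0 := by
    by_contra hcon
    push Not at hcon
    exact hx (funext hcon)
  apply Finset.sum_pos' (fun q _ => GaussianInt.norm_nonneg (x q))
  refine ⟨p, Finset.mem_univ _, ?_⟩
  rcases (GaussianInt.norm_nonneg (x p)).lt_or_eq with h | h
  · exact h
  · exact absurd ((Zsqrtd.norm_eq_zero_iff (by norm_num) (x p)).mp h.symm) hp

end Cfsg.Agent.S1628P
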