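import Mathlib
import Cfsg.Prelude.Def_Spor_Ru
import Cfsg.Agent.Helper10.S1628Defs
import Cfsg.Agent.Helper10.S1628GZ
import Cfsg.Agent.Helper10.S1628VEC
import Cfsg.Agent.Helper22.S1628ENUMB

/-! # S1628 piece TOWERB: tight vectors and the test-vector contradiction -/

set_option autoImplicit false

namespace Cfsg.Agent.S1628P

open Cfsg.Spor

theorem sum_val_par_le (y : RuVec) : (∑ p, ((par (y p)).val : ℤ)) ≤ ruNorm y := by
  unfold ruNorm
  exact Finset.sum_le_sum fun p _ => val_par_le_norm (y p)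

namespace TOWERB

theorem norm_pi1_pow (k : ℕ) : (pi1 ^ k).norm = 2 ^ k := by
  induction k with
  | zero => simp [Zsqrtd.norm]
  | succ k ih => rw [pow_succ, Zsqrtd.norm_mul, ih, norm_pi1, pow_succ]

theorem norm_four : (4 : GaussianInt).norm = 16 := by
  have : (4 : GaussianInt) = ⟨4, 0⟩ := by
    apply Zsqrtd.ext <;> simp
  rw [this]
  norm_num [Zsqrtd.norm]

theorem vecOf_eq_zero_or_one (m : ℕ) (p : RuIdx) : vecOf m p = 0 ∨ vecOf m p = 1 := by
  unfold vecOf
  split_ifs
  · exact Or.inr rfl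
  · exact Or.inl rfl

end TOWERB

theorem exceptional (k : ℕ) (y v : RuVec) (m : ℕ) (p0 : RuIdx)
    (hs : ∀ p, par (y p) = vecOf m p) (hN : ruNorm y = (pc 28 m : ℤ))
    (hp0 : vecOf m p0 = 1) (hv : ∀ p, p ≠ p0 → vecOf m p = 1 → v p = 0)
    (hdiv : ∃ z : GaussianInt, herm (pi1 ^ k • y) v = 4 * z)
    (hnd : ¬ (16 : ℤ) ∣ 2 ^ k * (v p0).norm) : False := by
  -- tightness
  have hsum : ruNorm y = ∑ p, ((par (y p)).val : ℤ) := by
    rw [hN, ← sum_val_vecOf, Nat.cast_sum]
    exact Finset.sum_congr rfl fun p _ => by rw [hs p]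
  have htight : ∀ p, ((par (y p)).val : ℤ) = (y p).norm := by
    have h := (Finset.sum_eq_sum_iff_of_le (s := Finset.univ)
      (f := fun p => ((par (y p)).val : ℤ)) (g := fun p => (y p).norm)
      (fun p _ => val_par_le_norm (y p))).mp (by rw [← hsum]; rfl)
    exact fun p => h p (Finset.mem_univ p)
  have hzero : ∀ p, vecOf m p = 0 → y p = 0 := by
    intro p hp
    apply eq_zero_of_norm_eq_zero
    rw [← htight p, hs p, hp]
    simp
  have hone : (y p0).norm = 1 := by
    rw [← htight p0, hs p0, hp0]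
    have : (1 : ZMod 2).val = 1 := by decide
    rw [this]
    rfl
  obtain ⟨z, hz⟩ := hdiv
  rw [herm_smul_left] at hz
  have hh : herm y v = y p0 * star (v p0) := by
    unfold herm
    apply Finset.sum_eq_single p0
    · intro p _ hp
      rcases TOWERB.vecOf_eq_zero_or_one m p with h0 | h1
      · rw [hzero p h0, zero_mul]
      · rw [hv p hp h1, star_zero, mul_zero]
    · intro h
      exact absurd (Finset.mem_univ p0) h
  rw [hh] at hz
  have hnorm := congrArg Zsqrtd.norm hz
  rw [Zsqrtd.norm_mul, Zsqrtd.norm_mul, Zsqrtd.norm_mul, TOWERB.norm_pi1_pow, hone, Zsqrtd.norm_conj,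
    TOWERB.norm_four, one_mul] at hnorm
  exact hnd ⟨z.norm, hnorm⟩

end Cfsg.Agent.S1628P
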