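import Mathlib
import Cfsg.Prelude.Def_Spor_Ru
import Cfsg.Agent.Helper10.S1628Defs
import Cfsg.Agent.Helper10.S1628Data
import Cfsg.Agent.Helper10.S1628Certs
import Cfsg.Agent.Helper10.S1628GZ
import Cfsg.Agent.Helper10.S1628VEC
import Cfsg.Agent.Helper10.S1628TOWERA
import Cfsg.Agent.Helper10.S1628TOWERB
import Cfsg.Agent.Helper22.S1628ENUMA
import Cfsg.Agent.Helper22.S1628ENUMB
import Cfsg.Agent.Helper22.S1628MAPSJK
import Cfsg.Agent.Helper22.S1628MAPSSS

/-! # S1628: the Conway–Wales lattice (as stored) is even and has no vectors of stored norm 8 -/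

set_option autoImplicit false

namespace Cfsg.Agent.S1628P

open Cfsg.Spor

/-- The `ℤ[i]`-span of the adapted basis. -/
def SS : Submodule GaussianInt RuVec := Submodule.span GaussianInt (Set.range av)

theorem av_mem (j : Fin 28) : av j ∈ SS := Submodule.subset_span ⟨j, rfl⟩

theorem av_eq (j : Fin 28) : av j = pi1 ^ ev j • wv j := by
  funext p
  rw [Pi.smul_apply, smul_eq_mul]
  exact av_eq_cert j p

theorem sum_smul_av_apply (d : Fin 28 → GaussianInt) (p : RuIdx) :
    (∑ j, d j • av j) p = ∑ j, d j * av j p := by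
  rw [Finset.sum_apply]
  rfl

theorem sum_mem_SS (d : Fin 28 → GaussianInt) : (∑ j, d j • av j) ∈ SS :=
  Submodule.sum_mem _ fun j _ => Submodule.smul_mem _ _ (av_mem j)

/-! ### Gram facts -/

theorem herm_av_av (j k : Fin 28) : ∃ z : GaussianInt, herm (av j) (av k) = 4 * z := by
  obtain ⟨h1, h2⟩ := gram_cert j k
  obtain ⟨r1, hr1⟩ := Int.dvd_of_emod_eq_zero h1
  obtain ⟨r2, hr2⟩ := Int.dvd_of_emod_eq_zero h2
  refine ⟨⟨r1, r2⟩, ?_⟩
  unfold herm
  apply Zsqrtd.ext
  · rw [hr1]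
    simp only [Zsqrtd.re_mul, Zsqrtd.re_ofNat, Zsqrtd.im_ofNat]
    ring
  · rw [hr2]
    simp only [Zsqrtd.im_mul, Zsqrtd.re_ofNat, Zsqrtd.im_ofNat]
    ring

theorem herm_mem_av (x : RuVec) (hx : x ∈ SS) (k : Fin 28) : ∃ z : GaussianInt, herm x (av k) = 4 * z := by
  induction hx using Submodule.span_induction with
  | mem x hx =>
    obtain ⟨j, rfl⟩ := hx
    exact herm_av_av j k
  | zero => exact ⟨0, by rw [herm_zero_left, mul_zero]⟩
  | add x y _ _ hx hy =>
    obtain ⟨z1, h1⟩ := hx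
    obtain ⟨z2, h2⟩ := hy
    exact ⟨z1 + z2, by rw [herm_add_left, h1, h2, mul_add]⟩
  | smul c x _ hx =>
    obtain ⟨z1, h1⟩ := hx
    exact ⟨c * z1, by rw [herm_smul_left, h1]; ring⟩

theorem herm_mem_mem (x : RuVec) (hx : x ∈ SS) (y : RuVec) (hy : y ∈ SS) :
    ∃ z : GaussianInt, herm x y = 4 * z := by
  induction hy using Submodule.span_induction with
  | mem y hy =>
    obtain ⟨j, rfl⟩ := hy
    exact herm_mem_av x hx j
  | zero => exact ⟨0, by rw [herm_zero_right, mul_zero]⟩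
  | add y y' _ _ h1 h2 =>
    obtain ⟨z1, h1⟩ := h1
    obtain ⟨z2, h2⟩ := h2
    exact ⟨z1 + z2, by rw [herm_add_right, h1, h2, mul_add]⟩
  | smul c y _ h1 =>
    obtain ⟨z1, h1⟩ := h1
    exact ⟨star c * z1, by rw [herm_smul_right, h1]; ring⟩

theorem norm_mem (x : RuVec) (hx : x ∈ SS) : (8 : ℤ) ∣ ruNorm x := by
  induction hx using Submodule.span_induction with
  | mem x hx =>
    obtain ⟨j, rfl⟩ := hx
    have := gramdiag_cert j
    unfold ruNorm
    exact Int.dvd_of_emod_eq_zero this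
  | zero =>
    have : ruNorm (0 : RuVec) = 0 := by
      have := ruNorm_smul 0 (0 : RuVec)
      rw [zero_smul] at this
      rw [this]
      simp [Zsqrtd.norm]
    rw [this]
    exact dvd_zero _
  | add x y hx hy h1 h2 =>
    obtain ⟨z, hz⟩ := herm_mem_mem x hx y hy
    rw [ruNorm_add, hz]
    have : ((4 : GaussianInt) * z).re = 4 * z.re := by
      simp only [Zsqrtd.re_mul, Zsqrtd.re_ofNat, Zsqrtd.im_ofNat]
      ring
    rw [this]
    obtain ⟨a, ha⟩ := h1
    obtain ⟨b, hb⟩ := h2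
    exact ⟨a + b + z.re, by rw [ha, hb]; ring⟩
  | smul c x _ h1 =>
    rw [ruNorm_smul]
    exact Dvd.dvd.mul_left h1 _

/-! ### Closure -/

theorem table_mem (v : RuVec) (hv : v ∈ ruTable) : v ∈ SS := by
  obtain ⟨i, hi, hiv⟩ := List.getElem_of_mem hv
  have hi' : i < 20 := by rw [← table_length]; exact hi
  have : v = ∑ j, tcoef ⟨i, hi'⟩ j • av j := by
    funext p
    rw [sum_smul_av_apply, ← table_cert ⟨i, hi'⟩ p, ← hiv, List.getD_eq_getElem _ _ hi]
  rw [this]
  exact sum_mem_SS _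

theorem map_mem (f : RuVec → RuVec) (hadd : ∀ x y, f (x + y) = f x + f y)
    (hsmul : ∀ (c : GaussianInt) x, f (c • x) = c • f x) (M : Fin 28 → Fin 28 → GaussianInt)
    (hM : ∀ j : Fin 28, ∀ p : RuIdx, f (av j) p = ∑ k, M j k * av k p)
    (x : RuVec) (hx : x ∈ SS) : f x ∈ SS := by
  induction hx using Submodule.span_induction with
  | mem x hx =>
    obtain ⟨j, rfl⟩ := hx
    have : f (av j) = ∑ k, M j k • av k := by
      funext p
      rw [sum_smul_av_apply, hM j p]
    rw [this]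
    exact sum_mem_SS _
  | zero =>
    have := hsmul 0 0
    rw [zero_smul, zero_smul] at this
    rw [this]
    exact Submodule.zero_mem _
  | add x y _ _ h1 h2 =>
    rw [hadd]
    exact Submodule.add_mem _ h1 h2
  | smul c x _ h1 =>
    rw [hsmul]
    exact Submodule.smul_mem _ _ h1

theorem lattice_le : ruLattice ≤ SS.toAddSubgroup := by
  apply sInf_le
  refine ⟨fun v hv => table_mem v hv, fun v hv => ⟨?_, ?_, ?_, ?_, ?_⟩⟩
  · exact Submodule.smul_mem SS gI hv
  · exact map_mem ruRj ruRj_add ruRj_smul mRj Rj_cert v hv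
  · exact map_mem ruRk ruRk_add ruRk_smul mRk Rk_cert v hv
  · exact map_mem ruSign ruSign_add ruSign_smul mSign Sign_cert v hv
  · exact map_mem ruShift ruShift_add ruShift_smul mShift Shift_cert v hv

/-! ### The tower -/

theorem par_wv (j : Fin 28) (p : RuIdx) : par (wv j p) = vecOf (sMask j) p := by
  rw [par_eq_ite, smask_cert j p]
  unfold vecOf
  split_ifs <;> simp_all

theorem vOf_apply (d : Fin 28 → GaussianInt) (p : RuIdx) : vOf d p = ∑ j, d j * av j p :=
  sum_smul_av_apply d p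

theorem level (k nk b : ℕ) (exc : List (ℕ × RuIdx × (Fin 28 → GaussianInt)))
    (hnk : ∀ j : Fin 28, ev j - k = 0 ↔ j.val < nk) (hnk28 : nk ≤ 28)
    (hchk : chk sMaskN b (exc.map (·.1)) nk 0 0 false = true)
    (hexc : ∀ t ∈ exc, valid k b t)
    (c : Fin 28 → GaussianInt) (hS : pi1 ^ k • rep wv (fun j => ev j - k) c ∈ SS)
    (hN : ruNorm (rep wv (fun j => ev j - k) c) = b) :
    ∃ c' : Fin 28 → GaussianInt,
      rep wv (fun j => ev j - k) c = pi1 • rep wv (fun j => ev j - (k + 1)) c' := by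
  set y := rep wv (fun j => ev j - k) c with hy
  set ε : ℕ → ZMod 2 := fun i => if h : i < 28 then par (c ⟨i, h⟩) else 0 with hε
  -- parity vector of y
  have hpar : ∀ p, par (y p) = vecOf (comb sMaskN ε 0 nk) p := by
    intro p
    rw [hy, par_rep, vecOf_comb]
    have h1 : ∀ j : Fin 28, (if ev j - k = 0 then par (c j) * par (wv j p) else 0) =
        (fun i : ℕ => if i < nk then ε i * vecOf (sMaskN i) p else 0) j.val := by
      intro j
      have hj : (j : ℕ) < 28 := j.isLt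
      simp only [hε, sMaskN, hj, dif_pos, Fin.eta]
      by_cases h : ev j - k = 0
      · rw [if_pos h, if_pos ((hnk j).mp h), par_wv]
      · rw [if_neg h, if_neg (fun h' => h ((hnk j).mpr h'))]
    rw [Finset.sum_congr rfl (fun j _ => h1 j), Fin.sum_univ_eq_sum_range
      (fun i : ℕ => if i < nk then ε i * vecOf (sMaskN i) p else 0) 28]
    rw [← Finset.sum_filter]
    apply Finset.sum_congr _ (fun _ _ => rfl)
    ext i
    simp only [Finset.mem_filter, Finset.mem_range]
    omega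
  -- weight bound
  have hw : pc 28 (comb sMaskN ε 0 nk) ≤ b := by
    have h1 := sum_val_par_le y
    rw [hN] at h1
    have h2 : (∑ p, ((par (y p)).val : ℤ)) = ((pc 28 (comb sMaskN ε 0 nk) : ℕ) : ℤ) := by
      rw [← sum_val_vecOf, Nat.cast_sum]
      exact Finset.sum_congr rfl (fun p _ => by rw [hpar p])
    rw [h2] at h1
    exact_mod_cast h1
  rcases chk_sound sMaskN b (exc.map (·.1)) nk hchk ε hw with h0 | hex
  · -- descend
    have hc : ∀ j : Fin 28, ev j - k = 0 → par (c j) = 0 := by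
      intro j hj
      have := h0 j.val ((hnk j).mp hj)
      simpa [hε, j.isLt] using this
    obtain ⟨c', hc'⟩ := rep_descend wv (fun j => ev j - k) c hc
    refine ⟨c', ?_⟩
    have : (fun j => ev j - k - 1) = fun j => ev j - (k + 1) := by
      funext j
      exact Nat.sub_sub _ _ _
    rw [hy, hc', this]
  · -- exceptional word: contradiction
    exfalso
    obtain ⟨t, ht, hteq⟩ := List.mem_map.mp hex
    obtain ⟨hv1, hv2, hv3, hv4⟩ := hexc t ht
    have hteq' : comb sMaskN ε 0 nk = t.1 := hteq.symm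
    refine exceptional k y (vOf t.2.2) t.1 t.2.1 ?_ ?_ ?_ ?_ ?_ ?_
    · intro p
      rw [hpar p, hteq']
    · rw [hN, hv4]
    · unfold vecOf
      rw [if_pos hv1]
    · intro p hp hp1
      rw [vOf_apply]
      apply hv2 p hp
      unfold vecOf at hp1
      by_contra hcon
      rw [if_neg hcon] at hp1
      exact zero_ne_one hp1
    · exact herm_mem_mem _ hS _ (sum_mem_SS _)
    · rw [vOf_apply]
      intro hdvd
      exact hv3 (Int.emod_eq_zero_of_dvd hdvd)

theorem norm_pi1_smul (y : RuVec) : ruNorm (pi1 • y) = 2 * ruNorm y := by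
  rw [ruNorm_smul, norm_pi1]

theorem no8 (x : RuVec) (hx : x ∈ SS) : ruNorm x ≠ 8 := by
  intro hN
  obtain ⟨c, rfl⟩ := (Submodule.mem_span_range_iff_exists_fun GaussianInt).mp hx
  have hrep : ∑ j, c j • av j = rep wv (fun j => ev j - 0) c := by
    unfold rep
    apply Finset.sum_congr rfl
    intro j _
    rw [av_eq, smul_smul]
    rfl
  rw [hrep] at hx hN
  -- level 0
  obtain ⟨c1, h1⟩ := level 0 9 8 tests0 ev_cert0 (by norm_num) chk0 tests0_valid c
    (by rw [pow_zero, one_smul]; exact hx) (by rw [hN]; rfl)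
  have hN1 : ruNorm (rep wv (fun j => ev j - (0 + 1)) c1) = 4 := by
    rw [h1, norm_pi1_smul] at hN
    omega
  have hS1 : pi1 ^ 1 • rep wv (fun j => ev j - (0 + 1)) c1 ∈ SS := by
    rw [pow_one, ← h1]; exact hx
  -- level 1
  obtain ⟨c2, h2⟩ := level 1 10 4 tests1 ev_cert1 (by norm_num) chk1 tests1_valid c1 hS1
    (by rw [hN1]; rfl)
  have hN2 : ruNorm (rep wv (fun j => ev j - (1 + 1)) c2) = 2 := by
    rw [h2, norm_pi1_smul] at hN1
    omega
  have hS2 : pi1 ^ 2 • rep wv (fun j => ev j - (1 + 1)) c2 ∈ SS := by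
    rw [pow_succ, mul_smul, ← h2]; exact hS1
  -- level 2
  obtain ⟨c3, h3⟩ := level 2 18 2 [] ev_cert2 (by norm_num) chk2 (by simp) c2 hS2
    (by rw [hN2]; rfl)
  have hN3 : ruNorm (rep wv (fun j => ev j - (2 + 1)) c3) = 1 := by
    rw [h3, norm_pi1_smul] at hN2
    omega
  have hS3 : pi1 ^ 3 • rep wv (fun j => ev j - (2 + 1)) c3 ∈ SS := by
    rw [pow_succ, mul_smul, ← h3]; exact hS2
  -- level 3
  obtain ⟨c4, h4⟩ := level 3 19 1 [] ev_cert3 (by norm_num) chk3 (by simp) c3 hS3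
    (by rw [hN3]; rfl)
  rw [h4, norm_pi1_smul] at hN3
  omega

/-! ### The statement -/

theorem main : (∀ x ∈ ruLattice, (8 : ℤ) ∣ ruNorm x) ∧ (∀ x ∈ ruLattice, ruNorm x ≠ 8) ∧
    (∀ x ∈ ruLattice, x ≠ 0 → 16 ≤ ruNorm x) ∧ ∃ x ∈ ruLattice, ruNorm x = 16 := by
  have h1 : ∀ x ∈ ruLattice, (8 : ℤ) ∣ ruNorm x := fun x hx => norm_mem x (lattice_le hx)
  have h2 : ∀ x ∈ ruLattice, ruNorm x ≠ 8 := fun x hx => no8 x (lattice_le hx)
  refine ⟨h1, h2, ?_, ?_⟩
  · intro x hx hx0
    obtain ⟨a, ha⟩ := h1 x hx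
    have hpos := ruNorm_pos x hx0
    have hne := h2 x hx
    omega
  · have hmem : ruTable.getD 0 0 ∈ ruLattice := by
      rw [ruLattice, AddSubgroup.mem_sInf]
      intro L hL
      apply hL.1
      rw [List.getD_eq_getElem _ _ (by rw [table_length]; norm_num)]
      exact List.getElem_mem _
    exact ⟨_, hmem, norm_table0⟩

end Cfsg.Agent.S1628P
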