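import Mathlib
import Cfsg.Prelude.Def_Transfer
import Cfsg.Prelude.Def_Local
import Cfsg.Prelude.Def_Solvable
import Cfsg.Agent.Helper12.S1786Defs

/-!
# S1786 (board `s1786pieces`), row MIRROR, core: `g⁻¹ V g` is a member of `Λ` as well (row PARTA as a hypothesis).
-/

set_option autoImplicit false

namespace Cfsg.Agent.S1786P

variable {G : Type*} [Group G] [Finite G] {V Q B C : Subgroup G}

/-- MIRROR (core): `g⁻¹ V g ∈ Λ`, given part (a) `V ≤ g Q g⁻¹`. -/
theorem MIRROR_core (S : Setup V Q) (g : G) (hB : Lam V Q (cj g V)) (hPARTA : V ≤ cj g Q) :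
    Lam V Q (cj g⁻¹ V) := by
  refine ⟨⟨g⁻¹, rfl⟩, ?_, ?_⟩
  · rw [cj_le_iff, inv_inv]
    exact hPARTA
  · intro h
    apply hB.2.2
    have := congrArg (cj g) h
    rw [cj_cj_inv] at this
    exact this.symm

end Cfsg.Agent.S1786P
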