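import Mathlib
import Cfsg.Prelude.Def_Transfer
import Cfsg.Prelude.Def_Local
import Cfsg.Prelude.Def_Solvable
import Cfsg.Agent.Helper12.S1786Defs

/-!
# S1786 (board `s1786pieces`), row PARTA, core: part (a) `V ≤ g Q g⁻¹` from the rows SYL and PARTconj (as hypotheses).
-/

set_option autoImplicit false

namespace Cfsg.Agent.S1786P

variable {G : Type*} [Group G] [Finite G] {V Q B C : Subgroup G}

/-- PARTA (core): part (a) of the theorem, the rows SYL and PARTconj being hypotheses. -/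
theorem PARTA_core (S : Setup V Q) (g : G) (hB : Lam V Q (cj g V))
    (hSYL : ∃ s : G, s ∈ Subgroup.normalizer ((V ⊔ cj g V : Subgroup G) : Set G) ∧ cj s V ≠ V)
    (hPARTconj : ∀ U : Subgroup G, (∃ y : G, U = cj y V) → U ≤ V ⊔ cj g V →
      U = V ∨ ∃ x ∈ PP V Q, U = cj x (cj g V)) :
    V ≤ cj g Q := by
  obtain ⟨s, hsW, hsV⟩ := hSYL
  have hWQ : V ⊔ cj g V ≤ Q := sup_le S.VQ hB.2.1
  -- `cj s W = W` and `cj s⁻¹ W = W`
  have hsW1 : cj s (V ⊔ cj g V) = V ⊔ cj g V := cj_of_mem_normalizer hsW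
  have hsW2 : cj s⁻¹ (V ⊔ cj g V) = V ⊔ cj g V := cj_of_mem_normalizer (inv_mem hsW)
  -- `V ≤ cj s Q`
  have h1 : V ≤ cj s Q := by
    have h2 : cj s⁻¹ V ≤ Q := by
      calc cj s⁻¹ V ≤ cj s⁻¹ (V ⊔ cj g V) := cj_mono le_sup_left
        _ = V ⊔ cj g V := hsW2
        _ ≤ Q := hWQ
    rw [cj_le_iff, inv_inv] at h2
    exact h2
  -- `cj s V` is a `P`-conjugate of `B`
  have h3 : cj s V ≤ V ⊔ cj g V := by
    calc cj s V ≤ cj s (V ⊔ cj g V) := cj_mono le_sup_left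
      _ = V ⊔ cj g V := hsW1
  rcases hPARTconj (cj s V) ⟨s, rfl⟩ h3 with h4 | ⟨x, hx, h4⟩
  · exact absurd h4 hsV
  · -- `m = s⁻¹ x g` normalizes `V`
    have h5 : cj (s⁻¹ * (x * g)) V = V := by
      rw [cj_mul, cj_mul, ← h4, cj_inv_cj]
    have hm : s⁻¹ * (x * g) ∈ Subgroup.normalizer (V : Set G) := mem_normalizer_iff_cj.mpr h5
    have h6 : cj (s⁻¹ * (x * g)) Q = Q := cj_of_mem_normalizer (S.MQ hm)
    have h7 : cj s Q = cj x (cj g Q) := by
      have := congrArg (cj s) h6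
      rw [← cj_mul, mul_inv_cancel_left, cj_mul] at this
      exact this.symm
    rw [h7] at h1
    -- conjugate back by `x⁻¹`, which normalizes `V`
    have hxM : x ∈ Subgroup.normalizer (V : Set G) := S.PP_le_M hx
    have h8 : cj x⁻¹ V = V := cj_of_mem_normalizer (inv_mem hxM)
    have h9 : cj x⁻¹ V ≤ cj g Q := by
      rw [cj_le_iff, inv_inv]
      exact h1
    rw [h8] at h9
    exact h9

end Cfsg.Agent.S1786P
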