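import Mathlib
import Cfsg.Prelude.Def_Transfer
import Cfsg.Prelude.Def_Local
import Cfsg.Prelude.Def_Solvable
import Cfsg.Agent.Helper12.S1786Defs
import Cfsg.Agent.Helper14.Frattini
import Cfsg.Agent.Helper1.PGroup

/-!
# S1786 (board `s1786pieces`), row PARTC, core: part (c) of the theorem from the rows ZQV, PHI, SURJP (as hypotheses).
-/

set_option autoImplicit false

namespace Cfsg.Agent.S1786P

open scoped commutatorElement

variable {G : Type*} [Group G] [Finite G] {V Q B C : Subgroup G}

/-- PARTC (core): part (c) of the theorem, the rows ZQV, PHI, SURJP being hypotheses. -/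
theorem PARTC_core (S : Setup V Q) (g : G) (hB : Lam V Q (cj g V))
    (hZQV : ZQ Q = V)
    (hPHI : ∀ x ∈ PP V Q, ∀ y ∈ PP V Q, x * y * x⁻¹ * y⁻¹ ∈ V ∧ x * x ∈ V)
    (hSURJP : ∀ b ∈ cj g V, b ≠ 1 → ∀ a ∈ V, ∃ x ∈ PP V Q, x * b * x⁻¹ * b⁻¹ = a) :
    PP V Q = Q ∧ (frattini ↥Q).map Q.subtype = V ∧ (Subgroup.center ↥Q).map Q.subtype = V ∧
      (commutator ↥Q).map Q.subtype = V := by
  -- `V = Z(Q)` elementwise
  have hVQ : ∀ v ∈ V, v ∈ Q := fun v hv => S.VQ hv
  have hVc : ∀ v ∈ V, ∀ x ∈ Q, x * v = v * x := by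
    intro v hv x hx
    have h1 : v ∈ ZQ Q := by rw [hZQV]; exact hv
    have h2 : v ∈ Subgroup.centralizer (Q : Set G) := (Subgroup.mem_inf.mp h1).2
    exact (Subgroup.mem_centralizer_iff.mp h2) x hx
  -- (1) `P = Q`
  have hPQ : PP V Q = Q := by
    unfold PP
    apply le_antisymm inf_le_left
    intro x hx
    refine Subgroup.mem_inf.mpr ⟨hx, ?_⟩
    rw [Subgroup.mem_centralizer_iff]
    intro v hv
    exact (hVc v hv x hx).symm
  -- (3) the centre
  have hcen : (Subgroup.center ↥Q).map Q.subtype = V := by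
    ext a
    constructor
    · rintro ⟨z, hz, rfl⟩
      rw [← hZQV]
      refine Subgroup.mem_inf.mpr ⟨z.2, ?_⟩
      rw [Subgroup.mem_centralizer_iff]
      intro h hh
      have := (Subgroup.mem_center_iff.mp hz) ⟨h, hh⟩
      exact congrArg Subtype.val this
    · intro ha
      refine ⟨⟨a, hVQ a ha⟩, Subgroup.mem_center_iff.mpr ?_, rfl⟩
      intro h
      apply Subtype.ext
      exact hVc a ha h.1 h.2
  -- (4) the commutator subgroup
  have hcomle : commutator ↥Q ≤ V.subgroupOf Q := by
    rw [commutator_def, Subgroup.commutator_le]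
    intro x _ y _
    rw [Subgroup.mem_subgroupOf]
    have hx : (x : G) ∈ PP V Q := by rw [hPQ]; exact x.2
    have hy : (y : G) ∈ PP V Q := by rw [hPQ]; exact y.2
    have := (hPHI x hx y hy).1
    simpa [commutatorElement_def] using this
  have hcom : (commutator ↥Q).map Q.subtype = V := by
    apply le_antisymm
    · rintro _ ⟨z, hz, rfl⟩
      exact Subgroup.mem_subgroupOf.mp (hcomle hz)
    · intro a ha
      -- a nonidentity element of `B`
      have hBne : cj g V ≠ ⊥ := by
        intro h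
        have hV0 : V = ⊥ := cj_eq_bot_iff.mp h
        exact hB.2.2 (by rw [h, hV0])
      obtain ⟨b, hb1⟩ := (Subgroup.ne_bot_iff_exists_ne_one.mp hBne)
      have hb1' : (b : G) ≠ 1 := fun h => hb1 (Subtype.ext h)
      obtain ⟨x, hx, hxa⟩ := hSURJP b.1 b.2 hb1' a ha
      have hxQ : x ∈ Q := by rw [← hPQ]; exact hx
      have hbQ : (b : G) ∈ Q := hB.2.1 b.2
      refine ⟨⁅(⟨x, hxQ⟩ : ↥Q), ⟨b.1, hbQ⟩⁆, ?_, ?_⟩
      · rw [commutator_def]
        exact Subgroup.commutator_mem_commutator (Subgroup.mem_top _) (Subgroup.mem_top _)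
      · rw [← hxa]
        simp [commutatorElement_def]
  -- (2) the Frattini subgroup
  have hfr : (frattini ↥Q).map Q.subtype = V := by
    apply le_antisymm
    · have h1 : frattini ↥Q ≤ V.subgroupOf Q := by
        have : Fact (Nat.Prime 2) := ⟨Nat.prime_two⟩
        apply Cfsg.Agent.Helper14.frattini_le_of_elemAb 2
        · intro a b
          exact hcomle (by
            rw [commutator_def]
            exact Subgroup.commutator_mem_commutator (Subgroup.mem_top _) (Subgroup.mem_top _))
        · intro a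
          rw [Subgroup.mem_subgroupOf]
          have ha : (a : G) ∈ PP V Q := by rw [hPQ]; exact a.2
          have := (hPHI a ha a ha).2
          simpa [pow_two] using this
      rintro _ ⟨z, hz, rfl⟩
      exact Subgroup.mem_subgroupOf.mp (h1 hz)
    · rw [← hcom]
      apply Subgroup.map_mono
      have : Fact (Nat.Prime 2) := ⟨Nat.prime_two⟩
      exact Cfsg.Agent.Helper1.IsPGroup.commutator_le_frattini S.pQ
  exact ⟨hPQ, hfr, hcen, hcom⟩

end Cfsg.Agent.S1786P
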