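import Mathlib
import Cfsg.Prelude.Def_Transfer
import Cfsg.Prelude.Def_Local
import Cfsg.Prelude.Def_Solvable
import Cfsg.Agent.Helper12.S1786Defs
import Cfsg.Agent.Helper14.PCore
import Cfsg.Agent.S1265

/-!
# S1786 (board `s1786pieces`), row SETUP: the frozen hypotheses give `Setup V Q` for `Q = O_2(N_G(V))`.
-/

set_option autoImplicit false

namespace Cfsg.Agent.S1786P

variable {G : Type*} [Group G] [Finite G] {V Q B C : Subgroup G}

/-- SETUP: the frozen hypotheses give `Setup V Q` for `Q = O_2(N_G(V))`.  (S1265 = `C_G(F*(G)) ≤ F*(G)` is on main.) -/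
theorem SETUP (V : Subgroup G) (hV : Cfsg.IsElementaryAbelian 2 V)
    (h1 : (Cfsg.generalizedFittingSubgroup ↥(Subgroup.normalizer (V : Set G))).map (Subgroup.normalizer (V : Set G)).subtype =
      (Cfsg.pCore 2 ↥(Subgroup.normalizer (V : Set G))).map (Subgroup.normalizer (V : Set G)).subtype)
    (h2 : ∀ A : Subgroup G, V ≤ A → A ≤ Subgroup.normalizer (V : Set G) → IsMulCommutative ↥A →
      (∀ m ∈ Subgroup.normalizer (V : Set G), ∀ a ∈ A, m * a * m⁻¹ ∈ A) → A = V)
    (hti : ∀ x : G, V.map (MulAut.conj x).toMonoidHom = V ∨ V.map (MulAut.conj x).toMonoidHom ⊓ V = ⊥) :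
    Setup V ((Cfsg.pCore 2 ↥(Subgroup.normalizer (V : Set G))).map (Subgroup.normalizer (V : Set G)).subtype) := by
  have hcomm : ∀ a ∈ V, ∀ b ∈ V, a * b = b * a := by
    intro a ha b hb
    have := hV.1.is_comm.comm (⟨a, ha⟩ : ↥V) ⟨b, hb⟩
    exact congrArg Subtype.val this
  have hsq : ∀ a ∈ V, a * a = 1 := by
    intro a ha
    have := hV.2 a ha
    rwa [pow_two] at this
  have hV2 : IsPGroup 2 ↥V := by
    intro a
    refine ⟨1, ?_⟩
    apply Subtype.ext
    have := hV.2 a.1 a.2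
    simpa using this
  refine
    { comm := hcomm
      sq := hsq
      pQ := Cfsg.Agent.Helper14.pCoreOf_isPGroup 2 _
      VQ := Cfsg.Agent.Helper14.le_pCoreOf 2 Subgroup.le_normalizer le_rfl hV2
      QM := Cfsg.Agent.Helper14.pCoreOf_le 2 _
      MQ := Cfsg.Agent.Helper14.le_normalizer_pCoreOf 2 _
      core := fun R hR hRM hMR => Cfsg.Agent.Helper14.le_pCoreOf 2 hRM hMR hR
      cent := ?_
      hmax := ?_
      ti := hti }
  · intro c hc hcQ
    -- `c` centralises `F*(M)` inside `↥M`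
    have hmem : (⟨c, hc⟩ : ↥(Subgroup.normalizer (V : Set G))) ∈
        Subgroup.centralizer (Cfsg.generalizedFittingSubgroup ↥(Subgroup.normalizer (V : Set G)) : Set _) := by
      rw [Subgroup.mem_centralizer_iff]
      intro y hy
      have hyQ : (y : G) ∈ (Cfsg.pCore 2 ↥(Subgroup.normalizer (V : Set G))).map
          (Subgroup.normalizer (V : Set G)).subtype := by
        rw [← h1]
        exact ⟨y, hy, rfl⟩
      apply Subtype.ext
      have := hcQ (y : G) hyQ
      simpa using this.symm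
    have h3 := Cfsg.Agent.S1265.result hmem
    rw [← h1]
    exact ⟨⟨c, hc⟩, h3, rfl⟩
  · intro A hVA hAM hAc hAinv
    refine h2 A hVA hAM ⟨⟨?_⟩⟩ hAinv
    intro a b
    apply Subtype.ext
    exact hAc a.1 a.2 b.1 b.2

end Cfsg.Agent.S1786P
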