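import Mathlib
import Cfsg.Prelude.Def_Transfer
import Cfsg.Agent.Helper8.S1904Defs

/-!
# S1904 (board `s1904pieces`), row B7c: auxiliary lemmas (no dependence on other rows).
-/

set_option autoImplicit false
set_option linter.unusedSectionVars false

namespace Cfsg.Agent.S1904P

variable {X : Type*} [Group X] [Finite X] {A : Subgroup (MulAut X)} {B : Subgroup X}

/-- `U = Ω₂(B) = {b ∈ B : b⁴ = 1}` for an abelian `B`. -/
def B7c_aux_U (B : Subgroup X) (hc : ∀ a ∈ B, ∀ b ∈ B, a * b = b * a) : Subgroup X where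
  carrier := {b | b ∈ B ∧ b ^ 4 = 1}
  one_mem' := ⟨one_mem _, one_pow _⟩
  mul_mem' := by
    rintro a b ⟨ha, ha4⟩ ⟨hb, hb4⟩
    refine ⟨mul_mem ha hb, ?_⟩
    have hcm : Commute a b := hc a ha b hb
    rw [hcm.mul_pow, ha4, hb4, one_mul]
  inv_mem' := by
    rintro a ⟨ha, ha4⟩
    exact ⟨inv_mem ha, by rw [inv_pow, ha4, inv_one]⟩

theorem B7c_aux_mem_U {hc : ∀ a ∈ B, ∀ b ∈ B, a * b = b * a} {u : X} :
    u ∈ B7c_aux_U B hc ↔ u ∈ B ∧ u ^ 4 = 1 := Iff.rfl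

/-- the commutator map `p ↦ [p, x] = p x p⁻¹ x⁻¹`. -/
def B7c_aux_lam (x p : X) : X := p * x * p⁻¹ * x⁻¹

theorem B7c_aux_lam_def (x p : X) : B7c_aux_lam x p = p * x * p⁻¹ * x⁻¹ := rfl

/-- a group of order `3`: the powers of a nonidentity element. -/
theorem B7c_aux_A3 (hA3 : Nat.card A = 3) (α : MulAut X) (hα : α ∈ A) (hα1 : α ≠ 1) :
    α * α * α = 1 ∧ ∀ φ ∈ A, φ = 1 ∨ φ = α ∨ φ = α * α := by
  have : Fact (Nat.Prime 3) := ⟨Nat.prime_three⟩
  have ha1 : (⟨α, hα⟩ : ↥A) ≠ 1 := fun h => hα1 (congrArg Subtype.val h)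
  have h3 : (⟨α, hα⟩ : ↥A) ^ 3 = 1 := by
    have := pow_card_eq_one' (G := ↥A) (x := ⟨α, hα⟩)
    rwa [hA3] at this
  have h3' : α ^ 3 = 1 := by
    have := congrArg Subtype.val h3
    simpa using this
  refine ⟨by rw [← h3']; simp [pow_succ], ?_⟩
  intro φ hφ
  obtain ⟨n, hn⟩ := mem_powers_of_prime_card hA3 ha1 (g' := (⟨φ, hφ⟩ : ↥A))
  have hn' : α ^ n = φ := by
    have := congrArg Subtype.val hn
    simpa using this
  have hmod : α ^ n = α ^ (n % 3) := by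
    conv_lhs => rw [← Nat.div_add_mod n 3]
    rw [pow_add, pow_mul, h3', one_pow, one_mul]
  have hlt : n % 3 < 3 := Nat.mod_lt _ (by norm_num)
  rw [hmod] at hn'
  interval_cases h : n % 3
  · left; rw [← hn']; simp
  · right; left; rw [← hn']; simp
  · right; right; rw [← hn']; simp [pow_two]

/-- `T` is closed under products. -/
theorem B7c_aux_InT_mul (hN : B.Normal) {a b : X} (ha : InT B a) (hb : InT B b) : InT B (a * b) := by
  obtain ⟨ha2, ha⟩ := ha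
  obtain ⟨hb2, hb⟩ := hb
  constructor
  · have e : a * b * (a * b) = (a * (b * a * b⁻¹ * a⁻¹) * a⁻¹) * (a * a) * (b * b) := by group
    rw [e]
    exact mul_mem (mul_mem (hN.conj_mem _ (hb a) a) ha2) hb2
  · intro g
    have e : a * b * g * (a * b)⁻¹ * g⁻¹ = (a * (b * g * b⁻¹ * g⁻¹) * a⁻¹) * (a * g * a⁻¹ * g⁻¹) := by group
    rw [e]
    exact mul_mem (hN.conj_mem _ (hb g) a) (ha g)

/-- `T` is `A`-invariant. -/
theorem B7c_aux_InT_map (hI : Inv A B) {φ : MulAut X} (hφ : φ ∈ A) {a : X} (ha : InT B a) : InT B (φ a) := by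
  obtain ⟨ha2, ha⟩ := ha
  constructor
  · have := hI φ hφ _ ha2
    simpa using this
  · intro g
    have := hI φ hφ _ (ha (φ⁻¹ g))
    simpa using this

/-- elements of `T` commute modulo `B`, in the form `g⁻¹ a⁻¹ g a ∈ B`. -/
theorem B7c_aux_InT_comm (hN : B.Normal) {a : X} (ha : InT B a) (g : X) : g⁻¹ * a⁻¹ * g * a ∈ B := by
  have e : g⁻¹ * a⁻¹ * g * a = (g⁻¹ * a⁻¹) * (a * g * a⁻¹ * g⁻¹)⁻¹ * (g⁻¹ * a⁻¹)⁻¹ := by group
  rw [e]
  exact hN.conj_mem _ (inv_mem (ha.2 g)) _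

end Cfsg.Agent.S1904P
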