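import Mathlib
import Cfsg.Prelude.Def_Transfer
import Cfsg.Agent.Helper8.S1904Defs
import Cfsg.Agent.Helper10.S1904B7cAux

/-!
# S1904 (board `s1904pieces`), row B7c, core: if `B` has an element of order 8 and `T/B` has no fixed coset then `T`
centralizes `U = Ω₂(B)`.  The rows B1, B2, B4, INJ are hypotheses.

Proof.  Let `x ∈ T`, `λ(p) = [p,x]` on `U`; `λ` is a homomorphism `U → W` vanishing on `W`, and
`λ · λ^α · λ^{α²} = [·, x α(x) α²(x)] = 1` because `x α(x) α²(x)` is a fixed coset of `T/B`, hence in `B`.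
By INJ, `λ = 1` or `λ` is injective modulo `W`.  In the second case `δ(b) = [b,x]` is an endomorphism of `B`
with `δ² = sq ∘ δ` (as `x² ∈ B`), which forces `λ(v²) = v⁴` for every `v ∈ B` with `v⁸ = 1`; evaluating the norm
relation at `v₀²`, `v₀` of order `8`, gives `v₀¹² = 1`, a contradiction.
-/

set_option autoImplicit false
set_option linter.unusedSectionVars false
set_option linter.unusedVariables false

namespace Cfsg.Agent.S1904P

variable {X : Type*} [Group X] [Finite X] {A : Subgroup (MulAut X)} {B : Subgroup X}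

/-- `δ(b) = [b,x] ∈ B` for `x ∈ T`. -/
theorem B7c_aux_lam_mem {x : X} (hx : InT B x) (b : X) : B7c_aux_lam x b ∈ B := by
  have e : B7c_aux_lam x b = (x * b * x⁻¹ * b⁻¹)⁻¹ := by rw [B7c_aux_lam_def]; group
  rw [e]
  exact inv_mem (hx.2 b)

/-- `δ` is multiplicative on the abelian normal subgroup `B`. -/
theorem B7c_aux_lam_mul (hc : ∀ a ∈ B, ∀ b ∈ B, a * b = b * a) {x : X} (hx : InT B x)
    {a b : X} (ha : a ∈ B) (hb : b ∈ B) :
    B7c_aux_lam x (a * b) = B7c_aux_lam x a * B7c_aux_lam x b := by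
  have h1 : a * B7c_aux_lam x b = B7c_aux_lam x b * a := hc a ha _ (B7c_aux_lam_mem hx b)
  have h2 : B7c_aux_lam x a * B7c_aux_lam x b = B7c_aux_lam x b * B7c_aux_lam x a :=
    hc _ (B7c_aux_lam_mem hx a) _ (B7c_aux_lam_mem hx b)
  have e : B7c_aux_lam x (a * b) = a * B7c_aux_lam x b * a⁻¹ * B7c_aux_lam x a := by
    simp only [B7c_aux_lam_def]; group
  rw [e, h1, h2]
  group

theorem B7c_aux_lam_one (x : X) : B7c_aux_lam x 1 = 1 := by
  rw [B7c_aux_lam_def]; group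

theorem B7c_aux_lam_inv (hc : ∀ a ∈ B, ∀ b ∈ B, a * b = b * a) {x : X} (hx : InT B x)
    {a : X} (ha : a ∈ B) : B7c_aux_lam x a⁻¹ = (B7c_aux_lam x a)⁻¹ := by
  have h := B7c_aux_lam_mul hc hx ha (inv_mem ha)
  rw [mul_inv_cancel, B7c_aux_lam_one] at h
  exact eq_inv_of_mul_eq_one_right h.symm

theorem B7c_aux_lam_pow (hc : ∀ a ∈ B, ∀ b ∈ B, a * b = b * a) {x : X} (hx : InT B x)
    {a : X} (ha : a ∈ B) (n : ℕ) : B7c_aux_lam x (a ^ n) = (B7c_aux_lam x a) ^ n := by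
  induction n with
  | zero => simp [B7c_aux_lam_one]
  | succ k ih => rw [pow_succ, B7c_aux_lam_mul hc hx (pow_mem ha k) ha, ih, pow_succ]

/-- `δ(δ(b)) = δ(b)²` because `x²` centralizes `B`. -/
theorem B7c_aux_lam_lam (hc : ∀ a ∈ B, ∀ b ∈ B, a * b = b * a) {x : X} (hx : InT B x)
    {b : X} (hb : b ∈ B) :
    B7c_aux_lam x (B7c_aux_lam x b) = B7c_aux_lam x b * B7c_aux_lam x b := by
  have h1 : (x * x) * b = b * (x * x) := hc _ hx.1 b hb
  have e : x * x * b * (x * x)⁻¹ =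
      (B7c_aux_lam x b)⁻¹ * B7c_aux_lam x (B7c_aux_lam x b) * (B7c_aux_lam x b)⁻¹ * b := by
    simp only [B7c_aux_lam_def]; group
  have h2 : x * x * b * (x * x)⁻¹ = b := by rw [h1]; group
  rw [h2] at e
  -- `d⁻¹ δ(d) d⁻¹ b = b`
  have h3 : (B7c_aux_lam x b)⁻¹ * B7c_aux_lam x (B7c_aux_lam x b) * (B7c_aux_lam x b)⁻¹ = 1 := by
    have := congrArg (fun t => t * b⁻¹) e
    simp only [mul_inv_cancel, mul_inv_cancel_right] at this
    exact this.symm
  calc B7c_aux_lam x (B7c_aux_lam x b)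
      = B7c_aux_lam x b * ((B7c_aux_lam x b)⁻¹ * B7c_aux_lam x (B7c_aux_lam x b) * (B7c_aux_lam x b)⁻¹) *
          B7c_aux_lam x b := by group
    _ = B7c_aux_lam x b * B7c_aux_lam x b := by rw [h3, mul_one]

/-- `α([α⁻¹ p, x]) = [p, α x]`. -/
theorem B7c_aux_lam_aut (α : MulAut X) (x p : X) :
    α (B7c_aux_lam x (α⁻¹ p)) = B7c_aux_lam (α x) p := by
  simp only [B7c_aux_lam_def, map_mul, map_inv, MulAut.apply_inv_self]

/-- `[p, abc] = [p,a][p,b][p,c]` when `[p,b]`, `[p,c]` are central. -/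
theorem B7c_aux_lam_prod (a b c p : X) (hb : B7c_aux_lam b p ∈ Subgroup.center X)
    (hc' : B7c_aux_lam c p ∈ Subgroup.center X) :
    B7c_aux_lam (a * b * c) p = B7c_aux_lam a p * B7c_aux_lam b p * B7c_aux_lam c p := by
  have e : B7c_aux_lam (a * b * c) p =
      B7c_aux_lam a p * (a * B7c_aux_lam b p * a⁻¹) * (a * b * B7c_aux_lam c p * (a * b)⁻¹) := by
    simp only [B7c_aux_lam_def]; group
  have h1 : a * B7c_aux_lam b p = B7c_aux_lam b p * a := (Subgroup.mem_center_iff.mp hb a)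
  have h2 : a * b * B7c_aux_lam c p = B7c_aux_lam c p * (a * b) := (Subgroup.mem_center_iff.mp hc' (a * b))
  rw [e, h1, h2]
  group

theorem B7c_aux_pow4 (a : X) : a ^ 4 = a * a * (a * a) := by
  simp [pow_succ, mul_assoc]

/-- `|U| = |W|²` (squaring maps `U` onto `W` with kernel `W`). -/
theorem B7c_aux_cardU (hc : ∀ a ∈ B, ∀ b ∈ B, a * b = b * a)
    (hWB : WW X ≤ B) (hΩ : ∀ b ∈ B, b * b = 1 → b ∈ WW X)
    (hsq : ∀ w ∈ WW X, ∃ u ∈ B, u * u = w) :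
    Nat.card (WW X) * Nat.card (WW X) = Nat.card (B7c_aux_U B hc) := by
  have hUsq : ∀ u : ↥(B7c_aux_U B hc), (u : X) * (u : X) ∈ WW X := by
    intro u
    apply hΩ _ (mul_mem u.2.1 u.2.1)
    have h4 : (u : X) ^ 4 = 1 := u.2.2
    calc (u : X) * u * (u * u) = (u : X) ^ 4 := (B7c_aux_pow4 _).symm
      _ = 1 := h4
  let f : ↥(B7c_aux_U B hc) →* ↥(WW X) :=
    { toFun := fun u => ⟨(u : X) * (u : X), hUsq u⟩
      map_one' := by
        apply Subtype.ext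
        simp
      map_mul' := by
        intro a b
        apply Subtype.ext
        have hcm : (a : X) * (b : X) = (b : X) * (a : X) := hc a a.2.1 b b.2.1
        simp only [Subgroup.coe_mul]
        calc (a : X) * b * (a * b) = a * (b * a) * b := by group
          _ = a * (a * b) * b := by rw [← hcm]
          _ = a * a * (b * b) := by group }
  have hf : Function.Surjective f := by
    intro w
    obtain ⟨u, huB, huw⟩ := hsq w w.2
    have hu4 : u ^ 4 = 1 := by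
      have h2 : (w : X) * w = 1 := (mem_WW.mp w.2).2
      calc u ^ 4 = (u * u) * (u * u) := B7c_aux_pow4 _
        _ = 1 := by rw [huw, h2]
    exact ⟨⟨u, huB, hu4⟩, Subtype.ext huw⟩
  have e : ↥f.ker ≃ ↥(WW X) :=
    { toFun := fun k => ⟨((k : ↥(B7c_aux_U B hc)) : X), hΩ _ k.1.2.1 (by
        have h := k.2
        rw [MonoidHom.mem_ker] at h
        exact congrArg Subtype.val h)⟩
      invFun := fun w => ⟨⟨(w : X), hWB w.2, by
          have h2 : (w : X) * w = 1 := (mem_WW.mp w.2).2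
          calc (w : X) ^ 4 = (w * w) * (w * w) := B7c_aux_pow4 _
            _ = 1 := by rw [h2, one_mul]⟩, by
          rw [MonoidHom.mem_ker]
          apply Subtype.ext
          exact (mem_WW.mp w.2).2⟩
      left_inv := fun k => by
        apply Subtype.ext
        apply Subtype.ext
        rfl
      right_inv := fun w => by
        apply Subtype.ext
        rfl }
  rw [Subgroup.card_eq_card_quotient_mul_card_subgroup f.ker,
    Nat.card_congr (QuotientGroup.quotientKerEquivOfSurjective f hf).toEquiv, Nat.card_congr e]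

/-- B7c (core): if `B` has an element of order 8 and `T/B` has no fixed coset then `T` centralizes `U`. -/
theorem B7c_core (H : Hyp A) (hB : MaxAb A B) (hb : ∃ b ∈ B, b ^ 4 ≠ 1)
    (hNF : ∀ t : X, InT B t → (∀ φ ∈ A, t⁻¹ * φ t ∈ B) → t ∈ B)
    (hB1 : Nat.card (WW X) = 4 ∧ WW X ≤ B ∧ (∀ b ∈ B, b * b = 1 → b ∈ WW X) ∧
      (∀ b ∈ B, (∀ φ ∈ A, φ b = b) → b = 1) ∧ ¬ (∀ φ ∈ A, ∀ w ∈ WW X, φ w = w))
    (hB2 : (∀ w ∈ WW X, ∃ u ∈ B, u * u = w) ∧
      (∀ u ∈ B, u ^ 4 = 1 → ∀ x : X, u * x * u⁻¹ * x⁻¹ ∈ WW X) ∧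
      (∀ u ∈ B, u ^ 4 = 1 → (∀ φ ∈ A, u⁻¹ * φ u ∈ WW X) → u ∈ WW X) ∧
      (∀ c ∈ Sq B, ∃ b ∈ B, c = b * b) ∧
      (∀ b ∈ B, (∀ φ ∈ A, b⁻¹ * φ b ∈ Sq B) → b ∈ Sq B) ∧
      Nat.card (Sq B) * 4 = Nat.card B)
    (hB4 : Nat.card A = 3)
    (hINJ : ∀ (P P₀ : Subgroup X), P₀ ≤ P → (∀ a ∈ P, ∀ b ∈ P, a * b = b * a) → Inv A P → Inv A P₀ →
      Nat.card P₀ * 4 = Nat.card P → (∀ p ∈ P, (∀ φ ∈ A, p⁻¹ * φ p ∈ P₀) → p ∈ P₀) →
      ∀ (lam : X → X), (∀ p ∈ P, ∀ q ∈ P, lam (p * q) = lam p * lam q) → (∀ p ∈ P, lam p ∈ WW X) →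
      (∀ p ∈ P₀, lam p = 1) →
      (∀ α ∈ A, α ≠ 1 → ∀ p ∈ P, lam p * α (lam (α⁻¹ p)) * (α * α) (lam ((α * α)⁻¹ p)) = 1) →
      ∀ p ∈ P, lam p = 1 → p ∈ P₀ ∨ ∀ q ∈ P, lam q = 1) :
    ∀ t : X, InT B t → ∀ u ∈ B, u ^ 4 = 1 → t * u = u * t := by
  intro x hx u₁ hu₁B hu₁4
  by_contra hne
  obtain ⟨hW4, hWB, hΩ, hfixB, -⟩ := hB1
  obtain ⟨hsq, hUW, hUnf, -, -, -⟩ := hB2
  have hN : B.Normal := hB.normal
  have hc := hB.comm
  have hWcen : ∀ w ∈ WW X, w ∈ Subgroup.center X := fun w hw => (mem_WW.mp hw).1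
  have hWsq : ∀ w ∈ WW X, w * w = 1 := fun w hw => (mem_WW.mp hw).2
  -- invariance of `W` and `U`
  have hIW : Inv A (WW X) := by
    intro φ hφ w hw
    rw [mem_WW] at hw ⊢
    constructor
    · rw [Subgroup.mem_center_iff]
      intro g
      have h := (Subgroup.mem_center_iff.mp hw.1) (φ⁻¹ g)
      have h2 := congrArg φ h
      simpa using h2
    · rw [← map_mul, hw.2, map_one]
  have hIU : Inv A (B7c_aux_U B hc) := by
    intro φ hφ u hu
    exact ⟨hB.inv φ hφ u hu.1, by rw [← map_pow, hu.2, map_one]⟩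
  have hWU : WW X ≤ B7c_aux_U B hc := by
    intro w hw
    refine ⟨hWB hw, ?_⟩
    calc w ^ 4 = (w * w) * (w * w) := B7c_aux_pow4 _
      _ = 1 := by rw [hWsq w hw, one_mul]
  have hUc : ∀ a ∈ B7c_aux_U B hc, ∀ b ∈ B7c_aux_U B hc, a * b = b * a :=
    fun a ha b hb => hc a ha.1 b hb.1
  have hidx : Nat.card (WW X) * 4 = Nat.card (B7c_aux_U B hc) := by
    rw [← B7c_aux_cardU hc hWB hΩ hsq, hW4]
  have hnf : ∀ p ∈ B7c_aux_U B hc, (∀ φ ∈ A, p⁻¹ * φ p ∈ WW X) → p ∈ WW X :=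
    fun p hp h => hUnf p hp.1 hp.2 h
  have hlamW : ∀ y : X, ∀ p ∈ B7c_aux_U B hc, B7c_aux_lam y p ∈ WW X :=
    fun y p hp => hUW p hp.1 hp.2 y
  have hmul : ∀ p ∈ B7c_aux_U B hc, ∀ q ∈ B7c_aux_U B hc,
      B7c_aux_lam x (p * q) = B7c_aux_lam x p * B7c_aux_lam x q :=
    fun p hp q hq => B7c_aux_lam_mul hc hx hp.1 hq.1
  have h0 : ∀ p ∈ WW X, B7c_aux_lam x p = 1 := by
    intro p hp
    have h := Subgroup.mem_center_iff.mp (hWcen p hp) x
    rw [B7c_aux_lam_def, ← h]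
    group
  -- the norm relation
  have hnorm : ∀ α ∈ A, α ≠ 1 → ∀ p ∈ B7c_aux_U B hc,
      B7c_aux_lam x p * α (B7c_aux_lam x (α⁻¹ p)) * (α * α) (B7c_aux_lam x ((α * α)⁻¹ p)) = 1 := by
    intro α hα hα1 p hp
    obtain ⟨hα3, hAall⟩ := B7c_aux_A3 hB4 α hα hα1
    have h3 : α (α (α x)) = x := by
      have := congrArg (fun f : MulAut X => f x) hα3
      simpa [MulAut.mul_apply] using this
    have hb' : InT B (α x) := B7c_aux_InT_map hB.inv hα hx
    have hc' : InT B (α (α x)) := B7c_aux_InT_map hB.inv hα hb'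
    have hxb : InT B (x * α x) := B7c_aux_InT_mul hN hx hb'
    have hy : InT B (x * α x * α (α x)) := B7c_aux_InT_mul hN hxb hc'
    have hyB : x * α x * α (α x) ∈ B := by
      apply hNF _ hy
      intro φ hφ
      rcases hAall φ hφ with h | h | h
      · rw [h, MulAut.one_apply, inv_mul_cancel]
        exact one_mem _
      · rw [h]
        have e : (x * α x * α (α x))⁻¹ * α (x * α x * α (α x)) =
            (α x * α (α x))⁻¹ * x⁻¹ * (α x * α (α x)) * x := by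
          rw [map_mul, map_mul, h3]
          group
        rw [e]
        exact B7c_aux_InT_comm hN hx _
      · rw [h]
        have e : (x * α x * α (α x))⁻¹ * (α * α) (x * α x * α (α x)) =
            (α (α x))⁻¹ * (x * α x)⁻¹ * (α (α x)) * (x * α x) := by
          rw [map_mul, map_mul]
          simp only [MulAut.mul_apply, h3]
          group
        rw [e]
        exact B7c_aux_InT_comm hN hxb _
    have e1 : α (B7c_aux_lam x (α⁻¹ p)) = B7c_aux_lam (α x) p := B7c_aux_lam_aut α x p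
    have e2 : (α * α) (B7c_aux_lam x ((α * α)⁻¹ p)) = B7c_aux_lam (α (α x)) p := by
      rw [B7c_aux_lam_aut (α * α) x p, MulAut.mul_apply]
    rw [e1, e2, ← B7c_aux_lam_prod x (α x) (α (α x)) p (hWcen _ (hlamW _ p hp)) (hWcen _ (hlamW _ p hp))]
    have hcm := hc p hp.1 _ hyB
    rw [B7c_aux_lam_def, hcm]
    group
  have key := hINJ (B7c_aux_U B hc) (WW X) hWU hUc hIU hIW hidx hnf (B7c_aux_lam x) hmul (hlamW x) h0 hnorm
  -- `λ` is injective modulo `W`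
  have hinj : ∀ p ∈ B7c_aux_U B hc, B7c_aux_lam x p = 1 → p ∈ WW X := by
    intro p hp h1
    rcases key p hp h1 with h | h
    · exact h
    · exfalso
      apply hne
      have h2 := h u₁ ⟨hu₁B, hu₁4⟩
      rw [B7c_aux_lam_def] at h2
      have h3 := mul_inv_eq_one.mp h2
      have h4 := mul_inv_eq_iff_eq_mul.mp h3
      exact h4.symm
  -- `λ(v²) = v⁴` for `v ∈ B`, `v⁸ = 1`
  have h4 : ∀ v ∈ B, v ^ 8 = 1 → B7c_aux_lam x (v * v) = v ^ 4 := by
    intro v hv hv8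
    have hv4W : v ^ 4 ∈ WW X := hΩ _ (pow_mem hv 4) (by rw [← pow_add]; exact hv8)
    have hmB : B7c_aux_lam x v ∈ B := B7c_aux_lam_mem hx v
    have hm4 : (B7c_aux_lam x v) ^ 4 = 1 := by
      rw [← B7c_aux_lam_pow hc hx hv 4]
      exact h0 _ hv4W
    have hmU : B7c_aux_lam x v ∈ B7c_aux_U B hc := ⟨hmB, hm4⟩
    have hvvU : v * v ∈ B7c_aux_U B hc := by
      refine ⟨mul_mem hv hv, ?_⟩
      rw [← pow_two, ← pow_mul]
      exact hv8
    have e1 : B7c_aux_lam x (B7c_aux_lam x v) = B7c_aux_lam x v * B7c_aux_lam x v :=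
      B7c_aux_lam_lam hc hx hv
    have e2 : B7c_aux_lam x (v * v) = B7c_aux_lam x v * B7c_aux_lam x v := B7c_aux_lam_mul hc hx hv hv
    have e3 : B7c_aux_lam x (B7c_aux_lam x v * (v * v)⁻¹) = 1 := by
      rw [B7c_aux_lam_mul hc hx hmB (inv_mem hvvU.1), B7c_aux_lam_inv hc hx hvvU.1, e1, e2, mul_inv_cancel]
    have hw := hinj _ (mul_mem hmU (inv_mem hvvU)) e3
    have hwc := Subgroup.mem_center_iff.mp (hWcen _ hw) (v * v)
    rw [e2]
    calc B7c_aux_lam x v * B7c_aux_lam x v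
        = (B7c_aux_lam x v * (v * v)⁻¹) * ((v * v) * (B7c_aux_lam x v * (v * v)⁻¹)) * (v * v) := by group
      _ = (B7c_aux_lam x v * (v * v)⁻¹) * ((B7c_aux_lam x v * (v * v)⁻¹) * (v * v)) * (v * v) := by rw [hwc]
      _ = ((B7c_aux_lam x v * (v * v)⁻¹) * (B7c_aux_lam x v * (v * v)⁻¹)) * v ^ 4 := by group
      _ = v ^ 4 := by rw [hWsq _ hw, one_mul]
  -- an element of order `8`
  obtain ⟨b, hbB, hb4⟩ := hb
  have : Fact (Nat.Prime 2) := ⟨Nat.prime_two⟩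
  obtain ⟨k, hk⟩ := (IsPGroup.iff_orderOf.mp H.pX) b
  have hk3 : 3 ≤ k := by
    by_contra hlt
    push Not at hlt
    apply hb4
    apply orderOf_dvd_iff_pow_eq_one.mp
    rw [hk]
    exact pow_dvd_pow 2 (by omega : k ≤ 2)
  have hv₀B : b ^ (2 ^ (k - 3)) ∈ B := pow_mem hbB _
  have hv₀8 : (b ^ (2 ^ (k - 3))) ^ 8 = 1 := by
    rw [← pow_mul]
    have : 2 ^ (k - 3) * 8 = 2 ^ k := by
      rw [show (8 : ℕ) = 2 ^ 3 by norm_num, ← pow_add]
      congr 1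
      omega
    rw [this, ← hk]
    exact pow_orderOf_eq_one b
  have hv₀4 : (b ^ (2 ^ (k - 3))) ^ 4 ≠ 1 := by
    rw [← pow_mul]
    have : 2 ^ (k - 3) * 4 = 2 ^ (k - 1) := by
      rw [show (4 : ℕ) = 2 ^ 2 by norm_num, ← pow_add]
      congr 1
      omega
    rw [this]
    apply pow_ne_one_of_lt_orderOf (by positivity)
    rw [hk]
    exact Nat.pow_lt_pow_right (by norm_num) (by omega)
  -- a nonidentity element of `A`
  obtain ⟨α, hα, hα1⟩ : ∃ α ∈ A, α ≠ 1 := by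
    have : Nontrivial ↥A := by
      rw [← Finite.one_lt_card_iff_nontrivial]
      omega
    obtain ⟨a, ha⟩ := exists_ne (1 : ↥A)
    exact ⟨a.1, a.2, fun h => ha (Subtype.ext h)⟩
  have hvvU : b ^ (2 ^ (k - 3)) * b ^ (2 ^ (k - 3)) ∈ B7c_aux_U B hc := by
    refine ⟨mul_mem hv₀B hv₀B, ?_⟩
    rw [← pow_two, ← pow_mul]
    exact hv₀8
  have hn := hnorm α hα hα1 _ hvvU
  have t1 := h4 _ hv₀B hv₀8
  have haut : ∀ ψ ∈ A, ψ (B7c_aux_lam x (ψ⁻¹ (b ^ (2 ^ (k - 3)) * b ^ (2 ^ (k - 3))))) =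
      (b ^ (2 ^ (k - 3))) ^ 4 := by
    intro ψ hψ
    have hv' : ψ⁻¹ (b ^ (2 ^ (k - 3))) ∈ B := hB.inv ψ⁻¹ (inv_mem hψ) _ hv₀B
    have hv'8 : (ψ⁻¹ (b ^ (2 ^ (k - 3)))) ^ 8 = 1 := by rw [← map_pow, hv₀8, map_one]
    rw [map_mul, h4 _ hv' hv'8, ← map_pow, MulAut.apply_inv_self]
  rw [t1, haut α hα, haut (α * α) (mul_mem hα hα)] at hn
  apply hv₀4
  have h12 : (b ^ (2 ^ (k - 3))) ^ 4 * (b ^ (2 ^ (k - 3))) ^ 4 * (b ^ (2 ^ (k - 3))) ^ 4 =
      (b ^ (2 ^ (k - 3))) ^ 4 * (b ^ (2 ^ (k - 3))) ^ 8 := by group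
  rw [h12, hv₀8, mul_one] at hn
  exact hn

end Cfsg.Agent.S1904P
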