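import Mathlib
import Cfsg.Prelude.Def_Transfer
import Cfsg.Agent.Helper8.S1904Defs

/-!
# S1904 (board `s1904pieces`), row T0: a subgroup containing all `x⁻¹ φ(x)` is everything.
-/

set_option autoImplicit false

namespace Cfsg.Agent.S1904P

variable {X : Type*} [Group X] [Finite X] {A : Subgroup (MulAut X)} {B : Subgroup X}

/-- T0: a normal subgroup containing all `x⁻¹ φ(x)` is everything. -/
theorem T0 (H : Hyp A) (N : Subgroup X) (hx : ∀ φ ∈ A, ∀ x : X, x⁻¹ * φ x ∈ N) : N = ⊤ := by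
  rw [eq_top_iff, ← H.gen, Subgroup.closure_le]
  rintro g ⟨φ, hφ, x, rfl⟩
  exact hx φ hφ x

end Cfsg.Agent.S1904P
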