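import Mathlib
import Cfsg.Agent.Helper2.S2096.Defs
import Cfsg.Agent.Helper25.S2096WXID
import Cfsg.Agent.Helper5.S2096TXID
import Cfsg.Agent.Helper3.S2096HNORM
import Cfsg.Agent.Helper22.S2096CREL2
import Cfsg.Agent.Helper22.S2096CREL3

set_option autoImplicit false
set_option linter.unusedSectionVars false
set_option linter.unusedVariables false

/-! S2096/S2097 part B, piece NACONJ (driver helper2): `NA X` normalizes `CS X o ⊔ Hh X`. -/

namespace Cfsg.Agent.S2096P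

open Matrix Cfsg.Agent.S3352P Cfsg.Agent.S3351P Cfsg.Agent.S2086P

variable {n : ℕ} {F : Type*} [Field F] [Fintype F] {M : Type*} [Group M] {X : J n → J n → F → M}

namespace NACONJ

theorem isRoot_inl {i j : Fin n} (hij : i ≠ j) : IsRoot (Sum.inl i : J n) (Sum.inl j) := by
  refine ⟨?_, ?_⟩
  · intro h
    exact hij (Sum.inl.inj h)
  · intro h
    rw [ng_inl] at h
    exact Sum.inl_ne_inr h

theorem tX_mem_Hh {a b : J n} (hab : IsRoot a b) {t : F} (ht : t ≠ 0) : tX X a b t ∈ Hh X :=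
  Subgroup.subset_closure ⟨a, b, t, hab, ht, rfl⟩

theorem wX_mem_Nh {a b : J n} (hab : IsRoot a b) {t : F} (ht : t ≠ 0) : wX X a b t ∈ Nh X :=
  Subgroup.subset_closure ⟨a, b, t, hab, ht, rfl⟩

/-- conjugation stabilizes `CS X o ⊔ Hh X` as soon as it does so on the generators -/
theorem conj_mem_sup (o : Fin n) (g : M)
    (hgen : ∀ j : Fin n, j ≠ o → g * cS X o j * g⁻¹ ∈ CS X o ⊔ Hh X)
    (hH : ∀ h ∈ Hh X, g * h * g⁻¹ ∈ Hh X) {y : M} (hy : y ∈ CS X o ⊔ Hh X) :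
    g * y * g⁻¹ ∈ CS X o ⊔ Hh X := by
  have hle : (CS X o ⊔ Hh X).map (MulAut.conj g).toMonoidHom ≤ CS X o ⊔ Hh X := by
    rw [Subgroup.map_sup]
    apply sup_le
    · unfold CS
      rw [MonoidHom.map_closure, Subgroup.closure_le]
      rintro _ ⟨_, ⟨j, hj, rfl⟩, rfl⟩
      exact hgen j hj
    · rintro _ ⟨h, hh, rfl⟩
      exact (le_sup_right : Hh X ≤ CS X o ⊔ Hh X) (hH h hh)
  exact hle ⟨y, hy, rfl⟩

/-- the Weyl elements with parameter `1` -/
theorem conj_one (π : M →* Matrix (J n) (J n) F)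
    (hπ : ∀ a b, IsRoot a b → ∀ t : F, π (X a b t) = xm a b t) (hn : 3 ≤ n) (hX : DRel X)
    (o : Fin n) {i j : Fin n} (hij : i ≠ j) (hjo : j ≠ o) {y : M} (hy : y ∈ CS X o ⊔ Hh X) :
    wX X (Sum.inl i) (Sum.inl j) 1 * y * (wX X (Sum.inl i) (Sum.inl j) 1)⁻¹ ∈ CS X o ⊔ Hh X := by
  apply conj_mem_sup o _ _ _ hy
  · intro k hk
    by_cases hio : i = o
    · subst hio
      exact wX_conj_cS_mem_base π hπ hn hX hjo hk
    · exact wX_conj_cS_mem_of_ne π hπ hn hX hio hjo hij hk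
  · intro h hh
    exact Hh_conj_mem π hπ hn hX (wX_mem_Nh (isRoot_inl hij) one_ne_zero) hh

/-- from parameter `1` to any parameter -/
theorem conj_any (hX : DRel X) (o : Fin n) {a b : J n} (hab : IsRoot a b) {t : F} (ht : t ≠ 0)
    (h1 : ∀ y ∈ CS X o ⊔ Hh X, wX X a b 1 * y * (wX X a b 1)⁻¹ ∈ CS X o ⊔ Hh X) {y : M}
    (hy : y ∈ CS X o ⊔ Hh X) : wX X a b t * y * (wX X a b t)⁻¹ ∈ CS X o ⊔ Hh X := by
  rw [wX_eq_tX_mul hX hab t]
  have hh : tX X a b t ∈ CS X o ⊔ Hh X :=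
    (le_sup_right : Hh X ≤ CS X o ⊔ Hh X) (tX_mem_Hh hab ht)
  have e : tX X a b t * wX X a b 1 * y * (tX X a b t * wX X a b 1)⁻¹ =
      tX X a b t * (wX X a b 1 * y * (wX X a b 1)⁻¹) * (tX X a b t)⁻¹ := by
    group
  rw [e]
  exact Subgroup.mul_mem _ (Subgroup.mul_mem _ hh (h1 y hy)) (Subgroup.inv_mem _ hh)

/-- the generators of `NA X` -/
theorem conj_gen (π : M →* Matrix (J n) (J n) F)
    (hπ : ∀ a b, IsRoot a b → ∀ t : F, π (X a b t) = xm a b t) (hn : 3 ≤ n) (hX : DRel X)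
    (o : Fin n) {i j : Fin n} (hij : i ≠ j) {t : F} (ht : t ≠ 0) {y : M}
    (hy : y ∈ CS X o ⊔ Hh X) :
    wX X (Sum.inl i) (Sum.inl j) t * y * (wX X (Sum.inl i) (Sum.inl j) t)⁻¹ ∈ CS X o ⊔ Hh X := by
  by_cases hjo : j = o
  · have hio : i ≠ o := fun h => hij (h.trans hjo.symm)
    rw [wX_swap hn hX (isRoot_inl (Ne.symm hij)) ht]
    have ht' : -t⁻¹ ≠ 0 := neg_ne_zero.2 (inv_ne_zero ht)
    apply conj_any hX o (isRoot_inl (Ne.symm hij)) ht' _ hy
    intro y' hy'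
    rw [hjo]
    exact conj_one π hπ hn hX o (Ne.symm hio) hio hy'
  · apply conj_any hX o (isRoot_inl hij) ht _ hy
    intro y' hy'
    exact conj_one π hπ hn hX o hij hjo hy'

end NACONJ

open NACONJ in
/-- NACONJ -/
theorem NA_conj_mem (π : M →* Matrix (J n) (J n) F)
    (hπ : ∀ a b, IsRoot a b → ∀ t : F, π (X a b t) = xm a b t) (hn : 3 ≤ n) (hX : DRel X) (o : Fin n) {ν y : M} (hν : ν ∈ NA X)
    (hy : y ∈ CS X o ⊔ Hh X) : ν * y * ν⁻¹ ∈ CS X o ⊔ Hh X := by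
  have key : ∀ ν ∈ NA X, (∀ y ∈ CS X o ⊔ Hh X, ν * y * ν⁻¹ ∈ CS X o ⊔ Hh X) ∧
      (∀ y ∈ CS X o ⊔ Hh X, ν⁻¹ * y * ν ∈ CS X o ⊔ Hh X) := by
    intro ν hν
    unfold NA at hν
    induction hν using Subgroup.closure_induction with
    | mem g hg =>
      obtain ⟨i, j, t, hij, ht, rfl⟩ := hg
      refine ⟨fun y hy => conj_gen π hπ hn hX o hij ht hy, fun y hy => ?_⟩
      have h1 := wX_inv' hX (isRoot_inl hij) t
      have h2 := conj_gen π hπ hn hX o hij (neg_ne_zero.2 ht) hy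
      rw [← h1, inv_inv] at h2
      exact h2
    | one =>
      refine ⟨fun y hy => ?_, fun y hy => ?_⟩
      · rw [one_mul, inv_one, mul_one]
        exact hy
      · rw [inv_one, one_mul, mul_one]
        exact hy
    | mul a b _ _ iha ihb =>
      refine ⟨fun y hy => ?_, fun y hy => ?_⟩
      · have e : a * b * y * (a * b)⁻¹ = a * (b * y * b⁻¹) * a⁻¹ := by group
        rw [e]
        exact iha.1 _ (ihb.1 y hy)
      · have e : (a * b)⁻¹ * y * (a * b) = b⁻¹ * (a⁻¹ * y * a) * b := by group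
        rw [e]
        exact ihb.2 _ (iha.2 y hy)
    | inv a _ iha =>
      refine ⟨fun y hy => ?_, fun y hy => ?_⟩
      · rw [inv_inv]
        exact iha.2 y hy
      · rw [inv_inv]
        exact iha.1 y hy
  exact (key ν hν).1 y hy

end Cfsg.Agent.S2096P
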