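import Mathlib
import Cfsg.Agent.Helper2.S2096.Defs

set_option autoImplicit false
set_option linter.unusedSectionVars false
set_option linter.unusedVariables false

/-! S2096/S2097 part B, piece NAH (driver helper2): `NA X` lies in the image of `Θ`; diagonal matrices of
determinant one are of the form `dgS d`. -/

namespace Cfsg.Agent.S2096P

open Matrix Cfsg.Agent.S3352P Cfsg.Agent.S3351P Cfsg.Agent.S2086P

variable {n : ℕ} {F : Type*} [Field F] [Fintype F] {M : Type*} [Group M] {X : J n → J n → F → M}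

/-- NAH -/
theorem NA_le_range (Θ : Matrix.SpecialLinearGroup (Fin n) F →* M)
    (hΘ : ∀ (i j : Fin n) (hij : i ≠ j) (t : F),
      Θ (Matrix.SpecialLinearGroup.transvection hij t) = X (Sum.inl i) (Sum.inl j) t) (hX : DRel X) : NA X ≤ Θ.range := by
  unfold NA
  rw [Subgroup.closure_le]
  rintro _ ⟨i, j, t, hij, ht, rfl⟩
  refine ⟨Matrix.SpecialLinearGroup.transvection hij t *
    Matrix.SpecialLinearGroup.transvection (Ne.symm hij) (-t⁻¹) *
    Matrix.SpecialLinearGroup.transvection hij t, ?_⟩
  rw [map_mul, map_mul, hΘ, hΘ]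
  rfl

theorem exists_dgS_of_diag {g : Matrix.SpecialLinearGroup (Fin n) F}
    (hg : ∀ i j, i ≠ j → (g : Matrix (Fin n) (Fin n) F) i j = 0) : ∃ d : Tor n F, g = dgS n F d := by
  have hdiag : (g : Matrix (Fin n) (Fin n) F) =
      Matrix.diagonal (fun i => (g : Matrix (Fin n) (Fin n) F) i i) := by
    ext i j
    by_cases hij : i = j
    · subst hij
      rw [Matrix.diagonal_apply_eq]
    · rw [Matrix.diagonal_apply_ne _ hij, hg i j hij]
  have hdet : ∏ i, (g : Matrix (Fin n) (Fin n) F) i i = 1 := by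
    have h1 : (g : Matrix (Fin n) (Fin n) F).det = 1 := g.2
    rw [hdiag, Matrix.det_diagonal] at h1
    exact h1
  have hne : ∀ i, (g : Matrix (Fin n) (Fin n) F) i i ≠ 0 := by
    intro i h0
    have : ∏ i, (g : Matrix (Fin n) (Fin n) F) i i = 0 :=
      Finset.prod_eq_zero (Finset.mem_univ i) h0
    rw [hdet] at this
    exact one_ne_zero this
  have hprod : ∏ i, Units.mk0 ((g : Matrix (Fin n) (Fin n) F) i i) (hne i) = 1 := by
    apply Units.ext
    rw [Units.coe_prod, Units.val_one]
    simp only [Units.val_mk0]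
    exact hdet
  refine ⟨⟨fun i => Units.mk0 ((g : Matrix (Fin n) (Fin n) F) i i) (hne i), hprod⟩, ?_⟩
  apply Subtype.ext
  rw [dgS_coe]
  exact hdiag

end Cfsg.Agent.S2096P
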