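import Mathlib

/-! # S2262 pieces UNUM and GNUMU (pure arithmetic) -/

set_option autoImplicit false

namespace Cfsg.Agent.S2262P

namespace UNUM

/-- `(q-1) * (q^(d-1) + q^(d-2)) ≤ q^d - 1` for `d ≥ 2`, `q ≥ 1`. -/
theorem pred_mul_le (q d : ℕ) (hq : 1 ≤ q) (hd : 2 ≤ d) :
    (q - 1) * (q ^ (d - 1) + q ^ (d - 2)) ≤ q ^ d - 1 := by
  obtain ⟨k, rfl⟩ : ∃ k, d = k + 2 := ⟨d - 2, by omega⟩
  obtain ⟨t, rfl⟩ : ∃ t, q = t + 1 := ⟨q - 1, by omega⟩
  have e1 : k + 2 - 1 = k + 1 := by omega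
  have e2 : k + 2 - 2 = k := by omega
  have e3 : t + 1 - 1 = t := by omega
  rw [e1, e2, e3]
  have h1 : 1 ≤ (t + 1) ^ k := Nat.one_le_pow _ _ (by omega)
  have h2 : (t + 1) ^ (k + 2) = (t + 1) ^ k * ((t + 1) * (t + 1)) := by ring
  have h3 : (t + 1) ^ (k + 1) = (t + 1) ^ k * (t + 1) := by ring
  rw [h2, h3]
  have : t * ((t + 1) ^ k * (t + 1) + (t + 1) ^ k) + 1 ≤ (t + 1) ^ k * ((t + 1) * (t + 1)) := by
    nlinarith
  omega

theorem aux_two (k : ℕ) : 4 * (k + 3) ≤ 2 ^ (k + 3) + 2 ^ (k + 2) := by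
  induction k with
  | zero => norm_num
  | succ n ih =>
    have a1 : 2 ^ (n + 1 + 3) = 2 * 2 ^ (n + 3) := by ring
    have a2 : 2 ^ (n + 1 + 2) = 2 * 2 ^ (n + 2) := by ring
    rw [a1, a2]
    generalize 2 ^ (n + 3) = a at *
    generalize 2 ^ (n + 2) = b at *
    omega

theorem aux_three (k : ℕ) : 4 * (k + 3) ≤ 3 ^ (k + 2) + 3 ^ (k + 1) := by
  induction k with
  | zero => norm_num
  | succ n ih =>
    have a1 : 3 ^ (n + 1 + 2) = 3 * 3 ^ (n + 2) := by ring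
    have a2 : 3 ^ (n + 1 + 1) = 3 * 3 ^ (n + 1) := by ring
    rw [a1, a2]
    generalize 3 ^ (n + 2) = a at *
    generalize 3 ^ (n + 1) = b at *
    omega

theorem four_mul_pred_le (q d : ℕ) (hq : 2 ≤ q) (hd : 4 ≤ d) :
    4 * (d - 1) ≤ q ^ (d - 1) + q ^ (d - 2) := by
  obtain ⟨k, rfl⟩ : ∃ k, d = k + 4 := ⟨d - 4, by omega⟩
  have e1 : k + 4 - 1 = k + 3 := by omega
  have e2 : k + 4 - 2 = k + 2 := by omega
  rw [e1, e2]
  calc 4 * (k + 3) ≤ 2 ^ (k + 3) + 2 ^ (k + 2) := aux_two k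
    _ ≤ q ^ (k + 3) + q ^ (k + 2) :=
      Nat.add_le_add (Nat.pow_le_pow_left hq _) (Nat.pow_le_pow_left hq _)

theorem four_mul_mul_pred_le (p d : ℕ) (hp : 3 ≤ p) (hd : 4 ≤ d) :
    4 * p * (d - 1) ≤ p ^ (d - 1) + p ^ (d - 2) := by
  obtain ⟨k, rfl⟩ : ∃ k, d = k + 4 := ⟨d - 4, by omega⟩
  have e1 : k + 4 - 1 = k + 3 := by omega
  have e2 : k + 4 - 2 = k + 2 := by omega
  rw [e1, e2]
  have h : 4 * (k + 3) ≤ p ^ (k + 2) + p ^ (k + 1) := by
    calc 4 * (k + 3) ≤ 3 ^ (k + 2) + 3 ^ (k + 1) := aux_three k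
      _ ≤ p ^ (k + 2) + p ^ (k + 1) :=
        Nat.add_le_add (Nat.pow_le_pow_left hp _) (Nat.pow_le_pow_left hp _)
  calc 4 * p * (k + 3) = p * (4 * (k + 3)) := by ring
    _ ≤ p * (p ^ (k + 2) + p ^ (k + 1)) := Nat.mul_le_mul_left _ h
    _ = p ^ (k + 3) + p ^ (k + 2) := by ring

/-- `p ^ clog p E ≤ p * (E - 1)` for `E ≥ 2`. -/
theorem pow_clog_le_mul (p E : ℕ) (hp : 2 ≤ p) (hE : 2 ≤ E) : p ^ Nat.clog p E ≤ p * (E - 1) := by
  have h1 := Nat.pow_pred_clog_lt_self (by omega : 1 < p) (by omega : 1 < E)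
  have hpos : 0 < Nat.clog p E := Nat.clog_pos (by omega) (by omega)
  obtain ⟨j, hj⟩ : ∃ j, Nat.clog p E = j + 1 := ⟨Nat.clog p E - 1, by omega⟩
  rw [hj] at h1 ⊢
  rw [Nat.pred_succ] at h1
  rw [pow_succ, mul_comm]
  exact Nat.mul_le_mul_left _ (by omega)

end UNUM

/-- UNUM (pure arithmetic). -/
theorem unum (p f d N₀ : ℕ) (hp : p.Prime) (hf : 1 ≤ f) (h2 : 2 ∣ f) (hd : 3 ≤ d)
    (hexc : ¬ (d = 3 ∧ p ^ f = 4))
    (hN : (p ^ (f / 2) - 1) * N₀ ≤ (p ^ (f / 2)) ^ (d + 1)) :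
    2 * (p ^ f - 1) * N₀ ≤ (p ^ f) ^ d - 1 := by
  obtain ⟨g, rfl⟩ := h2
  have hg : 1 ≤ g := by omega
  have e : 2 * g / 2 = g := by omega
  rw [e] at hN
  have hpf : p ^ (2 * g) = (p ^ g) ^ 2 := by rw [mul_comm, pow_mul]
  rw [hpf] at hexc ⊢
  have hq0 : 2 ≤ p ^ g := by
    calc 2 ≤ p := hp.two_le
      _ = p ^ 1 := (pow_one p).symm
      _ ≤ p ^ g := Nat.pow_le_pow_right hp.pos hg
  obtain ⟨k, hk⟩ : ∃ k, p ^ g = k + 2 := ⟨p ^ g - 2, by omega⟩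
  rw [hk] at hN hexc ⊢
  have e1 : k + 2 - 1 = k + 1 := by omega
  rw [e1] at hN
  have e2 : (k + 2) ^ 2 - 1 = (k + 1) * (k + 3) := by
    have : (k + 2) ^ 2 = (k + 1) * (k + 3) + 1 := by ring
    omega
  rw [e2]
  -- B = (k+2)^(d-1) ≥ 2k+7
  have hB : 2 * k + 7 ≤ (k + 2) ^ (d - 1) := by
    by_cases hd3 : d = 3
    · subst hd3
      have hk1 : 1 ≤ k := by
        by_contra hcon
        have hk0 : k = 0 := by omega
        apply hexc
        refine ⟨rfl, ?_⟩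
        rw [hk0]
        norm_num
      norm_num
      nlinarith
    · have hd4 : 3 ≤ d - 1 := by omega
      calc 2 * k + 7 ≤ (k + 2) ^ 3 := by nlinarith
        _ ≤ (k + 2) ^ (d - 1) := Nat.pow_le_pow_right (by omega) hd4
  have hA : 1 ≤ (k + 2) ^ (d + 1) := Nat.one_le_pow _ _ (by omega)
  have hpow : ((k + 2) ^ 2) ^ d = (k + 2) ^ (d + 1) * (k + 2) ^ (d - 1) := by
    rw [← pow_mul, ← pow_add]
    congr 1
    omega
  rw [hpow]
  have h3 : 2 * ((k + 1) * (k + 3)) * N₀ ≤ 2 * (k + 3) * (k + 2) ^ (d + 1) := by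
    calc 2 * ((k + 1) * (k + 3)) * N₀ = 2 * (k + 3) * ((k + 1) * N₀) := by ring
      _ ≤ 2 * (k + 3) * (k + 2) ^ (d + 1) := Nat.mul_le_mul_left _ hN
  have h4 : 2 * (k + 3) * (k + 2) ^ (d + 1) + 1 ≤ (k + 2) ^ (d + 1) * (k + 2) ^ (d - 1) := by
    calc 2 * (k + 3) * (k + 2) ^ (d + 1) + 1 ≤ (k + 2) ^ (d + 1) * (2 * k + 7) := by nlinarith
      _ ≤ (k + 2) ^ (d + 1) * (k + 2) ^ (d - 1) := Nat.mul_le_mul_left _ hB
  omega

/-- GNUMU (pure arithmetic). -/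
theorem gnum_u (p f q d E L : ℕ) (hp : p.Prime) (hq : q = p ^ f) (hf : 1 ≤ f) (hd : 3 ≤ d)
    (hexc : ¬ (d = 3 ∧ q = 2)) (hE : 1 ≤ E) (hEd : E ≤ d) (hL : L ∣ 2) (hL2 : p = 2 → L = 1) :
    2 * (q - 1) * (p ^ Nat.clog p E * L) ≤ q ^ d - 1 := by
  have hp2 := hp.two_le
  have hpq : p ≤ q := by
    rw [hq]
    calc p = p ^ 1 := (pow_one p).symm
      _ ≤ p ^ f := Nat.pow_le_pow_right (by omega) hf
  have hLle : L ≤ 2 := Nat.le_of_dvd (by norm_num) hL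
  set T := q ^ (d - 1) + q ^ (d - 2) with hT
  have hmain : (q - 1) * T ≤ q ^ d - 1 := UNUM.pred_mul_le q d (by omega) (by omega)
  -- it suffices to show `2 * P * L ≤ T`
  suffices h : 2 * (p ^ Nat.clog p E * L) ≤ T by
    calc 2 * (q - 1) * (p ^ Nat.clog p E * L) = (q - 1) * (2 * (p ^ Nat.clog p E * L)) := by ring
      _ ≤ (q - 1) * T := Nat.mul_le_mul_left _ h
      _ ≤ q ^ d - 1 := hmain
  have hTq : q ^ 2 + q ≤ T := by
    rw [hT]
    apply Nat.add_le_add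
    · exact Nat.pow_le_pow_right (by omega) (by omega)
    · calc q = q ^ 1 := (pow_one q).symm
        _ ≤ q ^ (d - 2) := Nat.pow_le_pow_right (by omega) (by omega)
  -- the case `E = 1`
  by_cases hE1 : E = 1
  · subst hE1
    have hc : Nat.clog p 1 = 0 := Nat.clog_one_right p
    rw [hc, pow_zero, one_mul]
    have : 2 * 2 ≤ q ^ 2 + q := by nlinarith
    omega
  have hE2 : 2 ≤ E := by omega
  have hP := UNUM.pow_clog_le_mul p E hp2 hE2
  by_cases hp2' : p = 2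
  · have hL1 := hL2 hp2'
    rw [hL1, mul_one]
    by_cases hd3 : d = 3
    · -- `q ≥ 4`, `P ≤ 4`
      have hq4 : 4 ≤ q := by
        have hf2 : 2 ≤ f := by
          by_contra hcon
          have hf1 : f = 1 := by omega
          apply hexc
          refine ⟨hd3, ?_⟩
          rw [hq, hf1, hp2']
          norm_num
        rw [hq, hp2']
        calc 4 = 2 ^ 2 := by norm_num
          _ ≤ 2 ^ f := Nat.pow_le_pow_right (by norm_num) hf2
      have hP4 : p ^ Nat.clog p E ≤ 4 := by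
        calc p ^ Nat.clog p E ≤ p * (E - 1) := hP
          _ ≤ 2 * 2 := by rw [hp2']; apply Nat.mul_le_mul_left; omega
      have : 20 ≤ q ^ 2 + q := by nlinarith
      omega
    · have hd4 : 4 ≤ d := by omega
      have h1 := UNUM.four_mul_pred_le q d (by omega) hd4
      have h2 : p ^ Nat.clog p E ≤ 2 * (d - 1) := by
        calc p ^ Nat.clog p E ≤ p * (E - 1) := hP
          _ ≤ 2 * (d - 1) := by rw [hp2']; apply Nat.mul_le_mul_left; omega
      omega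
  · have hp3 : 3 ≤ p := by omega
    by_cases hEp : E ≤ p
    · have h1 : p ^ Nat.clog p E ≤ p := by
        have := Nat.clog_le_of_le_pow (b := p) (x := E) (y := 1) (by simpa using hEp)
        calc p ^ Nat.clog p E ≤ p ^ 1 := Nat.pow_le_pow_right (by omega) this
          _ = p := pow_one p
      have h2 : p ^ Nat.clog p E * L ≤ q * 2 := Nat.mul_le_mul (le_trans h1 hpq) hLle
      have h3 : 4 * q ≤ q ^ 2 + q := by nlinarith
      omega
    · have hd4 : 4 ≤ d := by omega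
      have h1 := UNUM.four_mul_mul_pred_le p d hp3 hd4
      have h2 : p ^ (d - 1) + p ^ (d - 2) ≤ T := by
        rw [hT]
        exact Nat.add_le_add (Nat.pow_le_pow_left hpq _) (Nat.pow_le_pow_left hpq _)
      have h3 : p ^ Nat.clog p E * L ≤ p * (d - 1) * 2 := by
        apply Nat.mul_le_mul _ hLle
        calc p ^ Nat.clog p E ≤ p * (E - 1) := hP
          _ ≤ p * (d - 1) := by apply Nat.mul_le_mul_left; omega
      have h4 : 2 * (p * (d - 1) * 2) = 4 * p * (d - 1) := by ring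
      omega

end Cfsg.Agent.S2262P
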