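import Mathlib
import Cfsg.Agent.Helper13.S2276Defs
import Cfsg.Agent.Helper25.S2276GLUEALG
import Cfsg.Agent.Helper25.S2276GLUECT
import Cfsg.Agent.Helper4.S2276EVEN2
import Cfsg.Agent.Helper4.S2276NS3
import Cfsg.Agent.Helper18.S2276TAIL

/-! # S2276 piece P3W3 (helper10): `p = 3`-type models with `j ≥ 3` parts `3`: window gadget on `Fin 9` + tail. -/

set_option autoImplicit false

namespace Cfsg.Agent.S2276P

open Equiv Equiv.Perm

namespace P3W3

/-- the window gadget `(0 8 5)(1 4 7)(2 6 3)` on `Fin 9` -/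
def x9 : Perm (Fin (8 + 1)) :=
  (swap 8 0 * swap 8 5) * (swap 4 1 * swap 4 7) * (swap 6 2 * swap 6 3)

theorem g_zero : (finRotate (8 + 1) * x9) 0 = 0 := by decide

theorem g_one : (finRotate (8 + 1) * x9) 1 = 5 := by decide

theorem g_five : (finRotate (8 + 1) * x9) 5 = 1 := by decide

set_option maxRecDepth 100000 in
theorem g_pow_six : (finRotate (8 + 1) * x9) ^ 6 = 1 := by decide

set_option maxRecDepth 100000 in
theorem g_pow_three : (finRotate (8 + 1) * x9) ^ 3 = swap 1 5 * swap 2 7 := by decide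

set_option maxRecDepth 100000 in
theorem y_pow_four :
    (swap (1 : Fin (8 + 1)) 5 * swap 2 7 * (swap 2 6 * swap 3 8)) ^ 4 = swap 7 6 * swap 7 2 := by
  decide

theorem x9_cycleType : x9.cycleType = Multiset.replicate 3 3 := by
  have h1 : (swap (8 : Fin (8 + 1)) 0 * swap 8 5).IsThreeCycle :=
    isThreeCycle_swap_mul_swap_same (by decide) (by decide) (by decide)
  have h2 : (swap (4 : Fin (8 + 1)) 1 * swap 4 7).IsThreeCycle :=
    isThreeCycle_swap_mul_swap_same (by decide) (by decide) (by decide)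
  have h3 : (swap (6 : Fin (8 + 1)) 2 * swap 6 3).IsThreeCycle :=
    isThreeCycle_swap_mul_swap_same (by decide) (by decide) (by decide)
  have d12 : Perm.Disjoint (swap (8 : Fin (8 + 1)) 0 * swap 8 5) (swap 4 1 * swap 4 7) := by
    intro i; fin_cases i <;> decide
  have d123 : Perm.Disjoint ((swap (8 : Fin (8 + 1)) 0 * swap 8 5) * (swap 4 1 * swap 4 7))
      (swap 6 2 * swap 6 3) := by
    intro i; fin_cases i <;> decide
  unfold x9
  rw [Equiv.Perm.Disjoint.cycleType_mul d123, Equiv.Perm.Disjoint.cycleType_mul d12, h1.cycleType, h2.cycleType,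
    h3.cycleType]
  rfl

/-- the rotation inside the window -/
theorem rot_castAdd (t k : ℕ) (hk : k < 8) :
    finRotate (8 + 1 + (t + 1)) (Fin.castAdd (t + 1) (⟨k, by omega⟩ : Fin (8 + 1))) =
      Fin.castAdd (t + 1) (⟨k + 1, by omega⟩ : Fin (8 + 1)) :=
  finRotate_of_lt (n := 8 + 1 + t) (k := k) (by omega)

/-- conjugating a swap -/
theorem conj_swap {α : Type*} [DecidableEq α] (σ : Perm α) (a b : α) :
    σ * swap a b * σ⁻¹ = swap (σ a) (σ b) :=
  (Equiv.swap_apply_apply σ a b).symm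

end P3W3

/-- P3W3 [M-L]: `j ≥ 3`: window gadget `x = (0 8 5)(1 4 7)(2 6 3)` on `Fin 9`
(`![8,4,6,2,7,0,3,1,5]`), `g = c x = (1 5)(2 7)(4 8 6)`, `g 0 = 0`; TAIL with
`m = replicate (j-3) 3`; `c v` swaps `1, 5` (EVEN2); `ι = (c v) ^ (3 N) = (1 5)(2 7)`,
`tt = ι * (c ι c⁻¹) = (1 5)(2 7)(2 6)(3 8) = (1 5)(3 8)(2 6 7)`, `tt ^ 4 = (2 6 7)` is a 3-cycle (NS3,
`6 ↦ 7`, `d = 1`). -/
theorem P3W3.main (t : ℕ) (ht : Odd t) {p : ℕ} (hp : p.Prime) (hp2 : p ≠ 2) (j : ℕ) (hj : 3 ≤ j)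
    (hsum : 3 * j ≤ 9 + (t + 1)) :
    ∃ v : Perm (Fin (8 + 1 + (t + 1))), v.cycleType = Multiset.replicate j 3 ∧
      Good p (finRotate (8 + 1 + (t + 1))) v := by
  -- the tail
  have hm : ∀ y ∈ Multiset.replicate (j - 3) 3, Odd y ∧ 3 ≤ y := by
    intro y hy
    rw [Multiset.eq_of_mem_replicate hy]
    exact ⟨by decide, le_refl 3⟩
  have hsum' : (Multiset.replicate (j - 3) 3).sum ≤ t + 1 := by
    rw [Multiset.sum_replicate, smul_eq_mul]
    omega
  obtain ⟨b, N, hb, hN, hpow, hact⟩ := TAIL.main 8 t ht P3W3.x9 P3W3.g_zero _ hm hsum'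
  set C : Perm (Fin (8 + 1 + (t + 1))) := finRotate (8 + 1 + (t + 1)) with hC
  set v : Perm (Fin (8 + 1 + (t + 1))) := glue P3W3.x9 b with hv
  refine ⟨v, ?_, ?_, ?_⟩
  · rw [hv, GLUECT.main, hb, P3W3.x9_cycleType, ← Multiset.replicate_add]
    congr 1
    omega
  · -- `C * v` swaps the points `1` and `5` of the window
    have h1 := hact 1 (by decide)
    have h5 := hact 5 (by decide)
    rw [P3W3.g_one] at h1
    rw [P3W3.g_five] at h5
    refine EVEN2.main hp hp2 (C * v) (x := Fin.castAdd (t + 1) (1 : Fin (8 + 1)))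
      (y := Fin.castAdd (t + 1) (5 : Fin (8 + 1))) ?_ h1 h5
    intro hh
    have := Fin.castAdd_injective _ _ hh
    revert this
    decide
  · -- non-solvability
    set Kc : Subgroup (Perm (Fin (8 + 1 + (t + 1)))) := Subgroup.closure ({C, v} : Set _) with hK
    have hCK : C ∈ Kc := Subgroup.subset_closure (by simp)
    have hvK : v ∈ Kc := Subgroup.subset_closure (by simp)
    have hr : Odd (8 + 1 + (t + 1)) := by
      obtain ⟨k, hk⟩ := ht
      exact ⟨k + 5, by omega⟩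
    -- the points of the window
    set A : Fin (8 + 1) → Fin (8 + 1 + (t + 1)) := Fin.castAdd (t + 1) with hA
    have hAinj : Function.Injective A := Fin.castAdd_injective _ _
    -- `ι`
    have hι : glue ((finRotate (8 + 1) * P3W3.x9) ^ 3) (1 : Perm (Fin (t + 1))) ∈ Kc := by
      have h3N : (C * v) ^ (3 * N) ∈ Kc := Subgroup.pow_mem _ (Subgroup.mul_mem _ hCK hvK) _
      have hg3N : (finRotate (8 + 1) * P3W3.x9) ^ (N * 3) = (finRotate (8 + 1) * P3W3.x9) ^ 3 := by
        obtain ⟨k, hk⟩ := hN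
        rw [hk, show (2 * k + 1) * 3 = 6 * k + 3 by ring, pow_add, pow_mul, P3W3.g_pow_six, one_pow,
          one_mul]
      have e1 : (C * v) ^ (3 * N) = glue ((finRotate (8 + 1) * P3W3.x9) ^ 3) (1 : Perm (Fin (t + 1))) := by
        rw [mul_comm 3 N, pow_mul, hpow, GLUEALG.pow, one_pow, ← pow_mul, hg3N]
      rwa [e1] at h3N
    rw [P3W3.g_pow_three] at hι
    have hιeq : glue (swap (1 : Fin (8 + 1)) 5 * swap 2 7) (1 : Perm (Fin (t + 1))) =
        swap (A 1) (A 5) * swap (A 2) (A 7) := by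
      have : (1 : Perm (Fin (t + 1))) = 1 * 1 := (one_mul 1).symm
      rw [this, GLUEALG.mul, GLUEALG.swap_left, GLUEALG.swap_left]
    rw [hιeq] at hι
    -- its conjugate
    have hc1 : C (A 1) = A 2 := P3W3.rot_castAdd t 1 (by omega)
    have hc5 : C (A 5) = A 6 := P3W3.rot_castAdd t 5 (by omega)
    have hc2 : C (A 2) = A 3 := P3W3.rot_castAdd t 2 (by omega)
    have hc7 : C (A 7) = A 8 := P3W3.rot_castAdd t 7 (by omega)
    have hι' : swap (A 2) (A 6) * swap (A 3) (A 8) ∈ Kc := by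
      have := Subgroup.mul_mem _ (Subgroup.mul_mem _ hCK hι) (Subgroup.inv_mem _ hCK)
      have e2 : C * (swap (A 1) (A 5) * swap (A 2) (A 7)) * C⁻¹ =
          (C * swap (A 1) (A 5) * C⁻¹) * (C * swap (A 2) (A 7) * C⁻¹) := by group
      rwa [e2, P3W3.conj_swap, P3W3.conj_swap, hc1, hc5, hc2, hc7] at this
    -- the 3-cycle
    have htt : (swap (A 1) (A 5) * swap (A 2) (A 7) * (swap (A 2) (A 6) * swap (A 3) (A 8))) ^ 4 ∈ Kc :=
      Subgroup.pow_mem _ (Subgroup.mul_mem _ hι hι') _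
    have e3 : (swap (A 1) (A 5) * swap (A 2) (A 7) * (swap (A 2) (A 6) * swap (A 3) (A 8))) ^ 4 =
        swap (A 7) (A 6) * swap (A 7) (A 2) := by
      have e4 : swap (A 1) (A 5) * swap (A 2) (A 7) * (swap (A 2) (A 6) * swap (A 3) (A 8)) =
          glue (swap (1 : Fin (8 + 1)) 5 * swap 2 7 * (swap 2 6 * swap 3 8)) (1 : Perm (Fin (t + 1))) := by
        have : (1 : Perm (Fin (t + 1))) = 1 * 1 * (1 * 1) := by simp
        rw [this, GLUEALG.mul, GLUEALG.mul, GLUEALG.mul, GLUEALG.swap_left, GLUEALG.swap_left,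
          GLUEALG.swap_left, GLUEALG.swap_left]
      have : (1 : Perm (Fin (t + 1))) = 1 * 1 := (one_mul 1).symm
      rw [e4, GLUEALG.pow, one_pow, P3W3.y_pow_four, this, GLUEALG.mul, GLUEALG.swap_left,
        GLUEALG.swap_left]
    rw [e3] at htt
    have h76 : A 7 ≠ A 6 := fun hh => absurd (hAinj hh) (by decide)
    have h72 : A 7 ≠ A 2 := fun hh => absurd (hAinj hh) (by decide)
    have h62 : A 6 ≠ A 2 := fun hh => absurd (hAinj hh) (by decide)
    have h3c : (swap (A 7) (A 6) * swap (A 7) (A 2)).IsThreeCycle :=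
      isThreeCycle_swap_mul_swap_same h76 h72 h62
    have hc6 : C (A 6) = A 7 := P3W3.rot_castAdd t 6 (by omega)
    refine NS3.main hr (by omega) Kc hCK htt h3c (x := A 6) (d := 1) (Nat.coprime_one_left _) ?_
    rw [pow_one, hc6, Perm.mul_apply, swap_apply_of_ne_of_ne h76.symm h62, swap_apply_right]

end Cfsg.Agent.S2276P
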