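import Mathlib

/-!
# S2481 Hermitian chapter (driver helper7): piece FUNREP
-/

set_option autoImplicit false

namespace Cfsg.Agent.S2481P

open Polynomial

namespace FUNREP

theorem funrep {F : Type*} [Field F] (f : F[X]) (hf : f.Monic) (τ τ' : F[X] →ₗ[F] F)
    (hτ : ∀ a, τ (f * a) = 0) (hτ' : ∀ a, τ' (f * a) = 0)
    (hnd : ∀ a, ¬ f ∣ a → ∃ b, τ (a * b) ≠ 0) :
    ∃ s : F[X], ∀ c, τ' c = τ (s * c) := by
  classical
  set d := f.natDegree with hd
  -- reduction modulo `f`
  have hred : ∀ (σ : F[X] →ₗ[F] F), (∀ a, σ (f * a) = 0) → ∀ s c : F[X],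
      σ (s * c) = σ (s * (c %ₘ f)) := by
    intro σ hσ s c
    have h1 : c = c %ₘ f + f * (c /ₘ f) := (modByMonic_add_div c f).symm
    have h2 : s * c = s * (c %ₘ f) + f * (s * (c /ₘ f)) := by
      nth_rewrite 1 [h1]
      ring
    rw [h2, map_add, hσ, add_zero]
  have hmem : ∀ c : F[X], c %ₘ f ∈ degreeLT F d := by
    intro c
    rw [mem_degreeLT]
    have h1 := degree_modByMonic_lt c hf
    rwa [degree_eq_natDegree hf.ne_zero] at h1
  -- the map `s ↦ τ (s * ·)` from `degreeLT F d` to its dual
  let Φ : degreeLT F d →ₗ[F] Module.Dual F (degreeLT F d) :=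
    { toFun := fun s =>
        { toFun := fun c => τ ((s : F[X]) * (c : F[X]))
          map_add' := by
            intro x y
            simp only [Submodule.coe_add, mul_add, map_add]
          map_smul' := by
            intro r x
            simp only [Submodule.coe_smul, mul_smul_comm, map_smul, RingHom.id_apply] }
      map_add' := by
        intro x y
        ext c
        simp only [Submodule.coe_add, add_mul, map_add, LinearMap.coe_mk, AddHom.coe_mk,
          LinearMap.add_apply]
      map_smul' := by
        intro r x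
        ext c
        simp only [Submodule.coe_smul, smul_mul_assoc, map_smul, LinearMap.coe_mk, AddHom.coe_mk,
          LinearMap.smul_apply, RingHom.id_apply] }
  have hΦ : ∀ (s c : degreeLT F d), Φ s c = τ ((s : F[X]) * (c : F[X])) := fun _ _ => rfl
  have hinj : Function.Injective Φ := by
    rw [← LinearMap.ker_eq_bot, LinearMap.ker_eq_bot']
    intro s hs
    by_contra hs0
    have hs0' : (s : F[X]) ≠ 0 := fun h => hs0 (Subtype.ext h)
    have hnf : ¬ f ∣ (s : F[X]) := by
      intro hdvd
      have h1 := degree_le_of_dvd hdvd hs0'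
      have h2 := (mem_degreeLT.1 s.2)
      rw [degree_eq_natDegree hf.ne_zero] at h1
      exact absurd (lt_of_le_of_lt h1 h2) (lt_irrefl _)
    obtain ⟨b, hb⟩ := hnd _ hnf
    apply hb
    rw [hred τ hτ]
    have := congrArg (fun φ : Module.Dual F (degreeLT F d) => φ ⟨b %ₘ f, hmem b⟩) hs
    simpa [hΦ] using this
  have hsurj : Function.Surjective Φ := by
    have hfin : Module.finrank F (degreeLT F d) = Module.finrank F (Module.Dual F (degreeLT F d)) :=
      (Subspace.dual_finrank_eq).symm
    exact (LinearMap.injective_iff_surjective_of_finrank_eq_finrank hfin).1 hinj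
  -- the restriction of `τ'`
  let ψ : Module.Dual F (degreeLT F d) := τ'.comp (degreeLT F d).subtype
  obtain ⟨s, hs⟩ := hsurj ψ
  refine ⟨(s : F[X]), ?_⟩
  intro c
  have h1 : τ' c = τ' (c %ₘ f) := by
    have := hred τ' hτ' 1 c
    simpa using this
  rw [h1, hred τ hτ]
  have := congrArg (fun φ : Module.Dual F (degreeLT F d) => φ ⟨c %ₘ f, hmem c⟩) hs
  simp only [hΦ] at this
  rw [this]
  rfl

end FUNREP

end Cfsg.Agent.S2481P
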