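import Mathlib
import Cfsg.Agent.Helper14.S2481.Defs

/-!
# S2481 (driver helper14): piece KDUNIT

`kd g (tilde σ r) k = kd g r k` for a unitary matrix `g`.
-/

set_option autoImplicit false
set_option linter.unusedVariables false

namespace Cfsg.Agent.S2481P

open Polynomial Matrix

universe u

namespace KDUNIT

variable {F : Type u} [Field F]

theorem ct_zero' (σ : F →+* F) {m n : Type*} : ct σ (0 : Matrix m n F) = 0 := by
  ext i j
  simp [ct_apply]

theorem ct_add' (σ : F →+* F) {m n : Type*} (M N : Matrix m n F) :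
    ct σ (M + N) = ct σ M + ct σ N := by
  ext i j
  simp [ct_apply]

theorem ct_smul' (σ : F →+* F) {m n : Type*} (c : F) (M : Matrix m n F) :
    ct σ (c • M) = σ c • ct σ M := by
  ext i j
  simp [ct_apply]

theorem ct_pow' (σ : F →+* F) {n : Type*} [Fintype n] [DecidableEq n] (M : Matrix n n F) (k : ℕ) :
    ct σ (M ^ k) = ct σ M ^ k := by
  induction k with
  | zero => rw [pow_zero, pow_zero, ct_one]
  | succ k ih => rw [pow_succ, ct_mul, ih, pow_succ']

/-- the key formula -/
theorem aeval_reflect {σ : F →+* F} {n : ℕ} {g : Matrix (Fin n) (Fin n) F} (hg : IsU σ g)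
    (N : ℕ) (f : F[X]) (hf : f.natDegree ≤ N) :
    aeval g (reflect N (f.map σ)) = g ^ N * ct σ (aeval g f) := by
  have hg' : g * ct σ g = 1 := hg.mul_ct
  have hpow : ∀ i : ℕ, g ^ i * ct σ g ^ i = 1 := by
    intro i
    have hc : Commute g (ct σ g) := by
      unfold Commute SemiconjBy
      rw [hg']
      exact hg.symm
    rw [← hc.mul_pow, hg', one_pow]
  refine Polynomial.induction_with_natDegree_le
    (fun f => aeval g (reflect N (f.map σ)) = g ^ N * ct σ (aeval g f)) N ?_ ?_ ?_ f hf
  · simp [ct_zero']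
  · intro i r _ hi
    rw [Polynomial.map_mul, Polynomial.map_pow, map_C, map_X, reflect_C_mul_X_pow, revAt_le hi]
    rw [map_mul, map_mul, aeval_C, aeval_C, map_pow, map_pow, aeval_X]
    rw [Algebra.algebraMap_eq_smul_one, Algebra.algebraMap_eq_smul_one, smul_mul_assoc, one_mul,
      smul_mul_assoc, one_mul, ct_smul', ct_pow', mul_smul_comm]
    congr 1
    have h1 : g ^ N = g ^ (N - i) * g ^ i := by
      rw [← pow_add]
      congr 1
      omega
    rw [h1, mul_assoc, hpow, mul_one]
  · intro f₁ f₂ _ _ h1 h2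
    rw [Polynomial.map_add, reflect_add, map_add, map_add, ct_add', mul_add, h1, h2]

theorem reverse_pow' (f : F[X]) (k : ℕ) : (f ^ k).reverse = f.reverse ^ k := by
  induction k with
  | zero => rw [pow_zero, pow_zero, ← C_1, reverse_C]
  | succ k ih => rw [pow_succ, reverse_mul_of_domain, ih, pow_succ]

theorem tilde_pow_eq (σ : F →+* F) (r : F[X]) (k : ℕ) :
    tilde σ r ^ k = C ((σ (r.coeff 0))⁻¹ ^ k) * ((r ^ k).map σ).reverse := by
  unfold tilde
  rw [mul_pow, ← C_pow, Polynomial.map_pow, reverse_pow']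

theorem aeval_tilde_pow {σ : F →+* F} {n : ℕ} {g : Matrix (Fin n) (Fin n) F} (hg : IsU σ g)
    (r : F[X]) (k : ℕ) :
    aeval g (tilde σ r ^ k) =
      ((σ (r.coeff 0))⁻¹ ^ k) • (g ^ (r ^ k).natDegree * ct σ (aeval g (r ^ k))) := by
  rw [tilde_pow_eq, map_mul, aeval_C, Algebra.algebraMap_eq_smul_one, smul_mul_assoc, one_mul]
  congr 1
  unfold reverse
  rw [natDegree_map_eq_of_injective σ.injective]
  exact aeval_reflect hg _ _ le_rfl

/-- kernel of `c • (U * A)` with `c ≠ 0` and `U` invertible -/
theorem ker_smul_mul {n : ℕ} (c : F) (hc : c ≠ 0) (U U' A : Matrix (Fin n) (Fin n) F)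
    (hU : U' * U = 1) :
    LinearMap.ker (Matrix.toLin' (c • (U * A))) = LinearMap.ker (Matrix.toLin' A) := by
  ext v
  simp only [LinearMap.mem_ker, Matrix.toLin'_apply]
  constructor
  · intro h
    rw [Matrix.smul_mulVec, ← Matrix.mulVec_mulVec] at h
    have h1 : U *ᵥ (A *ᵥ v) = 0 := by
      rcases smul_eq_zero.1 h with h | h
      · exact absurd h hc
      · exact h
    have h2 : U' *ᵥ (U *ᵥ (A *ᵥ v)) = 0 := by rw [h1, Matrix.mulVec_zero]
    rwa [Matrix.mulVec_mulVec, hU, Matrix.one_mulVec] at h2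
  · intro h
    rw [Matrix.smul_mulVec, ← Matrix.mulVec_mulVec, h, Matrix.mulVec_zero, smul_zero]

theorem finrank_ker_add_rank {n : ℕ} (A : Matrix (Fin n) (Fin n) F) :
    Module.finrank F (LinearMap.ker (Matrix.toLin' A)) + A.rank = n := by
  have h := LinearMap.finrank_range_add_finrank_ker (Matrix.toLin' A)
  rw [Module.finrank_fintype_fun_eq_card, Fintype.card_fin] at h
  have h2 : A.rank = Module.finrank F (LinearMap.range (Matrix.toLin' A)) := by
    rw [Matrix.rank, Matrix.toLin'_apply']
  omega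

/-- applying a field involution to a matrix does not change the size of the kernel -/
theorem finrank_ker_map [Finite F] {σ : F →+* F} (hσ : IsInvol σ) {n : ℕ}
    (A : Matrix (Fin n) (Fin n) F) :
    Module.finrank F (LinearMap.ker (Matrix.toLin' (A.map σ))) =
      Module.finrank F (LinearMap.ker (Matrix.toLin' A)) := by
  have hmm : (A.map σ).map σ = A := by
    ext i j
    simp [hσ.sq]
  have key : ∀ B : Matrix (Fin n) (Fin n) F, ∀ v : Fin n → F, B *ᵥ v = 0 →
      (B.map σ) *ᵥ (σ ∘ v) = 0 := by
    intro B v hv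
    ext i
    rw [← RingHom.map_mulVec, hv]
    simp
  have e : LinearMap.ker (Matrix.toLin' A) ≃ LinearMap.ker (Matrix.toLin' (A.map σ)) :=
    { toFun := fun v => ⟨σ ∘ (v : Fin n → F), by
        rw [LinearMap.mem_ker, Matrix.toLin'_apply]
        apply key
        have := v.2
        rwa [LinearMap.mem_ker, Matrix.toLin'_apply] at this⟩
      invFun := fun w => ⟨σ ∘ (w : Fin n → F), by
        rw [LinearMap.mem_ker, Matrix.toLin'_apply]
        have h1 := key (A.map σ) (w : Fin n → F) (by
          have := w.2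
          rwa [LinearMap.mem_ker, Matrix.toLin'_apply] at this)
        rwa [hmm] at h1⟩
      left_inv := by
        intro v
        apply Subtype.ext
        funext i
        simp [hσ.sq]
      right_inv := by
        intro v
        apply Subtype.ext
        funext i
        simp [hσ.sq] }
  have hc := Nat.card_congr e
  rw [Module.natCard_eq_pow_finrank (K := F) (V := LinearMap.ker (Matrix.toLin' A)),
    Module.natCard_eq_pow_finrank (K := F) (V := LinearMap.ker (Matrix.toLin' (A.map σ)))] at hc
  have h2 : 2 ≤ Nat.card F := by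
    have : 1 < Nat.card F := Finite.one_lt_card
    omega
  exact (Nat.pow_right_injective h2 hc).symm

theorem finrank_ker_ct [Finite F] {σ : F →+* F} (hσ : IsInvol σ) {n : ℕ}
    (A : Matrix (Fin n) (Fin n) F) :
    Module.finrank F (LinearMap.ker (Matrix.toLin' (ct σ A))) =
      Module.finrank F (LinearMap.ker (Matrix.toLin' A)) := by
  have h1 := finrank_ker_add_rank (ct σ A)
  have h2 := finrank_ker_add_rank (A.map σ)
  have h3 : (ct σ A).rank = (A.map σ).rank := by
    unfold ct
    rw [Matrix.rank_transpose]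
  rw [← finrank_ker_map hσ A]
  omega

theorem aeval_toLin' {n : ℕ} (g : Matrix (Fin n) (Fin n) F) (p : F[X]) :
    aeval (Matrix.toLin' g) p = Matrix.toLin' (aeval g p) := by
  have := Polynomial.aeval_algHom_apply (Matrix.toLinAlgEquiv' (R := F) (n := Fin n)) g p
  exact this

end KDUNIT

open KDUNIT in
theorem kd_tilde {F : Type u} [Field F] [Finite F] {σ : F →+* F} (hσ : IsInvol σ) {n : ℕ}
    {g : Matrix (Fin n) (Fin n) F}
    (hg : IsU σ g) {r : F[X]} (hr : r.Monic) (hr0 : r.coeff 0 ≠ 0) (k : ℕ) :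
    kd g (tilde σ r) k = kd g r k := by
  unfold kd
  rw [aeval_toLin', aeval_toLin', aeval_tilde_pow hg]
  have hc : (σ (r.coeff 0))⁻¹ ^ k ≠ 0 := by
    apply pow_ne_zero
    apply inv_ne_zero
    intro h
    exact hr0 ((map_eq_zero σ).1 h)
  rw [ker_smul_mul _ hc (g ^ (r ^ k).natDegree) (ct σ g ^ (r ^ k).natDegree) _ ?_]
  · exact finrank_ker_ct hσ _
  · have hc2 : Commute (ct σ g) g := by
      unfold Commute SemiconjBy
      rw [hg.mul_ct]
      exact hg
    rw [← hc2.mul_pow]
    have : ct σ g * g = 1 := hg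
    rw [this, one_pow]

end Cfsg.Agent.S2481P
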