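import Mathlib

/-!
# S2481 Hermitian chapter (driver helper7): piece MAXEXP
-/

set_option autoImplicit false

namespace Cfsg.Agent.S2481P

open Polynomial

namespace MAXEXP

variable {F : Type*} [Field F] {n : ℕ}

/-- `aeval` of a restricted endomorphism -/
theorem aeval_restrict {V : Type*} [AddCommGroup V] [Module F V] (g : Module.End F V)
    (W : Submodule F V) (hinv : ∀ x ∈ W, g x ∈ W) (a : F[X]) (w : W) :
    ((aeval (g.restrict hinv) a) w : V) = aeval g a (w : V) := by
  induction a using Polynomial.induction_on generalizing w with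
  | C c => simp [Algebra.algebraMap_eq_smul_one]
  | add p q hp hq => simp [hp, hq]
  | monomial k c ih =>
    have e1 : aeval (g.restrict hinv) (C c * X ^ (k + 1)) =
        aeval (g.restrict hinv) (C c * X ^ k) * g.restrict hinv := by
      rw [pow_succ, ← mul_assoc, map_mul, aeval_X]
    have e2 : aeval g (C c * X ^ (k + 1)) = aeval g (C c * X ^ k) * g := by
      rw [pow_succ, ← mul_assoc, map_mul, aeval_X]
    rw [e1, e2, Module.End.mul_apply, Module.End.mul_apply, ih]
    rfl

theorem exists_max_exponent (N : ℕ) (hN : 0 < N) (g : Module.End F (Fin n → F))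
    (hgN : g ^ N = 1) (W : Submodule F (Fin n → F)) (hW : W ≠ ⊥) (hinv : ∀ x ∈ W, g x ∈ W) :
    ∃ (p : F[X]) (e : ℕ), p.Monic ∧ Irreducible p ∧ p ≠ X ∧ 1 ≤ e ∧
      (∃ u ∈ W, aeval g (p ^ e) u = 0 ∧ aeval g (p ^ (e - 1)) u ≠ 0) ∧
      (∀ r : F[X], r.Monic → Irreducible r → ∀ x ∈ W, ∀ k : ℕ,
        aeval g (r ^ k) x = 0 → aeval g (r ^ e) x = 0) := by
  classical
  obtain ⟨g', hg'⟩ : ∃ g' : Module.End F W, g' = g.restrict hinv := ⟨_, rfl⟩
  have hres : ∀ (a : F[X]) (w : W), ((aeval g' a) w : Fin n → F) = aeval g a (w : Fin n → F) := by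
    intro a w
    rw [hg']
    exact aeval_restrict g W hinv a w
  have hint : IsIntegral F g' := Algebra.IsIntegral.isIntegral g'
  obtain ⟨m, hm⟩ : ∃ m : F[X], m = minpoly F g' := ⟨_, rfl⟩
  have hm0 : m ≠ 0 := hm ▸ minpoly.ne_zero hint
  have hmmonic : m.Monic := hm ▸ minpoly.monic hint
  have : Nontrivial W := Submodule.nontrivial_iff_ne_bot.2 hW
  have hm1 : m ≠ 1 := hm ▸ minpoly.ne_one F g'
  have hmg : ∀ x ∈ W, aeval g m x = 0 := by
    intro x hx
    have h1 := hres m ⟨x, hx⟩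
    have h2 : aeval g' m = 0 := by rw [hm]; exact minpoly.aeval F g'
    rw [h2] at h1
    simpa using h1.symm
  -- the property `P k`
  let P : ℕ → Prop := fun k => ∃ r : F[X], r.Monic ∧ Irreducible r ∧ r ^ k ∣ m
  have hPbound : ∀ k, P k → k ≤ m.natDegree := by
    rintro k ⟨r, hr1, hr2, hr3⟩
    have h1 := natDegree_le_of_dvd hr3 hm0
    rw [natDegree_pow] at h1
    have h2 : 1 ≤ r.natDegree := hr2.natDegree_pos
    nlinarith
  have hP1 : P 1 := by
    have hdeg : m.degree ≠ 0 := by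
      intro h0
      apply hm1
      have := eq_C_of_degree_eq_zero h0
      have hlc : m.leadingCoeff = 1 := hmmonic
      rw [this, leadingCoeff_C] at hlc
      rw [this, hlc, C_1]
    obtain ⟨r, hr1, hr2, hr3⟩ := exists_monic_irreducible_factor m (by
      intro hu
      exact hdeg (degree_eq_zero_of_isUnit hu))
    exact ⟨r, hr1, hr2, by rwa [pow_one]⟩
  obtain ⟨e, he⟩ : ∃ e : ℕ, e = Nat.findGreatest P m.natDegree := ⟨_, rfl⟩
  have hPe : P e := he ▸ Nat.findGreatest_spec (P := P) (hPbound 1 hP1) hP1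
  have hemax : ∀ k, P k → k ≤ e := fun k hk => he ▸ Nat.le_findGreatest (hPbound k hk) hk
  have he1 : 1 ≤ e := hemax 1 hP1
  obtain ⟨p, hp1, hp2, hp3⟩ := hPe
  obtain ⟨m', hm'⟩ := hp3
  have hm'0 : m' ≠ 0 := by
    rintro rfl
    rw [mul_zero] at hm'
    exact hm0 hm'
  have hpm' : ¬ p ∣ m' := by
    intro hd
    have : P (e + 1) := ⟨p, hp1, hp2, by rw [hm', pow_succ]; exact mul_dvd_mul_left _ hd⟩
    have := hemax _ this
    omega
  -- `m ∣ X ^ N - 1`
  have hmX : m ∣ X ^ N - 1 := by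
    rw [hm]
    apply minpoly.dvd
    rw [map_sub, map_pow, aeval_X, map_one, sub_eq_zero]
    apply LinearMap.ext
    intro w
    apply Subtype.ext
    have h1 : ((g' ^ N) w : Fin n → F) = (g ^ N) (w : Fin n → F) := by
      have := hres (X ^ N) w
      simpa using this
    rw [h1, hgN]
    rfl
  refine ⟨p, e, hp1, hp2, ?_, he1, ?_, ?_⟩
  · -- `p ≠ X`
    rintro rfl
    have h1 : (X : F[X]) ∣ X ^ N - 1 :=
      (dvd_trans (dvd_pow_self X (by omega)) ⟨m', hm'⟩).trans hmX
    have h2 : (X : F[X]) ∣ X ^ N := dvd_pow_self X (by omega)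
    have h3 : (X : F[X]) ∣ 1 := by
      have := dvd_sub h2 h1
      simpa using this
    exact not_isUnit_X (isUnit_of_dvd_one h3)
  · -- the vector `u`
    have hne : aeval g' (p ^ (e - 1) * m') ≠ 0 := by
      intro h0
      have hd : m ∣ p ^ (e - 1) * m' := hm ▸ minpoly.dvd F g' h0
      rw [hm'] at hd
      have hpe : p ^ e = p ^ (e - 1) * p := by
        rw [← pow_succ]; congr 1; omega
      rw [hpe, mul_assoc] at hd
      have hd2 : p * m' ∣ m' := (mul_dvd_mul_iff_left (pow_ne_zero _ hp2.ne_zero)).1 (by simpa using hd)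
      have hd3 : p * m' ∣ 1 * m' := by rwa [one_mul]
      have hd4 : p ∣ 1 := (mul_dvd_mul_iff_right hm'0).1 hd3
      exact hp2.not_isUnit (isUnit_of_dvd_one hd4)
    obtain ⟨w, hw⟩ : ∃ w : W, aeval g' (p ^ (e - 1) * m') w ≠ 0 := by
      by_contra hall
      push Not at hall
      apply hne
      apply LinearMap.ext
      intro w
      rw [hall w]
      rfl
    have hw' : aeval g (p ^ (e - 1) * m') (w : Fin n → F) ≠ 0 := by
      intro h0
      apply hw
      apply Subtype.ext
      rw [hres, h0]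
      rfl
    refine ⟨aeval g m' (w : Fin n → F), ?_, ?_, ?_⟩
    · have := hres m' w
      rw [← this]
      exact (aeval g' m' w).2
    · rw [← Module.End.mul_apply, ← map_mul, ← hm']
      exact hmg _ w.2
    · rw [← Module.End.mul_apply, ← map_mul]
      exact hw'
  · -- maximality
    intro r hr1 hr2 x hx k hk
    obtain ⟨dgcd, hdg⟩ : ∃ d : F[X], d = EuclideanDomain.gcd (r ^ k) m := ⟨_, rfl⟩
    have hdx : aeval g dgcd x = 0 := by
      have hb := EuclideanDomain.gcd_eq_gcd_ab (r ^ k) m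
      rw [← hdg] at hb
      rw [hb, map_add, map_mul, map_mul, LinearMap.add_apply, Module.End.mul_apply,
        Module.End.mul_apply]
      have c1 : aeval g (EuclideanDomain.gcdA (r ^ k) m) x ∈ W := by
        have := hres (EuclideanDomain.gcdA (r ^ k) m) ⟨x, hx⟩
        rw [← this]
        exact (aeval g' _ ⟨x, hx⟩).2
      have c2 : aeval g (EuclideanDomain.gcdB (r ^ k) m) x ∈ W := by
        have := hres (EuclideanDomain.gcdB (r ^ k) m) ⟨x, hx⟩
        rw [← this]
        exact (aeval g' _ ⟨x, hx⟩).2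
      have e1 : aeval g (r ^ k) (aeval g (EuclideanDomain.gcdA (r ^ k) m) x) = 0 := by
        rw [← Module.End.mul_apply, ← map_mul, mul_comm, map_mul, Module.End.mul_apply, hk, map_zero]
      rw [e1, hmg _ c2, add_zero]
    have hd1 : dgcd ∣ r ^ k := hdg ▸ EuclideanDomain.gcd_dvd_left _ _
    have hd2 : dgcd ∣ m := hdg ▸ EuclideanDomain.gcd_dvd_right _ _
    obtain ⟨i, -, hi⟩ := (dvd_prime_pow hr2.prime k).1 hd1
    have hri : r ^ i ∣ m := hi.symm.dvd.trans hd2
    have hie : i ≤ e := hemax i ⟨r, hr1, hr2, hri⟩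
    obtain ⟨c, hc⟩ : dgcd ∣ r ^ e := hi.dvd.trans (pow_dvd_pow r hie)
    rw [hc, mul_comm, map_mul, Module.End.mul_apply, hdx, map_zero]

end MAXEXP

end Cfsg.Agent.S2481P
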