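import Mathlib

/-!
# S2481 Hermitian chapter (driver helper7): piece SOCLE
-/

set_option autoImplicit false

namespace Cfsg.Agent.S2481P

open Polynomial

namespace SOCLE

theorem socle_nondeg {F : Type*} [Field F] (p : F[X]) (hp : p.Monic) (hirr : Irreducible p)
    (e : ℕ) (he : 1 ≤ e) (τ : F[X] →ₗ[F] F) (hτ : ∀ a, τ (p ^ e * a) = 0) (c₀ : F[X])
    (h : τ (c₀ * p ^ (e - 1)) ≠ 0) :
    ∀ a, ¬ p ^ e ∣ a → ∃ b, τ (a * b) ≠ 0 := by
  intro a ha
  have ha0 : a ≠ 0 := by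
    rintro rfl
    exact ha (dvd_zero _)
  -- the exact power of `p` dividing `a`
  have hfin : FiniteMultiplicity p a := FiniteMultiplicity.of_not_isUnit hirr.not_isUnit ha0
  obtain ⟨k, hk⟩ : ∃ k, p ^ k ∣ a ∧ ¬ p ^ (k + 1) ∣ a := by
    refine ⟨multiplicity p a, pow_multiplicity_dvd p a, ?_⟩
    exact hfin.not_pow_dvd_of_multiplicity_lt (Nat.lt_succ_self _)
  obtain ⟨hk1, hk2⟩ := hk
  have hke : k < e := by
    by_contra hge
    push Not at hge
    exact ha ((pow_dvd_pow p hge).trans hk1)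
  obtain ⟨a', ha'⟩ := hk1
  have hpa' : ¬ p ∣ a' := by
    intro hd
    apply hk2
    rw [ha', pow_succ]
    exact mul_dvd_mul_left _ hd
  have hcop : IsCoprime p a' := (hirr.coprime_iff_not_dvd).2 hpa'
  obtain ⟨u, w, huw⟩ := hcop
  refine ⟨p ^ (e - 1 - k) * c₀ * w, ?_⟩
  have e1 : a * (p ^ (e - 1 - k) * c₀ * w) = c₀ * p ^ (e - 1) - p ^ e * (c₀ * u) := by
    have hw : w * a' = 1 - u * p := by rw [← huw]; ring
    have hpow : p ^ k * p ^ (e - 1 - k) = p ^ (e - 1) := by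
      rw [← pow_add]; congr 1; omega
    have hpow2 : p ^ (e - 1) * p = p ^ e := by
      rw [← pow_succ]; congr 1; omega
    calc a * (p ^ (e - 1 - k) * c₀ * w) = (p ^ k * p ^ (e - 1 - k)) * c₀ * (w * a') := by
          rw [ha']; ring
      _ = p ^ (e - 1) * c₀ * (1 - u * p) := by rw [hpow, hw]
      _ = c₀ * p ^ (e - 1) - (p ^ (e - 1) * p) * (c₀ * u) := by ring
      _ = c₀ * p ^ (e - 1) - p ^ e * (c₀ * u) := by rw [hpow2]
  rw [e1, map_sub, hτ, sub_zero]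
  exact h

end SOCLE

end Cfsg.Agent.S2481P
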