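import Mathlib
import Cfsg.Prelude.Def_ClassicalGeometry
import Cfsg.Agent.Helper17.S2482GDefs

/-!
# S2482 chapter (G) (driver helper17): piece KDSP

`kd (toFin g) (tilde0 r) k = kd (toFin g) r k` for a symplectic matrix `g`.
-/

set_option autoImplicit false
set_option linter.unusedVariables false

namespace Cfsg.Agent.S2482P

open Polynomial Cfsg.Agent.Helper2.SympInvol Cfsg.Agent.S5955P Cfsg.Agent.S5961P Cfsg.Agent.S2676P
  Cfsg.Agent.S2478P Cfsg.Agent.S2481P

universe u

variable {F : Type u} [Field F]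

namespace KDSP

open Matrix

/-- the key formula: `aeval M (reflect N f) = M ^ N * aeval M' f` for `M * M' = 1` -/
theorem aeval_reflect {n : ℕ} {M M' : Matrix (Fin n) (Fin n) F} (hM : M * M' = 1)
    (N : ℕ) (f : F[X]) (hf : f.natDegree ≤ N) :
    aeval M (reflect N f) = M ^ N * aeval M' f := by
  have hM2 : M' * M = 1 := _root_.mul_eq_one_comm.1 hM
  have hpow : ∀ i : ℕ, M ^ i * M' ^ i = 1 := by
    intro i
    have hc : Commute M M' := by
      unfold Commute SemiconjBy
      rw [hM, hM2]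
    rw [← hc.mul_pow, hM, one_pow]
  refine Polynomial.induction_with_natDegree_le
    (fun f => aeval M (reflect N f) = M ^ N * aeval M' f) N ?_ ?_ ?_ f hf
  · simp
  · intro i r _ hi
    rw [reflect_C_mul_X_pow, revAt_le hi]
    rw [map_mul, map_mul, aeval_C, aeval_C, map_pow, map_pow, aeval_X, aeval_X]
    rw [Algebra.algebraMap_eq_smul_one, smul_mul_assoc, one_mul,
      smul_mul_assoc, one_mul, mul_smul_comm]
    congr 1
    have h1 : M ^ N = M ^ (N - i) * M ^ i := by
      rw [← pow_add]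
      congr 1
      omega
    rw [h1, mul_assoc, hpow, mul_one]
  · intro f₁ f₂ _ _ h1 h2
    rw [reflect_add, map_add, map_add, mul_add, h1, h2]

theorem reverse_pow' (f : F[X]) (k : ℕ) : (f ^ k).reverse = f.reverse ^ k := by
  induction k with
  | zero => rw [pow_zero, pow_zero, ← C_1, reverse_C]
  | succ k ih => rw [pow_succ, reverse_mul_of_domain, ih, pow_succ]

theorem tilde0_pow_eq (r : F[X]) (k : ℕ) :
    tilde0 r ^ k = C ((r.coeff 0)⁻¹ ^ k) * (r ^ k).reverse := by
  rw [tilde0_eq, mul_pow, ← C_pow, reverse_pow']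

theorem aeval_tilde0_pow {n : ℕ} {M M' : Matrix (Fin n) (Fin n) F} (hM : M * M' = 1)
    (r : F[X]) (k : ℕ) :
    aeval M (tilde0 r ^ k) =
      ((r.coeff 0)⁻¹ ^ k) • (M ^ (r ^ k).natDegree * aeval M' (r ^ k)) := by
  rw [tilde0_pow_eq, map_mul, aeval_C, Algebra.algebraMap_eq_smul_one, smul_mul_assoc, one_mul]
  congr 1
  unfold reverse
  exact aeval_reflect hM _ _ le_rfl

/-- kernel of `c • (U * A)` with `c ≠ 0` and `U` invertible -/
theorem ker_smul_mul {n : ℕ} (c : F) (hc : c ≠ 0) (U U' A : Matrix (Fin n) (Fin n) F)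
    (hU : U' * U = 1) :
    LinearMap.ker (Matrix.toLin' (c • (U * A))) = LinearMap.ker (Matrix.toLin' A) := by
  ext v
  simp only [LinearMap.mem_ker, Matrix.toLin'_apply]
  constructor
  · intro h
    rw [Matrix.smul_mulVec, ← Matrix.mulVec_mulVec] at h
    have h1 : U *ᵥ (A *ᵥ v) = 0 := by
      rcases smul_eq_zero.1 h with h | h
      · exact absurd h hc
      · exact h
    have h2 : U' *ᵥ (U *ᵥ (A *ᵥ v)) = 0 := by rw [h1, Matrix.mulVec_zero]
    rwa [Matrix.mulVec_mulVec, hU, Matrix.one_mulVec] at h2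
  · intro h
    rw [Matrix.smul_mulVec, ← Matrix.mulVec_mulVec, h, Matrix.mulVec_zero, smul_zero]

theorem finrank_ker_add_rank {n : ℕ} (A : Matrix (Fin n) (Fin n) F) :
    Module.finrank F (LinearMap.ker (Matrix.toLin' A)) + A.rank = n := by
  have h := LinearMap.finrank_range_add_finrank_ker (Matrix.toLin' A)
  rw [Module.finrank_fintype_fun_eq_card, Fintype.card_fin] at h
  have h2 : A.rank = Module.finrank F (LinearMap.range (Matrix.toLin' A)) := by
    rw [Matrix.rank, Matrix.toLin'_apply']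
  omega

theorem conj_pow {n : ℕ} (J J' A : Matrix (Fin n) (Fin n) F) (hJ : J * J' = 1) (k : ℕ) :
    (J' * A * J) ^ k = J' * A ^ k * J := by
  have hJ2 : J' * J = 1 := _root_.mul_eq_one_comm.1 hJ
  induction k with
  | zero => rw [pow_zero, pow_zero, Matrix.mul_one, hJ2]
  | succ k ih =>
    rw [pow_succ, ih, pow_succ]
    calc J' * A ^ k * J * (J' * A * J) = J' * A ^ k * (J * J') * A * J := by
          simp only [Matrix.mul_assoc]
      _ = J' * (A ^ k * A) * J := by rw [hJ, Matrix.mul_one, Matrix.mul_assoc J']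

/-- `aeval` at a conjugate of the transpose -/
theorem aeval_conjT {n : ℕ} (M M' J J' : Matrix (Fin n) (Fin n) F) (hJ : J * J' = 1)
    (hM' : M' = J' * Mᵀ * J) (p : F[X]) : aeval M' p = J' * (aeval M p)ᵀ * J := by
  have hJ2 : J' * J = 1 := _root_.mul_eq_one_comm.1 hJ
  induction p using Polynomial.induction_on' with
  | add p q hp hq =>
    rw [map_add, map_add, hp, hq, Matrix.transpose_add, Matrix.mul_add, Matrix.add_mul]
  | monomial k c =>
    rw [← C_mul_X_pow_eq_monomial, map_mul, map_mul, map_pow, map_pow, aeval_X, aeval_X, aeval_C,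
      aeval_C, Algebra.algebraMap_eq_smul_one, smul_mul_assoc,
      one_mul, smul_mul_assoc, one_mul, Matrix.transpose_smul, Matrix.transpose_pow,
      Matrix.mul_smul, Matrix.smul_mul, hM', conj_pow J J' Mᵀ hJ]

theorem rank_conjT {n : ℕ} (J J' A : Matrix (Fin n) (Fin n) F) (hJ : J * J' = 1) :
    (J' * Aᵀ * J).rank = A.rank := by
  have hJ2 : J' * J = 1 := _root_.mul_eq_one_comm.1 hJ
  have hdJ : IsUnit J.det := Matrix.isUnit_det_of_right_inverse hJ
  have hdJ' : IsUnit J'.det := Matrix.isUnit_det_of_right_inverse hJ2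
  rw [Matrix.rank_mul_eq_left_of_isUnit_det J _ hdJ, Matrix.rank_mul_eq_right_of_isUnit_det J' _ hdJ',
    Matrix.rank_transpose]

theorem aeval_toLin' {n : ℕ} (g : Matrix (Fin n) (Fin n) F) (p : F[X]) :
    aeval (Matrix.toLin' g) p = Matrix.toLin' (aeval g p) := by
  have := Polynomial.aeval_algHom_apply (Matrix.toLinAlgEquiv' (R := F) (n := Fin n)) g p
  exact this

/-- the abstract statement -/
theorem kd_tilde0_aux {n : ℕ} (M M' J J' : Matrix (Fin n) (Fin n) F) (hM : M * M' = 1)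
    (hJ : J * J' = 1) (hM' : M' = J' * Mᵀ * J) {r : F[X]} (hr0 : r.coeff 0 ≠ 0) (k : ℕ) :
    kd M (tilde0 r) k = kd M r k := by
  have hM2 : M' * M = 1 := _root_.mul_eq_one_comm.1 hM
  unfold kd
  rw [aeval_toLin', aeval_toLin', aeval_tilde0_pow hM]
  have hc : (r.coeff 0)⁻¹ ^ k ≠ 0 := pow_ne_zero _ (inv_ne_zero hr0)
  rw [ker_smul_mul _ hc (M ^ (r ^ k).natDegree) (M' ^ (r ^ k).natDegree) _ ?_]
  · have h1 := finrank_ker_add_rank (aeval M' (r ^ k))
    have h2 := finrank_ker_add_rank (aeval M (r ^ k))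
    have h3 : (aeval M' (r ^ k)).rank = (aeval M (r ^ k)).rank := by
      rw [aeval_conjT M M' J J' hJ hM', rank_conjT J J' _ hJ]
    omega
  · have hc2 : Commute M' M := by
      unfold Commute SemiconjBy
      rw [hM, hM2]
    rw [← hc2.mul_pow, hM2, one_pow]

theorem kd_tilde0 {n : ℕ} (g : Matrix.symplecticGroup (Fin n) F) {r : F[X]} (hr : r.Monic)
    (hr0 : r.coeff 0 ≠ 0) (k : ℕ) : kd (toFin g) (tilde0 r) k = kd (toFin g) r k := by
  apply kd_tilde0_aux (toFin g) (toFin g⁻¹)
    (Matrix.reindex finSumFinEquiv finSumFinEquiv (Matrix.J (Fin n) F))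
    (Matrix.reindex finSumFinEquiv finSumFinEquiv (-Matrix.J (Fin n) F)) ?_ ?_ ?_ hr0 k
  · unfold toFin
    rw [Matrix.reindex_apply, Matrix.reindex_apply, Matrix.submatrix_mul_equiv]
    have : (g : Matrix (Fin n ⊕ Fin n) (Fin n ⊕ Fin n) F) * ((g⁻¹ : Matrix.symplecticGroup (Fin n) F) :
        Matrix (Fin n ⊕ Fin n) (Fin n ⊕ Fin n) F) = 1 := by
      have h := mul_inv_cancel g
      exact congrArg Subtype.val h
    rw [this, Matrix.submatrix_one_equiv]
  · rw [Matrix.reindex_apply, Matrix.reindex_apply, Matrix.submatrix_mul_equiv, Matrix.mul_neg,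
      Matrix.J_squared, neg_neg, Matrix.submatrix_one_equiv]
  · unfold toFin
    rw [SymplecticGroup.coe_inv]
    simp only [Matrix.reindex_apply, Matrix.submatrix_mul_equiv, Matrix.transpose_submatrix]

end KDSP

end Cfsg.Agent.S2482P
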