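import Mathlib
import Cfsg.Prelude.Def_ClassicalGeometry
import Cfsg.Agent.Helper17.S2482GDefs

/-!
# S2482 chapter (G) (driver helper17): piece PARITYPOLY (duplicate of Helper14.S2482PARITYPOLY, which is THE board module; names here live in `PARITYPOLYH10` to avoid a clash)

A monic self-reciprocal polynomial in which `X - 1` and `X + 1` have even multiplicity has constant term `1`
and even degree.
-/

set_option autoImplicit false
set_option linter.unusedVariables false

namespace Cfsg.Agent.S2482P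

open Polynomial Cfsg.Agent.Helper2.SympInvol Cfsg.Agent.S5955P Cfsg.Agent.S5961P Cfsg.Agent.S2676P
  Cfsg.Agent.S2478P Cfsg.Agent.S2481P

universe u

variable {F : Type u} [Field F]

namespace PARITYPOLYH10

theorem reverse_pow' (f : F[X]) (k : ℕ) : (f ^ k).reverse = f.reverse ^ k := by
  induction k with
  | zero => rw [pow_zero, pow_zero, ← C_1, reverse_C]
  | succ k ih => rw [pow_succ, reverse_mul_of_domain, ih, pow_succ]

theorem reverse_X_sub_one : (X - C (1 : F)).reverse = -(X - C (1 : F)) := by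
  have h : (X - C (1 : F)) = X + C (-1 : F) := by
    rw [C_neg, sub_eq_add_neg]
  rw [h, reverse_add_C, natDegree_X, pow_one]
  have hX : (X : F[X]).reverse = 1 := by
    have := reverse_mul_X (1 : F[X])
    rwa [one_mul, ← C_1, reverse_C, C_1] at this
  rw [hX, C_neg, C_1]
  ring

theorem reverse_X_add_one : (X - C (-1 : F)).reverse = X - C (-1 : F) := by
  have h : (X - C (-1 : F)) = X + C (1 : F) := by
    rw [C_neg, sub_neg_eq_add]
  rw [h, reverse_add_C, natDegree_X, pow_one]
  have hX : (X : F[X]).reverse = 1 := by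
    have := reverse_mul_X (1 : F[X])
    rwa [one_mul, ← C_1, reverse_C, C_1] at this
  rw [hX, C_1]
  ring

/-- evaluation of the reverse at `1` -/
theorem eval_one_reverse (r : F[X]) : eval 1 r.reverse = eval 1 r := by
  letI : Invertible (1 : F) := ⟨1, by ring, by ring⟩
  have h := eval₂_reverse_mul_pow (RingHom.id F) (1 : F) r
  have h1 : ⅟(1 : F) = 1 := rfl
  rw [h1, one_pow, mul_one] at h
  exact h

/-- evaluation of the reverse at `-1` -/
theorem eval_neg_one_reverse (r : F[X]) :
    eval (-1) r.reverse * (-1) ^ r.natDegree = eval (-1) r := by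
  letI : Invertible (-1 : F) := ⟨-1, by ring, by ring⟩
  have h := eval₂_reverse_mul_pow (RingHom.id F) (-1 : F) r
  have h1 : ⅟(-1 : F) = -1 := rfl
  rw [h1] at h
  exact h

theorem coeff_zero_and_even (h2 : (2 : F) ≠ 0) (f : F[X]) (hf : f.Monic) (hsd : tilde0 f = f)
    (h1 : Even (f.rootMultiplicity 1)) (hm1 : Even (f.rootMultiplicity (-1))) :
    f.coeff 0 = 1 ∧ Even f.natDegree := by
  have hf0 : f ≠ 0 := hf.ne_zero
  rw [tilde0_eq] at hsd
  obtain ⟨a, ha⟩ : ∃ a : F, a = f.coeff 0 := ⟨_, rfl⟩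
  rw [← ha] at hsd ⊢
  have ha0 : a ≠ 0 := by
    intro h0
    rw [h0, inv_zero, C_0, zero_mul] at hsd
    exact hf0 hsd.symm
  have hrev : f.reverse = C a * f := by
    nth_rewrite 2 [← hsd]
    rw [← mul_assoc, ← C_mul, mul_inv_cancel₀ ha0, C_1, one_mul]
  -- split off the powers of `X - 1` and `X + 1`
  obtain ⟨g, hg, hgn⟩ := exists_eq_pow_rootMultiplicity_mul_and_not_dvd f hf0 1
  have hg0 : g ≠ 0 := by
    rintro rfl
    rw [mul_zero] at hg
    exact hf0 hg
  obtain ⟨r, hr, hrn⟩ := exists_eq_pow_rootMultiplicity_mul_and_not_dvd g hg0 (-1)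
  have hr0 : r ≠ 0 := by
    rintro rfl
    rw [mul_zero] at hr
    exact hg0 hr
  obtain ⟨α, hα⟩ : ∃ α, α = f.rootMultiplicity 1 := ⟨_, rfl⟩
  obtain ⟨β, hβ⟩ : ∃ β, β = g.rootMultiplicity (-1) := ⟨_, rfl⟩
  rw [← hα] at hg h1
  rw [← hβ] at hr
  have hneg : (-1 : F) ≠ 1 := by
    intro h
    apply h2
    have : (2 : F) = 1 - (-1) := by ring
    rw [this, h, sub_self]
  have hβ' : β = f.rootMultiplicity (-1) := by
    have hne : (X - C (1 : F)) ^ α * g ≠ 0 := by
      rw [← hg]
      exact hf0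
    have h3 : rootMultiplicity (-1) ((X - C (1 : F)) ^ α) = 0 := by
      apply rootMultiplicity_eq_zero
      rw [IsRoot.def, eval_pow, eval_sub, eval_X, eval_C]
      apply pow_ne_zero
      intro h
      apply hneg
      exact sub_eq_zero.1 h
    rw [hβ]
    conv_rhs => rw [hg]
    rw [rootMultiplicity_mul hne, h3, zero_add]
  rw [← hβ'] at hm1
  obtain ⟨A, hA⟩ : ∃ A : F[X], A = X - C (1 : F) := ⟨_, rfl⟩
  obtain ⟨B, hB⟩ : ∃ B : F[X], B = X - C (-1 : F) := ⟨_, rfl⟩
  rw [← hA] at hg hgn
  rw [← hB] at hr hrn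
  have hA0 : A ≠ 0 := by
    rw [hA]
    exact X_sub_C_ne_zero 1
  have hB0 : B ≠ 0 := by
    rw [hB]
    exact X_sub_C_ne_zero (-1)
  have hfr : f = A ^ α * B ^ β * r := by
    rw [hg, hr, mul_assoc]
  have hrr : r.reverse = C a * r := by
    have h3 : f.reverse = A ^ α * B ^ β * r.reverse := by
      rw [hfr, reverse_mul_of_domain, reverse_mul_of_domain, reverse_pow', reverse_pow', hA, hB,
        reverse_X_sub_one, reverse_X_add_one, h1.neg_pow]
    have h4 : A ^ α * B ^ β * r.reverse = A ^ α * B ^ β * (C a * r) := by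
      rw [← h3, hrev, hfr]
      ring
    exact mul_left_cancel₀ (mul_ne_zero (pow_ne_zero _ hA0) (pow_ne_zero _ hB0)) h4
  -- `r` does not vanish at `±1`
  have hr1 : eval 1 r ≠ 0 := by
    intro h
    apply hgn
    have : A ∣ r := by
      rw [hA]
      exact dvd_iff_isRoot.2 h
    rw [hr]
    exact Dvd.dvd.mul_left this _
  have hrm1 : eval (-1) r ≠ 0 := by
    intro h
    apply hrn
    rw [hB]
    exact dvd_iff_isRoot.2 h
  have ha1 : a = 1 := by
    have h3 := eval_one_reverse r
    rw [hrr, eval_mul, eval_C] at h3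
    have h4 : (a - 1) * eval 1 r = 0 := by
      rw [sub_mul, h3, one_mul, sub_self]
    rcases mul_eq_zero.1 h4 with h | h
    · exact sub_eq_zero.1 h
    · exact absurd h hr1
  refine ⟨ha1, ?_⟩
  have hdr : Even r.natDegree := by
    have h3 := eval_neg_one_reverse r
    rw [hrr, ha1, C_1, one_mul] at h3
    have h4 : eval (-1) r * ((-1) ^ r.natDegree - 1) = 0 := by
      rw [mul_sub, h3, mul_one, sub_self]
    rcases mul_eq_zero.1 h4 with h | h
    · exact absurd h hrm1
    · exact (neg_one_pow_eq_one_iff_even hneg).1 (sub_eq_zero.1 h)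
  have hdeg : f.natDegree = α + β + r.natDegree := by
    rw [hfr, natDegree_mul (mul_ne_zero (pow_ne_zero _ hA0) (pow_ne_zero _ hB0)) hr0,
      natDegree_mul (pow_ne_zero _ hA0) (pow_ne_zero _ hB0), natDegree_pow, natDegree_pow, hA, hB,
      natDegree_X_sub_C, natDegree_X_sub_C, mul_one, mul_one]
  rw [hdeg]
  exact (h1.add hm1).add hdr

end PARITYPOLYH10

end Cfsg.Agent.S2482P
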