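import Mathlib

/-! S2510 piece BADLOW (driver helper28) -/

set_option autoImplicit false

namespace Cfsg.Agent.S2510P

open Polynomial

variable {F : Type*} [Field F] [Fintype F] {n : ℕ} {p : ℕ}

namespace BADLOW

/-- if `f` is irreducible, `g` squarefree and `f ^ e ∣ g ^ N`, then `e ≤ N` (or `f ∤ g`, then `e = 0`) -/
theorem le_of_pow_dvd_pow {K : Type*} [Field K] (f g : K[X]) (hirr : Irreducible f) (hg : Squarefree g)
    (e N : ℕ) (h : f ^ e ∣ g ^ N) : e ≤ N := by
  have hprime : Prime f := hirr.prime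
  have hg0 : g ≠ 0 := hg.ne_zero
  have hfin : FiniteMultiplicity f g := FiniteMultiplicity.of_not_isUnit hirr.not_isUnit hg0
  have h1 : emultiplicity f g ≤ 1 := by
    rw [squarefree_iff_emultiplicity_le_one] at hg
    rcases hg f with h' | h'
    · exact h'
    · exact absurd h' hirr.not_isUnit
  have h2 : emultiplicity f (g ^ N) = N * emultiplicity f g := emultiplicity_pow hprime
  have h3 : (e : ℕ∞) ≤ emultiplicity f (g ^ N) := le_emultiplicity_of_pow_dvd h
  rw [h2] at h3
  have h4 : (N : ℕ∞) * emultiplicity f g ≤ N * 1 := by gcongr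
  rw [mul_one] at h4
  exact_mod_cast h3.trans h4

end BADLOW

/-- BADLOW (M): `j = p ^ i * j'`, `X ^ j - C c = (X ^ j' - C c') ^ (p ^ i)` (Frobenius is onto), the base is
separable hence squarefree, so the multiplicity of `f` is `p ^ i`. -/
theorem clog_dvd_of_pow_dvd [CharP F p] (hp : p.Prime) (f : F[X]) (hirr : Irreducible f) (e j : ℕ)
    (he : 1 ≤ e) (c : F) (hc : c ≠ 0) (h : f ^ e ∣ X ^ j - C c) : p ^ Nat.clog p e ∣ j := by
  haveI : Fact p.Prime := ⟨hp⟩
  rcases Nat.eq_zero_or_pos j with hj | hj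
  · rw [hj]
    exact dvd_zero _
  obtain ⟨i, j', hpj', hjj'⟩ := Nat.exists_eq_pow_mul_and_not_dvd hj.ne' p hp.ne_one
  -- a `p^i`-th root of `c`
  haveI : PerfectRing F p := PerfectRing.ofFiniteOfIsReduced p F
  obtain ⟨c', hc'⟩ : ∃ c' : F, c' ^ p ^ i = c := by
    have hs := (bijective_iterateFrobenius (R := F) (p := p) (n := i)).surjective c
    obtain ⟨c', hc'⟩ := hs
    exact ⟨c', by rw [← hc', iterateFrobenius_def]⟩
  have hc'0 : c' ≠ 0 := by
    rintro rfl
    rw [zero_pow (pow_ne_zero i hp.ne_zero)] at hc'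
    exact hc hc'.symm
  have h1 : (X ^ j - C c : F[X]) = (X ^ j' - C c') ^ p ^ i := by
    rw [sub_pow_char_pow, ← pow_mul, ← C_pow, hc', hjj', mul_comm]
  have hj'F : (j' : F) ≠ 0 := by
    intro h0
    exact hpj' ((CharP.cast_eq_zero_iff F p j').1 h0)
  have hsep : (X ^ j' - C c' : F[X]).Separable := separable_X_pow_sub_C c' hj'F hc'0
  have hle : e ≤ p ^ i := by
    rw [h1] at h
    exact BADLOW.le_of_pow_dvd_pow f _ hirr hsep.squarefree e _ h
  have hclog : Nat.clog p e ≤ i := (Nat.clog_le_iff_le_pow hp.one_lt).2 hle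
  rw [hjj']
  exact Dvd.dvd.mul_right (pow_dvd_pow p hclog) j'

end Cfsg.Agent.S2510P
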