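import Mathlib

/-! S2510 piece BADUP (driver helper28) -/

set_option autoImplicit false

namespace Cfsg.Agent.S2510P

open Polynomial

variable {F : Type*} [Field F] [Fintype F] {n : ℕ} {p : ℕ}

/-- BADUP (S): `(X ^ a - C c) ^ (p ^ k) = X ^ (p ^ k * a) - C (c ^ p ^ k)` in characteristic `p`. -/
theorem pow_dvd_of_dvd [CharP F p] (hp : p.Prime) (f : F[X]) (e k a : ℕ) (c : F) (he : e ≤ p ^ k)
    (h : f ∣ X ^ a - C c) : f ^ e ∣ X ^ (p ^ k * a) - C (c ^ p ^ k) := by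
  haveI : Fact p.Prime := ⟨hp⟩
  have h1 : (X ^ a - C c : F[X]) ^ p ^ k = X ^ (p ^ k * a) - C (c ^ p ^ k) := by
    rw [sub_pow_char_pow, ← pow_mul, mul_comm a, C_pow]
  rw [← h1]
  exact (pow_dvd_pow f he).trans (pow_dvd_pow_of_dvd h _)

end Cfsg.Agent.S2510P
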