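import Mathlib

/-! S2510 piece CHARPOW (driver helper28): the characteristic polynomial divides the `n`-th power of the
minimal polynomial (`μ(X)·1 = (X·1 - A)·B(X)`, take determinants). -/

set_option autoImplicit false

namespace Cfsg.Agent.S2510P

open Polynomial

variable {F : Type*} [Field F] [Fintype F] {n : ℕ} {p : ℕ}

namespace CHARPOW

/-- for commuting `x, y` in a `K`-algebra, `x - y` divides `μ(x) - μ(y)` on the left -/
theorem exists_mul_eq {K : Type*} [Field K] {S : Type*} [Ring S] [Algebra K S] (x y : S)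
    (hxy : Commute x y) (μ : K[X]) : ∃ b : S, (x - y) * b = aeval x μ - aeval y μ := by
  induction μ using Polynomial.induction_on' with
  | add p q hp hq =>
    obtain ⟨b1, h1⟩ := hp
    obtain ⟨b2, h2⟩ := hq
    refine ⟨b1 + b2, ?_⟩
    rw [mul_add, h1, h2, map_add, map_add]
    abel
  | monomial k c =>
    refine ⟨c • ∑ i ∈ Finset.range k, x ^ i * y ^ (k - 1 - i), ?_⟩
    rw [mul_smul_comm, hxy.mul_geom_sum₂, aeval_monomial, aeval_monomial, smul_sub,
      Algebra.smul_def, Algebra.smul_def]

/-- the characteristic polynomial divides the `n`-th power of the minimal polynomial -/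
theorem charpoly_dvd_minpoly_pow {K : Type*} [Field K] (A : Matrix (Fin n) (Fin n) K) :
    A.charpoly ∣ (minpoly K A) ^ n := by
  set μ := minpoly K A with hμ
  -- the two commuting elements of `Matrix (Fin n) (Fin n) K[X]`
  set x : Matrix (Fin n) (Fin n) K[X] := algebraMap K[X] (Matrix (Fin n) (Fin n) K[X]) X with hx
  set φ : Matrix (Fin n) (Fin n) K →ₐ[K] Matrix (Fin n) (Fin n) K[X] :=
    (Polynomial.CAlgHom : K →ₐ[K] K[X]).mapMatrix with hφ
  set y : Matrix (Fin n) (Fin n) K[X] := φ A with hy
  have hxy : Commute x y := Algebra.commutes _ _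
  obtain ⟨b, hb⟩ := exists_mul_eq x y hxy μ
  have h1 : aeval x μ = algebraMap K[X] (Matrix (Fin n) (Fin n) K[X]) μ := by
    rw [hx, aeval_algebraMap_apply, aeval_X_left_apply]
  have h2 : aeval y μ = 0 := by
    rw [hy, aeval_algHom_apply, hμ, minpoly.aeval, map_zero]
  have h3 : x - y = A.charmatrix := by
    rw [hx, hy, hφ]
    rfl
  rw [h1, h2, sub_zero, h3] at hb
  have hdet := congrArg Matrix.det hb
  rw [Matrix.det_mul] at hdet
  have h4 : (algebraMap K[X] (Matrix (Fin n) (Fin n) K[X]) μ).det = μ ^ n := by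
    rw [Matrix.algebraMap_eq_diagonal, Matrix.det_diagonal]
    simp
  rw [h4] at hdet
  exact ⟨b.det, hdet.symm⟩

end CHARPOW

/-- CHARPOW (M–L): every irreducible factor `g` of the characteristic polynomial divides the minimal
polynomial (over `AdjoinRoot g` the root is an eigenvalue). -/
theorem charpoly_eq_pow {K : Type*} [Field K] (A : Matrix (Fin n) (Fin n) K) (f : K[X]) (hf : f.Monic)
    (hirr : Irreducible f) (e : ℕ) (hμ : minpoly K A = f ^ e) : ∃ m : ℕ, A.charpoly = f ^ m := by
  have h1 : A.charpoly ∣ f ^ (e * n) := by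
    have := CHARPOW.charpoly_dvd_minpoly_pow A
    rwa [hμ, ← pow_mul] at this
  obtain ⟨m, -, hm⟩ := (dvd_prime_pow hirr.prime _).1 h1
  exact ⟨m, eq_of_monic_of_associated (Matrix.charpoly_monic A) (hf.pow m) hm⟩

end Cfsg.Agent.S2510P
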