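import Mathlib

/-! S2510 piece IDEM (driver helper28) -/

set_option autoImplicit false

namespace Cfsg.Agent.S2510P

open Polynomial

variable {F : Type*} [Field F] [Fintype F] {n : ℕ} {p : ℕ}

/-- IDEM (M): a coprime factorization of the minimal polynomial gives idempotents in `F[A]`
(`P = (u h)(A)`, `Q = (v g)(A)` where `u h + v g = 1`). -/
theorem exists_idem {K : Type*} [Field K] (A : Matrix (Fin n) (Fin n) K) (g h : K[X])
    (hg : ¬ IsUnit g) (hh : ¬ IsUnit h) (hgh : IsCoprime g h) (hμ : minpoly K A = g * h) :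
    ∃ P Q : Matrix (Fin n) (Fin n) K, P + Q = 1 ∧ P * Q = 0 ∧ Q * P = 0 ∧ P ≠ 0 ∧ Q ≠ 0 ∧
      Commute P A ∧ Commute Q A := by
  obtain ⟨a, b, hab⟩ := hgh
  have hint : IsIntegral K A := Matrix.isIntegral A
  have hμ0 : minpoly K A ≠ 0 := minpoly.ne_zero hint
  have hg0 : g ≠ 0 := by
    rintro rfl
    rw [zero_mul] at hμ
    exact hμ0 hμ
  have hh0 : h ≠ 0 := by
    rintro rfl
    rw [mul_zero] at hμ
    exact hμ0 hμ
  have hcomm : ∀ r : K[X], Commute (aeval A r) A := by
    intro r
    have h1 : aeval A r * A = aeval A (r * X) := by rw [map_mul, aeval_X]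
    have h2 : A * aeval A r = aeval A (X * r) := by rw [map_mul, aeval_X]
    show aeval A r * A = A * aeval A r
    rw [h1, h2, mul_comm]
  have hzero : aeval A (b * h) * aeval A (a * g) = 0 := by
    rw [← map_mul]
    have : b * h * (a * g) = (a * b) * (g * h) := by ring
    rw [this, ← hμ, map_mul, minpoly.aeval, mul_zero]
  refine ⟨aeval A (b * h), aeval A (a * g), ?_, hzero, ?_, ?_, ?_, hcomm _, hcomm _⟩
  · rw [← map_add, add_comm, hab, map_one]
  · rw [← map_mul, mul_comm, map_mul]
    exact hzero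
  · intro h0
    have hdvd : g * h ∣ b * h := by
      rw [← hμ]
      exact minpoly.dvd K A h0
    have hgb : g ∣ b := (mul_dvd_mul_iff_right hh0).1 hdvd
    apply hg
    apply isUnit_of_dvd_one
    rw [← hab]
    exact dvd_add (Dvd.intro_left a rfl) (Dvd.dvd.mul_right hgb h)
  · intro h0
    have hdvd : g * h ∣ a * g := by
      rw [← hμ]
      exact minpoly.dvd K A h0
    have hha : h ∣ a := by
      rw [mul_comm g h] at hdvd
      exact (mul_dvd_mul_iff_right hg0).1 hdvd
    apply hh
    apply isUnit_of_dvd_one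
    rw [← hab]
    exact dvd_add (Dvd.dvd.mul_right hha g) (Dvd.intro_left b rfl)

end Cfsg.Agent.S2510P
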