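import Cfsg.Agent.Helper28.S2510Defs
import Cfsg.Agent.Helper10.S2510CHARPOW
import Cfsg.Agent.Helper23.S2510NORMROOT
import Cfsg.Agent.Helper23.S2510GSMUL

/-! S2510 piece SINGDVD (driver helper28) -/

set_option autoImplicit false
set_option linter.unusedSectionVars false

namespace Cfsg.Agent.S2510P

open Polynomial

variable {F : Type*} [Field F] [Fintype F] {n : ℕ} {p : ℕ}

local notation "SLn" => Matrix.SpecialLinearGroup (Fin n) F
local notation "PSLn" => Matrix.ProjectiveSpecialLinearGroup (Fin n) F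
local notation "Mn" => Matrix (Fin n) (Fin n) F
local notation "π" => QuotientGroup.mk' (Subgroup.center SLn)
local notation "q" => Fintype.card F

/-- SINGDVD (M; CHARPOW, NORMROOT, GSMUL, `S2495.mem_range_of_pow`): `det A = 1` forces the root `σ` of `f`
to have `σ ^ gs q n = 1`, so `σ ^ singerNum q n ∈ F`. -/
theorem dvd_X_pow_singer (hn : 1 ≤ n) (A : SLn) (f : F[X]) (hf : f.Monic) (hirr : Irreducible f)
    (e : ℕ) (he : 1 ≤ e) (hμ : minpoly F (A : Mn) = f ^ e) :
    ∃ c : F, c ≠ 0 ∧ f ∣ X ^ singerNum q n - C c := by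
  have hq1 : 1 ≤ q := Fintype.card_pos
  obtain ⟨m, hm⟩ := charpoly_eq_pow (A : Mn) f hf hirr e hμ
  set d := f.natDegree with hd
  -- `n = m * d`
  have hnd : n = m * d := by
    have h1 := Matrix.charpoly_natDegree_eq_dim (A : Mn)
    rw [hm, natDegree_pow, Fintype.card_fin] at h1
    exact h1.symm
  have hm1 : 1 ≤ m := by
    rcases Nat.eq_zero_or_pos m with h0 | h0
    · rw [h0, zero_mul] at hnd; omega
    · exact h0
  -- the constant term
  have hdet : (1 : F) = (-1) ^ n * (f.coeff 0) ^ m := by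
    have h1 := Matrix.det_eq_sign_charpoly_coeff (A : Mn)
    rw [A.2, hm, Fintype.card_fin, coeff_zero_eq_eval_zero, eval_pow, ← coeff_zero_eq_eval_zero] at h1
    exact h1
  set c₀ : F := (-1) ^ d * f.coeff 0 with hc₀
  have hc₀m : c₀ ^ m = 1 := by
    rw [hc₀, mul_pow, ← pow_mul, mul_comm d m, ← hnd, ← hdet]
  have hc₀0 : c₀ ≠ 0 := by
    intro h0
    rw [h0, zero_pow (by omega)] at hc₀m
    exact zero_ne_one hc₀m
  have hc₀q : c₀ ^ (q - 1) = 1 := FiniteField.pow_card_sub_one_eq_one c₀ hc₀0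
  -- the root field
  haveI : Fact (Irreducible f) := ⟨hirr⟩
  have hf0 : f ≠ 0 := hf.ne_zero
  haveI : Module.Finite F (AdjoinRoot f) := (AdjoinRoot.powerBasis hf0).finite
  haveI : Finite (AdjoinRoot f) := Module.finite_of_finite F
  set σ : AdjoinRoot f := AdjoinRoot.root f with hσ
  have h1 : σ ^ Cfsg.Agent.S2495.gs q d = algebraMap F (AdjoinRoot f) c₀ := root_pow_gs f hf hirr
  have h2 : σ ^ Cfsg.Agent.S2495.gs q n = 1 := by
    rw [hnd, mul_comm m d, gs_mul_eq, pow_mul, h1, ← map_pow,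
      pow_eq_pow_of_modEq (gs_pow_modEq q d m hq1) hc₀q, hc₀m, map_one]
  -- `σ ^ S` is fixed by Frobenius
  set G := Cfsg.Agent.S2495.gs q n with hG
  set g := Nat.gcd G (q - 1) with hg
  have hS : singerNum q n = G / g := rfl
  have h3 : (σ ^ singerNum q n) ^ (q - 1) = 1 := by
    have hgG : g ∣ G := Nat.gcd_dvd_left _ _
    have hgq : g ∣ q - 1 := Nat.gcd_dvd_right _ _
    obtain ⟨k, hk⟩ := hgq
    have e1 : G / g * (q - 1) = G * k := by
      obtain ⟨l, hl⟩ := hgG
      rcases Nat.eq_zero_or_pos g with h0 | h0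
      · rw [h0, zero_mul] at hl
        rw [hl, Nat.zero_div, zero_mul, zero_mul]
      · rw [hl, Nat.mul_div_cancel_left _ h0, hk]
        ring
    rw [hS, ← pow_mul, e1, pow_mul, h2, one_pow]
  obtain ⟨c, hc⟩ := Cfsg.Agent.S2495.mem_range_of_pow (F := F) (σ ^ singerNum q n) h3
  refine ⟨c, ?_, ?_⟩
  · rintro rfl
    rw [map_zero] at hc
    have : (σ ^ singerNum q n) ^ (q - 1) = 0 := by
      rw [← hc]
      apply zero_pow
      have := Fintype.one_lt_card (α := F)
      omega
    rw [h3] at this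
    exact one_ne_zero this
  · rw [← AdjoinRoot.mk_eq_zero, map_sub, map_pow, AdjoinRoot.mk_X, AdjoinRoot.mk_C, ← hσ, ← hc]
    exact sub_self _

end Cfsg.Agent.S2510P
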