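import Mathlib

/-! S2510 piece TWIST (driver helper28) -/

set_option autoImplicit false

namespace Cfsg.Agent.S2510P

open Polynomial

variable {F : Type*} [Field F] [Fintype F] {n : ℕ} {p : ℕ}

local notation "SLn" => Matrix.SpecialLinearGroup (Fin n) F
local notation "PSLn" => Matrix.ProjectiveSpecialLinearGroup (Fin n) F
local notation "Mn" => Matrix (Fin n) (Fin n) F
local notation "π" => QuotientGroup.mk' (Subgroup.center SLn)
local notation "q" => Fintype.card F

namespace TWIST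

/-- an element of order `r` in `Fˣ` (Cauchy) -/
theorem exists_unit_order (r : ℕ) (hr : r.Prime) (hrq : r ∣ q - 1) : ∃ ρ : Fˣ, orderOf ρ = r := by
  classical
  haveI : Fact r.Prime := ⟨hr⟩
  have h : r ∣ Fintype.card Fˣ := by rw [Fintype.card_units]; exact hrq
  exact exists_prime_orderOf_dvd_card r h

/-- solving `s * n + 1 ≡ 0 (mod r)` -/
theorem exists_s (r : ℕ) (hr : r.Prime) (hrn : ¬ r ∣ n) : ∃ s : ℕ, r ∣ s * n + 1 := by
  haveI : Fact r.Prime := ⟨hr⟩
  have hn0 : (n : ZMod r) ≠ 0 := by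
    intro h
    exact hrn ((ZMod.natCast_eq_zero_iff n r).1 h)
  refine ⟨(-(n : ZMod r)⁻¹).val, ?_⟩
  rw [← ZMod.natCast_eq_zero_iff]
  push_cast
  rw [ZMod.natCast_zmod_val]
  field_simp
  ring

end TWIST

/-- TWIST (M): `t₀ = ρ P + Q` has `t₀ ^ r = 1`; `t = δ ^ s • t₀` with `δ = det t₀`, `s n ≡ -1 (mod r)`. -/
theorem exists_twist (r : ℕ) (hr : r.Prime) (hrq : r ∣ q - 1) (hrn : ¬ r ∣ n) (A P Q : Mn)
    (hPQ : P + Q = 1) (hPQ0 : P * Q = 0) (hQP0 : Q * P = 0) (hP : P ≠ 0) (hQ : Q ≠ 0)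
    (hPA : Commute P A) (hQA : Commute Q A) :
    ∃ t : SLn, Commute (t : Mn) A ∧ t ^ r = 1 ∧ t ∉ Subgroup.center SLn := by
  obtain ⟨ρ, hρ⟩ := TWIST.exists_unit_order (F := F) r hr hrq
  obtain ⟨s, hs⟩ := TWIST.exists_s (n := n) r hr hrn
  have hρr : (ρ : F) ^ r = 1 := by
    have := pow_orderOf_eq_one ρ
    rw [hρ] at this
    have h2 := congrArg (fun u : Fˣ => (u : F)) this
    simpa using h2
  have hρ1 : (ρ : F) ≠ 1 := by
    intro h1
    have : ρ = 1 := Units.ext h1
    rw [this, orderOf_one] at hρ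
    exact hr.one_lt.ne hρ
  have hPP : P * P = P := by
    have : P * (P + Q) = P := by rw [hPQ, mul_one]
    rwa [mul_add, hPQ0, add_zero] at this
  have hQQ : Q * Q = Q := by
    have : (P + Q) * Q = Q := by rw [hPQ, one_mul]
    rwa [add_mul, hPQ0, zero_add] at this
  -- the untwisted element
  set t₀ : Mn := (ρ : F) • P + Q with ht₀
  have hpow : ∀ k : ℕ, t₀ ^ k = ((ρ : F) ^ k) • P + Q := by
    intro k
    induction k with
    | zero => rw [pow_zero, pow_zero, one_smul, hPQ]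
    | succ k ih =>
      rw [pow_succ, ih, ht₀, add_mul, mul_add, mul_add, smul_mul_smul_comm, hPP, smul_mul_assoc, hPQ0,
        smul_zero, mul_smul_comm, hQP0, smul_zero, hQQ, pow_succ]
      abel
  have ht₀r : t₀ ^ r = 1 := by rw [hpow, hρr, one_smul, hPQ]
  set δ : F := t₀.det with hδ
  have hδr : δ ^ r = 1 := by rw [hδ, ← Matrix.det_pow, ht₀r, Matrix.det_one]
  have hδs : δ ^ (s * n + 1) = 1 := by
    obtain ⟨m, hm⟩ := hs
    rw [hm, pow_mul, hδr, one_pow]
  -- the twisted element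
  have hdet : ((δ ^ s) • t₀).det = 1 := by
    rw [Matrix.det_smul, Fintype.card_fin, ← hδ, ← pow_mul, ← pow_succ]
    exact hδs
  refine ⟨(⟨(δ ^ s) • t₀, hdet⟩ : SLn), ?_, ?_, ?_⟩
  · show Commute ((δ ^ s) • t₀) A
    apply Commute.smul_left
    rw [ht₀]
    exact (hPA.smul_left _).add_left hQA
  · apply Subtype.ext
    show ((δ ^ s) • t₀) ^ r = 1
    rw [_root_.smul_pow, ht₀r, ← pow_mul, mul_comm, pow_mul, hδr, one_pow, one_smul]
  · intro hc
    obtain ⟨ν, -, hν⟩ := Matrix.SpecialLinearGroup.mem_center_iff.1 hc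
    have hν' : Matrix.scalar (Fin n) ν = (δ ^ s) • t₀ := hν
    have hδ0 : δ ^ s ≠ 0 := by
      intro h0
      have : δ ^ (s * n + 1) = 0 := by
        rcases Nat.eq_zero_or_pos s with hs0 | hs0
        · rw [hs0, pow_zero] at h0
          exact absurd h0 one_ne_zero
        · have hδ00 : δ = 0 := pow_eq_zero_iff (hs0.ne') |>.1 h0
          rw [hδ00, zero_pow (by omega)]
      rw [hδs] at this
      exact one_ne_zero this
    -- `t₀` is scalar
    have hsc : t₀ = ((δ ^ s)⁻¹ * ν) • (1 : Mn) := by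
      have h1 : (δ ^ s)⁻¹ • ((δ ^ s) • t₀) = t₀ := by rw [smul_smul, inv_mul_cancel₀ hδ0, one_smul]
      rw [← h1, ← hν', Matrix.scalar_apply, ← Matrix.smul_one_eq_diagonal, smul_smul]
    set κ : F := (δ ^ s)⁻¹ * ν with hκ
    -- multiply by `P` and by `Q`
    have e1 : (ρ : F) • P = κ • P := by
      have h1 : t₀ * P = (ρ : F) • P := by
        rw [ht₀, add_mul, smul_mul_assoc, hPP, hQP0, add_zero]
      rw [← h1, hsc, smul_mul_assoc, one_mul]
    have e2 : Q = κ • Q := by
      have h1 : t₀ * Q = Q := by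
        rw [ht₀, add_mul, smul_mul_assoc, hPQ0, smul_zero, zero_add, hQQ]
      nth_rewrite 1 [← h1]
      rw [hsc, smul_mul_assoc, one_mul]
    have hκρ : (ρ : F) = κ := by
      by_contra hne
      apply hP
      have : ((ρ : F) - κ) • P = 0 := by rw [sub_smul, e1, sub_self]
      rcases smul_eq_zero.1 this with h | h
      · exact absurd (sub_eq_zero.1 h) hne
      · exact h
    have hκ1 : κ = 1 := by
      by_contra hne
      apply hQ
      have : ((1 : F) - κ) • Q = 0 := by rw [sub_smul, one_smul, ← e2, sub_self]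
      rcases smul_eq_zero.1 this with h | h
      · exact absurd (sub_eq_zero.1 h).symm hne
      · exact h
    exact hρ1 (hκρ.trans hκ1)

end Cfsg.Agent.S2510P
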