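import Mathlib
import Cfsg.Prelude.Def_Classical
import Cfsg.Agent.Helper13.S2511Defs
import Cfsg.Agent.Helper9.S2511CT1
import Cfsg.Agent.Helper1.S2511CT2

/-! S2511 piece IDEMU (driver helper13): the idempotents of a `dag`-stable coprime factorization of the
minimal polynomial of a unitary matrix are self-adjoint. -/

set_option autoImplicit false
set_option linter.unusedVariables false

namespace Cfsg.Agent.S2511P

open Polynomial Matrix
open Cfsg.Agent.S2263P Cfsg.Agent.S2264P Cfsg.Agent.S2496P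

namespace IDEMU

variable {F : Type*} [Field F] {n : ℕ}

/-- the conjugate transpose -/
def ctr (σ : F ≃+* F) (M : Matrix (Fin n) (Fin n) F) : Matrix (Fin n) (Fin n) F :=
  (M.map (σ : F →+* F))ᵀ

theorem ctr_mul (σ : F ≃+* F) (M N : Matrix (Fin n) (Fin n) F) :
    ctr σ (M * N) = ctr σ N * ctr σ M := by
  unfold ctr
  rw [Matrix.map_mul, Matrix.transpose_mul]

theorem ctr_add (σ : F ≃+* F) (M N : Matrix (Fin n) (Fin n) F) :
    ctr σ (M + N) = ctr σ M + ctr σ N := by
  unfold ctr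
  ext i j
  simp

theorem ctr_one (σ : F ≃+* F) : ctr σ (1 : Matrix (Fin n) (Fin n) F) = 1 := by
  unfold ctr
  rw [Matrix.map_one _ (map_zero _) (map_one _), Matrix.transpose_one]

theorem commute_aeval_of_commute (A B : Matrix (Fin n) (Fin n) F) (hAB : Commute A B) (r : F[X]) :
    Commute (aeval A r) B := by
  induction r using Polynomial.induction_on' with
  | add p q hp hq =>
    rw [map_add]
    exact hp.add_left hq
  | monomial k c =>
    rw [← C_mul_X_pow_eq_monomial, map_mul, map_pow, aeval_X, aeval_C]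
    apply Commute.mul_left
    · exact Algebra.commute_algebraMap_left c B
    · exact hAB.pow_left k

/-- the key vanishing: `(b h)^† * (a g)(A) = 0` -/
theorem ctr_mul_eq_zero (σ : F ≃+* F) (A : Matrix (Fin n) (Fin n) F)
    (hA : Aᵀ * A.map (σ : F →+* F) = 1) (g h a b : F[X]) (hμ : minpoly F A = g * h)
    (hdh : dag σ h = h) :
    ctr σ (aeval A (b * h)) * aeval A (a * g) = 0 := by
  have hdet : IsUnit A.det := by
    have h1 := congrArg Matrix.det hA
    rw [Matrix.det_mul, Matrix.det_transpose, Matrix.det_one] at h1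
    exact IsUnit.of_mul_eq_one _ h1
  have hAi : A * A⁻¹ = 1 := Matrix.mul_nonsing_inv A hdet
  have hAi' : A⁻¹ * A = 1 := Matrix.nonsing_inv_mul A hdet
  have hcAi : Commute A A⁻¹ := by
    unfold Commute SemiconjBy
    rw [hAi, hAi']
  unfold ctr
  rw [ct_aeval σ A hA (b * h), Polynomial.map_mul, map_mul, aeval_inv_map σ A hdet h hdh]
  -- `Q` commutes with `A⁻¹ ^ d`
  have hQc : Commute (aeval A (a * g)) (A⁻¹ ^ h.natDegree) :=
    (commute_aeval_of_commute A A⁻¹ hcAi (a * g)).pow_right _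
  have hz : aeval A h * aeval A (a * g) = 0 := by
    rw [← map_mul]
    have : h * (a * g) = a * (g * h) := by ring
    rw [this, ← hμ, map_mul, minpoly.aeval, mul_zero]
  rw [Matrix.mul_assoc, Matrix.smul_mul, Matrix.mul_assoc (aeval A h), ← hQc.eq,
    ← Matrix.mul_assoc (aeval A h), hz, Matrix.zero_mul, smul_zero, Matrix.mul_zero]

end IDEMU

open IDEMU in
theorem exists_idem_unitary {F : Type*} [Field F] {n : ℕ}
    (σ : F ≃+* F) (hσ2 : ∀ x, σ (σ x) = x) (A : Matrix (Fin n) (Fin n) F)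
    (hA : Aᵀ * A.map (σ : F →+* F) = 1) (g h : F[X]) (hg : ¬ IsUnit g) (hh : ¬ IsUnit h)
    (hgh : IsCoprime g h) (hμ : minpoly F A = g * h) (hdg : dag σ g = g) (hdh : dag σ h = h) :
    ∃ P Q : Matrix (Fin n) (Fin n) F, P + Q = 1 ∧ P * Q = 0 ∧ Q * P = 0 ∧ P ≠ 0 ∧ Q ≠ 0 ∧
      Commute P A ∧ Commute Q A ∧ (P.map (σ : F →+* F))ᵀ = P ∧ (Q.map (σ : F →+* F))ᵀ = Q := by
  obtain ⟨a, b, hab⟩ := hgh
  have hint : IsIntegral F A := Matrix.isIntegral A
  have hμ0 : minpoly F A ≠ 0 := minpoly.ne_zero hint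
  have hg0 : g ≠ 0 := by
    rintro rfl
    rw [zero_mul] at hμ
    exact hμ0 hμ
  have hh0 : h ≠ 0 := by
    rintro rfl
    rw [mul_zero] at hμ
    exact hμ0 hμ
  have hcomm : ∀ r : F[X], Commute (aeval A r) A := fun r =>
    commute_aeval_of_commute A A (Commute.refl A) r
  have hzero : aeval A (b * h) * aeval A (a * g) = 0 := by
    rw [← map_mul]
    have : b * h * (a * g) = (a * b) * (g * h) := by ring
    rw [this, ← hμ, map_mul, minpoly.aeval, mul_zero]
  obtain ⟨P, hP⟩ : ∃ P, P = aeval A (b * h) := ⟨_, rfl⟩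
  obtain ⟨Q, hQ⟩ : ∃ Q, Q = aeval A (a * g) := ⟨_, rfl⟩
  have hsum : P + Q = 1 := by
    rw [hP, hQ, ← map_add, add_comm, hab, map_one]
  have hPQ : P * Q = 0 := by rw [hP, hQ]; exact hzero
  have hQP : Q * P = 0 := by
    rw [hP, hQ, ← map_mul, mul_comm, map_mul]
    exact hzero
  -- adjoints
  have h1 : ctr σ P * Q = 0 := by
    rw [hP, hQ]
    exact ctr_mul_eq_zero σ A hA g h a b hμ hdh
  have h2 : ctr σ Q * P = 0 := by
    rw [hP, hQ]
    have hμ' : minpoly F A = h * g := by rw [hμ, mul_comm]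
    exact ctr_mul_eq_zero σ A hA h g b a hμ' hdg
  have hsum' : ctr σ P + ctr σ Q = 1 := by
    rw [← ctr_add, hsum, ctr_one]
  have hPs : ctr σ P = P := by
    have e1 : ctr σ P = ctr σ P * P := by
      calc ctr σ P = ctr σ P * (P + Q) := by rw [hsum, Matrix.mul_one]
        _ = ctr σ P * P := by rw [Matrix.mul_add, h1, add_zero]
    have e2 : P = ctr σ P * P := by
      calc P = (ctr σ P + ctr σ Q) * P := by rw [hsum', Matrix.one_mul]
        _ = ctr σ P * P := by rw [Matrix.add_mul, h2, add_zero]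
    rw [e1, ← e2]
  have hQs : ctr σ Q = Q := by
    have e1 : ctr σ Q = ctr σ Q * Q := by
      calc ctr σ Q = ctr σ Q * (P + Q) := by rw [hsum, Matrix.mul_one]
        _ = ctr σ Q * Q := by rw [Matrix.mul_add, h2, zero_add]
    have e2 : Q = ctr σ Q * Q := by
      calc Q = (ctr σ P + ctr σ Q) * Q := by rw [hsum', Matrix.one_mul]
        _ = ctr σ Q * Q := by rw [Matrix.add_mul, h1, zero_add]
    rw [e1, ← e2]
  refine ⟨P, Q, hsum, hPQ, hQP, ?_, ?_, hP ▸ hcomm _, hQ ▸ hcomm _, hPs, hQs⟩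
  · intro h0
    rw [hP] at h0
    have hdvd : g * h ∣ b * h := by
      rw [← hμ]
      exact minpoly.dvd F A h0
    have hgb : g ∣ b := (mul_dvd_mul_iff_right hh0).1 hdvd
    apply hg
    apply isUnit_of_dvd_one
    rw [← hab]
    exact dvd_add (Dvd.intro_left a rfl) (Dvd.dvd.mul_right hgb h)
  · intro h0
    rw [hQ] at h0
    have hdvd : g * h ∣ a * g := by
      rw [← hμ]
      exact minpoly.dvd F A h0
    have hha : h ∣ a := by
      rw [mul_comm g h] at hdvd
      exact (mul_dvd_mul_iff_right hg0).1 hdvd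
    apply hh
    apply isUnit_of_dvd_one
    rw [← hab]
    exact dvd_add (Dvd.dvd.mul_right hha g) (Dvd.intro_left b rfl)

end Cfsg.Agent.S2511P
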