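import Mathlib
import Cfsg.Prelude.Def_Classical
import Cfsg.Agent.Helper13.S2511Defs
import Cfsg.Agent.Helper10.S2510CHARPOW
import Cfsg.Agent.Helper6.S2263MULTSYM
import Cfsg.Agent.Helper26.S2263FACA
import Cfsg.Agent.Helper18.S2511SUNUM
import Cfsg.Agent.Helper24.S2511CHARSHAPE
import Cfsg.Agent.Helper26.S2511ROOT

/-! S2511 piece SINGDVDU (driver helper13): for `A ∈ SU_n(q)` with minimal polynomial `φ^e`
(`dag σ φ = φ`) or `(φ * dag σ φ)^e`, both `φ` and `dag σ φ` divide `X^(suNum q n) - C c` for a common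
scalar `c ≠ 0`. -/

set_option autoImplicit false
set_option linter.unusedVariables false

namespace Cfsg.Agent.S2511P

open Polynomial Matrix
open Cfsg.Agent.S2263P Cfsg.Agent.S2264P Cfsg.Agent.S2496P

namespace SINGDVDU

variable {F : Type*} [Field F] [Fintype F] {n q : ℕ}

/-- from `φ ∣ X^(wq q n) - 1` to the statement -/
theorem of_dvd_wq (hF : Fintype.card F = q ^ 2) (σ : F ≃+* F) (hσ : ∀ x, σ x = x ^ q)
    (hn : 1 ≤ n) (φ : F[X]) (hm : φ.Monic) (hirr : Irreducible φ)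
    (h : φ ∣ X ^ (wq q n) - 1) :
    ∃ c : F, c ≠ 0 ∧ φ ∣ X ^ suNum q n - C c ∧ dag σ φ ∣ X ^ suNum q n - C c := by
  have hq := FACA.two_le_q hF
  have hS : 0 < suNum q n := suNum_pos hq hn
  have hW := suNum_mul q n
  obtain ⟨g, hg⟩ : ∃ g, g = Nat.gcd (wq q n) (q + 1) := ⟨_, rfl⟩
  rw [← hg] at hW
  obtain ⟨k, hk⟩ : g ∣ q + 1 := by
    rw [hg]
    exact Nat.gcd_dvd_right _ _
  have h1 : φ ∣ X ^ ((q + 1) * suNum q n) - 1 := by
    refine h.trans ?_
    have e1 : (q + 1) * suNum q n = wq q n * k := by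
      rw [hk, ← hW]
      ring
    rw [e1, pow_mul]
    have := sub_dvd_pow_sub_pow ((X : F[X]) ^ wq q n) 1 k
    rwa [one_pow] at this
  obtain ⟨c, hcq, hc⟩ := FACA.exists_scalar hF hirr hm (suNum q n) h1
  have hc0 : c ≠ 0 := by
    intro h0
    rw [h0, zero_pow (by omega)] at hcq
    exact zero_ne_one hcq
  refine ⟨c, hc0, hc, ?_⟩
  have hd := MULTSYM.dag_dvd σ hc
  have hσc : σ c ≠ 0 := by
    intro h0
    exact hc0 ((map_eq_zero_iff σ σ.injective).1 h0)
  have hinv : (σ c)⁻¹ = c := by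
    apply inv_eq_of_mul_eq_one_right
    rw [hσ, ← pow_succ]
    exact hcq
  have e2 : dag σ (X ^ suNum q n - C c) = X ^ suNum q n - C c := by
    unfold dag
    rw [Polynomial.map_sub, Polynomial.map_pow, Polynomial.map_X, Polynomial.map_C]
    have : ((σ : F →+* F) c) = σ c := rfl
    rw [this, FACA.recip_X_pow_sub_C hS hσc, hinv]
  rwa [e2] at hd

omit [Fintype F] in
theorem natDegree_charpoly (A : Matrix (Fin n) (Fin n) F) : A.charpoly.natDegree = n := by
  rw [Matrix.charpoly_natDegree_eq_dim, Fintype.card_fin]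

omit [Fintype F] in
theorem det_eq (A : Matrix (Fin n) (Fin n) F) : A.det = (-1) ^ n * A.charpoly.coeff 0 := by
  rw [Matrix.det_eq_sign_charpoly_coeff, Fintype.card_fin]

end SINGDVDU

open SINGDVDU in
theorem dvd_X_pow_suNum {F : Type*} [Field F] [Fintype F] {n q : ℕ}
    (hF : Fintype.card F = q ^ 2) (σ : F ≃+* F) (hσ : ∀ x, σ x = x ^ q)
    (hσ2 : ∀ x, σ (σ x) = x) (hn : 1 ≤ n) (A : ↥(Cfsg.SU n F q)) (φ : F[X]) (hm : φ.Monic)
    (hirr : Irreducible φ) (h0 : φ.coeff 0 ≠ 0) (e : ℕ) (he : 1 ≤ e)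
    (hμ : (dag σ φ = φ ∧ minpoly F (mat A) = φ ^ e) ∨
      (dag σ φ ≠ φ ∧ minpoly F (mat A) = (φ * dag σ φ) ^ e)) :
    ∃ c : F, c ≠ 0 ∧ φ ∣ X ^ suNum q n - C c ∧ dag σ φ ∣ X ^ suNum q n - C c := by
  apply of_dvd_wq hF σ hσ hn φ hm hirr
  rcases hμ with ⟨hd, hmin⟩ | ⟨hne, hmin⟩
  · obtain ⟨m', hm'⟩ := Cfsg.Agent.S2510P.charpoly_eq_pow (mat A) φ hm hirr e hmin
    have hdeg : n = φ.natDegree * m' := by
      have := natDegree_charpoly (mat A)
      rw [hm', hm.natDegree_pow] at this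
      rw [← this, mul_comm]
    have hm'1 : 1 ≤ m' := by
      rcases Nat.eq_zero_or_pos m' with h | h
      · rw [h, mul_zero] at hdeg
        omega
      · exact h
    have hdet : ((-1) ^ φ.natDegree * φ.coeff 0) ^ m' = 1 := by
      have h1 := det_eq (mat A)
      rw [mat_det, hm', Polynomial.coeff_zero_eq_eval_zero, Polynomial.eval_pow,
        ← Polynomial.coeff_zero_eq_eval_zero] at h1
      rw [mul_pow, ← pow_mul, ← hdeg]
      exact h1.symm
    rw [hdeg]
    exact selfdual_dvd hF σ hσ hirr hm hd m' hm'1 hdet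
  · obtain ⟨m', hm'⟩ := charpoly_pair σ hσ2 (mat A) (mat_unitary (σ : F →+* F) hσ A) hm hirr h0 hne
      e hmin
    have hdm : (dag σ φ).Monic := by
      unfold dag
      exact recip_monic (MULTSYM.map_coeff_zero_ne σ h0)
    have hdeg : n = 2 * φ.natDegree * m' := by
      have := natDegree_charpoly (mat A)
      rw [hm', (hm.mul hdm).natDegree_pow, hm.natDegree_mul hdm, MULTSYM.natDegree_dag σ h0] at this
      rw [← this]
      ring
    have hm'1 : 1 ≤ m' := by
      rcases Nat.eq_zero_or_pos m' with h | h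
      · rw [h, mul_zero] at hdeg
        omega
      · exact h
    have hdet : (φ.coeff 0 * (dag σ φ).coeff 0) ^ m' = 1 := by
      have h1 := det_eq (mat A)
      rw [mat_det, hm', Polynomial.coeff_zero_eq_eval_zero, Polynomial.eval_pow,
        ← Polynomial.coeff_zero_eq_eval_zero, Polynomial.mul_coeff_zero] at h1
      have hev : Even n := by
        rw [hdeg, mul_assoc]
        exact even_two_mul _
      rw [hev.neg_one_pow, one_mul] at h1
      exact h1.symm
    rw [hdeg]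
    exact (pair_dvd hF σ hσ hirr hm h0 m' hm'1 hdet).1

end Cfsg.Agent.S2511P
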