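import Mathlib
import Cfsg.Prelude.Def_Classical
import Cfsg.Agent.Helper13.S2511Defs
import Cfsg.Agent.Helper14.S2496CENTER
import Cfsg.Agent.Helper10.S2510TWIST

/-! S2511 piece TWISTU (driver helper13): the twist `t = δ^s (ρ P + Q)` in `SU_n(q)`. -/

set_option autoImplicit false

namespace Cfsg.Agent.S2511P

open Polynomial Matrix
open Cfsg.Agent.S2263P Cfsg.Agent.S2264P Cfsg.Agent.S2496P

theorem exists_twist_unitary {F : Type*} [Field F] {n : ℕ} [Fintype F] {q : ℕ}
    (hF : Fintype.card F = q ^ 2) (σ : F ≃+* F) (hσ : ∀ x, σ x = x ^ q)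
    (hn : 2 ≤ n) (r : ℕ) (hr : r.Prime) (hrq : r ∣ q + 1) (hrn : ¬ r ∣ n) (A : ↥(Cfsg.SU n F q))
    (P Q : Matrix (Fin n) (Fin n) F) (hPQ : P + Q = 1) (hPQ0 : P * Q = 0) (hQP0 : Q * P = 0)
    (hP : P ≠ 0) (hQ : Q ≠ 0) (hPA : Commute P (mat A)) (hQA : Commute Q (mat A))
    (hPs : (P.map (σ : F →+* F))ᵀ = P) (hQs : (Q.map (σ : F →+* F))ᵀ = Q) :
    ∃ t : ↥(Cfsg.SU n F q), Commute t A ∧ t ^ r = 1 ∧ t ∉ Subgroup.center ↥(Cfsg.SU n F q) := by
  have hq1 : 1 ≤ q := by
    rcases Nat.eq_zero_or_pos q with h0 | h0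
    · rw [h0] at hF
      have : 0 < Fintype.card F := Fintype.card_pos
      omega
    · exact h0
  have hrq' : r ∣ Fintype.card F - 1 := by
    rw [hF]
    have : q ^ 2 - 1 = (q + 1) * (q - 1) := by
      obtain ⟨k, rfl⟩ : ∃ k, q = k + 1 := ⟨q - 1, by omega⟩
      simp only [Nat.add_sub_cancel]
      have : (k + 1) ^ 2 = (k + 1 + 1) * k + 1 := by ring
      omega
    rw [this]
    exact Dvd.dvd.mul_right hrq _
  obtain ⟨ρ, hρ⟩ := Cfsg.Agent.S2510P.TWIST.exists_unit_order (F := F) r hr hrq'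
  obtain ⟨s, hs⟩ := Cfsg.Agent.S2510P.TWIST.exists_s (n := n) r hr hrn
  have hρr : (ρ : F) ^ r = 1 := by
    have := pow_orderOf_eq_one ρ
    rw [hρ] at this
    have h2 := congrArg (fun u : Fˣ => (u : F)) this
    simpa using h2
  have hρq : (ρ : F) ^ (q + 1) = 1 := by
    obtain ⟨m, hm⟩ := hrq
    rw [hm, pow_mul, hρr, one_pow]
  have hρ1 : (ρ : F) ≠ 1 := by
    intro h1
    have : ρ = 1 := Units.ext h1
    rw [this, orderOf_one] at hρ
    exact hr.one_lt.ne hρ
  have hPP : P * P = P := by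
    have : P * (P + Q) = P := by rw [hPQ, mul_one]
    rwa [mul_add, hPQ0, add_zero] at this
  have hQQ : Q * Q = Q := by
    have : (P + Q) * Q = Q := by rw [hPQ, one_mul]
    rwa [add_mul, hPQ0, zero_add] at this
  -- the untwisted element
  obtain ⟨t₀, ht₀⟩ : ∃ t₀ : Matrix (Fin n) (Fin n) F, t₀ = (ρ : F) • P + Q := ⟨_, rfl⟩
  have hpow : ∀ k : ℕ, t₀ ^ k = ((ρ : F) ^ k) • P + Q := by
    intro k
    induction k with
    | zero => rw [pow_zero, pow_zero, one_smul, hPQ]
    | succ k ih =>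
      rw [pow_succ, ih, ht₀, add_mul, mul_add, mul_add, smul_mul_smul_comm, hPP, smul_mul_assoc, hPQ0,
        smul_zero, mul_smul_comm, hQP0, smul_zero, hQQ, pow_succ]
      abel
  have ht₀r : t₀ ^ r = 1 := by rw [hpow, hρr, one_smul, hPQ]
  obtain ⟨δ, hδ⟩ : ∃ δ : F, δ = t₀.det := ⟨_, rfl⟩
  have hδr : δ ^ r = 1 := by rw [hδ, ← Matrix.det_pow, ht₀r, Matrix.det_one]
  have hδq : δ ^ (q + 1) = 1 := by
    obtain ⟨m, hm⟩ := hrq
    rw [hm, pow_mul, hδr, one_pow]
  have hδs : δ ^ (s * n + 1) = 1 := by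
    obtain ⟨m, hm⟩ := hs
    rw [hm, pow_mul, hδr, one_pow]
  -- the twisted element
  have hdet : ((δ ^ s) • t₀).det = 1 := by
    rw [Matrix.det_smul, Fintype.card_fin, ← hδ, ← pow_mul, ← pow_succ]
    exact hδs
  -- unitarity
  have hPm : P.map (σ : F →+* F) = Pᵀ := by
    have := congrArg Matrix.transpose hPs
    rwa [Matrix.transpose_transpose] at this
  have hQm : Q.map (σ : F →+* F) = Qᵀ := by
    have := congrArg Matrix.transpose hQs
    rwa [Matrix.transpose_transpose] at this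
  have hunit0 : t₀ᵀ * t₀.map (σ : F →+* F) = 1 := by
    have hmap : t₀.map (σ : F →+* F) = ((ρ : F) ^ q) • Pᵀ + Qᵀ := by
      rw [ht₀, Matrix.map_add (σ : F →+* F) (map_add _), ← hPm, ← hQm]
      congr 1
      ext i j
      simp only [Matrix.map_apply, Matrix.smul_apply, smul_eq_mul, map_mul]
      congr 1
      exact hσ _
    rw [hmap, ht₀, Matrix.transpose_add, Matrix.transpose_smul, add_mul, mul_add, mul_add,
      smul_mul_smul_comm, ← Matrix.transpose_mul, hPP, smul_mul_assoc, ← Matrix.transpose_mul, hQP0,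
      mul_smul_comm, ← Matrix.transpose_mul, hPQ0, ← Matrix.transpose_mul, hQQ, ← pow_succ', hρq,
      one_smul, Matrix.transpose_zero, smul_zero, smul_zero, add_zero, zero_add,
      ← Matrix.transpose_add, hPQ, Matrix.transpose_one]
  have hunit : ((δ ^ s) • t₀)ᵀ * ((δ ^ s) • t₀).map (σ : F →+* F) = 1 := by
    have hmap : ((δ ^ s) • t₀).map (σ : F →+* F) = ((δ ^ s) ^ q) • t₀.map (σ : F →+* F) := by
      ext i j
      simp only [Matrix.map_apply, Matrix.smul_apply, smul_eq_mul, map_mul]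
      congr 1
      exact hσ _
    rw [hmap, Matrix.transpose_smul, smul_mul_smul_comm, hunit0, ← pow_succ', ← pow_mul, mul_comm,
      pow_mul, hδq, one_pow, one_smul]
  obtain ⟨t, ht⟩ : ∃ t : ↥(Cfsg.SU n F q), mat t = (δ ^ s) • t₀ :=
    ⟨mkSU (σ : F →+* F) hσ ((δ ^ s) • t₀) hunit hdet, rfl⟩
  refine ⟨t, ?_, ?_, ?_⟩
  · apply mat_injective
    rw [mat_mul, mat_mul, ht]
    have : Commute ((δ ^ s) • t₀) (mat A) := by
      apply Commute.smul_left
      rw [ht₀]
      exact (hPA.smul_left _).add_left hQA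
    exact this.eq
  · apply mat_injective
    rw [mat_pow, ht, mat_one, _root_.smul_pow, ht₀r, ← pow_mul, mul_comm, pow_mul, hδr, one_pow,
      one_smul]
  · intro hc
    obtain ⟨ν, hν⟩ := (Cfsg.Agent.S2496P.mem_center_SU_iff hF hn _).1 hc
    have hν' : (δ ^ s) • t₀ = ν • (1 : Matrix (Fin n) (Fin n) F) := by
      rw [← ht]
      exact hν
    have hδ0 : δ ^ s ≠ 0 := by
      intro h0
      have : δ ^ (s * n + 1) = 0 := by
        rcases Nat.eq_zero_or_pos s with hs0 | hs0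
        · rw [hs0, pow_zero] at h0
          exact absurd h0 one_ne_zero
        · have hδ00 : δ = 0 := pow_eq_zero_iff (hs0.ne') |>.1 h0
          rw [hδ00, zero_pow (by omega)]
      rw [hδs] at this
      exact one_ne_zero this
    -- `t₀` is scalar
    have hsc : t₀ = ((δ ^ s)⁻¹ * ν) • (1 : Matrix (Fin n) (Fin n) F) := by
      have h1 : (δ ^ s)⁻¹ • ((δ ^ s) • t₀) = t₀ := by rw [smul_smul, inv_mul_cancel₀ hδ0, one_smul]
      rw [← h1, hν', smul_smul]
    obtain ⟨κ, hκ⟩ : ∃ κ : F, κ = (δ ^ s)⁻¹ * ν := ⟨_, rfl⟩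
    rw [← hκ] at hsc
    -- multiply by `P` and by `Q`
    have e1 : (ρ : F) • P = κ • P := by
      have h1 : t₀ * P = (ρ : F) • P := by
        rw [ht₀, add_mul, smul_mul_assoc, hPP, hQP0, add_zero]
      rw [← h1, hsc, smul_mul_assoc, one_mul]
    have e2 : Q = κ • Q := by
      have h1 : t₀ * Q = Q := by
        rw [ht₀, add_mul, smul_mul_assoc, hPQ0, smul_zero, zero_add, hQQ]
      nth_rewrite 1 [← h1]
      rw [hsc, smul_mul_assoc, one_mul]
    have hκρ : (ρ : F) = κ := by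
      by_contra hne
      apply hP
      have : ((ρ : F) - κ) • P = 0 := by rw [sub_smul, e1, sub_self]
      rcases smul_eq_zero.1 this with h | h
      · exact absurd (sub_eq_zero.1 h) hne
      · exact h
    have hκ1 : κ = 1 := by
      by_contra hne
      apply hQ
      have : ((1 : F) - κ) • Q = 0 := by rw [sub_smul, one_smul, ← e2, sub_self]
      rcases smul_eq_zero.1 this with h | h
      · exact absurd (sub_eq_zero.1 h).symm hne
      · exact h
    exact hρ1 (hκρ.trans hκ1)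

end Cfsg.Agent.S2511P
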