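import Mathlib
import Cfsg.Prelude.Def_Classical
import Cfsg.Prelude.Def_ClassicalGeometry
import Cfsg.Agent.Helper8.MatBNDefs
import Cfsg.Agent.Helper8.S2546Defs

set_option autoImplicit false
open scoped Matrix

/-!
# S2548 (Steinberg character of `PΩ⁺_{2m}(q)`), driver helper10: shared definitions

`n = 2m`.  `QJ n v = Σ_{i < n/2} v_i v_{rev i}` is the hyperbolic quadratic form with antidiagonal Gram matrix on
`K^n`, `OJ K n` its isometry group (all of `O⁺`), `OmJ K n = Cfsg.Omega K (QJ n)` its commutator subgroup, `mat` / `rho`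
the matrices of their elements.  Roots of type `D_m`: pairs `(i, k)`, `i ≠ k`, `i + k ≠ n - 1`; root element
`xR n i k t = 1 + t E(i,k) - t E(n-1-k, n-1-i)`.  Simple roots: node `j < m`: `(nodeI n j, nodeK n j)`, i.e.
`(j, j+1)` for `j + 1 < m` and `(m-2, m)` for the last node `j = m - 1`.  `E` (matrix units at natural-number
positions) is `Cfsg.Agent.S2546P.E`.
-/

namespace Cfsg.Agent.S2548P

open Cfsg.Agent.MatBN
open Cfsg.Agent.S2546P (E)

variable {K : Type*} [Field K]

/-- the hyperbolic quadratic form with antidiagonal Gram matrix, as a `QuadraticForm` -/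
def QJf (K : Type*) [Field K] (n : ℕ) : QuadraticForm K (Fin n → K) :=
  ∑ i : Fin n, if i.val < n / 2 then
    QuadraticMap.linMulLin (LinearMap.proj i) (LinearMap.proj i.rev) else 0

/-- the hyperbolic quadratic form with antidiagonal Gram matrix: `QJ n v = Σ_{i < n/2} v_i v_{rev i}`
(definitionally the coercion of `QJf K n`, so that library results on `QuadraticForm`s apply verbatim) -/
abbrev QJ (n : ℕ) : (Fin n → K) → K := ⇑(QJf K n)

theorem QJ_apply (n : ℕ) (v : Fin n → K) :
    QJ n v = ∑ i : Fin n, if i.val < n / 2 then v i * v i.rev else 0 := by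
  unfold QJ QJf
  rw [sum_apply]
  apply Finset.sum_congr rfl
  intro i _
  split_ifs <;> simp

/-- its polar form `Σ_i u_i v_{rev i}` -/
def BJ (n : ℕ) (u v : Fin n → K) : K := ∑ i : Fin n, u i * v i.rev

/-- the full isometry group of `QJ` -/
abbrev OJ (K : Type*) [Field K] (n : ℕ) : Subgroup (Matrix.GeneralLinearGroup (Fin n) K) :=
  Cfsg.isometryGroup K (QJ (K := K) n)

/-- `Ω`: the commutator subgroup of the isometry group -/
abbrev OmJ (K : Type*) [Field K] (n : ℕ) : Subgroup (OJ K n) := Cfsg.Omega K (QJ (K := K) n)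

/-- the matrix of an isometry -/
def mat (n : ℕ) : OJ K n →* Matrix (Fin n) (Fin n) K :=
  (Units.coeHom (Matrix (Fin n) (Fin n) K)).comp (OJ K n).subtype

/-- the matrix of an element of `Ω` -/
def rho (n : ℕ) : OmJ K n →* Matrix (Fin n) (Fin n) K := (mat n).comp (OmJ K n).subtype

/-- the entrywise form of the isometry condition (for even `n`): every column is singular, and the polar form of
two distinct columns is that of the basis vectors -/
def PresQ (n : ℕ) (M : Matrix (Fin n) (Fin n) K) : Prop :=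
  (∀ a : Fin n, QJ n (fun i => M i a) = 0) ∧
    ∀ a c : Fin n, a ≠ c → ∑ i, M i a * M i.rev c = if c = a.rev then 1 else 0

/-- the root element `x_{i,k}(t) = 1 + t E(i,k) - t E(n-1-k, n-1-i)` (a root when `i ≠ k`, `i + k ≠ n - 1`) -/
def xR (n i k : ℕ) (t : K) : Matrix (Fin n) (Fin n) K :=
  1 + t • E n i k - t • E n (n - 1 - k) (n - 1 - i)

/-- the pair `(i, k)` is a root: in range, `i ≠ k`, `k ≠ rev i` -/
def IsRt (n i k : ℕ) : Prop := i < n ∧ k < n ∧ i ≠ k ∧ i + k ≠ n - 1

/-- row index of the simple root of node `j` -/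
def nodeI (n j : ℕ) : ℕ := if j + 1 < n / 2 then j else j - 1

/-- column index of the simple root of node `j` -/
def nodeK (_n j : ℕ) : ℕ := j + 1

/-- the monomial lift `w_{i,k} = x_{i,k}(1) x_{k,i}(-1) x_{i,k}(1)`: `e_k ↦ e_i`, `e_i ↦ -e_k`,
`e_{rev i} ↦ -e_{rev k}`, `e_{rev k} ↦ e_{rev i}` -/
def wM (n i k : ℕ) : Matrix (Fin n) (Fin n) K :=
  1 - E n i i - E n k k - E n (n - 1 - i) (n - 1 - i) - E n (n - 1 - k) (n - 1 - k)
    + E n i k - E n k i - E n (n - 1 - k) (n - 1 - i) + E n (n - 1 - i) (n - 1 - k)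

/-- the matrix of the lift of the simple reflection `j` -/
def sMat (n j : ℕ) : Matrix (Fin n) (Fin n) K := wM n (nodeI n j) (nodeK n j)

/-- the permutation `(i k)(rev i rev k)` (identity if out of range) -/
def tauIK (n i k : ℕ) : Equiv.Perm (Fin n) :=
  if h : i < n ∧ k < n then
    Equiv.swap ⟨i, h.1⟩ ⟨k, h.2⟩ * Equiv.swap ⟨n - 1 - i, by omega⟩ ⟨n - 1 - k, by omega⟩
  else 1

/-- the permutation of the simple reflection `j` -/
def tau (n j : ℕ) : Equiv.Perm (Fin n) := tauIK n (nodeI n j) (nodeK n j)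

/-- the simple root set of the node `j`, as a set of matrices -/
def XMat (n j : ℕ) : Set (Matrix (Fin n) (Fin n) K) :=
  {M | ∃ t : K, M = xR n (nodeI n j) (nodeK n j) t}

/-- the simple root set of the node `j` in `Ω` -/
def Xset (n j : ℕ) : Set (OmJ K n) := {g | rho n g ∈ XMat n j}

/-- the subgroup of the isometry group generated by all root elements -/
def Rt (n : ℕ) : Subgroup (OJ K n) :=
  Subgroup.closure {g | ∃ i k : ℕ, IsRt n i k ∧ ∃ t : K, mat n g = xR n i k t}

/-- the matrix of the graph automorphism `r`: the swap `e_{m-1} ↔ e_m` -/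
def rMat (n : ℕ) : Matrix (Fin n) (Fin n) K :=
  1 - E n (n / 2 - 1) (n / 2 - 1) - E n (n / 2) (n / 2) + E n (n / 2 - 1) (n / 2) + E n (n / 2) (n / 2 - 1)

/-- the subgroup generated by the diagonal isometries and `r` -/
def Mid (n : ℕ) : Subgroup (OJ K n) :=
  Subgroup.closure ({g | IsDg (mat n g)} ∪ {g | mat n g = rMat n})

/-- the transposition of the two middle indices `n/2 - 1`, `n/2` -/
def midSwap (n : ℕ) : Equiv.Perm (Fin n) :=
  if h : 2 ≤ n then Equiv.swap ⟨n / 2 - 1, by omega⟩ ⟨n / 2, by omega⟩ else 1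

/-- the permutation of the longest element of `W(D_m)`, `m = n / 2`: `i ↦ rev i`, except that for `m` odd the two
middle indices are fixed -/
def pi0 (n : ℕ) : Equiv.Perm (Fin n) :=
  if (n / 2) % 2 = 0 then Fin.revPerm else Fin.revPerm * midSwap n

/-- the index equivalence `Fin m ⊕ Fin m ≃ Fin (2m)`: `inl i ↦ i`, `inr i ↦ 2m - 1 - i` -/
def idx (m : ℕ) : Fin m ⊕ Fin m ≃ Fin (2 * m) :=
  (Equiv.sumCongr (Equiv.refl (Fin m)) (Fin.revPerm : Equiv.Perm (Fin m))).trans
    (finSumFinEquiv.trans (finCongr (two_mul m).symm))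

end Cfsg.Agent.S2548P
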