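import Mathlib
import Cfsg.Agent.Helper10.S2548Defs
import Cfsg.Agent.Helper28.IsoTransport

set_option autoImplicit false
open scoped Matrix

/-!
# S2548 piece PRES: the entrywise isometry condition
-/

namespace Cfsg.Agent.S2548P

open Cfsg.Agent.MatBN
open Cfsg.Agent.S2546P (E)

variable {K : Type*} [Field K] {n : ℕ}

namespace PRES

/-- splitting a sum over `Fin n` (`n` even) into the lower half and the mirrored lower half -/
theorem sum_split (hn : n % 2 = 0) (f : Fin n → K) :
    ∑ i : Fin n, f i = ∑ i : Fin n, if i.val < n / 2 then f i + f i.rev else 0 := by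
  have h1 : ∑ i : Fin n, f i = ∑ i : Fin n, ((if i.val < n / 2 then f i else 0) +
      (if i.val < n / 2 then 0 else f i)) := by
    apply Finset.sum_congr rfl
    intro i _
    split_ifs <;> simp
  rw [h1, Finset.sum_add_distrib]
  have h2 : ∑ i : Fin n, (if i.val < n / 2 then 0 else f i) =
      ∑ i : Fin n, (if i.val < n / 2 then f i.rev else 0) := by
    rw [← Equiv.sum_comp Fin.revPerm]
    apply Finset.sum_congr rfl
    intro i _
    simp only [Fin.revPerm_apply, Fin.val_rev]
    have := i.2
    by_cases h : i.val < n / 2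
    · rw [if_pos h, if_neg (by omega)]
    · rw [if_neg h, if_pos (by omega)]
  rw [h2, ← Finset.sum_add_distrib]
  apply Finset.sum_congr rfl
  intro i _
  split_ifs <;> simp

theorem polar_eq_BJ (hn : n % 2 = 0) (u v : Fin n → K) :
    QuadraticMap.polar (QJ (K := K) n) u v = BJ n u v := by
  unfold BJ
  rw [sum_split hn]
  unfold QuadraticMap.polar
  rw [QJ_apply, QJ_apply, QJ_apply, ← Finset.sum_sub_distrib, ← Finset.sum_sub_distrib]
  apply Finset.sum_congr rfl
  intro i _
  split_ifs
  · simp only [Pi.add_apply, Fin.rev_rev]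
    ring
  · simp

theorem BJ_single_left (a : Fin n) (v : Fin n → K) : BJ n (Pi.single a 1) v = v a.rev := by
  unfold BJ
  rw [Finset.sum_eq_single a]
  · simp
  · intro b _ hb
    simp [Pi.single_eq_of_ne hb]
  · intro h
    exact absurd (Finset.mem_univ a) h

theorem BJ_comm (u v : Fin n → K) : BJ n u v = BJ n v u := by
  unfold BJ
  rw [← Equiv.sum_comp Fin.revPerm]
  apply Finset.sum_congr rfl
  intro i _
  simp only [Fin.revPerm_apply, Fin.rev_rev]
  ring

theorem QJ_single (hn : n % 2 = 0) (a : Fin n) (t : K) : QJ n (Pi.single a t : Fin n → K) = 0 := by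
  rw [QJ_apply]
  apply Finset.sum_eq_zero
  intro i _
  split_ifs with h
  · by_cases hia : i = a
    · have : i.rev ≠ a := by
        intro h2
        have := congrArg Fin.val h2
        rw [Fin.val_rev] at this
        have := congrArg Fin.val hia
        omega
      rw [Pi.single_eq_of_ne this, mul_zero]
    · rw [Pi.single_eq_of_ne hia, zero_mul]
  · rfl

theorem mulVec_single (M : Matrix (Fin n) (Fin n) K) (a : Fin n) :
    M *ᵥ (Pi.single a 1) = fun i => M i a := by
  funext i
  simp [Matrix.mulVec_single]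

/-- two quadratic forms on `K^n` agreeing on the standard basis and with polar forms agreeing on pairs of
distinct basis vectors are equal -/
theorem quad_ext {Q Q' : QuadraticForm K (Fin n → K)}
    (h1 : ∀ i : Fin n, Q (Pi.single i 1) = Q' (Pi.single i 1))
    (h2 : ∀ i j : Fin n, i ≠ j → QuadraticMap.polar Q (Pi.single i 1) (Pi.single j 1) =
      QuadraticMap.polar Q' (Pi.single i 1) (Pi.single j 1)) : Q = Q' := by
  rw [← QuadraticMap.toQuadraticMap_toBilin Q (Pi.basisFun K (Fin n)),
    ← QuadraticMap.toQuadraticMap_toBilin Q' (Pi.basisFun K (Fin n))]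
  congr 1
  apply (Pi.basisFun K (Fin n)).ext
  intro i
  apply (Pi.basisFun K (Fin n)).ext
  intro j
  rw [QuadraticMap.toBilin_apply, QuadraticMap.toBilin_apply]
  simp only [Pi.basisFun_apply]
  by_cases hij : i = j
  · rw [if_pos hij, if_pos hij, h1]
  · rw [if_neg hij, if_neg hij, h2 i j hij]

theorem QJ_mulVec (hn : n % 2 = 0) (M : Matrix (Fin n) (Fin n) K) (hM : PresQ n M) (v : Fin n → K) :
    QJ n (M *ᵥ v) = QJ n v := by
  have key : (QJf K n).comp (Matrix.mulVecLin M) = QJf K n := by
    apply quad_ext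
    · intro i
      rw [QuadraticMap.comp_apply, Matrix.mulVecLin_apply, mulVec_single]
      have h0 : (QJf K n) (Pi.single i 1) = 0 := QJ_single hn i 1
      rw [h0]
      exact hM.1 i
    · intro i j hij
      have e1 : QuadraticMap.polar ((QJf K n).comp (Matrix.mulVecLin M)) (Pi.single i 1)
          (Pi.single j 1) = QuadraticMap.polar (QJ (K := K) n) (fun a => M a i) (fun a => M a j) := by
        unfold QuadraticMap.polar
        rw [QuadraticMap.comp_apply, QuadraticMap.comp_apply, QuadraticMap.comp_apply, map_add,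
          Matrix.mulVecLin_apply, Matrix.mulVecLin_apply, mulVec_single, mulVec_single]
      rw [e1, polar_eq_BJ hn]
      have e2 : QuadraticMap.polar (⇑(QJf K n)) (Pi.single i 1) (Pi.single j 1) =
          BJ n (Pi.single i 1) (Pi.single j 1) := polar_eq_BJ hn _ _
      rw [e2, BJ_single_left]
      have := hM.2 i j hij
      unfold BJ
      rw [this]
      by_cases h : j = i.rev
      · rw [if_pos h, h, Pi.single_eq_same]
      · rw [if_neg h, Pi.single_eq_of_ne]
        exact fun h' => h h'.symm
  have := congrArg (fun Q : QuadraticForm K (Fin n → K) => Q v) key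
  simpa [QuadraticMap.comp_apply] using this

theorem mem_OJ_iff (g : Matrix.GeneralLinearGroup (Fin n) K) :
    g ∈ OJ K n ↔ ∀ u, QJ n ((g : Matrix (Fin n) (Fin n) K) *ᵥ u) = QJ n u :=
  Cfsg.Agent.Helper28.IsoTransport.mem_isometryGroup_iff _ _

theorem QJ_mat (g : OJ K n) (u : Fin n → K) : QJ n (mat n g *ᵥ u) = QJ n u :=
  (mem_OJ_iff (g : Matrix.GeneralLinearGroup (Fin n) K)).1 g.2 u

theorem BJ_mulVec (hn : n % 2 = 0) (g : OJ K n) (u v : Fin n → K) :
    BJ n (mat n g *ᵥ u) (mat n g *ᵥ v) = BJ n u v := by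
  rw [← polar_eq_BJ hn, ← polar_eq_BJ hn]
  unfold QuadraticMap.polar
  rw [← Matrix.mulVec_add, QJ_mat, QJ_mat, QJ_mat]

theorem presQ_of_mem (hn : n % 2 = 0) (g : OJ K n) : PresQ n (mat n g) := by
  constructor
  · intro a
    rw [← mulVec_single, QJ_mat]
    exact QJ_single hn a 1
  · intro a c hac
    have h := BJ_mulVec hn g (Pi.single a 1) (Pi.single c 1)
    rw [mulVec_single, mulVec_single, BJ_single_left] at h
    unfold BJ at h
    rw [h]
    by_cases h' : c = a.rev
    · rw [if_pos h', h', Pi.single_eq_same]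
    · rw [if_neg h', Pi.single_eq_of_ne]
      exact fun h'' => h' h''.symm

/-- the antidiagonal Gram matrix -/
def Jm (K : Type*) [Field K] (n : ℕ) : Matrix (Fin n) (Fin n) K :=
  Matrix.of fun a c => if c = a.rev then 1 else 0

theorem Jm_mul_Jm : Jm K n * Jm K n = 1 := by
  ext a c
  rw [Matrix.mul_apply, Finset.sum_eq_single a.rev]
  · simp only [Jm, Matrix.of_apply, if_true, one_mul, Matrix.one_apply]
    by_cases h : a = c
    · subst h
      simp
    · rw [if_neg h, if_neg]
      intro h2
      apply h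
      rw [h2, Fin.rev_rev]
  · intro b _ hb
    simp only [Jm, Matrix.of_apply]
    rw [if_neg hb, zero_mul]
  · intro h
    exact absurd (Finset.mem_univ _) h

theorem gram_of_presQ (hn : n % 2 = 0) (M : Matrix (Fin n) (Fin n) K) (hM : PresQ n M) :
    Mᵀ * Jm K n * M = Jm K n := by
  ext a c
  rw [Matrix.mul_apply]
  have e : ∀ x : Fin n, (Mᵀ * Jm K n) a x = M x.rev a := by
    intro x
    rw [Matrix.mul_apply, Finset.sum_eq_single x.rev]
    · simp [Jm]
    · intro b _ hb
      simp only [Jm, Matrix.of_apply, Matrix.transpose_apply]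
      rw [if_neg, mul_zero]
      intro h
      apply hb
      rw [h, Fin.rev_rev]
    · intro h
      exact absurd (Finset.mem_univ _) h
  simp_rw [e]
  have e2 : ∑ x : Fin n, M x.rev a * M x c = ∑ x : Fin n, M x a * M x.rev c := by
    rw [← Equiv.sum_comp Fin.revPerm]
    apply Finset.sum_congr rfl
    intro i _
    simp only [Fin.revPerm_apply, Fin.rev_rev]
  rw [e2]
  by_cases hac : a = c
  · subst hac
    -- `B(col, col) = 2 Q(col) = 0`
    have h1 := polar_eq_BJ hn (fun i => M i a) (fun i => M i a)
    unfold BJ at h1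
    rw [← h1]
    have h2 : QuadraticMap.polar (QJ (K := K) n) (fun i => M i a) (fun i => M i a) =
        2 * QJ n (fun i => M i a) := by
      have := QuadraticMap.polar_self (QJf K n) (fun i => M i a)
      simpa using this
    rw [h2, hM.1 a, mul_zero]
    simp only [Jm, Matrix.of_apply]
    rw [if_neg]
    intro h
    have := congrArg Fin.val h
    rw [Fin.val_rev] at this
    omega
  · rw [hM.2 a c hac]
    simp [Jm]

theorem exists_of_presQ (hn : n % 2 = 0) (M : Matrix (Fin n) (Fin n) K) (hM : PresQ n M) :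
    ∃ g : OJ K n, mat n g = M := by
  have hg := gram_of_presQ hn M hM
  have hinv : (Jm K n * Mᵀ * Jm K n) * M = 1 := by
    rw [Matrix.mul_assoc, Matrix.mul_assoc, ← Matrix.mul_assoc Mᵀ, hg, Jm_mul_Jm]
  have hinv' : M * (Jm K n * Mᵀ * Jm K n) = 1 := mul_eq_one_comm.mp hinv
  let u : Matrix.GeneralLinearGroup (Fin n) K := ⟨M, Jm K n * Mᵀ * Jm K n, hinv', hinv⟩
  have hu : u ∈ OJ K n := by
    rw [mem_OJ_iff]
    intro v
    exact QJ_mulVec hn M hM v
  exact ⟨⟨u, hu⟩, rfl⟩

theorem mat_injective : Function.Injective (mat (K := K) n) := by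
  intro g h hgh
  apply Subtype.ext
  apply Units.ext
  exact hgh

theorem rho_injective : Function.Injective (rho (K := K) n) := by
  intro g h hgh
  apply Subtype.ext
  exact mat_injective hgh

end PRES

end Cfsg.Agent.S2548P
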