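import Mathlib
import Cfsg.Agent.Helper10.S2548Defs
import Cfsg.Agent.Helper10.S2548PRES

set_option autoImplicit false
open scoped Matrix

/-!
# S2548 piece ROOTMEM: root elements and diagonal elements are isometries; additivity

Also some general-purpose lemmas (usable by other pieces): `E_eq_single` (helper8's matrix units at natural number
positions as Mathlib's `Matrix.single`), the `Fin`-indexed root element `xF a c t` and `xR_eq_xF`, `xF_mulVec`,
`rev_ne_self`.
-/

namespace Cfsg.Agent.S2548P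

open Cfsg.Agent.MatBN
open Cfsg.Agent.S2546P (E)

variable {K : Type*} [Field K] {n : ℕ}

namespace ROOTMEM

theorem E_eq_single (a c : Fin n) : (E n a.val c.val : Matrix (Fin n) (Fin n) K) = Matrix.single a c 1 := by
  ext x y
  simp only [E, Matrix.of_apply, Matrix.single]
  by_cases h : x.val = a.val ∧ y.val = c.val
  · rw [if_pos h, if_pos ⟨(Fin.ext h.1).symm, (Fin.ext h.2).symm⟩]
  · rw [if_neg h, if_neg]
    rintro ⟨h1, h2⟩
    exact h ⟨by rw [h1], by rw [h2]⟩

theorem E_eq_single' {i k : ℕ} (hi : i < n) (hk : k < n) :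
    (E n i k : Matrix (Fin n) (Fin n) K) = Matrix.single ⟨i, hi⟩ ⟨k, hk⟩ 1 :=
  E_eq_single (⟨i, hi⟩ : Fin n) ⟨k, hk⟩

theorem rev_ne_self (hn : n % 2 = 0) (a : Fin n) : a.rev ≠ a := by
  intro h
  have := congrArg Fin.val h
  rw [Fin.val_rev] at this
  omega

/-- the root element with `Fin` indices -/
def xF (a c : Fin n) (t : K) : Matrix (Fin n) (Fin n) K :=
  1 + Matrix.single a c t - Matrix.single c.rev a.rev t

theorem xR_eq_xF {i k : ℕ} (h : IsRt n i k) (t : K) :
    xR n i k t = xF (⟨i, h.1⟩ : Fin n) ⟨k, h.2.1⟩ t := by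
  unfold xR xF
  have e1 : (E n (n - 1 - k) (n - 1 - i) : Matrix (Fin n) (Fin n) K) =
      Matrix.single (⟨k, h.2.1⟩ : Fin n).rev (⟨i, h.1⟩ : Fin n).rev 1 := by
    rw [← E_eq_single]
    congr 1
    · show n - 1 - k = n - (k + 1)
      omega
    · show n - 1 - i = n - (i + 1)
      omega
  rw [e1, E_eq_single' h.1 h.2.1, Matrix.smul_single, Matrix.smul_single, smul_eq_mul, mul_one]

theorem isRt_fin {a c : Fin n} (h : IsRt n a.val c.val) : a ≠ c ∧ a ≠ c.rev ∧ c ≠ a.rev := by
  obtain ⟨h1, h2, h3, h4⟩ := h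
  refine ⟨fun e => h3 (congrArg Fin.val e), ?_, ?_⟩
  · intro e
    have := congrArg Fin.val e
    rw [Fin.val_rev] at this
    omega
  · intro e
    have := congrArg Fin.val e
    rw [Fin.val_rev] at this
    omega

theorem xF_mulVec (a c : Fin n) (t : K) (v : Fin n → K) :
    xF a c t *ᵥ v = v + (t * v c) • Pi.single a (1 : K) - (t * v a.rev) • Pi.single c.rev (1 : K) := by
  unfold xF
  rw [Matrix.sub_mulVec, Matrix.add_mulVec, Matrix.one_mulVec, Matrix.single_mulVec_eq,
    Matrix.single_mulVec_eq]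

theorem xF_mul (hn : n % 2 = 0) {a c : Fin n} (hac : a ≠ c) (hac' : a ≠ c.rev) (s t : K) :
    xF a c s * xF a c t = xF a c (s + t) := by
  unfold xF
  have h1 : Matrix.single a c s * Matrix.single a c t = 0 :=
    Matrix.single_mul_single_of_ne s a c a hac.symm t
  have h2 : Matrix.single a c s * Matrix.single c.rev a.rev t = 0 :=
    Matrix.single_mul_single_of_ne s a c c.rev (rev_ne_self hn c).symm t
  have h3 : Matrix.single c.rev a.rev s * Matrix.single a c t = 0 :=
    Matrix.single_mul_single_of_ne s c.rev a.rev a (rev_ne_self hn a) t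
  have h4 : Matrix.single c.rev a.rev s * Matrix.single c.rev a.rev t = 0 :=
    Matrix.single_mul_single_of_ne s c.rev a.rev c.rev (fun e => hac (Fin.rev_injective e)) t
  rw [Matrix.single_add a c, Matrix.single_add c.rev a.rev]
  simp only [mul_add, add_mul, mul_sub, sub_mul, mul_one, one_mul, h1, h2, h3, h4]
  abel

theorem xF_zero (a c : Fin n) : xF a c (0 : K) = 1 := by
  unfold xF
  simp

theorem QJ_add (u v : Fin n → K) (hn : n % 2 = 0) : QJ n (u + v) = QJ n u + QJ n v + BJ n u v := by
  rw [← PRES.polar_eq_BJ hn]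
  unfold QuadraticMap.polar
  ring

theorem BJ_add_right (u v w : Fin n → K) : BJ n u (v + w) = BJ n u v + BJ n u w := by
  unfold BJ
  rw [← Finset.sum_add_distrib]
  apply Finset.sum_congr rfl
  intro i _
  simp only [Pi.add_apply]
  ring

theorem BJ_sub_right (u v w : Fin n → K) : BJ n u (v - w) = BJ n u v - BJ n u w := by
  unfold BJ
  rw [← Finset.sum_sub_distrib]
  apply Finset.sum_congr rfl
  intro i _
  simp only [Pi.sub_apply]
  ring

theorem BJ_smul_single_right (u : Fin n → K) (a : Fin n) (s : K) :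
    BJ n u (s • Pi.single a (1 : K)) = s * u a.rev := by
  rw [PRES.BJ_comm]
  unfold BJ
  rw [Finset.sum_eq_single a]
  · simp
  · intro b _ hb
    simp [Pi.single_eq_of_ne hb]
  · intro h
    exact absurd (Finset.mem_univ a) h

theorem QJ_xF (hn : n % 2 = 0) {a c : Fin n} (hac : a ≠ c) (t : K) (v : Fin n → K) :
    QJ n (xF a c t *ᵥ v) = QJ n v := by
  rw [xF_mulVec, sub_eq_add_neg, add_assoc, QJ_add _ _ hn]
  have e1 : (t * v c) • Pi.single a (1 : K) + -((t * v a.rev) • Pi.single c.rev (1 : K)) =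
      (Pi.single a (t * v c) : Fin n → K) + Pi.single c.rev (-(t * v a.rev)) := by
    funext x
    simp only [Pi.add_apply, Pi.neg_apply, Pi.smul_apply, smul_eq_mul, Pi.single_apply]
    split_ifs <;> ring
  have e2 : QJ n ((Pi.single a (t * v c) : Fin n → K) + Pi.single c.rev (-(t * v a.rev))) = 0 := by
    rw [QJ_add _ _ hn, PRES.QJ_single hn, PRES.QJ_single hn]
    have : (Pi.single c.rev (-(t * v a.rev)) : Fin n → K) =
        (-(t * v a.rev)) • Pi.single c.rev (1 : K) := by
      funext x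
      simp only [Pi.smul_apply, smul_eq_mul, Pi.single_apply]
      split_ifs <;> ring
    rw [this, BJ_smul_single_right, Fin.rev_rev, Pi.single_eq_of_ne hac.symm]
    ring
  have e3 : BJ n v ((t * v c) • Pi.single a (1 : K) + -((t * v a.rev) • Pi.single c.rev (1 : K))) = 0 := by
    rw [← sub_eq_add_neg, BJ_sub_right, BJ_smul_single_right, BJ_smul_single_right, Fin.rev_rev]
    ring
  rw [e3, e1, e2]
  ring

/-- the root element as an isometry -/
theorem exists_xF (hn : n % 2 = 0) {a c : Fin n} (hac : a ≠ c) (hac' : a ≠ c.rev) (t : K) :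
    ∃ g : OJ K n, mat n g = xF a c t := by
  have h1 : xF a c t * xF a c (-t) = 1 := by
    rw [xF_mul hn hac hac', add_neg_cancel, xF_zero]
  have h2 : xF a c (-t) * xF a c t = 1 := by
    rw [xF_mul hn hac hac', neg_add_cancel, xF_zero]
  let u : Matrix.GeneralLinearGroup (Fin n) K := ⟨xF a c t, xF a c (-t), h1, h2⟩
  have hu : u ∈ OJ K n := by
    rw [PRES.mem_OJ_iff]
    intro v
    exact QJ_xF hn hac t v
  exact ⟨⟨u, hu⟩, rfl⟩

theorem presQ_xR (hn : n % 2 = 0) {i k : ℕ} (h : IsRt n i k) (t : K) : PresQ n (xR n i k t) := by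
  rw [xR_eq_xF h]
  have hf := isRt_fin (a := (⟨i, h.1⟩ : Fin n)) (c := ⟨k, h.2.1⟩) h
  obtain ⟨g, hg⟩ := exists_xF hn hf.1 hf.2.1 t
  rw [← hg]
  exact PRES.presQ_of_mem hn g

theorem xR_mul (hn : n % 2 = 0) {i k : ℕ} (h : IsRt n i k) (s t : K) :
    xR n i k s * xR n i k t = xR n i k (s + t) := by
  rw [xR_eq_xF h, xR_eq_xF h, xR_eq_xF h]
  have hf := isRt_fin (a := (⟨i, h.1⟩ : Fin n)) (c := ⟨k, h.2.1⟩) h
  exact xF_mul hn hf.1 hf.2.1 s t

theorem xR_zero (i k : ℕ) : xR n i k (0 : K) = 1 := by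
  unfold xR
  simp

theorem presQ_diagonal (hn : n % 2 = 0) (d : Fin n → K) (hd : ∀ i, d i * d i.rev = 1) :
    PresQ n (Matrix.diagonal d) := by
  constructor
  · intro a
    have : (fun i => Matrix.diagonal d i a) = (Pi.single a (d a) : Fin n → K) := by
      funext i
      by_cases h : i = a
      · subst h
        simp
      · rw [Matrix.diagonal_apply_ne _ h, Pi.single_eq_of_ne h]
    rw [this]
    exact PRES.QJ_single hn a _
  · intro a c hac
    by_cases h : c = a.rev
    · subst h
      rw [if_pos rfl, Finset.sum_eq_single a]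
      · rw [Matrix.diagonal_apply_eq, Matrix.diagonal_apply_eq]
        exact hd a
      · intro b _ hb
        rw [Matrix.diagonal_apply_ne _ hb, zero_mul]
      · intro h
        exact absurd (Finset.mem_univ a) h
    · rw [if_neg h]
      apply Finset.sum_eq_zero
      intro b _
      by_cases hb : b = a
      · subst hb
        rw [Matrix.diagonal_apply_ne _ (fun e => h e.symm), mul_zero]
      · rw [Matrix.diagonal_apply_ne _ hb, zero_mul]

end ROOTMEM

end Cfsg.Agent.S2548P
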