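import Mathlib
import Cfsg.Agent.Helper10.S2548Defs
import Cfsg.Agent.Helper10.S2548PRES
import Cfsg.Agent.Helper10.S2548ROOTMEM

set_option autoImplicit false
set_option linter.unusedSimpArgs false
open scoped Matrix commutatorElement

/-!
# S2548 piece ROOTOMB: for `n ≥ 6` every root element is a commutator of root elements, hence lies in `Ω`
-/

namespace Cfsg.Agent.S2548P

open Cfsg.Agent.MatBN
open Cfsg.Agent.S2546P (E)

variable {K : Type*} [Field K] {n : ℕ}

namespace ROOTOMB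

open ROOTMEM

/-- the matrix identity `x_{al}(t) x_{lc}(1) = x_{ac}(t) x_{lc}(1) x_{al}(t)` -/
theorem xF_comm_rel (hn : n % 2 = 0) {a c l : Fin n} (hac : a ≠ c) (hac' : a ≠ c.rev) (hla : l ≠ a)
    (hlc : l ≠ c) (hla' : l ≠ a.rev) (hlc' : l ≠ c.rev) (t : K) :
    xF a l t * xF l c 1 = xF a c t * xF l c 1 * xF a l t := by
  have r1 := rev_ne_self hn a
  have r2 := rev_ne_self hn c
  have r3 := rev_ne_self hn l
  have q1 : l.rev ≠ a := fun e => hla' (by rw [← e, Fin.rev_rev])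
  have q2 : l.rev ≠ c := fun e => hlc' (by rw [← e, Fin.rev_rev])
  have q3 : a.rev ≠ c.rev := fun e => hac (Fin.rev_injective e)
  have q4 : a.rev ≠ l.rev := fun e => hla (Fin.rev_injective e).symm
  have q5 : c.rev ≠ l.rev := fun e => hlc (Fin.rev_injective e).symm
  have q6 : c.rev ≠ a := fun e => hac' (by rw [← e])
  have q7 : a.rev ≠ c := fun e => hac' (by rw [← e, Fin.rev_rev])
  unfold xF
  simp only [mul_add, add_mul, mul_sub, sub_mul, mul_one, one_mul, Matrix.single_mul_single_same,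
    Matrix.single_mul_single_of_ne, ne_eq, not_false_eq_true, hac, hac', hla, hlc, hla', hlc', r1, r2, r3,
    q1, q2, q3, q4, q5, q6, q7, hac.symm, hac'.symm, hla.symm, hlc.symm, hla'.symm, hlc'.symm, r1.symm,
    r2.symm, r3.symm, q1.symm, q2.symm, q3.symm, q4.symm, q5.symm, q6.symm, q7.symm, sub_zero, zero_sub,
    add_zero, zero_add, mul_zero, zero_mul, neg_zero, sub_self]
  abel

/-- an element of `OJ` which is a commutator lies in `Ω` -/
theorem comm_mem_OmJ (x y : OJ K n) : ⁅x, y⁆ ∈ OmJ K n := by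
  show ⁅x, y⁆ ∈ commutator (OJ K n)
  rw [commutator_def]
  exact Subgroup.commutator_mem_commutator (Subgroup.mem_top x) (Subgroup.mem_top y)

/-- `n ≥ 6`: `x_{ik}(t) = [x_{il}(t), x_{lk}(1)]`, `l ∉ {i, k, rev i, rev k}` -/
theorem exists_xR_of_six (hn : n % 2 = 0) (hn6 : 6 ≤ n) {i k : ℕ}
    (h : IsRt n i k) (t : K) : ∃ g : OmJ K n, rho n g = xR n i k t := by
  have hf := isRt_fin (a := (⟨i, h.1⟩ : Fin n)) (c := ⟨k, h.2.1⟩) h
  set a : Fin n := ⟨i, h.1⟩ with ha
  set c : Fin n := ⟨k, h.2.1⟩ with hc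
  obtain ⟨l, -, hl⟩ : ∃ l ∈ (Finset.univ : Finset (Fin n)), l ∉ ({a, c, a.rev, c.rev} : Finset (Fin n)) := by
    apply Finset.exists_mem_notMem_of_card_lt_card
    have h4 : ({a, c, a.rev, c.rev} : Finset (Fin n)).card ≤ 4 := Finset.card_le_four
    rw [Finset.card_univ, Fintype.card_fin]
    omega
  simp only [Finset.mem_insert, Finset.mem_singleton, not_or] at hl
  obtain ⟨hla, hlc, hla', hlc'⟩ := hl
  obtain ⟨X, hX⟩ := exists_xF hn (a := a) (c := l) (fun e => hla e.symm)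
    (fun e => hla' (by rw [e, Fin.rev_rev])) t
  obtain ⟨Y, hY⟩ := exists_xF hn (a := l) (c := c) hlc hlc' (1 : K)
  obtain ⟨Z, hZ⟩ := exists_xF hn (a := a) (c := c) hf.1 hf.2.1 t
  have hrel : X * Y = Z * Y * X := by
    apply PRES.mat_injective
    rw [map_mul, map_mul, map_mul, hX, hY, hZ]
    exact xF_comm_rel hn hf.1 hf.2.1 hla hlc hla' hlc' t
  have hcomm : ⁅X, Y⁆ = Z := by
    rw [commutatorElement_def, hrel]
    group
  refine ⟨⟨Z, ?_⟩, ?_⟩
  · rw [← hcomm]
    exact comm_mem_OmJ X Y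
  · show mat n Z = xR n i k t
    rw [hZ, xR_eq_xF h]

end ROOTOMB

end Cfsg.Agent.S2548P
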