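import Mathlib
import Cfsg.Agent.Helper10.S2548Defs
import Cfsg.Agent.Helper10.S2548PRES
import Cfsg.Agent.Helper10.S2548ROOTMEM
import Cfsg.Agent.Helper10.S2548ROOTOMB

set_option autoImplicit false
open scoped Matrix commutatorElement

/-!
# S2548 piece ROOTOMA: for `|K| ≥ 3` every root element is a commutator `[h, x(t)]`, `h` diagonal, hence lies in `Ω`
-/

namespace Cfsg.Agent.S2548P

open Cfsg.Agent.MatBN
open Cfsg.Agent.S2546P (E)

variable {K : Type*} [Field K] {n : ℕ}

namespace ROOTOMA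

open ROOTMEM

/-- the diagonal of `h_a(u)`: `u` at `a`, `u⁻¹` at `rev a` -/
def dg (a : Fin n) (u : K) : Fin n → K := fun x => if x = a then u else if x = a.rev then u⁻¹ else 1

theorem dg_mul_rev (hn : n % 2 = 0) (a : Fin n) {u : K} (hu : u ≠ 0) (x : Fin n) :
    dg a u x * dg a u x.rev = 1 := by
  unfold dg
  have r := rev_ne_self hn a
  by_cases h1 : x = a
  · subst h1
    rw [if_pos rfl, if_neg r, if_pos rfl, mul_inv_cancel₀ hu]
  · by_cases h2 : x = a.rev
    · subst h2
      rw [if_neg h1, if_pos rfl, Fin.rev_rev, if_pos rfl, inv_mul_cancel₀ hu]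
    · have h3 : x.rev ≠ a := fun e => h2 (by rw [← e, Fin.rev_rev])
      have h4 : x.rev ≠ a.rev := fun e => h1 (Fin.rev_injective e)
      rw [if_neg h1, if_neg h2, if_neg h3, if_neg h4, mul_one]

/-- conjugating a matrix unit by a diagonal matrix -/
theorem diag_conj_single (d d' : Fin n → K) (a c : Fin n) (t : K) :
    Matrix.diagonal d * Matrix.single a c t * Matrix.diagonal d' = Matrix.single a c (d a * t * d' c) := by
  ext x y
  rw [Matrix.mul_diagonal, Matrix.diagonal_mul]
  by_cases h : a = x ∧ c = y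
  · obtain ⟨rfl, rfl⟩ := h
    rw [Matrix.single_apply_same, Matrix.single_apply_same]
  · rw [Matrix.single_apply_of_ne _ _ _ _ _ h, Matrix.single_apply_of_ne _ _ _ _ _ h, mul_zero, zero_mul]

/-- `|K| ≥ 3`: `x((u - 1) t) = [h, x(t)]`, `h = diag(u at i, u⁻¹ at rev i)` -/
theorem exists_xR_of_card [Fintype K] (hn : n % 2 = 0) (hK : 3 ≤ Fintype.card K) {i k : ℕ}
    (h : IsRt n i k) (t : K) : ∃ g : OmJ K n, rho n g = xR n i k t := by
  classical
  have hf := isRt_fin (a := (⟨i, h.1⟩ : Fin n)) (c := ⟨k, h.2.1⟩) h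
  set a : Fin n := ⟨i, h.1⟩ with ha
  set c : Fin n := ⟨k, h.2.1⟩ with hc
  -- a scalar different from 0 and 1
  obtain ⟨u, -, hu⟩ : ∃ u ∈ (Finset.univ : Finset K), u ∉ ({0, 1} : Finset K) := by
    apply Finset.exists_mem_notMem_of_card_lt_card
    have h2 : ({0, 1} : Finset K).card ≤ 2 := Finset.card_le_two
    rw [Finset.card_univ]
    omega
  simp only [Finset.mem_insert, Finset.mem_singleton, not_or] at hu
  obtain ⟨hu0, hu1⟩ := hu
  have hu1' : u - 1 ≠ 0 := sub_ne_zero.2 hu1
  -- the diagonal isometry and its inverse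
  obtain ⟨H, hH⟩ := PRES.exists_of_presQ hn _ (presQ_diagonal hn (dg a u) (dg_mul_rev hn a hu0))
  obtain ⟨H', hH'⟩ := PRES.exists_of_presQ hn _
    (presQ_diagonal hn (dg a u⁻¹) (dg_mul_rev hn a (inv_ne_zero hu0)))
  have hHH' : H * H' = 1 := by
    apply PRES.mat_injective
    rw [map_mul, map_one, hH, hH', Matrix.diagonal_mul_diagonal]
    have : (fun x => dg a u x * dg a u⁻¹ x) = fun _ => (1 : K) := by
      funext x
      unfold dg
      split_ifs
      · exact mul_inv_cancel₀ hu0
      · rw [inv_inv]; exact inv_mul_cancel₀ hu0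
      · exact mul_one 1
    rw [this, Matrix.diagonal_one]
  have hH'eq : H⁻¹ = H' := inv_eq_of_mul_eq_one_right hHH'
  -- the root elements
  set t' : K := t / (u - 1) with ht'
  obtain ⟨X, hX⟩ := exists_xF hn (a := a) (c := c) hf.1 hf.2.1 t'
  obtain ⟨X', hX'⟩ := exists_xF hn (a := a) (c := c) hf.1 hf.2.1 (-t')
  obtain ⟨Z, hZ⟩ := exists_xF hn (a := a) (c := c) hf.1 hf.2.1 t
  have hXX' : X * X' = 1 := by
    apply PRES.mat_injective
    rw [map_mul, map_one, hX, hX', xF_mul hn hf.1 hf.2.1, add_neg_cancel, xF_zero]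
  have hX'eq : X⁻¹ = X' := inv_eq_of_mul_eq_one_right hXX'
  have hcomm : ⁅H, X⁆ = Z := by
    rw [commutatorElement_def, hH'eq, hX'eq]
    apply PRES.mat_injective
    rw [map_mul, map_mul, map_mul, hH, hH', hX, hX', hZ]
    have hconj : Matrix.diagonal (dg a u) * xF a c t' * Matrix.diagonal (dg a u⁻¹) = xF a c (u * t') := by
      unfold xF
      rw [mul_sub, mul_add, sub_mul, add_mul, mul_one, diag_conj_single, diag_conj_single,
        Matrix.diagonal_mul_diagonal]
      have e0 : (fun x => dg a u x * dg a u⁻¹ x) = fun _ => (1 : K) := by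
        funext x
        unfold dg
        split_ifs
        · exact mul_inv_cancel₀ hu0
        · rw [inv_inv]; exact inv_mul_cancel₀ hu0
        · exact mul_one 1
      rw [e0, Matrix.diagonal_one]
      have e1 : dg a u a * t' * dg a u⁻¹ c = u * t' := by
        unfold dg
        rw [if_pos rfl, if_neg hf.1.symm, if_neg hf.2.2, mul_one]
      have e2 : dg a u c.rev * t' * dg a u⁻¹ a.rev = u * t' := by
        unfold dg
        have r := rev_ne_self hn a
        have q1 : c.rev ≠ a := fun e => hf.2.1 e.symm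
        have q2 : c.rev ≠ a.rev := fun e => hf.1 (Fin.rev_injective e).symm
        rw [if_neg q1, if_neg q2, if_neg r, if_pos rfl, inv_inv]
        ring
      rw [e1, e2]
    rw [hconj, xF_mul hn hf.1 hf.2.1]
    congr 1
    rw [ht']
    field_simp
    ring
  refine ⟨⟨Z, ?_⟩, ?_⟩
  · rw [← hcomm]
    exact ROOTOMB.comm_mem_OmJ H X
  · show mat n Z = xR n i k t
    rw [hZ, xR_eq_xF h]

end ROOTOMA

end Cfsg.Agent.S2548P
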