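import Mathlib
import Cfsg.Agent.Helper10.S2548Defs
import Cfsg.Agent.Helper10.S2548ROOTOMA
import Cfsg.Agent.Helper10.S2548ROOTOMB
import Cfsg.Agent.Helper17.S2548SUPP
import Cfsg.Agent.Helper19.S2548WMON

set_option autoImplicit false
open scoped Matrix

/-!
# S2548 piece ROOTOM: root elements and the monomial lifts lie in `Ω`
-/

namespace Cfsg.Agent.S2548P

open Cfsg.Agent.MatBN
open Cfsg.Agent.S2546P (E)

variable {K : Type*} [Field K] {n : ℕ}

namespace ROOTOM

theorem exists_xR_mem_Om [Fintype K] (hn : n % 2 = 0) (hn4 : 4 ≤ n)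
    (hne : ¬ (n = 4 ∧ Fintype.card K = 2)) {i k : ℕ} (h : IsRt n i k) (t : K) :
    ∃ g : OmJ K n, rho n g = xR n i k t := by
  by_cases hK : 3 ≤ Fintype.card K
  · exact ROOTOMA.exists_xR_of_card hn hK h t
  · have h2 : 2 ≤ Fintype.card K := by
      have := Fintype.one_lt_card (α := K)
      omega
    have hn6 : 6 ≤ n := by
      by_contra h6
      apply hne
      constructor <;> omega
    exact ROOTOMB.exists_xR_of_six hn hn6 h t

theorem exists_wM_mem_Om [Fintype K] (hn : n % 2 = 0) (hn4 : 4 ≤ n)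
    (hne : ¬ (n = 4 ∧ Fintype.card K = 2)) {i k : ℕ} (h : IsRt n i k) :
    ∃ g : OmJ K n, rho n g = wM n i k := by
  obtain ⟨x, hx⟩ := exists_xR_mem_Om hn hn4 hne h (1 : K)
  obtain ⟨y, hy⟩ := exists_xR_mem_Om hn hn4 hne (SUPP.isRt_symm h) (-1 : K)
  refine ⟨x * y * x, ?_⟩
  rw [map_mul, map_mul, hx, hy, WMON.wM_eq hn h]

end ROOTOM

end Cfsg.Agent.S2548P
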