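import Mathlib
import Cfsg.Agent.Helper10.S2548Defs
import Cfsg.Agent.Helper10.S2548PRES
import Cfsg.Agent.Helper10.S2548ROOTMEM
import Cfsg.Agent.Helper23.S2546MONALG
import Cfsg.Agent.Helper18.S2548MONREV

set_option autoImplicit false
open scoped Matrix

/-!
# S2548 piece MONCONJ: a monomial isometry conjugates root elements to root elements
-/

namespace Cfsg.Agent.S2548P

open Cfsg.Agent.MatBN
open Cfsg.Agent.S2546P (E)

variable {K : Type*} [Field K] {n : ℕ}

namespace MONCONJ

open MONALG ROOTMEM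

theorem mat_mul_inv (g : OJ K n) : mat n g * mat n g⁻¹ = 1 := by
  rw [← map_mul, mul_inv_cancel, map_one]

theorem mat_inv_mul (g : OJ K n) : mat n g⁻¹ * mat n g = 1 := by
  rw [← map_mul, inv_mul_cancel, map_one]

/-- conjugating a matrix unit by a monomial matrix -/
theorem conj_single {G G' : Matrix (Fin n) (Fin n) K} {π : Equiv.Perm (Fin n)} (hG : Mon G π)
    (hGG' : G * G' = 1) (a c : Fin n) (t : K) :
    G * Matrix.single a c t * G' = Matrix.single (π a) (π c) (G (π a) a * t * G' c (π c)) := by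
  have hN : Mon G' π⁻¹ := Mon.of_mul_eq_one hG hGG'
  ext x y
  rw [mul_apply_right hN, mul_apply_left hG]
  by_cases hx : x = π a
  · by_cases hy : y = π c
    · subst hx hy
      rw [Matrix.single_apply_same, inv_apply_self', inv_apply_self', Matrix.single_apply_same]
    · rw [Matrix.single_apply_of_ne _ _ _ _ _ (fun h => hy h.2.symm),
        Matrix.single_apply_of_ne, mul_zero, zero_mul]
      rintro ⟨-, h2⟩
      apply hy
      rw [h2, apply_inv_self']
  · rw [Matrix.single_apply_of_ne _ _ _ _ _ (fun h => hx h.1.symm),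
      Matrix.single_apply_of_ne, mul_zero, zero_mul]
    rintro ⟨h1, -⟩
    apply hx
    rw [h1, apply_inv_self']

/-- `G' x (π x) * G (π x) x = 1` -/
theorem inv_entry {G G' : Matrix (Fin n) (Fin n) K} {π : Equiv.Perm (Fin n)} (hG : Mon G π)
    (hG'G : G' * G = 1) (x : Fin n) : G' x (π x) * G (π x) x = 1 := by
  have h := congrFun (congrFun hG'G x) x
  rw [Matrix.one_apply_eq, mul_apply_right hG] at h
  exact h

/-- `G (π x) x * G (π x.rev) x.rev = 1` for a monomial isometry -/
theorem rev_entry (hn : n % 2 = 0) (g : OJ K n) (π : Equiv.Perm (Fin n)) (hg : Mon (mat n g) π)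
    (x : Fin n) : mat n g (π x) x * mat n g (π x.rev) x.rev = 1 := by
  have h := (PRES.presQ_of_mem hn g).2 x x.rev (rev_ne_self hn x).symm
  rw [if_pos rfl, Finset.sum_eq_single (π x)] at h
  · rw [← h, MONREV.mon_rev hn g π hg]
  · intro b _ hb
    have : mat n g b x = 0 := by
      by_contra h0
      exact hb ((hg b x).1 h0)
    rw [this, zero_mul]
  · intro h'
    exact absurd (Finset.mem_univ _) h'

theorem mon_conj (hn : n % 2 = 0) (g : OJ K n) (π : Equiv.Perm (Fin n)) (hg : Mon (mat n g) π)
    (a c : Fin n) (h : IsRt n a.val c.val) (t : K) :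
    ∃ t' : K, (t' = 0 ↔ t = 0) ∧
      mat n g * xR n a.val c.val t * mat n g⁻¹ = xR n (π a).val (π c).val t' := by
  have hGG' := mat_mul_inv g
  have hG'G := mat_inv_mul g
  have h' : IsRt n (π a).val (π c).val := MONREV.mon_isRt hn g π hg a c h
  -- the coefficient
  set lam : K := mat n g (π a) a * mat n g⁻¹ c (π c) with hlam
  have hne1 : mat n g (π a) a ≠ 0 := apply_ne_zero hg a
  have hne2 : mat n g⁻¹ c (π c) ≠ 0 := by
    intro h0
    have := inv_entry hg hG'G c
    rw [h0, zero_mul] at this
    exact zero_ne_one this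
  have hlam0 : lam ≠ 0 := mul_ne_zero hne1 hne2
  -- the second coefficient agrees
  have hsecond : mat n g (π c.rev) c.rev * mat n g⁻¹ a.rev (π a.rev) = lam := by
    have e1 : mat n g (π c.rev) c.rev = mat n g⁻¹ c (π c) := by
      have h1 := rev_entry hn g π hg c
      have h2 := inv_entry hg hG'G c
      have hne : mat n g (π c) c ≠ 0 := apply_ne_zero hg c
      apply mul_left_cancel₀ hne
      rw [h1, mul_comm, h2]
    have e2 : mat n g⁻¹ a.rev (π a.rev) = mat n g (π a) a := by
      have h1 := rev_entry hn g π hg a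
      have h2 := inv_entry hg hG'G a.rev
      have hne : mat n g (π a.rev) a.rev ≠ 0 := apply_ne_zero hg a.rev
      apply mul_right_cancel₀ hne
      rw [h2, h1]
    rw [e1, e2, hlam, mul_comm]
  refine ⟨lam * t, ?_, ?_⟩
  · constructor
    · intro h0
      rcases mul_eq_zero.1 h0 with h1 | h1
      · exact absurd h1 hlam0
      · exact h1
    · intro h0
      rw [h0, mul_zero]
  · have ha : (⟨a.val, h.1⟩ : Fin n) = a := Fin.ext rfl
    have hc : (⟨c.val, h.2.1⟩ : Fin n) = c := Fin.ext rfl
    have hpa : (⟨(π a).val, h'.1⟩ : Fin n) = π a := Fin.ext rfl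
    have hpc : (⟨(π c).val, h'.2.1⟩ : Fin n) = π c := Fin.ext rfl
    rw [xR_eq_xF h, xR_eq_xF h', ha, hc, hpa, hpc]
    unfold xF
    rw [mul_sub, mul_add, sub_mul, add_mul, mul_one, hGG', conj_single hg hGG', conj_single hg hGG',
      MONREV.mon_rev hn g π hg c, MONREV.mon_rev hn g π hg a]
    have e3 : mat n g (π a) a * t * mat n g⁻¹ c (π c) = lam * t := by rw [hlam]; ring
    have e4 : mat n g ((π c).rev) c.rev * t * mat n g⁻¹ a.rev ((π a).rev) = lam * t := by
      rw [← hsecond, MONREV.mon_rev hn g π hg c, MONREV.mon_rev hn g π hg a]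
      ring
    rw [e3, e4]

end MONCONJ

end Cfsg.Agent.S2548P
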