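import Mathlib
import Cfsg.Agent.Helper10.S2548Defs
import Cfsg.Agent.Helper10.MatBNC
import Cfsg.Agent.Helper10.S2548PRES
import Cfsg.Agent.Helper10.S2548ROOTMEM
import Cfsg.Agent.Helper10.S2548ROOTOM
import Cfsg.Agent.Helper19.S2548WMON
import Cfsg.Agent.Helper17.S2548SUPP
import Cfsg.Agent.Helper23.S2548TAU
import Cfsg.Agent.Helper23.S2548HAL
import Cfsg.Agent.Helper25.S2548HAD
import Cfsg.Agent.Helper17.S2548HD
import Cfsg.Agent.Helper19.S2548DIAG
import Cfsg.Agent.Helper23.S2548HE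
import Cfsg.Agent.Helper16.S2548RTLE
import Cfsg.Agent.Helper7.S2548COMMQ

set_option autoImplicit false
open scoped Matrix

/-!
# S2548: assembling the `MatBN.DataC` of `Ω⁺_n(K)` (`n = 2m ≥ 4`, not `(n, |K|) = (4, 2)`)
-/

namespace Cfsg.Agent.S2548P

open Cfsg.Agent.MatBN
open Cfsg.Agent.S2546P (E)

variable {K : Type*} [Field K] {n : ℕ}

namespace GEN

theorem gen_all [Fintype K] (hn : n % 2 = 0) (hn4 : 4 ≤ n) (hne : ¬ (n = 4 ∧ Fintype.card K = 2))
    (s : Fin (n / 2) → OmJ K n) (hs : ∀ j, rho n (s j) = sMat n j) (g : OmJ K n) :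
    g ∈ Subgroup.closure ({b : OmJ K n | IsTri (rho n b)} ∪ Set.range s) :=
  RTLE.Rt_le hn hn4 hne s hs g (COMMQ.Om_le_Rt hn hn4 hne g)

end GEN

namespace DATA

theorem rho_coe (g : OmJ K n) : rho n g = mat n (g : OJ K n) := rfl

theorem sMat_eq (n j : ℕ) : (sMat n j : Matrix (Fin n) (Fin n) K) = wM n (nodeI n j) (nodeK n j) := rfl

/-- two elements of `Ω` with root element matrices of opposite parameters are inverse to each other -/
theorem inv_of_xR (hn : n % 2 = 0) {i k : ℕ} (h : IsRt n i k) {t : K} {x y : OmJ K n}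
    (hx : rho n x = xR n i k t) (hy : rho n y = xR n i k (-t)) : x⁻¹ = y := by
  apply inv_eq_of_mul_eq_one_right
  apply PRES.rho_injective
  rw [map_mul, map_one, hx, hy, ROOTMEM.xR_mul hn h, add_neg_cancel, ROOTMEM.xR_zero]

/-- conjugating a root element by the monomial lift gives the opposite root element -/
theorem conj_of_xR (hn : n % 2 = 0) {i k : ℕ} (h : IsRt n i k) {t : K} {s x z : OmJ K n}
    (hs : rho n s = wM n i k) (hx : rho n x = xR n i k t) (hz : rho n z = xR n k i (-t)) :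
    s * x * s⁻¹ = z := by
  have h1 : z * s = s * x := by
    apply PRES.rho_injective
    rw [map_mul, map_mul, hs, hx, hz, WMON.wM_mul_xR hn h]
  rw [← h1, mul_inv_cancel_right]

end DATA

open DATA in
theorem exists_data [Fintype K] (p : ℕ) [Fact p.Prime] [CharP K p] (hn : n % 2 = 0) (hn4 : 4 ≤ n)
    (hne : ¬ (n = 4 ∧ Fintype.card K = 2)) :
    ∃ D : DataC (OmJ K n) K n (n / 2), D.ρ = rho n ∧ (∀ j, rho n (D.s j) = sMat n j) ∧
      (∀ j : Fin (n / 2), D.X j = Xset n j) := by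
  have hnode : ∀ j : Fin (n / 2), IsRt n (nodeI n j) (nodeK n j) ∧ nodeI n j < nodeK n j :=
    fun j => SUPP.isRt_node hn hn4 j.2
  have hs : ∀ j : Fin (n / 2), ∃ s : OmJ K n, rho n s = sMat n j := fun j =>
    ROOTOM.exists_wM_mem_Om hn hn4 hne (hnode j).1
  choose s hs using hs
  have hX : ∀ {i k : ℕ}, IsRt n i k → ∀ t : K, ∃ g : OmJ K n, rho n g = xR n i k t :=
    fun h t => ROOTOM.exists_xR_mem_Om hn hn4 hne h t
  refine ⟨{ ρ := rho n
            ρ_inj := PRES.rho_injective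
            s := s
            τ := fun j => tau n j
            X := fun j => Xset n j
            mon_s := ?_
            τ_sq := fun j => TAU.tau_sq hn hn4 j.2
            τ_inj := ?_
            X_uni := ?_
            Y_low := ?_
            X_ne := ?_
            ha := ?_
            hd := ?_
            he := ?_
            gen := fun g => GEN.gen_all hn hn4 hne s hs g
            diag := fun b hb => DIAG.exists_diag p hn b hb }, rfl, hs, fun _ => rfl⟩
  · -- mon_s
    intro j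
    rw [hs j]
    exact WMON.mon_wM hn (hnode j).1
  · -- τ_inj
    intro j j' h
    exact Fin.ext (TAU.tau_inj hn hn4 j.2 j'.2 h)
  · -- X_uni
    rintro j x ⟨t, ht⟩
    rw [ht]
    exact SUPP.isUni_xR hn (hnode j).1 (hnode j).2 t
  · -- Y_low
    rintro j x ⟨t, ht⟩
    obtain ⟨z, hz⟩ := hX (SUPP.isRt_symm (hnode j).1) (-t)
    rw [conj_of_xR hn (hnode j).1 (hs j) ht hz, hz]
    exact SUPP.isLow_xR hn (SUPP.isRt_symm (hnode j).1) (hnode j).2 _
  · -- X_ne
    intro j
    obtain ⟨x, hx⟩ := hX (hnode j).1 (1 : K)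
    refine ⟨x, ⟨1, hx⟩, ?_⟩
    intro h1
    rw [h1, map_one, ← ROOTMEM.xR_zero (nodeI n j) (nodeK n j)] at hx
    exact zero_ne_one (SUPP.xR_injective (hnode j).1 hx)
  · -- ha
    intro j b hb
    have key : ∃ t : K, ∀ s' x : OJ K n, mat n s' = wM n (nodeI n j) (nodeK n j) →
        mat n x = xR n (nodeI n j) (nodeK n j) t → IsTri (mat n (s' * ((b : OJ K n) * x⁻¹) * s'⁻¹)) := by
      by_cases hj : (j : ℕ) + 1 < n / 2
      · have e1 : nodeI n j = j := by unfold nodeI; rw [if_pos hj]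
        have e2 : nodeK n j = (j : ℕ) + 1 := rfl
        rw [e1, e2]
        exact HAL.ha_lin hn hn4 hj (b : OJ K n) hb
      · have hj2 := j.2
        have e0 : (j : ℕ) = n / 2 - 1 := by omega
        have e1 : nodeI n j = n / 2 - 2 := by unfold nodeI; rw [if_neg hj]; omega
        have e2 : nodeK n j = n / 2 := by unfold nodeK; omega
        rw [e1, e2]
        exact HAD.ha_dnode hn hn4 (b : OJ K n) hb
    obtain ⟨t, ht⟩ := key
    obtain ⟨x, hx⟩ := hX (hnode j).1 t
    exact ⟨x, ⟨t, hx⟩, ht (s j : OJ K n) (x : OJ K n) (hs j) hx⟩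
  · -- hd
    rintro j x ⟨t, ht⟩ hx1
    have ht0 : t ≠ 0 := by
      intro h0
      apply hx1
      apply PRES.rho_injective
      rw [ht, h0, ROOTMEM.xR_zero, map_one]
    obtain ⟨x', hx'⟩ := hX (hnode j).1 (-t⁻¹)
    obtain ⟨y, hy⟩ := hX (SUPP.isRt_symm (hnode j).1) (t⁻¹)
    obtain ⟨y', hy'⟩ := hX (SUPP.isRt_symm (hnode j).1) (-t⁻¹)
    have hconj : s j * x' * (s j)⁻¹ = y :=
      conj_of_xR hn (hnode j).1 (hs j) hx' (by rw [neg_neg]; exact hy)
    have hyinv : y⁻¹ = y' := inv_of_xR hn (SUPP.isRt_symm (hnode j).1) hy hy'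
    refine ⟨s j * x * y⁻¹, ?_, x', ⟨_, hx'⟩, ?_⟩
    · rw [hyinv, map_mul, map_mul, hs j, ht, hy']
      exact HD.hd_tri hn (hnode j).1 (hnode j).2 ht0
    · rw [hconj, inv_mul_cancel_right]
  · -- he
    intro j g π hg
    rcases HE.he_all hn (hnode j).1 (g : OJ K n) π hg with h1 | h1
    · left
      rintro x ⟨t, ht⟩
      have := h1 t
      rw [map_mul, map_mul, ht]
      exact this
    · right
      rintro x ⟨t, ht⟩
      obtain ⟨z, hz⟩ := hX (SUPP.isRt_symm (hnode j).1) (-t)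
      rw [conj_of_xR hn (hnode j).1 (hs j) ht hz, map_mul, map_mul, hz]
      exact h1 (-t)

end Cfsg.Agent.S2548P
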