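import Mathlib
import Cfsg.Agent.Helper10.S2548Defs
import Cfsg.Agent.Helper10.MatBNC
import Cfsg.Agent.Helper20.S2548N0
import Cfsg.Agent.Helper20.S2548N0OPP
import Cfsg.Agent.Helper20.S2548N0LOW
import Cfsg.Agent.Helper10.S2548DATA

set_option autoImplicit false
open scoped Matrix

/-!
# S2548: the Steinberg character of `Ω⁺_n(K) / Z` (`n = 2m ≥ 4`, not `(n, |K|) = (4, 2)`)
-/

namespace Cfsg.Agent.S2548P

open Cfsg.Agent.MatBN
open Cfsg.Agent.S2546P (E)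

variable {K : Type*} [Field K] {n : ℕ}

theorem steinberg_OmJ [Fintype K] (p : ℕ) [Fact p.Prime] [CharP K p] (hn : n % 2 = 0) (hn4 : 4 ≤ n)
    (hne : ¬ (n = 4 ∧ Fintype.card K = 2)) :
    ∃ χ : OmJ K n ⧸ Subgroup.center (OmJ K n) → ℂ,
      Cfsg.IsIrrCharacter (OmJ K n ⧸ Subgroup.center (OmJ K n)) χ ∧
      ∀ Q : Sylow p (OmJ K n ⧸ Subgroup.center (OmJ K n)), χ 1 = Nat.card Q ∧
        ∀ x : OmJ K n ⧸ Subgroup.center (OmJ K n), x ∈ Q → x ≠ 1 → χ x = 0 := by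
  obtain ⟨D, hρ, hs, hX⟩ := exists_data (K := K) (n := n) p hn hn4 hne
  obtain ⟨n₀, hn₀, hmon⟩ := N0.exists_n0 hn hn4 D.s hs
  have hX' : ∀ {i k : ℕ}, IsRt n i k → ∀ t : K, ∃ g : OmJ K n, rho n g = xR n i k t :=
    fun h t => ROOTOM.exists_xR_mem_Om hn hn4 hne h t
  have hnode : ∀ j : Fin (n / 2), IsRt n (nodeI n j) (nodeK n j) ∧ nodeI n j < nodeK n j :=
    fun j => SUPP.isRt_node hn hn4 j.2
  apply D.exists_steinberg p n₀ hn₀
  · -- hdesc
    intro j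
    obtain ⟨x, hx, hx1⟩ := D.X_ne j
    obtain ⟨b₁, hb₁, x', hx', heq⟩ := D.hd j x hx hx1
    refine ⟨x, ?_, b₁, hb₁, D.s j * x' * (D.s j)⁻¹, heq, ?_⟩
    · exact (D.X_uni j x hx).1
    · rw [hX j] at hx'
      obtain ⟨t, ht⟩ := hx'
      obtain ⟨z, hz⟩ := hX' (SUPP.isRt_symm (hnode j).1) (-t)
      obtain ⟨z', hz'⟩ := hX' (SUPP.isRt_symm (hnode j).1) t
      have h1 : D.s j * x' * (D.s j)⁻¹ = z :=
        DATA.conj_of_xR hn (hnode j).1 ((hs j).trans (DATA.sMat_eq n j)) ht hz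
      have h2 : z⁻¹ = z' :=
        DATA.inv_of_xR hn (SUPP.isRt_symm (hnode j).1) hz (by rw [neg_neg]; exact hz')
      rw [h1, h2]
      show IsTri (D.ρ (n₀ * z' * n₀⁻¹))
      rw [hρ, map_mul, map_mul, hz']
      exact N0LOW.n0_low hn hn4 (n₀ : OJ K n) hmon (SUPP.isRt_symm (hnode j).1) (hnode j).2 t
  · -- hopp
    intro x hx hc
    have hx' : IsUni (rho n x) := by
      have := hx
      rw [DataC.mem_uni, hρ] at this
      exact this
    have hc' : IsTri (rho n (n₀⁻¹ * x * n₀)) := by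
      have := hc
      rw [DataC.mem_borel, hρ] at this
      exact this
    have := N0OPP.n0_opp hn hn4 (n₀ : OJ K n) hmon (x : OJ K n) hx' hc'
    exact Subtype.ext this

end Cfsg.Agent.S2548P
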