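import Mathlib
import Cfsg.Prelude.Def_Solvable
import Cfsg.Agent.Lead.S2553Defs
import Cfsg.Agent.Lead.S2553SYLAMB

set_option autoImplicit false

/-! # S2553 piece ORBIT360 (core, with N5 as a hypothesis): the orbits of a simple subgroup of order 360 of `A₈` on the 8 points have
size 1 or 6. -/

namespace Cfsg.Agent.S2553P

namespace ORBIT360

/-- a group of order 45 has a normal subgroup of order 5 -/
theorem exists_normal_five {U : Type*} [Group U] (hU : Nat.card U = 45) :
    ∃ P : Subgroup U, P.Normal ∧ Nat.card ↥P = 5 := by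
  haveI : Finite U := Nat.finite_of_card_ne_zero (by rw [hU]; norm_num)
  haveI : Fact (Nat.Prime 5) := ⟨by norm_num⟩
  obtain ⟨P⟩ : Nonempty (Sylow 5 U) := inferInstance
  -- the order of `P`
  obtain ⟨n, hn⟩ := IsPGroup.iff_card.mp P.isPGroup'
  have h5 : 5 ^ 1 ∣ Nat.card ↥(P : Subgroup U) :=
    P.pow_dvd_card_of_pow_dvd_card (by rw [hU]; norm_num)
  have hPdvd : Nat.card ↥(P : Subgroup U) ∣ 45 := by
    rw [← hU]
    exact Subgroup.card_subgroup_dvd_card _
  have hP5 : Nat.card ↥(P : Subgroup U) = 5 := by
    rw [hn] at h5 hPdvd ⊢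
    rcases n with _ | _ | n
    · norm_num at h5
    · norm_num
    · exfalso
      have : 25 ∣ 45 := dvd_trans (by rw [pow_succ, pow_succ]; exact ⟨5 ^ n, by ring⟩) hPdvd
      norm_num at this
  have hidx : (P : Subgroup U).index = 9 := by
    have := Subgroup.card_mul_index (P : Subgroup U)
    rw [hP5, hU] at this
    omega
  have h1 : Nat.card (Sylow 5 U) ∣ 9 := hidx ▸ P.card_dvd_index
  have h2 : Nat.card (Sylow 5 U) ≡ 1 [MOD 5] := card_sylow_modEq_one 5 U
  have h3 : Nat.card (Sylow 5 U) = 1 := by
    have hle : Nat.card (Sylow 5 U) ≤ 9 := Nat.le_of_dvd (by norm_num) h1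
    have hmod : Nat.card (Sylow 5 U) % 5 = 1 := h2
    obtain ⟨m, hm⟩ : ∃ m, m = Nat.card (Sylow 5 U) := ⟨_, rfl⟩
    rw [← hm] at h1 hmod hle ⊢
    interval_cases m <;> first | rfl | omega | (exfalso; norm_num at h1)
  refine ⟨(P : Subgroup U), ?_, hP5⟩
  rw [← Subgroup.normalizer_eq_top_iff, ← Subgroup.index_eq_one]
  have h4 := P.card_eq_index_normalizer
  rw [h3] at h4
  exact h4.symm

end ORBIT360

/-- ORBIT360 with N5 as a hypothesis -/
theorem ORBIT360.core
    (hN5 : ∀ P : Subgroup Γ8, Nat.card ↥P = 5 →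
      Nat.card ↥(A8 ⊓ Subgroup.normalizer (P : Set Γ8)) = 60)
    (S : Subgroup Γ8) (hSA : S ≤ A8) (hs : IsSimpleGroup ↥S)
    (hcard : Nat.card ↥S = 360) (x : Fin 8) :
    Nat.card ↥(MulAction.orbit ↥S x) = 1 ∨ Nat.card ↥(MulAction.orbit ↥S x) = 6 := by
  classical
  haveI := hs
  set k := Nat.card ↥(MulAction.orbit ↥S x) with hk
  set U := MulAction.stabilizer ↥S x with hU
  have hidx : U.index = k := by
    rw [hU, MulAction.index_stabilizer, hk, Nat.card_coe_set_eq]
  have hmul : Nat.card ↥U * k = 360 := by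
    rw [← hidx, Subgroup.card_mul_index, hcard]
  have hk8 : k ≤ 8 := by
    have := Finite.card_subtype_le (fun y : Fin 8 => y ∈ MulAction.orbit ↥S x)
    rw [Nat.card_eq_fintype_card (α := Fin 8), Fintype.card_fin] at this
    exact this
  have hkdvd : k ∣ 360 := ⟨Nat.card ↥U, by rw [← hmul, mul_comm]⟩
  have hk0 : 0 < k := Nat.pos_of_dvd_of_pos hkdvd (by norm_num)
  -- faithfulness on a nontrivial orbit
  have hfaith : 2 ≤ k → 360 ∣ k.factorial := by
    intro hk2
    set φ : ↥S →* Equiv.Perm ↥(MulAction.orbit ↥S x) :=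
      MulAction.toPermHom ↥S ↥(MulAction.orbit ↥S x) with hφ
    have hker : φ.ker = ⊥ := by
      rcases Subgroup.Normal.eq_bot_or_eq_top (MonoidHom.normal_ker φ) with h | h
      · exact h
      · exfalso
        have hfix : ∀ s : ↥S, s • x = x := by
          intro s
          have hs1 : φ s = 1 := by
            rw [← MonoidHom.mem_ker, h]
            exact Subgroup.mem_top s
          have h2 := congrArg (fun σ : Equiv.Perm ↥(MulAction.orbit ↥S x) =>
            ((σ ⟨x, MulAction.mem_orbit_self x⟩ : ↥(MulAction.orbit ↥S x)) : Fin 8)) hs1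
          simpa [hφ] using h2
        have hUtop : U = ⊤ := by
          rw [eq_top_iff]
          intro s _
          rw [hU, MulAction.mem_stabilizer_iff]
          exact hfix s
        rw [hUtop, Subgroup.index_top] at hidx
        omega
    have hinj : Function.Injective φ := (MonoidHom.ker_eq_bot_iff φ).mp hker
    have := Subgroup.card_dvd_of_injective φ hinj
    rw [hcard, Nat.card_perm] at this
    exact this
  -- the case `k = 8`
  have h8 : k ≠ 8 := by
    intro hk8'
    have hU45 : Nat.card ↥U = 45 := by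
      rw [hk8'] at hmul
      omega
    obtain ⟨P, hPn, hP5⟩ := ORBIT360.exists_normal_five hU45
    set P' : Subgroup ↥S := P.map U.subtype with hP'
    have hP'5 : Nat.card ↥P' = 5 := by
      rw [hP', Subgroup.card_map_of_injective (Subgroup.subtype_injective U), hP5]
    have hUle : U ≤ Subgroup.normalizer (P' : Set ↥S) := by
      have h1 := Subgroup.le_normalizer_map (H := P) U.subtype
      rw [Subgroup.normalizer_eq_top_iff.mpr hPn, ← MonoidHom.range_eq_map,
        Subgroup.range_subtype] at h1
      exact h1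
    have h45 : 45 ∣ Nat.card ↥(Subgroup.normalizer (P' : Set ↥S)) := by
      rw [← hU45]
      exact Subgroup.card_dvd_of_le hUle
    have h60 := card_normalizer_dvd S hSA P'
    rw [hN5 (P'.map S.subtype)
      (by rw [Subgroup.card_map_of_injective (Subgroup.subtype_injective S), hP'5])] at h60
    have := dvd_trans h45 h60
    norm_num at this
  have hcases : k = 1 ∨ k = 2 ∨ k = 3 ∨ k = 4 ∨ k = 5 ∨ k = 6 ∨ k = 7 ∨ k = 8 := by omega
  rcases hcases with h | h | h | h | h | h | h | h
  · exact Or.inl h
  · exfalso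
    have := hfaith (by omega)
    rw [h] at this
    norm_num [Nat.factorial] at this
  · exfalso
    have := hfaith (by omega)
    rw [h] at this
    norm_num [Nat.factorial] at this
  · exfalso
    have := hfaith (by omega)
    rw [h] at this
    norm_num [Nat.factorial] at this
  · exfalso
    have := hfaith (by omega)
    rw [h] at this
    norm_num [Nat.factorial] at this
  · exact Or.inr h
  · exfalso
    rw [h] at hkdvd
    norm_num at hkdvd
  · exact absurd h h8

end Cfsg.Agent.S2553P
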