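import Mathlib
import Cfsg.Prelude.Def_Solvable
import Cfsg.Agent.Lead.S2553Defs
import Cfsg.Agent.Helper10.S2553ORBIT360a

set_option autoImplicit false

/-! # S2553 piece FIX360 (core, with N5 as a hypothesis): a simple subgroup of order 360 of `A₈` fixes exactly two of the 8 points. -/

namespace Cfsg.Agent.S2553P

/-- FIX360 with N5 as a hypothesis -/
theorem FIX360.core
    (hN5 : ∀ P : Subgroup Γ8, Nat.card ↥P = 5 →
      Nat.card ↥(A8 ⊓ Subgroup.normalizer (P : Set Γ8)) = 60)
    (S : Subgroup Γ8) (hSA : S ≤ A8) (hs : IsSimpleGroup ↥S)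
    (hcard : Nat.card ↥S = 360) :
    ∃ a b : Fin 8, a ≠ b ∧ ∀ x : Fin 8, (∀ g ∈ S, g x = x) ↔ (x = a ∨ x = b) := by
  classical
  set Fx : Set (Fin 8) := {x | ∀ g ∈ S, g x = x} with hFx
  -- the action of `S`
  have hsmul : ∀ (s : ↥S) (x : Fin 8), s • x = (s : Γ8) x := fun _ _ => rfl
  -- orbits of non-fixed points have 6 elements and consist of non-fixed points
  have horb6 : ∀ y : Fin 8, y ∉ Fx → (MulAction.orbit ↥S y).ncard = 6 := by
    intro y hy
    rcases ORBIT360.core hN5 S hSA hs hcard y with h | h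
    · exfalso
      apply hy
      intro g hg
      rw [Nat.card_coe_set_eq, Set.ncard_eq_one] at h
      obtain ⟨z, hz⟩ := h
      have h1 : y ∈ MulAction.orbit ↥S y := MulAction.mem_orbit_self y
      have h2 : (⟨g, hg⟩ : ↥S) • y ∈ MulAction.orbit ↥S y := MulAction.mem_orbit y _
      rw [hz, Set.mem_singleton_iff] at h1 h2
      rw [hsmul] at h2
      show g y = y
      have h3 : g y = z := h2
      rw [h3, h1]
    · rw [← Nat.card_coe_set_eq]
      exact h
  have horbsub : ∀ y : Fin 8, y ∉ Fx → MulAction.orbit ↥S y ⊆ Fxᶜ := by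
    intro y hy z hz hzF
    apply hy
    obtain ⟨s, rfl⟩ := hz
    -- `s • y` is fixed, so `y = s⁻¹ • (s • y) = s • y`
    have h1 : ((s⁻¹ : ↥S) : Γ8) (s • y) = s • y := hzF _ (s⁻¹).2
    have h2 : ((s⁻¹ : ↥S) : Γ8) (s • y) = y := by
      rw [← hsmul, smul_smul, inv_mul_cancel, one_smul]
    rw [h2] at h1
    rw [h1]
    exact hzF
  -- some point is not fixed
  have hex : ∃ y : Fin 8, y ∉ Fx := by
    by_contra hcon
    push Not at hcon
    have hbot : ∀ s : ↥S, s = 1 := by
      intro s
      apply Subtype.ext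
      apply Equiv.ext
      intro x
      exact hcon x _ s.2
    have : Nat.card ↥S = 1 := by
      haveI : Subsingleton ↥S := ⟨fun a b => by rw [hbot a, hbot b]⟩
      exact Nat.card_unique
    rw [hcard] at this
    norm_num at this
  obtain ⟨y, hy⟩ := hex
  -- the non-fixed points form a single orbit
  have hcompl : Fxᶜ = MulAction.orbit ↥S y := by
    apply Set.Subset.antisymm _ (horbsub y hy)
    intro y' hy'
    by_contra hnot
    have hy'F : y' ∉ Fx := hy'
    have hdisj : Disjoint (MulAction.orbit ↥S y) (MulAction.orbit ↥S y') := by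
      rw [Set.disjoint_left]
      intro z hz hz'
      apply hnot
      have e1 := MulAction.orbit_eq_iff.mpr hz
      have e2 := MulAction.orbit_eq_iff.mpr hz'
      rw [← e1, e2]
      exact MulAction.mem_orbit_self y'
    have h12 : (MulAction.orbit ↥S y ∪ MulAction.orbit ↥S y').ncard = 12 := by
      rw [Set.ncard_union_eq hdisj (Set.toFinite _) (Set.toFinite _), horb6 y hy, horb6 y' hy'F]
    have h8 : (MulAction.orbit ↥S y ∪ MulAction.orbit ↥S y').ncard ≤ 8 := by
      have := Set.ncard_le_card (MulAction.orbit ↥S y ∪ MulAction.orbit ↥S y')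
      rw [Nat.card_eq_fintype_card, Fintype.card_fin] at this
      exact this
    omega
  have hF2 : Fx.ncard = 2 := by
    have h1 := Set.ncard_add_ncard_compl Fx
    rw [hcompl, horb6 y hy, Nat.card_eq_fintype_card, Fintype.card_fin] at h1
    omega
  obtain ⟨a, b, hab, hFab⟩ := Set.ncard_eq_two.mp hF2
  refine ⟨a, b, hab, ?_⟩
  intro x
  have : x ∈ Fx ↔ x ∈ ({a, b} : Set (Fin 8)) := by rw [hFab]
  rw [Set.mem_insert_iff, Set.mem_singleton_iff] at this
  exact this

end Cfsg.Agent.S2553P
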