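import Mathlib
import Cfsg.Prelude.Def_Solvable
import Cfsg.Agent.Lead.S2553Defs
import Cfsg.Agent.Helper10.S2553FIX360a
import Cfsg.Agent.Helper24.S2553N5

set_option autoImplicit false

/-! # S2553 piece FIX360 -/

namespace Cfsg.Agent.S2553P

/-- FIX360: such a subgroup fixes exactly two points -/
theorem exists_fixed_pair (S : Subgroup Γ8) (hSA : S ≤ A8) (hs : IsSimpleGroup ↥S)
    (hcard : Nat.card ↥S = 360) :
    ∃ a b : Fin 8, a ≠ b ∧ ∀ x : Fin 8, (∀ g ∈ S, g x = x) ↔ (x = a ∨ x = b) :=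
  FIX360.core card_alt_inf_normalizer_five S hSA hs hcard

end Cfsg.Agent.S2553P
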