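import Mathlib
import Cfsg.Prelude.Def_Solvable
import Cfsg.Agent.Lead.S2553Defs
import Cfsg.Agent.Helper10.S2553ORBIT360a
import Cfsg.Agent.Helper24.S2553N5

set_option autoImplicit false

/-! # S2553 piece ORBIT360 -/

namespace Cfsg.Agent.S2553P

/-- ORBIT360: orbits of a simple subgroup of order 360 of `A₈` on the 8 points have size 1 or 6 -/
theorem orbit_card_of_card_360 (S : Subgroup Γ8) (hSA : S ≤ A8) (hs : IsSimpleGroup ↥S)
    (hcard : Nat.card ↥S = 360) (x : Fin 8) :
    Nat.card ↥(MulAction.orbit ↥S x) = 1 ∨ Nat.card ↥(MulAction.orbit ↥S x) = 6 :=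
  ORBIT360.core card_alt_inf_normalizer_five S hSA hs hcard x

end Cfsg.Agent.S2553P
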