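import Mathlib
import Cfsg.Agent.Helper17.S2558GDefs

/-!
# S2558 chapter (G), piece DISC: the discriminant relation `SameDisc`

Change of basis multiplies the Gram determinant by a nonzero square; orthogonal sums multiply the Gram
determinants.
-/

set_option autoImplicit false
set_option linter.unusedVariables false

namespace Cfsg.Agent.S2558P

open Polynomial Cfsg.Agent.Helper2.SympInvol Cfsg.Agent.S2676P Cfsg.Agent.S2478P Cfsg.Agent.S2481P
  Cfsg.Agent.S2482P

universe u

variable {F : Type u} [Field F]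

namespace DISC


section helpers

variable {V : Type*} [AddCommGroup V] [Module F V]

theorem isSquare_sq_mul_iff {w x : F} (hw : w ≠ 0) : IsSquare (w ^ 2 * x) ↔ IsSquare x := by
  constructor
  · rintro ⟨r, hr⟩
    refine ⟨r / w, ?_⟩
    field_simp
    linear_combination hr
  · rintro ⟨r, rfl⟩
    exact ⟨w * r, by ring⟩

theorem isSquare_of_mul {x y : F} (hy : y ≠ 0) (hxy : IsSquare (x * y)) (hy2 : IsSquare y) :
    IsSquare x := by
  obtain ⟨r, hr⟩ := hxy
  obtain ⟨s, rfl⟩ := hy2
  have hs : s ≠ 0 := by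
    intro h
    apply hy
    rw [h, mul_zero]
  refine ⟨r / s, ?_⟩
  field_simp
  linear_combination hr

/-- change of basis -/
theorem det_toMatrix_change {κ : Type*} [Fintype κ] [DecidableEq κ] (B : LinearMap.BilinForm F V)
    (b c : Module.Basis κ F V) :
    (LinearMap.BilinForm.toMatrix c B).det = (b.toMatrix c).det ^ 2 * (LinearMap.BilinForm.toMatrix b B).det := by
  rw [← LinearMap.BilinForm.toMatrix_mul_basis_toMatrix (b := b) c B, Matrix.det_mul, Matrix.det_mul,
    Matrix.det_transpose]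
  ring

theorem det_basis_toMatrix_ne_zero {κ : Type*} [Fintype κ] [DecidableEq κ]
    (b c : Module.Basis κ F V) : (b.toMatrix c).det ≠ 0 := by
  have h := Module.Basis.toMatrix_mul_toMatrix_flip b c
  intro h0
  have h1 := congrArg Matrix.det h
  rw [Matrix.det_mul, h0, zero_mul, Matrix.det_one] at h1
  exact zero_ne_one h1

theorem det_toMatrix_reindex {κ κ' : Type*} [Fintype κ] [DecidableEq κ] [Fintype κ']
    [DecidableEq κ'] (B : LinearMap.BilinForm F V) (e : κ ≃ κ') (b : Module.Basis κ F V) :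
    (LinearMap.BilinForm.toMatrix (b.reindex e) B).det = (LinearMap.BilinForm.toMatrix b B).det := by
  have h : LinearMap.BilinForm.toMatrix (b.reindex e) B = Matrix.reindex e e (LinearMap.BilinForm.toMatrix b B) := by
    ext i j
    simp [LinearMap.BilinForm.toMatrix_apply, Module.Basis.reindex_apply]
  rw [h, Matrix.det_reindex_self]

theorem det_ne_zero_of_nondeg [FiniteDimensional F V] {κ : Type*} [Fintype κ] [DecidableEq κ]
    (B : LinearMap.BilinForm F V) (hnd : Nondeg B ⊤) (b : Module.Basis κ F V) :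
    (LinearMap.BilinForm.toMatrix b B).det ≠ 0 := by
  have hnd' : B.Nondegenerate := by
    apply LinearMap.BilinForm.Nondegenerate.ofSeparatingLeft
    intro x hx
    by_contra hx0
    obtain ⟨v, _, hv⟩ := hnd x Submodule.mem_top hx0
    exact hv (hx v)
  exact (LinearMap.BilinForm.nondegenerate_iff_det_ne_zero b).mp hnd'

/-- the square class of the product of the Gram determinants does not depend on the bases -/
theorem isSquare_basis_indep {V' : Type*} [AddCommGroup V'] [Module F V'] {κ κ₂ : Type*}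
    [Fintype κ] [DecidableEq κ] [Fintype κ₂] [DecidableEq κ₂] (B : LinearMap.BilinForm F V)
    (B' : LinearMap.BilinForm F V') (b : Module.Basis κ F V) (b' : Module.Basis κ F V')
    (c : Module.Basis κ₂ F V) (c' : Module.Basis κ₂ F V') :
    IsSquare ((LinearMap.BilinForm.toMatrix b B).det * (LinearMap.BilinForm.toMatrix b' B').det) ↔
      IsSquare ((LinearMap.BilinForm.toMatrix c B).det * (LinearMap.BilinForm.toMatrix c' B').det) := by
  have e : κ ≃ κ₂ := b.indexEquiv c
  rw [det_toMatrix_change B (b.reindex e) c, det_toMatrix_change B' (b'.reindex e) c',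
    det_toMatrix_reindex, det_toMatrix_reindex]
  have h1 := det_basis_toMatrix_ne_zero (b.reindex e) c
  have h2 := det_basis_toMatrix_ne_zero (b'.reindex e) c'
  rw [show ((b.reindex e).toMatrix c).det ^ 2 * (LinearMap.BilinForm.toMatrix b B).det *
      (((b'.reindex e).toMatrix c').det ^ 2 * (LinearMap.BilinForm.toMatrix b' B').det) =
      (((b.reindex e).toMatrix c).det * ((b'.reindex e).toMatrix c').det) ^ 2 *
        ((LinearMap.BilinForm.toMatrix b B).det * (LinearMap.BilinForm.toMatrix b' B').det) by ring]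
  exact (isSquare_sq_mul_iff (mul_ne_zero h1 h2)).symm

end helpers

theorem sameDisc_refl (S : SpSpace F) (hS : S.IsOrth) : S.SameDisc S :=
  ⟨_, Module.finBasis F S.V, Module.finBasis F S.V, _, rfl⟩

theorem sameDisc_symm (S S' : SpSpace F) (h : S.SameDisc S') : S'.SameDisc S := by
  obtain ⟨k, b, b', h⟩ := h
  exact ⟨k, b', b, by rwa [mul_comm]⟩

/-- the relation can be tested on ANY pair of bases with a common index type -/
theorem sameDisc_iff_basis (S S' : SpSpace F) {κ : Type} [Fintype κ] [DecidableEq κ]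
    (b : Module.Basis κ F S.V) (b' : Module.Basis κ F S'.V) :
    S.SameDisc S' ↔
      IsSquare ((LinearMap.BilinForm.toMatrix b S.B).det * (LinearMap.BilinForm.toMatrix b' S'.B).det) := by
  constructor
  · rintro ⟨k, c, c', h⟩
    exact (isSquare_basis_indep S.B S'.B c c' b b').mp h
  · intro h
    refine ⟨Fintype.card κ, b.reindex (Fintype.equivFin κ), b'.reindex (Fintype.equivFin κ), ?_⟩
    rw [det_toMatrix_reindex, det_toMatrix_reindex]
    exact h

theorem sameDisc_trans (S S' S'' : SpSpace F) (hS' : S'.IsOrth) (h : S.SameDisc S')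
    (h' : S'.SameDisc S'') : S.SameDisc S'' := by
  obtain ⟨k, b, b', h⟩ := h
  obtain ⟨k', c', c'', h'⟩ := h'
  have e : Fin k' ≃ Fin k := c'.indexEquiv b'
  have h2 := (isSquare_basis_indep S'.B S''.B c' c'' b' (c''.reindex e)).mp h'
  refine ⟨k, b, c''.reindex e, ?_⟩
  have hne := det_ne_zero_of_nondeg S'.B hS'.nondeg b'
  have h3 := h.mul h2
  rw [show (LinearMap.BilinForm.toMatrix b S.B).det * (LinearMap.BilinForm.toMatrix b' S'.B).det *
      ((LinearMap.BilinForm.toMatrix b' S'.B).det * (LinearMap.BilinForm.toMatrix (c''.reindex e) S''.B).det) =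
      (LinearMap.BilinForm.toMatrix b' S'.B).det ^ 2 *
        ((LinearMap.BilinForm.toMatrix b S.B).det * (LinearMap.BilinForm.toMatrix (c''.reindex e) S''.B).det) by ring]
    at h3
  exact (isSquare_sq_mul_iff hne).mp h3

theorem sameDisc_of_iso (S S' : SpSpace F) (hS : S.IsOrth) (h : S.Iso S') : S.SameDisc S' := by
  obtain ⟨φ, hφ, _⟩ := h
  refine ⟨_, Module.finBasis F S.V, (Module.finBasis F S.V).map φ, ?_⟩
  have h1 : LinearMap.BilinForm.toMatrix ((Module.finBasis F S.V).map φ) S'.B =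
      LinearMap.BilinForm.toMatrix (Module.finBasis F S.V) S.B := by
    ext i j
    simp [LinearMap.BilinForm.toMatrix_apply, hφ]
  rw [h1]
  exact ⟨_, rfl⟩

/-- same space and form, different endomorphisms -/
theorem sameDisc_ofO {ι : Type} [Fintype ι] [DecidableEq ι] (B : LinearMap.BilinForm F (ι → F))
    (hB : ∀ u v, B u v = B v u) (hnd : Nondeg B ⊤) (M M' : Matrix ι ι F) :
    (ofO B M).SameDisc (ofO B M') :=
  ⟨_, Module.finBasis F (ι → F), Module.finBasis F (ι → F), _, rfl⟩

/-- the Gram determinant of an orthogonal sum -/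
theorem det_sum (S S₁ S₂ : SpSpace F) (e : S.V ≃ₗ[F] S₁.V × S₂.V)
    (hB : ∀ u v, S.B u v = S₁.B (e u).1 (e v).1 + S₂.B (e u).2 (e v).2)
    {κ₁ κ₂ : Type} [Fintype κ₁] [DecidableEq κ₁] [Fintype κ₂] [DecidableEq κ₂]
    (b₁ : Module.Basis κ₁ F S₁.V) (b₂ : Module.Basis κ₂ F S₂.V) :
    (LinearMap.BilinForm.toMatrix ((b₁.prod b₂).map e.symm) S.B).det =
      (LinearMap.BilinForm.toMatrix b₁ S₁.B).det * (LinearMap.BilinForm.toMatrix b₂ S₂.B).det := by
  have h : LinearMap.BilinForm.toMatrix ((b₁.prod b₂).map e.symm) S.B =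
      Matrix.fromBlocks (LinearMap.BilinForm.toMatrix b₁ S₁.B) 0 0 (LinearMap.BilinForm.toMatrix b₂ S₂.B) := by
    ext i j
    rw [LinearMap.BilinForm.toMatrix_apply, hB]
    simp only [Module.Basis.map_apply, LinearEquiv.apply_symm_apply]
    rcases i with i | i <;> rcases j with j | j <;>
      simp [LinearMap.BilinForm.toMatrix_apply]
  rw [h, Matrix.det_fromBlocks_zero₂₁]

theorem sameDisc_sum (S S' S₁ S₂ S₁' S₂' : SpSpace F) (h : S.IsSum S₁ S₂) (h' : S'.IsSum S₁' S₂')
    (h₁ : S₁.SameDisc S₁') (h₂ : S₂.SameDisc S₂') : S.SameDisc S' := by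
  obtain ⟨e, hB, _⟩ := h
  obtain ⟨e', hB', _⟩ := h'
  obtain ⟨k₁, b₁, b₁', hs₁⟩ := h₁
  obtain ⟨k₂, b₂, b₂', hs₂⟩ := h₂
  rw [sameDisc_iff_basis S S' ((b₁.prod b₂).map e.symm) ((b₁'.prod b₂').map e'.symm),
    det_sum S S₁ S₂ e hB, det_sum S' S₁' S₂' e' hB']
  have h3 := hs₁.mul hs₂
  rw [show (LinearMap.BilinForm.toMatrix b₁ S₁.B).det * (LinearMap.BilinForm.toMatrix b₁' S₁'.B).det *
      ((LinearMap.BilinForm.toMatrix b₂ S₂.B).det * (LinearMap.BilinForm.toMatrix b₂' S₂'.B).det) =
      (LinearMap.BilinForm.toMatrix b₁ S₁.B).det * (LinearMap.BilinForm.toMatrix b₂ S₂.B).det *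
      ((LinearMap.BilinForm.toMatrix b₁' S₁'.B).det * (LinearMap.BilinForm.toMatrix b₂' S₂'.B).det) by ring] at h3
  exact h3

/-- cancellation -/
theorem sameDisc_cancel (S S' S₁ S₂ S₁' S₂' : SpSpace F) (hS₂ : S₂.IsOrth) (hS₂' : S₂'.IsOrth)
    (hS₁ : S₁.IsOrth) (hS₁' : S₁'.IsOrth)
    (h : S.IsSum S₁ S₂) (h' : S'.IsSum S₁' S₂') (hd : S.SameDisc S') (h₂ : S₂.SameDisc S₂') :
    S₁.SameDisc S₁' := by
  obtain ⟨e, hB, _⟩ := h
  obtain ⟨e', hB', _⟩ := h'
  obtain ⟨k₂, b₂, b₂', hs₂⟩ := h₂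
  -- dimensions
  have hdim : Module.finrank F S₁.V = Module.finrank F S₁'.V := by
    obtain ⟨k, c, c', _⟩ := hd
    have h1 : Module.finrank F S.V = Module.finrank F S'.V := by
      rw [Module.finrank_eq_card_basis c, Module.finrank_eq_card_basis c']
    have h2 : Module.finrank F S₂.V = Module.finrank F S₂'.V := by
      rw [Module.finrank_eq_card_basis b₂, Module.finrank_eq_card_basis b₂']
    have h3 : Module.finrank F S.V = Module.finrank F S₁.V + Module.finrank F S₂.V := by
      rw [LinearEquiv.finrank_eq e, Module.finrank_prod]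
    have h4 : Module.finrank F S'.V = Module.finrank F S₁'.V + Module.finrank F S₂'.V := by
      rw [LinearEquiv.finrank_eq e', Module.finrank_prod]
    omega
  obtain ⟨b₁⟩ : Nonempty (Module.Basis (Fin (Module.finrank F S₁.V)) F S₁.V) :=
    ⟨Module.finBasis F S₁.V⟩
  obtain ⟨b₁'⟩ : Nonempty (Module.Basis (Fin (Module.finrank F S₁.V)) F S₁'.V) :=
    ⟨Module.finBasisOfFinrankEq F S₁'.V hdim.symm⟩
  refine ⟨_, b₁, b₁', ?_⟩
  have h5 := (sameDisc_iff_basis S S' ((b₁.prod b₂).map e.symm) ((b₁'.prod b₂').map e'.symm)).mp hd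
  rw [det_sum S S₁ S₂ e hB, det_sum S' S₁' S₂' e' hB'] at h5
  have hne : (LinearMap.BilinForm.toMatrix b₂ S₂.B).det * (LinearMap.BilinForm.toMatrix b₂' S₂'.B).det ≠ 0 :=
    mul_ne_zero (det_ne_zero_of_nondeg S₂.B hS₂.nondeg b₂)
      (det_ne_zero_of_nondeg S₂'.B hS₂'.nondeg b₂')
  refine isSquare_of_mul hne ?_ hs₂
  rw [show (LinearMap.BilinForm.toMatrix b₁ S₁.B).det * (LinearMap.BilinForm.toMatrix b₁' S₁'.B).det *
      ((LinearMap.BilinForm.toMatrix b₂ S₂.B).det * (LinearMap.BilinForm.toMatrix b₂' S₂'.B).det) =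
      (LinearMap.BilinForm.toMatrix b₁ S₁.B).det * (LinearMap.BilinForm.toMatrix b₂ S₂.B).det *
      ((LinearMap.BilinForm.toMatrix b₁' S₁'.B).det * (LinearMap.BilinForm.toMatrix b₂' S₂'.B).det) by ring]
  exact h5

end DISC

end Cfsg.Agent.S2558P

#print axioms Cfsg.Agent.S2558P.DISC.sameDisc_refl
#print axioms Cfsg.Agent.S2558P.DISC.sameDisc_symm
#print axioms Cfsg.Agent.S2558P.DISC.sameDisc_trans
#print axioms Cfsg.Agent.S2558P.DISC.sameDisc_of_iso
#print axioms Cfsg.Agent.S2558P.DISC.sameDisc_iff_basis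
#print axioms Cfsg.Agent.S2558P.DISC.sameDisc_ofO
#print axioms Cfsg.Agent.S2558P.DISC.sameDisc_sum
#print axioms Cfsg.Agent.S2558P.DISC.sameDisc_cancel
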