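import Mathlib
import Cfsg.Prelude.Def_Classical
import Cfsg.Agent.Helper17.S2558GDefs
import Cfsg.Agent.Helper14.S2558Q
import Cfsg.Agent.Helper14.S2482TYPESR

/-!
# S2558 chapter (G), piece OSDSP: the type of an orthogonal matrix is self-reciprocal

Corollary of `TYPESR.tilde0_of_isometry` with the (reindexed) Gram matrix `2 • toMatrix' B` of the polar form.
-/

set_option autoImplicit false

namespace Cfsg.Agent.S2558P

open Polynomial Cfsg.Agent.Helper2.SympInvol Cfsg.Agent.S2676P Cfsg.Agent.S2478P Cfsg.Agent.S2481P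
  Cfsg.Agent.S2482P Matrix

universe u

variable {F : Type u} [Field F]

namespace OSDSP

/-- the Gram matrix of a polar form -/
theorem isGram_of_isPolar {ι : Type} [Fintype ι] [DecidableEq ι] (h2 : (2 : F) ≠ 0)
    {Q : (ι → F) → F} {B : LinearMap.BilinForm F (ι → F)} (hQB : IsPolar Q B) :
    IsGram Q ((2 : F) • LinearMap.BilinForm.toMatrix' B)
      ((2 : F) • LinearMap.BilinForm.toMatrix' B)⁻¹ where
  symm := by
    ext i j
    simp only [Matrix.transpose_apply, Matrix.smul_apply, LinearMap.BilinForm.toMatrix'_apply]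
    rw [hQB.symm]
  inv := by
    have hnd : B.Nondegenerate := by
      apply LinearMap.BilinForm.Nondegenerate.ofSeparatingLeft
      intro x hx
      by_contra hx0
      obtain ⟨v, _, hv⟩ := hQB.nondeg x Submodule.mem_top hx0
      exact hv (hx v)
    have hdet : (LinearMap.BilinForm.toMatrix' B).det ≠ 0 := by
      have := (LinearMap.BilinForm.nondegenerate_iff_det_ne_zero (Pi.basisFun F ι)).mp hnd
      rwa [LinearMap.BilinForm.toMatrix_basisFun] at this
    have hdet2 : ((2 : F) • LinearMap.BilinForm.toMatrix' B).det ≠ 0 := by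
      rw [Matrix.det_smul]
      exact mul_ne_zero (pow_ne_zero _ h2) hdet
    exact Matrix.nonsing_inv_mul _ (Ne.isUnit hdet2)
  two_Q v := by
    rw [Matrix.smul_mulVec, dotProduct_smul, smul_eq_mul, hQB.eq v]
    congr 1
    have := LinearMap.BilinForm.dotProduct_toMatrix_mulVec (Pi.basisFun F ι) B v v
    rw [LinearMap.BilinForm.toMatrix_basisFun] at this
    rw [this]
    simp

theorem tilde0_of_isometry {ι : Type} [Fintype ι] [DecidableEq ι] {N : ℕ} (h2 : (2 : F) ≠ 0)
    (Q : (ι → F) → F) (B : LinearMap.BilinForm F (ι → F)) (hQB : IsPolar Q B) (e : ι ≃ Fin N)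
    (g : Cfsg.isometryGroup F Q) {t : ℕ → F[X]}
    (ht : HasType (toFinO e ((g : Matrix.GeneralLinearGroup ι F) : Matrix ι ι F)) t) (m : ℕ) :
    tilde0 (t m) = t m := by
  have hG := isGram_of_isPolar h2 hQB
  have hg := (mem_isometryGroup_iff h2 hG (g : Matrix.GeneralLinearGroup ι F)).mp g.2
  obtain ⟨J, hJ⟩ : ∃ J : Matrix ι ι F, J = (2 : F) • LinearMap.BilinForm.toMatrix' B := ⟨_, rfl⟩
  rw [← hJ] at hg
  have hinv : J⁻¹ * J = 1 := by
    rw [hJ]
    exact hG.inv
  refine TYPESR.tilde0_of_isometry (J := Matrix.reindex e e J) (Ji := Matrix.reindex e e J⁻¹)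
    ?_ ?_ ht m
  · rw [Matrix.reindex_apply, Matrix.reindex_apply, Matrix.submatrix_mul_equiv, hinv,
      Matrix.submatrix_one_equiv]
  · unfold toFinO
    rw [Matrix.reindex_apply, Matrix.reindex_apply, Matrix.transpose_submatrix,
      Matrix.submatrix_mul_equiv, Matrix.submatrix_mul_equiv, hg]

end OSDSP

end Cfsg.Agent.S2558P

#print axioms Cfsg.Agent.S2558P.OSDSP.tilde0_of_isometry
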