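import Mathlib
import Cfsg.Prelude.Def_Classical
import Cfsg.Agent.Helper17.S2558GDefs
import Cfsg.Agent.Helper14.S2558Q

/-!
# S2558 chapter (G), piece POLAR: the polar forms of the two standard quadratic forms

From helper14's Gram matrices (`IsGram Q J Ji`): `B := toBilin' (2⁻¹ • J)`.
-/

set_option autoImplicit false

namespace Cfsg.Agent.S2558P

open Polynomial Cfsg.Agent.Helper2.SympInvol Cfsg.Agent.S2482P Matrix

universe u

variable {F : Type u} [Field F]

namespace POLAR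

/-- a Gram matrix gives a polar form -/
theorem isPolar_of_isGram {ι : Type} [Fintype ι] [DecidableEq ι] (h2 : (2 : F) ≠ 0)
    {Q : (ι → F) → F} {J Ji : Matrix ι ι F} (hG : IsGram Q J Ji) :
    IsPolar Q (Matrix.toBilin' ((2 : F)⁻¹ • J)) where
  symm u v := by
    rw [Matrix.toBilin'_apply', Matrix.toBilin'_apply', Matrix.smul_mulVec, Matrix.smul_mulVec,
      dotProduct_smul, dotProduct_smul]
    congr 1
    rw [Matrix.dotProduct_mulVec, dotProduct_comm, ← Matrix.mulVec_transpose, hG.symm]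
  nondeg := by
    intro m _ hm
    by_contra hcon
    push Not at hcon
    apply hm
    have hJ : J * Ji = 1 := _root_.mul_eq_one_comm.mp hG.inv
    have h0 : m ᵥ* J = 0 := by
      funext i
      have h1 := hcon (Pi.single i 1) Submodule.mem_top
      rw [Matrix.toBilin'_apply', Matrix.smul_mulVec, dotProduct_smul, smul_eq_mul] at h1
      have h3 : m ⬝ᵥ J *ᵥ (Pi.single i 1) = 0 := by
        rcases mul_eq_zero.mp h1 with h | h
        · exact absurd h (inv_ne_zero h2)
        · exact h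
      rw [Matrix.dotProduct_mulVec] at h3
      simpa using h3
    calc m = m ᵥ* (J * Ji) := by rw [hJ, Matrix.vecMul_one]
      _ = (m ᵥ* J) ᵥ* Ji := by rw [Matrix.vecMul_vecMul]
      _ = 0 := by rw [h0, Matrix.zero_vecMul]
  eq v := by
    rw [Matrix.toBilin'_apply', Matrix.smul_mulVec, dotProduct_smul, smul_eq_mul, ← hG.two_Q,
      ← mul_assoc, inv_mul_cancel₀ h2, one_mul]

theorem exists_polar_plus (h2 : (2 : F) ≠ 0) (n : ℕ) :
    ∃ B : LinearMap.BilinForm F (Fin n ⊕ Fin n → F), IsPolar (Cfsg.quadFormPlus n F) B :=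
  ⟨_, isPolar_of_isGram h2 (isGram_plus n)⟩

theorem exists_polar_minus (h2 : (2 : F) ≠ 0) (m : ℕ) (a b : F)
    (hab : ∀ z₁ z₂ : F, z₁ ^ 2 + a * z₁ * z₂ + b * z₂ ^ 2 = 0 → z₁ = 0 ∧ z₂ = 0) :
    ∃ B : LinearMap.BilinForm F ((Fin m ⊕ Fin m) ⊕ Fin 2 → F),
      IsPolar (Cfsg.quadFormMinus m F a b) B :=
  ⟨_, isPolar_of_isGram h2 (isGram_minus h2 m hab)⟩

end POLAR

end Cfsg.Agent.S2558P

#print axioms Cfsg.Agent.S2558P.POLAR.exists_polar_plus
#print axioms Cfsg.Agent.S2558P.POLAR.exists_polar_minus
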