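import Mathlib
import Cfsg.Prelude.Def_FusionSystem
import Cfsg.Prelude.Def_KGroupFacts
import Cfsg.Agent.Helper7.S2647.Defs

set_option autoImplicit false
set_option linter.unusedSectionVars false
set_option linter.unusedVariables false

/-! # S2647, piece COMB: fixed points of `D8` on the even sign vectors (by `decide`). -/

namespace Cfsg.Agent.S2647P

open Matrix Cfsg.Agent.Helper28.IsoTransport Cfsg.Agent.Helper28.Spin

namespace COMB

instance instDecMemEv (ε : J → ℤˣ) : Decidable (ε ∈ Ev) := by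
  rw [mem_Ev]
  infer_instance

set_option maxRecDepth 100000 in
theorem card_Ev_aux : Fintype.card {ε : J → ℤˣ // ε ∈ Ev} = 64 := by
  decide

set_option maxRecDepth 100000 in
theorem card_fix_aux : ∀ σ ∈ Dl, σ ≠ 1 →
    Fintype.card {ε : J → ℤˣ // ε ∈ Ev ∧ (fun j => ε (σ⁻¹ j)) = ε} ≤ 16 := by
  decide

set_option maxRecDepth 100000 in
theorem card_fix2_aux : ∀ σ ∈ Dl, ∀ τ ∈ Dl, σ ≠ 1 → τ ≠ 1 → σ ≠ τ →
    Fintype.card {ε : J → ℤˣ // ε ∈ Ev ∧ (fun j => ε (σ⁻¹ j)) = ε ∧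
      (fun j => ε (τ⁻¹ j)) = ε} ≤ 8 := by
  decide

theorem rD_mem : rD ∈ Dp := by
  rw [mem_Dp]
  decide

theorem rD_sq_ne : rD * rD ≠ 1 := by decide

theorem card_Dp_le : Nat.card Dp ≤ 8 := by
  have h1 : Nat.card Dp = Nat.card {π : Equiv.Perm J // π ∈ Dl.toFinset} := by
    apply Nat.card_congr
    refine Equiv.subtypeEquivRight ?_
    intro π
    rw [mem_Dp, List.mem_toFinset]
  rw [h1, Nat.card_eq_fintype_card, Fintype.card_coe]
  exact (List.toFinset_card_le _).trans (by simp [Dl])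

end COMB

theorem card_Ev : Nat.card Ev = 64 := by
  have : Nat.card Ev = Fintype.card {ε : J → ℤˣ // ε ∈ Ev} := by
    rw [← Nat.card_eq_fintype_card]
  rw [this, COMB.card_Ev_aux]

theorem card_fix_le (σ : Equiv.Perm J) (hσ : σ ∈ Dp) (h1 : σ ≠ 1) :
    Nat.card {ε : J → ℤˣ // ε ∈ Ev ∧ (fun j => ε (σ⁻¹ j)) = ε} ≤ 16 := by
  rw [Nat.card_eq_fintype_card]
  exact COMB.card_fix_aux σ hσ h1

theorem card_fix2_le (σ τ : Equiv.Perm J) (hσ : σ ∈ Dp) (hτ : τ ∈ Dp) (h1 : σ ≠ 1) (h2 : τ ≠ 1)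
    (hne : σ ≠ τ) :
    Nat.card {ε : J → ℤˣ // ε ∈ Ev ∧ (fun j => ε (σ⁻¹ j)) = ε ∧ (fun j => ε (τ⁻¹ j)) = ε} ≤ 8 := by
  rw [Nat.card_eq_fintype_card]
  exact COMB.card_fix2_aux σ hσ τ hτ h1 h2 hne

/-- a subgroup of `D8` of exponent two has at most four elements -/
theorem card_le_four_of_exponent_two (P : Subgroup (Equiv.Perm J)) (hP : P ≤ Dp)
    (h2 : ∀ σ ∈ P, σ * σ = 1) : Nat.card P ≤ 4 := by
  classical
  have : Finite Dp := by
    have : Finite {π : Equiv.Perm J // π ∈ Dl} := by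
      exact Finite.of_fintype _
    exact this
  have hne : P.subgroupOf Dp ≠ ⊤ := by
    intro htop
    have : (⟨rD, COMB.rD_mem⟩ : Dp) ∈ P.subgroupOf Dp := by
      rw [htop]; exact Subgroup.mem_top _
    rw [Subgroup.mem_subgroupOf] at this
    exact COMB.rD_sq_ne (h2 rD this)
  have hidx : (P.subgroupOf Dp).index ≠ 1 := by
    intro h
    exact hne (Subgroup.index_eq_one.1 h)
  have hidx0 : (P.subgroupOf Dp).index ≠ 0 := Subgroup.index_ne_zero_of_finite
  have hmul := Subgroup.card_mul_index (P.subgroupOf Dp)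
  have hcard : Nat.card (P.subgroupOf Dp) = Nat.card P :=
    Nat.card_congr (Subgroup.subgroupOfEquivOfLe hP).toEquiv
  rw [hcard] at hmul
  have h8 := COMB.card_Dp_le
  have hge : 2 ≤ (P.subgroupOf Dp).index := by omega
  nlinarith

end Cfsg.Agent.S2647P
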