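import Mathlib
import Cfsg.Prelude.Def_FusionSystem
import Cfsg.Prelude.Def_KGroupFacts
import Cfsg.Agent.Helper7.S2647.Defs
import Cfsg.Agent.Helper10.S2647COMB
import Cfsg.Agent.Helper24.S2647NF

set_option autoImplicit false
set_option linter.unusedSectionVars false
set_option linter.unusedVariables false

/-! # S2647, piece WC: `E0` is weakly closed in `S0`
(it is the only elementary abelian subgroup of order `64`). -/

namespace Cfsg.Agent.S2647P

open Matrix Cfsg.Agent.Helper28.IsoTransport Cfsg.Agent.Helper28.Spin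

variable {F : Type*} [Field F]

namespace WC

theorem sign_mul_self (ε : J → ℤˣ) : ε * ε = 1 := by
  funext j
  simp [Int.units_mul_self]

theorem sg_ne_zero (u : ℤˣ) : sg F u ≠ 0 := by
  intro h
  have := sg_mul_self F u
  rw [h, mul_zero] at this
  exact zero_ne_one this

theorem sg_inj (h2 : (2 : F) ≠ 0) (u v : ℤˣ) (h : sg F u = sg F v) : u = v := by
  rcases Int.units_eq_one_or u with rfl | rfl <;> rcases Int.units_eq_one_or v with rfl | rfl
  · rfl
  · exfalso
    rw [sg_one, sg_neg_one] at h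
    apply h2
    linear_combination h
  · exfalso
    rw [sg_one, sg_neg_one] at h
    apply h2
    linear_combination -h
  · rfl

/-- own copy of INJ's `dg_pm_inj` (so that WC does not wait for INJ) -/
theorem dg_pm_inj' (h2 : (2 : F) ≠ 0) (ε ε' : J → ℤˣ) (π π' : Equiv.Perm J)
    (h : dg F ε * pm F π = dg F ε' * pm F π') : ε = ε' ∧ π = π' := by
  have key : ∀ k : J, π k = π' k ∧ ε (π k) = ε' (π k) := by
    intro k
    have h1 := congrArg (fun g : Od F =>
      ((((g : Od F) : GL J F) : Matrix J J F) *ᵥ (Pi.single k (1 : F))) (π k)) h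
    simp only [NF.mul_mulVec, pm_mulVec, dg_mulVec] at h1
    have e1 : π⁻¹ (π k) = k := π.symm_apply_apply k
    rw [e1, Pi.single_eq_same, mul_one] at h1
    by_cases hk : π'⁻¹ (π k) = k
    · rw [hk, Pi.single_eq_same, mul_one] at h1
      have hk' : π k = π' k := by
        have e2 : π' (π'⁻¹ (π k)) = π k := π'.apply_symm_apply (π k)
        rw [← e2, hk]
      exact ⟨hk', sg_inj h2 _ _ h1⟩
    · rw [Pi.single_eq_of_ne hk, mul_zero] at h1
      exact absurd h1 (sg_ne_zero _)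
  have hπ : π = π' := Equiv.ext fun k => (key k).1
  refine ⟨?_, hπ⟩
  funext j
  have := (key (π⁻¹ j)).2
  have e3 : π (π⁻¹ j) = j := π.apply_symm_apply j
  rwa [e3] at this

theorem dg_inj (h2 : (2 : F) ≠ 0) (ε ε' : J → ℤˣ) (h : dg F ε = dg F ε') : ε = ε' := by
  have := dg_pm_inj' h2 ε ε' 1 1 (by rw [map_one, mul_one, mul_one]; exact h)
  exact this.1

theorem pm_mul_dg (π : Equiv.Perm J) (ε : J → ℤˣ) :
    pm F π * dg F ε = dg F (fun j => ε (π⁻¹ j)) * pm F π := by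
  rw [← NF.pm_dg_conj', inv_mul_cancel_right]

theorem card_le_two {G : Type*} [Group G] (P : Subgroup G) (σ : G)
    (h : ∀ τ ∈ P, τ = 1 ∨ τ = σ) : Nat.card P ≤ 2 := by
  classical
  have hsub : (P : Set G) ⊆ {1, σ} := by
    intro τ hτ
    rcases h τ hτ with h | h
    · left; exact h
    · right; exact h
  have h1 : Nat.card P = (P : Set G).ncard := by
    rw [← Nat.card_coe_set_eq]
    rfl
  rw [h1]
  calc (P : Set G).ncard ≤ ({1, σ} : Set G).ncard :=
        Set.ncard_le_ncard hsub (Set.toFinite _)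
    _ ≤ 2 := by
        refine (Set.ncard_insert_le _ _).trans ?_
        rw [Set.ncard_singleton]

end WC

theorem weakly_closed (h2 : (2 : F) ≠ 0) (g : Od F)
    (h : ∀ ε ∈ Ev, g * dg F ε * g⁻¹ ∈ S0 F) : ∀ ε ∈ Ev, g * dg F ε * g⁻¹ ∈ E0 F := by
  classical
  -- normal forms of the conjugates
  have hex : ∀ e : Ev, ∃ (a : J → ℤˣ) (s : Equiv.Perm J), a ∈ Ev ∧ s ∈ Dp ∧
      g * dg F e.1 * g⁻¹ = dg F a * pm F s := by
    intro e
    obtain ⟨a, ha, s, hs, hE⟩ := (mem_S0_iff _).1 (h e.1 e.2)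
    exact ⟨a, s, ha, hs, hE⟩
  choose α β hα hβ hαβ using hex
  -- multiplicativity
  have hmul : ∀ e e' : Ev, β (e * e') = β e * β e' := by
    intro e e'
    have h1 : g * dg F (e * e').1 * g⁻¹ = (g * dg F e.1 * g⁻¹) * (g * dg F e'.1 * g⁻¹) := by
      rw [Subgroup.coe_mul, map_mul]
      group
    rw [hαβ, hαβ, hαβ, NF.dg_pm_mul'] at h1
    exact (WC.dg_pm_inj' h2 _ _ _ _ h1).2
  let βhom : Ev →* Equiv.Perm J := MonoidHom.mk' β hmul
  have hβhom : ∀ e, βhom e = β e := fun e => rfl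
  have hPD : βhom.range ≤ Dp := by
    rintro _ ⟨e, rfl⟩
    exact hβ e
  have hP2 : ∀ σ ∈ βhom.range, σ * σ = 1 := by
    rintro _ ⟨e, rfl⟩
    rw [← map_mul]
    have : e * e = 1 := Subtype.ext (WC.sign_mul_self e.1)
    rw [this, map_one]
  have hP4 : Nat.card βhom.range ≤ 4 := card_le_four_of_exponent_two _ hPD hP2
  have hcard : Nat.card βhom.range * Nat.card βhom.ker = 64 := by
    have := Subgroup.card_eq_card_quotient_mul_card_subgroup βhom.ker
    rw [Nat.card_congr (QuotientGroup.quotientKerEquivRange βhom).toEquiv, card_Ev] at this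
    exact this.symm
  -- elements of the kernel are fixed by the image
  have hfix : ∀ κ : Ev, β κ = 1 → ∀ e : Ev, (fun j => α κ ((β e)⁻¹ j)) = α κ := by
    intro κ hκ e
    have hc : (g * dg F κ.1 * g⁻¹) * (g * dg F e.1 * g⁻¹) =
        (g * dg F e.1 * g⁻¹) * (g * dg F κ.1 * g⁻¹) := by
      have hcomm : dg F κ.1 * dg F e.1 = dg F e.1 * dg F κ.1 := by
        rw [← map_mul, ← map_mul, mul_comm]
      calc (g * dg F κ.1 * g⁻¹) * (g * dg F e.1 * g⁻¹)
          = g * (dg F κ.1 * dg F e.1) * g⁻¹ := by group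
        _ = g * (dg F e.1 * dg F κ.1) * g⁻¹ := by rw [hcomm]
        _ = (g * dg F e.1 * g⁻¹) * (g * dg F κ.1 * g⁻¹) := by group
    have hκ' : g * dg F κ.1 * g⁻¹ = dg F (α κ) := by
      rw [hαβ κ, hκ, map_one, mul_one]
    rw [hκ', hαβ e] at hc
    have hL : dg F (α κ) * (dg F (α e) * pm F (β e)) = dg F (α κ * α e) * pm F (β e) := by
      rw [map_mul, mul_assoc]
    have hR : dg F (α e) * pm F (β e) * dg F (α κ) =
        dg F (α e * fun j => α κ ((β e)⁻¹ j)) * pm F (β e) := by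
      rw [mul_assoc, WC.pm_mul_dg, ← mul_assoc, ← map_mul]
    rw [hL, hR] at hc
    have h3 := (WC.dg_pm_inj' h2 _ _ _ _ hc).1
    rw [mul_comm (α κ) (α e)] at h3
    exact (mul_left_cancel h3).symm
  have hinj : ∀ κ κ' : Ev, β κ = 1 → β κ' = 1 → α κ = α κ' → κ = κ' := by
    intro κ κ' hκ hκ' hE
    have h3 : g * dg F κ.1 * g⁻¹ = g * dg F κ'.1 * g⁻¹ := by
      rw [hαβ κ, hαβ κ', hκ, hκ', hE]
    have h4 : dg F κ.1 = dg F κ'.1 := by
      have := mul_right_cancel h3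
      exact mul_left_cancel this
    exact Subtype.ext (WC.dg_inj h2 _ _ h4)
  have hker : ∀ κ : βhom.ker, β κ.1 = 1 := fun κ => MonoidHom.mem_ker.1 κ.2
  have hbound1 : ∀ e : Ev, Nat.card βhom.ker ≤
      Nat.card {ε : J → ℤˣ // ε ∈ Ev ∧ (fun j => ε ((β e)⁻¹ j)) = ε} := by
    intro e
    refine Nat.card_le_card_of_injective
      (fun κ : βhom.ker => ⟨α κ.1, hα κ.1, hfix κ.1 (hker κ) e⟩) ?_
    intro κ κ' hE
    have : α κ.1 = α κ'.1 := congrArg Subtype.val hE
    exact Subtype.ext (hinj _ _ (hker κ) (hker κ') this)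
  have hbound2 : ∀ e e' : Ev, Nat.card βhom.ker ≤
      Nat.card {ε : J → ℤˣ // ε ∈ Ev ∧ (fun j => ε ((β e)⁻¹ j)) = ε ∧
        (fun j => ε ((β e')⁻¹ j)) = ε} := by
    intro e e'
    refine Nat.card_le_card_of_injective
      (fun κ : βhom.ker => ⟨α κ.1, hα κ.1, hfix κ.1 (hker κ) e, hfix κ.1 (hker κ) e'⟩) ?_
    intro κ κ' hE
    have : α κ.1 = α κ'.1 := congrArg Subtype.val hE
    exact Subtype.ext (hinj _ _ (hker κ) (hker κ') this)
  -- conclusion
  by_contra hcon
  push Not at hcon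
  obtain ⟨ε₀, hε₀, hnot⟩ := hcon
  have hne : β ⟨ε₀, hε₀⟩ ≠ 1 := by
    intro h1
    apply hnot
    have := hαβ ⟨ε₀, hε₀⟩
    rw [h1, map_one, mul_one] at this
    rw [mem_E0_iff]
    exact ⟨_, hα _, this⟩
  set e₀ : Ev := ⟨ε₀, hε₀⟩ with he₀
  have hk16 : Nat.card βhom.ker ≤ 16 := (hbound1 e₀).trans (card_fix_le _ (hβ e₀) hne)
  have hP4' : Nat.card βhom.range = 4 := by
    by_contra hlt
    have : Nat.card βhom.range ≤ 3 := by omega
    nlinarith
  obtain ⟨τ, hτ, hτ1, hτσ⟩ : ∃ τ ∈ βhom.range, τ ≠ 1 ∧ τ ≠ β e₀ := by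
    by_contra hno
    push Not at hno
    have : Nat.card βhom.range ≤ 2 := by
      refine WC.card_le_two _ (β e₀) ?_
      intro τ hτ
      by_cases h1 : τ = 1
      · left; exact h1
      · right; exact hno τ hτ h1
    omega
  obtain ⟨e₁, rfl⟩ := hτ
  rw [hβhom] at hτ1 hτσ
  have hk8 : Nat.card βhom.ker ≤ 8 :=
    (hbound2 e₀ e₁).trans (card_fix2_le _ _ (hβ e₀) (hβ e₁) hne hτ1 (Ne.symm hτσ))
  rw [hP4'] at hcard
  omega

end Cfsg.Agent.S2647P
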