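import Mathlib
import Cfsg.Prelude.Def_ConjugacyFunctors
import Cfsg.Agent.Helper10.FixedChief
import Cfsg.Agent.Helper10.WCQuad
import Cfsg.Agent.Helper10.KInfChar
import Cfsg.Agent.Helper10.WellPlaced

/-!
# Weak closure of elements (Engel hypothesis on chief factors in `Z(O_p(H))`)
-/

set_option autoImplicit false
set_option linter.unusedSectionVars false
set_option linter.unusedVariables false
set_option linter.style.haveILetI false

namespace Cfsg.Agent.Helper10

open Cfsg Cfsg.Agent.Helper14 Subgroup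
open scoped commutatorElement IsMulCommutative

section NormTrick

variable {X : Type*} [Group X] (K : Subgroup X) [hKn : K.Normal] [hKc : IsMulCommutative ↥K]
  (M : Subgroup X) [Fintype (X ⧸ M)]

/-- the norm map `K → K` over `X / M` -/
noncomputable def tauK : ↥K →* ↥K :=
  ∏ q : X ⧸ M, (MulAut.conjNormal (H := K) q.out).toMonoidHom

theorem tauK_apply (z : ↥K) :
    tauK K M z = ∏ q : X ⧸ M, MulAut.conjNormal (H := K) q.out z := by
  unfold tauK
  rw [MonoidHom.finsetProd_apply]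
  rfl

theorem out_smul_mem (g : X) (q : X ⧸ M) : (g * q.out)⁻¹ * (g • q).out ∈ M := by
  rw [← QuotientGroup.eq, QuotientGroup.out_eq']
  have e : g • q = g • ((q.out : X) : X ⧸ M) := by rw [QuotientGroup.out_eq']
  rw [e]; rfl

theorem tauK_fixed {z : ↥K} (hz : ∀ a ∈ M, MulAut.conjNormal (H := K) a z = z) (g : X) :
    MulAut.conjNormal (H := K) g (tauK K M z) = tauK K M z := by
  rw [tauK_apply, map_prod]
  have e : ∀ q : X ⧸ M, MulAut.conjNormal (H := K) g (MulAut.conjNormal (H := K) q.out z) =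
      MulAut.conjNormal (H := K) ((g • q).out) z := by
    intro q
    have h1 := out_smul_mem M g q
    have e2 : (g • q).out = g * q.out * ((g * q.out)⁻¹ * (g • q).out) := by group
    rw [e2, map_mul, map_mul, MulAut.mul_apply, MulAut.mul_apply, hz _ h1]
  simp_rw [e]
  exact Equiv.prod_comp (MulAction.toPerm g) (fun q : X ⧸ M => MulAut.conjNormal (H := K) q.out z)

theorem tauK_of_fixed {z : ↥K} (hz : ∀ g : X, MulAut.conjNormal (H := K) g z = z) :
    tauK K M z = z ^ Fintype.card (X ⧸ M) := by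
  rw [tauK_apply]
  simp_rw [hz]
  rw [Finset.prod_const, Finset.card_univ]

/-- adjusting an `M`-fixed element so that its norm vanishes -/
theorem exists_adjust {x : ↥K} (hx : ∀ a ∈ M, MulAut.conjNormal (H := K) a x = x) :
    ∃ y : ↥K, (∀ a ∈ M, MulAut.conjNormal (H := K) a y = y) ∧ tauK K M y = 1 ∧
      (y = 1 → ∀ g : X, MulAut.conjNormal (H := K) g (x ^ Fintype.card (X ⧸ M)) =
        x ^ Fintype.card (X ⧸ M)) := by
  refine ⟨x ^ Fintype.card (X ⧸ M) * (tauK K M x)⁻¹, ?_, ?_, ?_⟩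
  · intro a ha
    rw [map_mul, map_pow, map_inv, hx a ha, tauK_fixed K M hx a]
  · rw [map_mul, map_pow, map_inv, tauK_of_fixed K M (tauK_fixed K M hx), mul_inv_cancel]
  · intro h1 g
    have h2 : x ^ Fintype.card (X ⧸ M) = tauK K M x := by
      rw [mul_inv_eq_one] at h1; exact h1
    rw [h2]
    exact tauK_fixed K M hx g

end NormTrick

section Core

variable {X : Type*} [Group X] [Finite X] {p : ℕ} [Fact p.Prime]

/-- **Core lemma for weak closure of elements**: in a minimal configuration, an element of `S`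
satisfying the Engel condition on the chief factors below the abelian normal `p`-subgroup `K`
lies in `O_p(X)`. -/
theorem elt_core_K (K : Subgroup X) [hKn : K.Normal] [hKc : IsMulCommutative ↥K]
    (hKQ : K ≤ Cfsg.pCore p X) (S : Sylow p X) (x : X) (hxK : x ∈ K)
    (hSx : (S : Subgroup X) ≤ centralizer ({x} : Set X))
    (hmax : ∀ H₂ : Subgroup X, (S : Subgroup X) ≤ H₂ → H₂ ≠ ⊤ → H₂ ≤ centralizer ({x} : Set X))
    (hMtop : centralizer ({x} : Set X) ≠ ⊤)
    (g : X) (hgS : g ∈ (S : Subgroup X))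
    (hE : ∀ U V : Subgroup X, Cfsg.IsChiefFactor U V → U ≤ K →
      Cfsg.iterCommutator U (Subgroup.zpowers g) (p - 1) ≤ V) : g ∈ Cfsg.pCore p X := by
  classical
  have hp : p.Prime := Fact.out
  letI : Fintype (X ⧸ centralizer ({x} : Set X)) := Fintype.ofFinite _
  have hx : ∀ a ∈ centralizer ({x} : Set X),
      MulAut.conjNormal (H := K) a (⟨x, hxK⟩ : ↥K) = ⟨x, hxK⟩ := by
    intro a ha
    apply Subtype.ext
    rw [MulAut.conjNormal_apply]
    have := Subgroup.mem_centralizer_singleton_iff.1 ha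
    show a * x * a⁻¹ = x
    rw [this, mul_inv_cancel_right]
  obtain ⟨y, hyM, hty, hy1⟩ := exists_adjust K (centralizer ({x} : Set X)) hx
  -- the index is prime to the order of `x`
  have hk : Nat.Coprime (Fintype.card (X ⧸ centralizer ({x} : Set X))) (orderOf x) := by
    have h1 : Fintype.card (X ⧸ centralizer ({x} : Set X)) = (centralizer ({x} : Set X)).index := by
      rw [Subgroup.index_eq_card, Nat.card_eq_fintype_card]
    have h2 : ¬ p ∣ (centralizer ({x} : Set X)).index := by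
      intro hd
      exact S.not_dvd_index (hd.trans (Subgroup.index_dvd_of_le hSx))
    obtain ⟨j, hj⟩ := (Cfsg.Agent.Helper14.pCore_isPGroup (G := X) p) ⟨x, hKQ hxK⟩
    have h3 : orderOf x ∣ p ^ j := by
      apply orderOf_dvd_of_pow_eq_one
      simpa using congrArg Subtype.val hj
    obtain ⟨i, -, hi⟩ := (Nat.dvd_prime_pow hp).1 h3
    rw [hi, h1]
    exact Nat.Coprime.pow_right i ((Nat.Prime.coprime_iff_not_dvd hp).2 h2).symm
  obtain ⟨m, hm⟩ := exists_pow_eq_self_of_coprime hk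
  have hyne : y ≠ 1 := by
    intro h1
    apply hMtop
    rw [eq_top_iff]
    intro c _
    have h2 := congrArg Subtype.val (hy1 h1 c)
    rw [MulAut.conjNormal_apply] at h2
    have h3 : c * x ^ Fintype.card (X ⧸ centralizer ({x} : Set X)) * c⁻¹ =
        x ^ Fintype.card (X ⧸ centralizer ({x} : Set X)) := by
      simpa using h2
    rw [Subgroup.mem_centralizer_singleton_iff]
    have h4 : c * x * c⁻¹ = x := by
      conv_lhs => rw [← hm]
      rw [← conj_pow, h3, hm]
    have h5 : c * x = (c * x * c⁻¹) * c := by group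
    rw [h5, h4]
  -- the chief factor
  have hyK : (y : X) ∈ K := y.2
  have hV'K : Subgroup.normalClosure ({(y : X)} : Set X) ≤ K :=
    Subgroup.normalClosure_le_normal (by
      intro z hz
      rw [Set.mem_singleton_iff] at hz
      rw [hz]; exact hyK)
  have hyV' : (y : X) ∈ Subgroup.normalClosure ({(y : X)} : Set X) :=
    Subgroup.subset_normalClosure rfl
  have hV'ne : Subgroup.normalClosure ({(y : X)} : Set X) ≠ ⊥ := by
    intro h
    apply hyne
    apply Subtype.ext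
    have := hyV'
    rw [h, Subgroup.mem_bot] at this
    exact this
  haveI hV'n : (Subgroup.normalClosure ({(y : X)} : Set X)).Normal := Subgroup.normalClosure_normal
  have h1 : (fun N : Subgroup X => N.Normal ∧ N < Subgroup.normalClosure ({(y : X)} : Set X)) ⊥ :=
    ⟨inferInstance, bot_lt_iff_ne_bot.2 hV'ne⟩
  obtain ⟨V₀, -, hVmax⟩ := Finite.exists_le_maximal (α := Subgroup X)
    (p := fun N : Subgroup X => N.Normal ∧ N < Subgroup.normalClosure ({(y : X)} : Set X))
    (a := ⊥) h1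
  haveI hVn : V₀.Normal := hVmax.1.1
  have hVU : V₀ < Subgroup.normalClosure ({(y : X)} : Set X) := hVmax.1.2
  have hchief : Cfsg.IsChiefFactor (Subgroup.normalClosure ({(y : X)} : Set X)) V₀ := by
    refine ⟨hVU, hV'n, hVn, ?_⟩
    intro N hN hVN hNU
    by_cases h : N = Subgroup.normalClosure ({(y : X)} : Set X)
    · exact Or.inr h
    · left
      exact le_antisymm (hVmax.2 ⟨hN, lt_of_le_of_ne hNU h⟩ hVN) hVN
  have hV'Q : Subgroup.normalClosure ({(y : X)} : Set X) ≤ Cfsg.pCore p X := hV'K.trans hKQ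
  haveI hcomm : IsMulCommutative ↥(Ub (Subgroup.normalClosure ({(y : X)} : Set X)) V₀) :=
    ub_isMulCommutative hchief hV'Q
  have hm₀ : piX (Subgroup.normalClosure ({(y : X)} : Set X)) V₀ ⟨(y : X), hyV'⟩ ≠ 1 := by
    intro h
    have h2 := congrArg Subtype.val h
    rw [piX_coe] at h2
    have h3 : (y : X) ∈ V₀ := (QuotientGroup.eq_one_iff _).1 h2
    have h4 : Subgroup.normalClosure ({(y : X)} : Set X) ≤ V₀ :=
      Subgroup.normalClosure_le_normal (by
        intro z hz
        rw [Set.mem_singleton_iff] at hz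
        rw [hz]; exact h3)
    exact hVU.not_ge h4
  have hfixM : ∀ a ∈ centralizer ({x} : Set X),
      rhoZ (Subgroup.normalClosure ({(y : X)} : Set X)) V₀ a
        (piX (Subgroup.normalClosure ({(y : X)} : Set X)) V₀ ⟨(y : X), hyV'⟩) =
        piX (Subgroup.normalClosure ({(y : X)} : Set X)) V₀ ⟨(y : X), hyV'⟩ := by
    intro a ha
    apply Subtype.ext
    rw [rhoZ_apply, piX_coe]
    have h2 := congrArg Subtype.val (hyM a ha)
    rw [MulAut.conjNormal_apply] at h2
    rw [← map_inv, ← map_mul, ← map_mul]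
    exact congrArg _ h2
  have hprod : ∏ q : X ⧸ centralizer ({x} : Set X),
      rhoZ (Subgroup.normalClosure ({(y : X)} : Set X)) V₀ q.out
        (piX (Subgroup.normalClosure ({(y : X)} : Set X)) V₀ ⟨(y : X), hyV'⟩) = 1 := by
    haveI hcK : IsMulCommutative ↥(Ub K V₀) := inferInstance
    have hle : Ub (Subgroup.normalClosure ({(y : X)} : Set X)) V₀ ≤ Ub K V₀ :=
      Subgroup.map_mono hV'K
    apply Subgroup.inclusion_injective hle
    rw [map_prod, map_one]
    have e : ∀ q : X ⧸ centralizer ({x} : Set X),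
        Subgroup.inclusion hle (rhoZ (Subgroup.normalClosure ({(y : X)} : Set X)) V₀ q.out
          (piX (Subgroup.normalClosure ({(y : X)} : Set X)) V₀ ⟨(y : X), hyV'⟩)) =
        piX K V₀ (MulAut.conjNormal (H := K) q.out y) := by
      intro q
      apply Subtype.ext
      rw [Subgroup.coe_inclusion, rhoZ_apply, piX_coe, piX_coe, MulAut.conjNormal_apply]
      simp only [map_mul, map_inv]
    rw [Finset.prod_congr rfl (fun q _ => e q), ← map_prod, ← tauK_apply, hty, map_one]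
  exact mem_pCore_of_fixed (Subgroup.normalClosure ({(y : X)} : Set X)) V₀ S hSx hmax
    (ub_pow_eq_one hchief hV'Q) _ hm₀ hfixM hprod g hgS (hE _ V₀ hchief hV'K)

end Core

section Relative

variable {G : Type*} [Group G]

theorem rc_single (g x : G) : rc g ({x} : Set G) = {g⁻¹ * x * g} := by
  unfold rc
  rw [Set.image_singleton]

theorem map_iterCommutator {G' : Type*} [Group G'] (f : G →* G') (U K : Subgroup G) (n : ℕ) :
    (Cfsg.iterCommutator U K n).map f = Cfsg.iterCommutator (U.map f) (K.map f) n := by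
  induction n with
  | zero => rfl
  | succ n ih =>
    show (⁅Cfsg.iterCommutator U K n, K⁆).map f =
      ⁅Cfsg.iterCommutator (U.map f) (K.map f) n, K.map f⁆
    rw [Subgroup.map_commutator, ih]

/-- the core case of the induction, transported to the subgroup `H`. -/
theorem elt_core_rel [Finite G] {p : ℕ} [Fact p.Prime] {H T : Subgroup G} (hTH : T ≤ H)
    (hTp : IsPGroup p ↥T) (hTi : ¬ p ∣ T.relIndex H) (x : G)
    (hxT : x ∈ T ⊓ centralizer (T : Set G)) (hxQ : x ∈ Cfsg.pCoreOf p H)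
    (hmax : ∀ H₂ : Subgroup G, T ≤ H₂ → H₂ ≤ H → ¬ H ≤ H₂ → ∀ k ∈ H₂, k * x * k⁻¹ = x)
    (hnc : ∃ h ∈ H, h * x * h⁻¹ ≠ x) (g : G) (hgT : g ∈ T)
    (hE : ∀ U V : Subgroup ↥H, Cfsg.IsChiefFactor U V →
      U.map H.subtype ≤ Cfsg.pCoreOf p H ⊓
        Subgroup.centralizer ((Cfsg.pCoreOf p H : Subgroup G) : Set G) →
      Cfsg.iterCommutator (U.map H.subtype) (Subgroup.zpowers g) (p - 1) ≤ V.map H.subtype) :
    g ∈ Cfsg.pCoreOf p H := by
  have hT : IsSylowIn p T H := isSylowIn_of_relIndex hTH hTp hTi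
  have hQT : Cfsg.pCoreOf p H ≤ T := pCoreOf_le_of_isSylowIn hT
  have hTp' : IsPGroup p ↥(T.subgroupOf H) := hTp.comap_subtype
  have hTi' : ¬ p ∣ (T.subgroupOf H).index := hTi
  obtain ⟨S', hS'⟩ : ∃ S' : Sylow p ↥H, (S' : Subgroup ↥H) = T.subgroupOf H :=
    ⟨hTp'.toSylow hTi', IsPGroup.toSylow_coe _ _⟩
  haveI hQn : (Cfsg.pCore p ↥H).Normal := pCore_normal (G := ↥H) p
  haveI hKn : (Cfsg.pCore p ↥H ⊓
      centralizer ((Cfsg.pCore p ↥H : Subgroup ↥H) : Set ↥H)).Normal :=
    Subgroup.normal_inf_normal _ _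
  haveI hKc : IsMulCommutative ↥(Cfsg.pCore p ↥H ⊓
      centralizer ((Cfsg.pCore p ↥H : Subgroup ↥H) : Set ↥H)) :=
    ⟨⟨fun a b => Subtype.ext (Subgroup.mem_centralizer_iff.1 b.2.2 a a.2.1)⟩⟩
  have hcomm : ∀ t ∈ T, t * x = x * t := fun t ht => Subgroup.mem_centralizer_iff.1 hxT.2 t ht
  have hxK : (⟨x, hTH hxT.1⟩ : ↥H) ∈ Cfsg.pCore p ↥H ⊓
      centralizer ((Cfsg.pCore p ↥H : Subgroup ↥H) : Set ↥H) := by
    refine ⟨?_, Subgroup.mem_centralizer_iff.2 ?_⟩
    · obtain ⟨y, hy, hyx⟩ := hxQ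
      have : y = ⟨x, hTH hxT.1⟩ := Subtype.ext hyx
      rw [← this]; exact hy
    · intro q hq
      apply Subtype.ext
      exact hcomm (q : G) (hQT ⟨q, hq, rfl⟩)
  have hSx : (S' : Subgroup ↥H) ≤ centralizer ({(⟨x, hTH hxT.1⟩ : ↥H)} : Set ↥H) := by
    intro t ht
    rw [hS'] at ht
    rw [Subgroup.mem_centralizer_singleton_iff]
    apply Subtype.ext
    exact hcomm (t : G) (Subgroup.mem_subgroupOf.1 ht)
  have hmax' : ∀ H₂ : Subgroup ↥H, (S' : Subgroup ↥H) ≤ H₂ → H₂ ≠ ⊤ →
      H₂ ≤ centralizer ({(⟨x, hTH hxT.1⟩ : ↥H)} : Set ↥H) := by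
    intro H₂ hSH₂ hH₂top k hk
    have h1 : T ≤ H₂.map H.subtype := by
      intro t ht
      refine ⟨⟨t, hTH ht⟩, hSH₂ ?_, rfl⟩
      rw [hS']; exact Subgroup.mem_subgroupOf.2 ht
    have h2 : H₂.map H.subtype ≤ H := Subgroup.map_subtype_le _
    have h3 : ¬ H ≤ H₂.map H.subtype := by
      intro hle
      apply hH₂top
      rw [eq_top_iff]
      intro z _
      obtain ⟨w, hw, hwz⟩ := hle z.2
      have : w = z := Subtype.ext hwz
      rw [← this]; exact hw
    have h4 := hmax _ h1 h2 h3 (k : G) ⟨k, hk, rfl⟩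
    rw [Subgroup.mem_centralizer_singleton_iff]
    apply Subtype.ext
    show (k : G) * x = x * (k : G)
    have h5 : (k : G) * x = ((k : G) * x * (k : G)⁻¹) * (k : G) := by group
    rw [h5, h4]
  have hMtop : centralizer ({(⟨x, hTH hxT.1⟩ : ↥H)} : Set ↥H) ≠ ⊤ := by
    obtain ⟨h, hh, hne⟩ := hnc
    intro htop
    apply hne
    have h1 : (⟨h, hh⟩ : ↥H) ∈ centralizer ({(⟨x, hTH hxT.1⟩ : ↥H)} : Set ↥H) := by
      rw [htop]; trivial
    rw [Subgroup.mem_centralizer_singleton_iff] at h1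
    have h2 : h * x = x * h := congrArg Subtype.val h1
    rw [h2, mul_inv_cancel_right]
  have hinj : Function.Injective H.subtype := H.subtype_injective
  have hE' : ∀ U V : Subgroup ↥H, Cfsg.IsChiefFactor U V →
      U ≤ Cfsg.pCore p ↥H ⊓ centralizer ((Cfsg.pCore p ↥H : Subgroup ↥H) : Set ↥H) →
      Cfsg.iterCommutator U (Subgroup.zpowers (⟨g, hTH hgT⟩ : ↥H)) (p - 1) ≤ V := by
    intro U V hUV hUK
    have e1 : Cfsg.pCoreOf p H ⊓ Subgroup.centralizer ((Cfsg.pCoreOf p H : Subgroup G) : Set G) =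
        (Cfsg.pCore p ↥H ⊓ Subgroup.centralizer ((Cfsg.pCore p ↥H : Subgroup ↥H) : Set ↥H)).map
          H.subtype := by
      rw [map_inf_centralizer_inj H.subtype hinj]; rfl
    have h1 := hE U V hUV (by rw [e1]; exact Subgroup.map_mono hUK)
    rw [← Subgroup.map_le_map_iff_of_injective hinj, map_iterCommutator, MonoidHom.map_zpowers]
    exact h1
  have hgS : (⟨g, hTH hgT⟩ : ↥H) ∈ (S' : Subgroup ↥H) := by
    rw [hS']; exact Subgroup.mem_subgroupOf.2 hgT
  have hfin := elt_core_K (Cfsg.pCore p ↥H ⊓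
      centralizer ((Cfsg.pCore p ↥H : Subgroup ↥H) : Set ↥H)) inf_le_left S' _ hxK hSx hmax' hMtop
    _ hgS hE'
  exact ⟨_, hfin, rfl⟩

/-- **Weak closure of elements**, relative form, by induction on `|H|`. -/
theorem wc_elt_rel [Finite G] {p : ℕ} [Fact p.Prime] (W : Subgroup G → Subgroup G)
    (hW : Cfsg.IsConjugacyFunctor p W)
    (hWZ : ∀ P : Subgroup G, IsPGroup p ↥P → P ⊓ centralizer ((P : Subgroup G) : Set G) ≤ W P)
    (hloc : ∀ (H T : Subgroup G), T ≤ H → IsPGroup p ↥T → ¬ p ∣ (T).relIndex (H) →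
      ¬ H ≤ Subgroup.normalizer ((W T : Subgroup G) : Set G) →
      ∃ g : G, g ∈ T ∧ g ∉ Cfsg.pCoreOf p H ∧ ∀ U V : Subgroup ↥H, Cfsg.IsChiefFactor U V →
        U.map H.subtype ≤ Cfsg.pCoreOf p H ⊓
          Subgroup.centralizer ((Cfsg.pCoreOf p H : Subgroup G) : Set G) →
        Cfsg.iterCommutator (U.map H.subtype) (Subgroup.zpowers g) (p - 1) ≤ V.map H.subtype) :
    ∀ n : ℕ, ∀ H T : Subgroup G, Nat.card ↥H = n → T ≤ H → IsPGroup p ↥T → ¬ p ∣ T.relIndex H →
      ∀ x ∈ T ⊓ centralizer ((H ⊓ normalizer ((W T : Subgroup G) : Set G) : Subgroup G) : Set G),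
      ∀ h ∈ H, h * x * h⁻¹ ∈ T → h * x * h⁻¹ = x := by
  intro n
  induction n using Nat.strong_induction_on with
  | _ n ih =>
  intro H T hcard hTH hTp hTi x hx h hh hhx
  by_contra hne
  have hTN : T ≤ H ⊓ normalizer ((W T : Subgroup G) : Set G) :=
    le_inf hTH (Subgroup.le_normalizer.trans (normalizer_le_normalizer_functor hW hTp))
  have hxZ : x ∈ T ⊓ centralizer (T : Set G) :=
    ⟨hx.1, Subgroup.centralizer_le (by exact_mod_cast hTN) hx.2⟩
  have hAZ : ({x} : Set G) ⊆ ((T ⊓ centralizer (T : Set G) : Subgroup G) : Set G) := by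
    intro a ha
    rw [Set.mem_singleton_iff] at ha
    rw [ha]; exact hxZ
  have hAN : ∀ m ∈ H ⊓ normalizer ((W T : Subgroup G) : Set G), rc m ({x} : Set G) = {x} := by
    intro m hm
    rw [rc_single]
    have hc := Subgroup.mem_centralizer_iff.1 hx.2 m hm
    have e : m⁻¹ * x * m = x := by
      rw [mul_assoc, ← hc]; group
    rw [e]
  have hfail : ∃ h' ∈ H, rc h' ({x} : Set G) ⊆ (T : Set G) ∧ rc h' ({x} : Set G) ≠ {x} := by
    refine ⟨h⁻¹, H.inv_mem hh, ?_, ?_⟩
    · rw [rc_single, inv_inv]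
      intro a ha
      rw [Set.mem_singleton_iff] at ha
      rw [ha]; exact hhx
    · rw [rc_single, inv_inv]
      intro he
      exact hne (Set.singleton_eq_singleton_iff.1 he)
  obtain ⟨U, hUT, hAU, hAN₁, hTi₁, h₁, hh₁, hne₁⟩ :=
    wc_reduce_rel W hW hWZ H T hTH hTp hTi {x} hAZ hAN hfail
  have hxU : x ∈ U := hAU rfl
  by_cases hHU : H ≤ normalizer (U : Set G)
  · -- the core case
    have hUQ : U ≤ pCoreOf p H := le_pCoreOf p (hUT.trans hTH) hHU (hTp.to_le hUT)
    have hNW : ¬ H ≤ normalizer ((W T : Subgroup G) : Set G) := by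
      intro hle
      apply hne
      have hc := Subgroup.mem_centralizer_iff.1 hx.2 h ⟨hh, hle hh⟩
      rw [hc, mul_inv_cancel_right]
    obtain ⟨g, hgT, hgQ, hE⟩ := hloc H T hTH hTp hTi hNW
    apply hgQ
    refine elt_core_rel hTH hTp hTi x hxZ (hUQ hxU) ?_ ⟨h, hh, hne⟩ g hgT hE
    intro H₂ hTH₂ hH₂H hnle k hk
    have hlt : Nat.card ↥H₂ < n := by
      rw [← hcard]; exact card_lt_of_le_of_not_le hH₂H hnle
    refine ih _ hlt H₂ T rfl hTH₂ hTp (not_dvd_relIndex_of_le hTH₂ hH₂H hTi) x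
      ⟨hx.1, Subgroup.centralizer_le (by
        intro m hm; exact ⟨hH₂H hm.1, hm.2⟩) hx.2⟩ k hk ?_
    exact hUT ((Subgroup.mem_normalizer_iff.1 (hHU (hH₂H hk)) x).1 hxU)
  · -- descent to `N_H(U)`
    have hlt : Nat.card ↥(H ⊓ normalizer (U : Set G)) < n := by
      rw [← hcard]
      exact card_lt_of_le_of_not_le inf_le_left (fun hle => hHU (hle.trans inf_le_right))
    apply hne₁
    rw [rc_single]
    have hxc : x ∈ centralizer ((H ⊓ normalizer (U : Set G) ⊓
        normalizer ((W (T ⊓ normalizer (U : Set G)) : Subgroup G) : Set G) : Subgroup G) : Set G) := by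
      rw [Subgroup.mem_centralizer_iff]
      intro m hm
      have h2 := hAN₁ m ⟨hm.1.1, hm.2⟩
      rw [rc_single] at h2
      have h3 : m⁻¹ * x * m = x := Set.singleton_eq_singleton_iff.1 h2
      have h4 : m * x = m * (m⁻¹ * x * m) := by rw [h3]
      rw [h4]; group
    have hkey := ih _ hlt (H ⊓ normalizer (U : Set G)) (T ⊓ normalizer (U : Set G)) rfl
      (inf_le_inf_right _ hTH) (hTp.to_le inf_le_left) hTi₁ x
      ⟨⟨hx.1, Subgroup.le_normalizer hxU⟩, hxc⟩
      h₁⁻¹ (Subgroup.inv_mem _ hh₁) (by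
        rw [inv_inv]
        have hu : h₁⁻¹ * x * h₁ ∈ U := by
          have := (Subgroup.mem_normalizer_iff.1 (Subgroup.inv_mem _ hh₁.2) x).1 hxU
          simpa using this
        exact ⟨hUT hu, Subgroup.le_normalizer hu⟩)
    rw [inv_inv] at hkey
    rw [hkey]

/-- **Control of weak closure of elements** in every subgroup. -/
theorem wc_elt_all [Finite G] {p : ℕ} [Fact p.Prime] (W : Subgroup G → Subgroup G)
    (hW : Cfsg.IsConjugacyFunctor p W)
    (hWZ : ∀ P : Subgroup G, IsPGroup p ↥P → P ⊓ centralizer ((P : Subgroup G) : Set G) ≤ W P)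
    (hloc : ∀ (H T : Subgroup G), T ≤ H → IsPGroup p ↥T → ¬ p ∣ (T).relIndex (H) →
      ¬ H ≤ Subgroup.normalizer ((W T : Subgroup G) : Set G) →
      ∃ g : G, g ∈ T ∧ g ∉ Cfsg.pCoreOf p H ∧ ∀ U V : Subgroup ↥H, Cfsg.IsChiefFactor U V →
        U.map H.subtype ≤ Cfsg.pCoreOf p H ⊓
          Subgroup.centralizer ((Cfsg.pCoreOf p H : Subgroup G) : Set G) →
        Cfsg.iterCommutator (U.map H.subtype) (Subgroup.zpowers g) (p - 1) ≤ V.map H.subtype) :
    ∀ H : Subgroup G, Cfsg.ControlsWeakClosureOfElementsIn p W H := by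
  intro H
  refine ⟨hWZ, ?_⟩
  obtain ⟨T, hT⟩ := exists_isSylowIn (p := p) H
  have hTi : ¬ p ∣ T.relIndex H := Sylow.not_dvd_index hT.toSylow
  exact ⟨T, hT.1, hT.2.1, hTi, fun x hx h hh hhx =>
    wc_elt_rel W hW hWZ hloc _ H T rfl hT.1 hT.2.1 hTi x hx h hh hhx⟩

end Relative

end Cfsg.Agent.Helper10
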