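import Mathlib
import Cfsg.Agent.Helper10.WCElt

/-!
# S2799: continuation form of `elt_core_K` (the set-up of the core case, CPS style)
-/

set_option autoImplicit false
set_option linter.unusedSectionVars false
set_option linter.unusedVariables false
set_option linter.style.haveILetI false

namespace Cfsg.Agent.Helper10

open Cfsg Cfsg.Agent.Helper14 Subgroup
open scoped commutatorElement IsMulCommutative

section Cont

variable {X : Type*} [Group X] [Finite X] {p : ℕ} [Fact p.Prime]

/-- The set-up of the core case of `elt_core_K`, in continuation-passing form: a chief factor `U / V₀`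
below `K`, a non-identity vector `m₀` fixed by `M = C_X(x)` whose norm over `X / M` is trivial. -/
theorem elt_core_K_cont (K : Subgroup X) [hKn : K.Normal] [hKc : IsMulCommutative ↥K]
    (hKQ : K ≤ Cfsg.pCore p X) (S : Sylow p X) (x : X) (hxK : x ∈ K)
    (hSx : (S : Subgroup X) ≤ centralizer ({x} : Set X))
    (hMtop : centralizer ({x} : Set X) ≠ ⊤)
    (P : Prop)
    (hcont : ∀ (U V₀ : Subgroup X) [U.Normal] [V₀.Normal], Cfsg.IsChiefFactor U V₀ → U ≤ K →
      ∀ [IsMulCommutative ↥(Ub U V₀)], (∀ m : ↥(Ub U V₀), m ^ p = 1) →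
      ∀ [Fintype (X ⧸ centralizer ({x} : Set X))] (m₀ : ↥(Ub U V₀)), m₀ ≠ 1 →
      (∀ a ∈ centralizer ({x} : Set X), rhoZ U V₀ a m₀ = m₀) →
      (∏ q : X ⧸ centralizer ({x} : Set X), rhoZ U V₀ q.out m₀ = 1) → P) : P := by
  classical
  have hp : p.Prime := Fact.out
  letI : Fintype (X ⧸ centralizer ({x} : Set X)) := Fintype.ofFinite _
  have hx : ∀ a ∈ centralizer ({x} : Set X),
      MulAut.conjNormal (H := K) a (⟨x, hxK⟩ : ↥K) = ⟨x, hxK⟩ := by
    intro a ha
    apply Subtype.ext
    rw [MulAut.conjNormal_apply]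
    have := Subgroup.mem_centralizer_singleton_iff.1 ha
    show a * x * a⁻¹ = x
    rw [this, mul_inv_cancel_right]
  obtain ⟨y, hyM, hty, hy1⟩ := exists_adjust K (centralizer ({x} : Set X)) hx
  -- the index is prime to the order of `x`
  have hk : Nat.Coprime (Fintype.card (X ⧸ centralizer ({x} : Set X))) (orderOf x) := by
    have h1 : Fintype.card (X ⧸ centralizer ({x} : Set X)) = (centralizer ({x} : Set X)).index := by
      rw [Subgroup.index_eq_card, Nat.card_eq_fintype_card]
    have h2 : ¬ p ∣ (centralizer ({x} : Set X)).index := by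
      intro hd
      exact S.not_dvd_index (hd.trans (Subgroup.index_dvd_of_le hSx))
    obtain ⟨j, hj⟩ := (Cfsg.Agent.Helper14.pCore_isPGroup (G := X) p) ⟨x, hKQ hxK⟩
    have h3 : orderOf x ∣ p ^ j := by
      apply orderOf_dvd_of_pow_eq_one
      simpa using congrArg Subtype.val hj
    obtain ⟨i, -, hi⟩ := (Nat.dvd_prime_pow hp).1 h3
    rw [hi, h1]
    exact Nat.Coprime.pow_right i ((Nat.Prime.coprime_iff_not_dvd hp).2 h2).symm
  obtain ⟨m, hm⟩ := exists_pow_eq_self_of_coprime hk
  have hyne : y ≠ 1 := by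
    intro h1
    apply hMtop
    rw [eq_top_iff]
    intro c _
    have h2 := congrArg Subtype.val (hy1 h1 c)
    rw [MulAut.conjNormal_apply] at h2
    have h3 : c * x ^ Fintype.card (X ⧸ centralizer ({x} : Set X)) * c⁻¹ =
        x ^ Fintype.card (X ⧸ centralizer ({x} : Set X)) := by
      simpa using h2
    rw [Subgroup.mem_centralizer_singleton_iff]
    have h4 : c * x * c⁻¹ = x := by
      conv_lhs => rw [← hm]
      rw [← conj_pow, h3, hm]
    have h5 : c * x = (c * x * c⁻¹) * c := by group
    rw [h5, h4]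
  -- the chief factor
  have hyK : (y : X) ∈ K := y.2
  have hV'K : Subgroup.normalClosure ({(y : X)} : Set X) ≤ K :=
    Subgroup.normalClosure_le_normal (by
      intro z hz
      rw [Set.mem_singleton_iff] at hz
      rw [hz]; exact hyK)
  have hyV' : (y : X) ∈ Subgroup.normalClosure ({(y : X)} : Set X) :=
    Subgroup.subset_normalClosure rfl
  have hV'ne : Subgroup.normalClosure ({(y : X)} : Set X) ≠ ⊥ := by
    intro h
    apply hyne
    apply Subtype.ext
    have := hyV'
    rw [h, Subgroup.mem_bot] at this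
    exact this
  haveI hV'n : (Subgroup.normalClosure ({(y : X)} : Set X)).Normal := Subgroup.normalClosure_normal
  have h1 : (fun N : Subgroup X => N.Normal ∧ N < Subgroup.normalClosure ({(y : X)} : Set X)) ⊥ :=
    ⟨inferInstance, bot_lt_iff_ne_bot.2 hV'ne⟩
  obtain ⟨V₀, -, hVmax⟩ := Finite.exists_le_maximal (α := Subgroup X)
    (p := fun N : Subgroup X => N.Normal ∧ N < Subgroup.normalClosure ({(y : X)} : Set X))
    (a := ⊥) h1
  haveI hVn : V₀.Normal := hVmax.1.1
  have hVU : V₀ < Subgroup.normalClosure ({(y : X)} : Set X) := hVmax.1.2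
  have hchief : Cfsg.IsChiefFactor (Subgroup.normalClosure ({(y : X)} : Set X)) V₀ := by
    refine ⟨hVU, hV'n, hVn, ?_⟩
    intro N hN hVN hNU
    by_cases h : N = Subgroup.normalClosure ({(y : X)} : Set X)
    · exact Or.inr h
    · left
      exact le_antisymm (hVmax.2 ⟨hN, lt_of_le_of_ne hNU h⟩ hVN) hVN
  have hV'Q : Subgroup.normalClosure ({(y : X)} : Set X) ≤ Cfsg.pCore p X := hV'K.trans hKQ
  haveI hcomm : IsMulCommutative ↥(Ub (Subgroup.normalClosure ({(y : X)} : Set X)) V₀) :=
    ub_isMulCommutative hchief hV'Q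
  have hm₀ : piX (Subgroup.normalClosure ({(y : X)} : Set X)) V₀ ⟨(y : X), hyV'⟩ ≠ 1 := by
    intro h
    have h2 := congrArg Subtype.val h
    rw [piX_coe] at h2
    have h3 : (y : X) ∈ V₀ := (QuotientGroup.eq_one_iff _).1 h2
    have h4 : Subgroup.normalClosure ({(y : X)} : Set X) ≤ V₀ :=
      Subgroup.normalClosure_le_normal (by
        intro z hz
        rw [Set.mem_singleton_iff] at hz
        rw [hz]; exact h3)
    exact hVU.not_ge h4
  have hfixM : ∀ a ∈ centralizer ({x} : Set X),
      rhoZ (Subgroup.normalClosure ({(y : X)} : Set X)) V₀ a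
        (piX (Subgroup.normalClosure ({(y : X)} : Set X)) V₀ ⟨(y : X), hyV'⟩) =
        piX (Subgroup.normalClosure ({(y : X)} : Set X)) V₀ ⟨(y : X), hyV'⟩ := by
    intro a ha
    apply Subtype.ext
    rw [rhoZ_apply, piX_coe]
    have h2 := congrArg Subtype.val (hyM a ha)
    rw [MulAut.conjNormal_apply] at h2
    rw [← map_inv, ← map_mul, ← map_mul]
    exact congrArg _ h2
  have hprod : ∏ q : X ⧸ centralizer ({x} : Set X),
      rhoZ (Subgroup.normalClosure ({(y : X)} : Set X)) V₀ q.out
        (piX (Subgroup.normalClosure ({(y : X)} : Set X)) V₀ ⟨(y : X), hyV'⟩) = 1 := by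
    haveI hcK : IsMulCommutative ↥(Ub K V₀) := inferInstance
    have hle : Ub (Subgroup.normalClosure ({(y : X)} : Set X)) V₀ ≤ Ub K V₀ :=
      Subgroup.map_mono hV'K
    apply Subgroup.inclusion_injective hle
    rw [map_prod, map_one]
    have e : ∀ q : X ⧸ centralizer ({x} : Set X),
        Subgroup.inclusion hle (rhoZ (Subgroup.normalClosure ({(y : X)} : Set X)) V₀ q.out
          (piX (Subgroup.normalClosure ({(y : X)} : Set X)) V₀ ⟨(y : X), hyV'⟩)) =
        piX K V₀ (MulAut.conjNormal (H := K) q.out y) := by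
      intro q
      apply Subtype.ext
      rw [Subgroup.coe_inclusion, rhoZ_apply, piX_coe, piX_coe, MulAut.conjNormal_apply]
      simp only [map_mul, map_inv]
    rw [Finset.prod_congr rfl (fun q _ => e q), ← map_prod, ← tauK_apply, hty, map_one]
  exact hcont (Subgroup.normalClosure ({(y : X)} : Set X)) V₀ hchief hV'K
    (ub_pow_eq_one hchief hV'Q) _ hm₀ hfixM hprod

end Cont

end Cfsg.Agent.Helper10
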