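import Mathlib
import Cfsg.Agent.Helper10.FixedChief
import Cfsg.Agent.Helper13.S2799E1

set_option autoImplicit false
set_option linter.unusedSectionVars false
set_option linter.unusedVariables false
set_option linter.style.haveILetI false

/-! # S2799, piece E3: the family endgame (generalises `Helper10.mem_pCore_of_fixed`) -/

namespace Cfsg.Agent.S2799P

open Subgroup MulAction Cfsg.Agent.Helper14 Cfsg.Agent.Helper10

/-- E3 (blueprint L8; generalises `Helper10.mem_pCore_of_fixed`): family endgame. -/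
theorem E3 {G : Type*} [Group G] [Finite G] {M : Subgroup G} [Fintype (G ⧸ M)] (S : Sylow 2 G)
    (hSM : (S : Subgroup G) ≤ M)
    (hmax : ∀ H : Subgroup G, (S : Subgroup G) ≤ H → H ≠ ⊤ → H ≤ M)
    {W : Type*} [CommGroup W] (ρ : G →* MulAut W)
    (m₀ : W) (hm₀ : m₀ ≠ 1) (hfixM : ∀ a ∈ M, ρ a m₀ = m₀)
    (hprod : ∏ q : G ⧸ M, ρ q.out m₀ = 1)
    (A : Subgroup G) (hAS : A ≤ (S : Subgroup G))
    (hZ : ∀ T : Finset (G ⧸ M), (∀ a ∈ A, ∀ ω ∈ T, a • ω ∈ T) →
      (∀ ω ∈ T, ∃ a ∈ A, a • ω ≠ ω) → ∏ ω ∈ T, ρ ω.out m₀ = 1) :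
    A ≤ Cfsg.pCore 2 G := by
  classical
  haveI : Fact (Nat.Prime 2) := ⟨Nat.prime_two⟩
  -- the generating set: elements of conjugates of `A` lying in `S`
  set 𝒟 : Set G := {v | ∃ n : G, A.map (cj n) ≤ (S : Subgroup G) ∧ v ∈ A.map (cj n)} with h𝒟
  have h𝒟S : 𝒟 ⊆ ((S : Subgroup G) : Set G) := by
    rintro v ⟨n, hn, hv⟩
    exact hn hv
  have hDS : Subgroup.closure 𝒟 ≤ (S : Subgroup G) := (Subgroup.closure_le _).2 h𝒟S
  have hDp : IsPGroup 2 ↥(Subgroup.closure 𝒟) := S.2.to_le hDS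
  have hAD : A ≤ Subgroup.closure 𝒟 := by
    intro a ha
    apply Subgroup.subset_closure
    refine ⟨1, ?_, ?_⟩
    · rw [map_cj_one]; exact hAS
    · rw [map_cj_one]; exact ha
  by_cases hDn : (Subgroup.closure 𝒟).Normal
  · exact hAD.trans (Cfsg.Agent.Helper14.le_pCore 2 hDn hDp)
  exfalso
  have hNtop : normalizer ((Subgroup.closure 𝒟 : Subgroup G) : Set G) ≠ ⊤ :=
    fun h => hDn (Subgroup.normalizer_eq_top_iff.1 h)
  -- conjugates staying in `S` stay in `D`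
  have hwc : ∀ n : G, (∀ v ∈ 𝒟, n * v * n⁻¹ ∈ (S : Subgroup G)) →
      n ∈ normalizer ((Subgroup.closure 𝒟 : Subgroup G) : Set G) := by
    intro n hn
    have h0 : ∀ v ∈ 𝒟, n * v * n⁻¹ ∈ 𝒟 := by
      rintro v ⟨m, hm, hv⟩
      refine ⟨n * m, ?_, ?_⟩
      · rw [← map_cj_mul]
        rintro _ ⟨u, hu, rfl⟩
        exact hn u ⟨m, hm, hu⟩
      · rw [← map_cj_mul]
        exact ⟨v, hv, rfl⟩
    have h1 : ∀ d ∈ Subgroup.closure 𝒟, n * d * n⁻¹ ∈ Subgroup.closure 𝒟 :=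
      conj_mem_closure (fun v hv => Subgroup.subset_closure (h0 v hv))
    rw [mem_normalizer_iff_map_cj]
    apply Subgroup.eq_of_le_of_card_ge
    · rintro _ ⟨d, hd, rfl⟩
      exact h1 d hd
    · rw [Subgroup.card_map_of_injective (cj_injective n)]
  have hSN : (S : Subgroup G) ≤ normalizer ((Subgroup.closure 𝒟 : Subgroup G) : Set G) := by
    intro s hs
    apply hwc
    intro v hv
    exact Subgroup.mul_mem _ (Subgroup.mul_mem _ hs (h𝒟S hv)) (Subgroup.inv_mem _ hs)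
  have hNM := hmax _ hSN hNtop
  -- equivariance of `f`
  have hfeq : ∀ (g : G) (ω : G ⧸ M), ρ (g • ω).out m₀ = ρ g (ρ ω.out m₀) := by
    intro g ω
    have e0 : g • ω = ((g * ω.out : G) : G ⧸ M) := by
      conv_lhs => rw [← QuotientGroup.out_eq' ω]
      rfl
    have h1 : (g * ω.out)⁻¹ * (g • ω).out ∈ M := by
      rw [← QuotientGroup.eq, QuotientGroup.out_eq', e0]
    have e2 : (g • ω).out = g * ω.out * ((g * ω.out)⁻¹ * (g • ω).out) := by group
    rw [e2, map_mul, map_mul, MulAut.mul_apply, MulAut.mul_apply, hfixM _ h1]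
  -- the family of subgroups of `D`
  set 𝔉 : Set (Subgroup ↥(Subgroup.closure 𝒟)) :=
    {B | ∃ n : G, A.map (cj n) ≤ (S : Subgroup G) ∧ B = (A.map (cj n)).subgroupOf (Subgroup.closure 𝒟)}
    with h𝔉
  have hgen : sSup 𝔉 = ⊤ := by
    rw [eq_top_iff]
    rintro ⟨d, hd⟩ -
    induction hd using Subgroup.closure_induction with
    | mem v hv =>
      obtain ⟨n, hn, hvn⟩ := hv
      have hB : (A.map (cj n)).subgroupOf (Subgroup.closure 𝒟) ∈ 𝔉 := ⟨n, hn, rfl⟩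
      exact (le_sSup hB) (by rw [Subgroup.mem_subgroupOf]; exact hvn)
    | one => exact Subgroup.one_mem _
    | mul x y hx hy ihx ihy => exact Subgroup.mul_mem _ ihx ihy
    | inv x hx ihx => exact Subgroup.inv_mem _ ihx
  -- property (Z) for the members of the family
  have hZ' : ∀ A' ∈ 𝔉, ∀ T : Finset (G ⧸ M), (∀ a ∈ A', ∀ ω ∈ T, a • ω ∈ T) →
      (∀ ω ∈ T, ∃ a ∈ A', a • ω ≠ ω) → ∏ ω ∈ T, (fun ω : G ⧸ M => ρ ω.out m₀) ω = 1 := by
    rintro A' ⟨n, hn, rfl⟩ T hT hnf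
    -- transport to `A` by `n⁻¹`
    have hmemD : ∀ a ∈ A, n * a * n⁻¹ ∈ Subgroup.closure 𝒟 := fun a ha =>
      Subgroup.subset_closure ⟨n, hn, ⟨a, ha, rfl⟩⟩
    have hT1 : ∀ a ∈ A, ∀ ω ∈ T, (n * a * n⁻¹) • ω ∈ T := by
      intro a ha ω hω
      have := hT ⟨n * a * n⁻¹, hmemD a ha⟩
        (by rw [Subgroup.mem_subgroupOf]; exact ⟨a, ha, rfl⟩) ω hω
      exact this
    set T' : Finset (G ⧸ M) := T.image (fun ω => n⁻¹ • ω) with hT'
    have hmem' : ∀ ω, ω ∈ T' ↔ n • ω ∈ T := by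
      intro ω
      rw [hT', Finset.mem_image]
      constructor
      · rintro ⟨ω₁, hω₁, rfl⟩
        rw [smul_inv_smul]; exact hω₁
      · intro h
        exact ⟨n • ω, h, inv_smul_smul n ω⟩
    have hA1 : ∀ a ∈ A, ∀ ω ∈ T', a • ω ∈ T' := by
      intro a ha ω hω
      rw [hmem'] at hω ⊢
      have := hT1 a ha _ hω
      have e : (n * a * n⁻¹) • (n • ω) = n • (a • ω) := by
        rw [smul_smul, smul_smul]
        congr 1
        group
      rw [e] at this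
      exact this
    have hA2 : ∀ ω ∈ T', ∃ a ∈ A, a • ω ≠ ω := by
      intro ω hω
      rw [hmem'] at hω
      obtain ⟨⟨b, hbD⟩, hbA', hne⟩ := hnf _ hω
      rw [Subgroup.mem_subgroupOf] at hbA'
      obtain ⟨a, ha, hab⟩ := hbA'
      refine ⟨a, ha, ?_⟩
      intro hfix
      apply hne
      have hb : b = n * a * n⁻¹ := hab.symm
      show b • (n • ω) = n • ω
      rw [hb, smul_smul]
      have e : n * a * n⁻¹ * n = n * a := by group
      rw [e, ← smul_smul, hfix]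
    have h1 := hZ T' hA1 hA2
    have h2 : ∏ ω ∈ T, ρ ω.out m₀ = ∏ ω ∈ T', ρ (n • ω).out m₀ := by
      rw [hT', Finset.prod_image]
      · apply Finset.prod_congr rfl
        intro ω _
        rw [smul_inv_smul]
      · intro a _ b _ hab
        exact (MulAction.injective n⁻¹) hab
    show ∏ ω ∈ T, ρ ω.out m₀ = 1
    rw [h2]
    have h3 : ∏ ω ∈ T', ρ (n • ω).out m₀ = ρ n (∏ ω ∈ T', ρ ω.out m₀) := by
      rw [map_prod]
      apply Finset.prod_congr rfl
      intro ω _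
      exact hfeq n ω
    rw [h3, h1, map_one]
  have hfix1 : ∀ d : ↥(Subgroup.closure 𝒟), d • ((1 : G) : G ⧸ M) = ((1 : G) : G ⧸ M) := by
    intro d
    change (((d : G) * 1 : G) : G ⧸ M) = _
    rw [QuotientGroup.eq]
    have := hSM (hDS d.2)
    simpa using M.inv_mem this
  have huniq : ∀ ω : G ⧸ M, (∀ d : ↥(Subgroup.closure 𝒟), d • ω = ω) → ω = ((1 : G) : G ⧸ M) := by
    intro ω hω
    obtain ⟨g, rfl⟩ := QuotientGroup.mk_surjective ω
    have h1 : ∀ d ∈ Subgroup.closure 𝒟, g⁻¹ * d * g ∈ M := by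
      intro d hd
      have h2 := hω ⟨d, hd⟩
      change ((d * g : G) : G ⧸ M) = (g : G ⧸ M) at h2
      rw [QuotientGroup.eq] at h2
      have e : g⁻¹ * d * g = ((d * g)⁻¹ * g)⁻¹ := by group
      rw [e]
      exact M.inv_mem h2
    have hRp : IsPGroup 2 ↥((Subgroup.closure 𝒟).map (cj g⁻¹)) := hDp.map _
    have hRM : (Subgroup.closure 𝒟).map (cj g⁻¹) ≤ M := by
      rintro _ ⟨d, hd, rfl⟩
      rw [cj_apply, inv_inv]
      exact h1 d hd
    obtain ⟨c, hcM, hc⟩ := exists_conj_le_sylow_of_le S M _ hSM hRp hRM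
    have hn : c * g⁻¹ ∈ normalizer ((Subgroup.closure 𝒟 : Subgroup G) : Set G) := by
      apply hwc
      intro v hv
      have h3 := hc (g⁻¹ * v * g) ⟨v, Subgroup.subset_closure hv, by rw [cj_apply, inv_inv]⟩
      have e : c * g⁻¹ * v * (c * g⁻¹)⁻¹ = c * (g⁻¹ * v * g) * c⁻¹ := by group
      rw [e]; exact h3
    have hgM : g⁻¹ ∈ M := by
      have := M.mul_mem (M.inv_mem hcM) (hNM hn)
      simpa using this
    rw [QuotientGroup.eq]
    simpa using M.inv_mem hgM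
  apply hm₀
  have h1 := E1 (D := ↥(Subgroup.closure 𝒟)) hDp (fun ω : G ⧸ M => ρ ω.out m₀) 𝔉 hgen hZ'
    ((1 : G) : G ⧸ M) hfix1 huniq
  beta_reduce at h1
  rw [hprod] at h1
  have h4 : (((1 : G) : G ⧸ M).out) ∈ M := by
    have : (1 : G)⁻¹ * (((1 : G) : G ⧸ M).out) ∈ M := by
      rw [← QuotientGroup.eq, QuotientGroup.out_eq']
    simpa using this
  rw [hfixM _ h4] at h1
  exact h1.symm

end Cfsg.Agent.S2799P
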