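import Mathlib
import Cfsg.Agent.Helper26.ZJInst
import Cfsg.Agent.Helper17.Basic
import Cfsg.Agent.Helper13.S2799F4c

set_option autoImplicit false
set_option linter.unusedSectionVars false
set_option linter.unusedVariables false

/-! # S2799, piece F4b (blueprint L4(b)): for a hyperplane `B` of the best `A`, `C_K(B) = C_K(A)` -/

namespace Cfsg.Agent.S2799P

open Subgroup MulAction

/-- F4b (blueprint L4(b)). -/
theorem F4b {X : Type*} [Group X] [Finite X] (S K : Subgroup X) (hKS : K ≤ S)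
    (hKab : ∀ x ∈ K, ∀ y ∈ K, x * y = y * x)
    (A : Subgroup X) (hA : A ∈ Cfsg.Agent.Helper26.famEl 0 S)
    (hbest : ∀ A' ∈ Cfsg.Agent.Helper26.famEl 0 S, ¬ K ≤ A' →
      Nat.card (A' ⊓ K : Subgroup X) ≤ Nat.card (A ⊓ K : Subgroup X))
    (B : Subgroup X) (hBA : B ≤ A) (hidx : B.relIndex A = 2) (hAKB : A ⊓ K ≤ B)
    (hBK : ¬ B ≤ centralizer (K : Set X)) :
    K ⊓ centralizer (B : Set X) ≤ centralizer (A : Set X) := by
  classical
  have hAS := hA.1
  have hAab := hA.2.1.1
  have hAmax := hA.2.2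
  by_contra hnot
  set CB : Subgroup X := K ⊓ centralizer (B : Set X) with hCB
  set CA : Subgroup X := K ⊓ centralizer (A : Set X) with hCA
  have hCACB : CA ≤ CB := inf_le_inf_left _ (Subgroup.centralizer_le (by exact_mod_cast hBA))
  have hCAeq : CA = A ⊓ K := by
    apply le_antisymm
    · intro x hx
      refine ⟨?_, hx.1⟩
      apply Cfsg.Agent.Helper26.mem_famEl_of_commute hA (hKS hx.1) (pow_zero x)
      intro a ha
      exact (Subgroup.mem_centralizer_iff.1 hx.2 a ha)
    · intro x hx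
      refine ⟨hx.2, ?_⟩
      show x ∈ centralizer (A : Set X)
      rw [Subgroup.mem_centralizer_iff]
      intro a ha
      exact hAab a ha x hx.1
  have hlt : CA < CB := by
    refine lt_of_le_of_ne hCACB ?_
    intro heq
    apply hnot
    intro x hx
    have : x ∈ CA := by rw [heq]; exact hx
    exact this.2
  -- `|CB| ≥ 2 |CA|`
  have hcard2 : 2 * Nat.card CA ≤ Nat.card CB := by
    have h1 := Cfsg.Agent.Helper17.relIndex_mul_card_inf CA CB
    rw [inf_eq_left.mpr hCACB] at h1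
    have hne1 : CA.relIndex CB ≠ 1 := by
      intro h
      have := Subgroup.relIndex_eq_one.1 h
      exact hlt.not_ge this
    have hne0 : CA.relIndex CB ≠ 0 := by
      intro h
      rw [h, zero_mul] at h1
      have : 0 < Nat.card CB := Nat.card_pos
      omega
    have : 2 ≤ CA.relIndex CB := by omega
    calc 2 * Nat.card CA ≤ CA.relIndex CB * Nat.card CA := Nat.mul_le_mul_right _ this
      _ = Nat.card CB := h1
  -- the abelian subgroup `A₁ = B · C_K(B)`
  have hBab : ∀ x ∈ B, ∀ y ∈ B, x * y = y * x := fun x hx y hy => hAab x (hBA hx) y (hBA hy)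
  have hCBab : ∀ x ∈ CB, ∀ y ∈ CB, x * y = y * x := fun x hx y hy => hKab x hx.1 y hy.1
  have hBCB : ∀ x ∈ B, ∀ y ∈ CB, x * y = y * x := by
    intro x hx y hy
    exact (Subgroup.mem_centralizer_iff.1 hy.2 x hx)
  have hA₁ab : ∀ x ∈ B ⊔ CB, ∀ y ∈ B ⊔ CB, x * y = y * x := F4c.aux_comm_sup hBab hCBab hBCB
  have hA₁S : B ⊔ CB ≤ S := sup_le (hBA.trans hAS) (inf_le_left.trans hKS)
  have hle : Nat.card (B ⊔ CB : Subgroup X) ≤ Nat.card A :=
    hAmax (B ⊔ CB) hA₁S ⟨hA₁ab, fun x _ => pow_zero x⟩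
  have hnorm : CB ≤ normalizer (B : Set X) := by
    intro y hy
    rw [mem_normalizer_iff]
    intro x
    have key : ∀ z ∈ B, y * z * y⁻¹ = z := by
      intro z hz
      rw [← hBCB z hz y hy, mul_inv_cancel_right]
    constructor
    · intro hx
      rw [key x hx]; exact hx
    · intro hx
      have hy' : y⁻¹ ∈ CB := CB.inv_mem hy
      have h2 : y⁻¹ * (y * x * y⁻¹) * y⁻¹⁻¹ = y * x * y⁻¹ := by
        rw [← hBCB _ hx _ hy', mul_inv_cancel_right]
      rw [inv_inv] at h2
      have e : x = y⁻¹ * (y * x * y⁻¹) * y := by group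
      rw [e, h2]; exact hx
  have hprod := Cfsg.Agent.Helper17.card_sup_mul_card_inf B CB hnorm
  have hinf : B ⊓ CB = A ⊓ K := by
    apply le_antisymm
    · intro x hx
      exact ⟨hBA hx.1, hx.2.1⟩
    · intro x hx
      refine ⟨hAKB hx, hx.2, ?_⟩
      show x ∈ centralizer (B : Set X)
      rw [Subgroup.mem_centralizer_iff]
      intro b hb
      exact hAab b (hBA hb) x hx.1
  rw [hinf, ← hCAeq] at hprod
  have h2 := Cfsg.Agent.Helper17.relIndex_mul_card_inf B A
  rw [hidx, inf_eq_left.mpr hBA] at h2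
  have hposCA : 0 < Nat.card CA := Nat.card_pos
  have hposB : 0 < Nat.card B := Nat.card_pos
  -- `|A₁| ≥ |A|`
  have hge : Nat.card A ≤ Nat.card (B ⊔ CB : Subgroup X) := by
    have h3 : Nat.card A * Nat.card CA ≤ Nat.card (B ⊔ CB : Subgroup X) * Nat.card CA := by
      calc Nat.card A * Nat.card CA = Nat.card B * (2 * Nat.card CA) := by rw [← h2]; ring
        _ ≤ Nat.card B * Nat.card CB := Nat.mul_le_mul_left _ hcard2
        _ = Nat.card (B ⊔ CB : Subgroup X) * Nat.card CA := hprod.symm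
    exact Nat.le_of_mul_le_mul_right h3 hposCA
  have hA₁fam : (B ⊔ CB) ∈ Cfsg.Agent.Helper26.famEl 0 S := by
    refine ⟨hA₁S, ⟨hA₁ab, fun x _ => pow_zero x⟩, ?_⟩
    intro Y hY hYc
    exact (hAmax Y hY hYc).trans hge
  have hKA₁ : ¬ K ≤ B ⊔ CB := by
    intro hK
    apply hBK
    intro b hb
    rw [Subgroup.mem_centralizer_iff]
    intro k hk
    exact hA₁ab k (hK hk) b (le_sup_left (a := B) hb)
  have h4 := hbest _ hA₁fam hKA₁
  have h5 : Nat.card CB ≤ Nat.card ((B ⊔ CB) ⊓ K : Subgroup X) := by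
    apply Subgroup.card_le_of_le
    exact le_inf le_sup_right inf_le_left
  rw [← hCAeq] at h4
  omega

end Cfsg.Agent.S2799P
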