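import Mathlib
import Cfsg.Agent.Helper10.ChiefAction

set_option autoImplicit false
set_option linter.unusedSectionVars false
set_option linter.unusedVariables false
set_option linter.style.haveILetI false

/-! # S2799, piece H1: a normal subgroup acting as a `p`-group on a chief factor acts trivially -/

namespace Cfsg.Agent.S2799P

open Subgroup MulAction Cfsg.Agent.Helper10

/-- H1: a normal subgroup acting as a `p`-group on a chief factor inside `O_p` acts trivially. -/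
theorem H1 {Z : Type*} [Group Z] [Finite Z] {p : ℕ} [Fact p.Prime] (U V : Subgroup Z) [V.Normal]
    [U.Normal] (h : Cfsg.IsChiefFactor U V) (hUP : U ≤ Cfsg.pCore p Z)
    (N : Subgroup Z) [N.Normal]
    (hN : ∀ n ∈ N, ∃ k : ℕ, Cfsg.Agent.Helper10.rhoZ U V (n ^ (p ^ k)) = 1) :
    ∀ n ∈ N, Cfsg.Agent.Helper10.rhoZ U V n = 1 := by
  classical
  have hp : p.Prime := Fact.out
  -- the image of `N` in `MulAut (UV/V)` is a `p`-group
  set R : Subgroup (MulAut ↥(Ub U V)) := N.map (rhoZ U V) with hR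
  have hRp : IsPGroup p ↥R := by
    rintro ⟨r, n, hn, rfl⟩
    obtain ⟨k, hk⟩ := hN n hn
    refine ⟨k, ?_⟩
    apply Subtype.ext
    rw [SubmonoidClass.coe_pow, OneMemClass.coe_one]
    show (rhoZ U V n) ^ (p ^ k) = 1
    rw [← map_pow]; exact hk
  -- a nontrivial fixed point
  have hWp : IsPGroup p ↥(Ub U V) := ub_isPGroup (p := p) (V := V) hUP
  have hWne : Ub U V ≠ ⊥ := ub_ne_bot h
  have hcong := hRp.card_modEq_card_fixedPoints (α := ↥(Ub U V))
  have hcardW : p ∣ Nat.card ↥(Ub U V) := by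
    obtain ⟨k, hk⟩ := hWp.exists_card_eq
    rw [hk]
    have hk0 : k ≠ 0 := by
      rintro rfl
      apply hWne
      rw [pow_zero] at hk
      exact (Subgroup.card_eq_one).1 hk
    exact dvd_pow_self p hk0
  have hfixdvd : p ∣ Nat.card ↥(fixedPoints ↥R ↥(Ub U V)) := by
    have := (Nat.modEq_zero_iff_dvd.2 hcardW).symm.trans hcong
    exact (Nat.modEq_zero_iff_dvd.1 this.symm)
  have h1fix : (1 : ↥(Ub U V)) ∈ fixedPoints ↥R ↥(Ub U V) := by
    intro r
    exact map_one (r : MulAut ↥(Ub U V))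
  obtain ⟨m, hmfix, hm1⟩ : ∃ m : ↥(Ub U V), m ∈ fixedPoints ↥R ↥(Ub U V) ∧ m ≠ 1 := by
    by_contra hcon
    push Not at hcon
    have hsub : Subsingleton ↥(fixedPoints ↥R ↥(Ub U V)) := by
      constructor
      rintro ⟨a, ha⟩ ⟨b, hb⟩
      apply Subtype.ext
      show a = b
      rw [hcon a ha, hcon b hb]
    haveI := hsub
    have hc1 : Nat.card ↥(fixedPoints ↥R ↥(Ub U V)) = 1 := by
      haveI : Nonempty ↥(fixedPoints ↥R ↥(Ub U V)) := ⟨⟨1, h1fix⟩⟩
      exact Nat.card_unique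
    rw [hc1] at hfixdvd
    exact hp.one_lt.ne' (Nat.dvd_one.1 hfixdvd)
  have hmN : ∀ n ∈ N, rhoZ U V n m = m := by
    intro n hn
    exact hmfix ⟨rhoZ U V n, n, hn, rfl⟩
  -- the fixed points of `N` form a normal subgroup of `Z ⧸ V` inside `UV/V`
  haveI hNmap : (N.map (QuotientGroup.mk' V)).Normal :=
    Subgroup.Normal.map inferInstance _ (QuotientGroup.mk'_surjective V)
  have hFn : (Ub U V ⊓ centralizer ((N.map (QuotientGroup.mk' V) : Subgroup (Z ⧸ V)) : Set (Z ⧸ V))).Normal :=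
    inferInstance
  have hmF : (m : Z ⧸ V) ∈ Ub U V ⊓ centralizer ((N.map (QuotientGroup.mk' V) : Subgroup (Z ⧸ V)) : Set (Z ⧸ V)) := by
    refine ⟨m.2, ?_⟩
    show (m : Z ⧸ V) ∈ centralizer ((N.map (QuotientGroup.mk' V) : Subgroup (Z ⧸ V)) : Set (Z ⧸ V))
    rw [Subgroup.mem_centralizer_iff]
    rintro _ ⟨n, hn, rfl⟩
    have h3 := congrArg Subtype.val (hmN n hn)
    rw [rhoZ_apply] at h3
    calc (QuotientGroup.mk' V) n * (m : Z ⧸ V)
        = ((QuotientGroup.mk' V) n * (m : Z ⧸ V) * ((QuotientGroup.mk' V) n)⁻¹) *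
          (QuotientGroup.mk' V) n := by group
      _ = (m : Z ⧸ V) * (QuotientGroup.mk' V) n := by rw [h3]
  rcases chief_dichotomy h _ hFn inf_le_left with h1 | h1
  · exfalso
    apply hm1
    rw [h1, Subgroup.mem_bot] at hmF
    exact Subtype.ext hmF
  · intro n hn
    ext w
    have hw : (w : Z ⧸ V) ∈ Ub U V ⊓ centralizer ((N.map (QuotientGroup.mk' V) : Subgroup (Z ⧸ V)) : Set (Z ⧸ V)) := by
      rw [h1]; exact w.2
    have h2 := Subgroup.mem_centralizer_iff.1 hw.2 ((QuotientGroup.mk' V) n) ⟨n, hn, rfl⟩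
    rw [rhoZ_apply, MulAut.one_apply, h2, mul_inv_cancel_right]

end Cfsg.Agent.S2799P
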