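import Mathlib
import Cfsg.Agent.S0199

set_option autoImplicit false
set_option linter.unusedSectionVars false
set_option linter.unusedVariables false
set_option linter.style.haveILetI false

/-! # S2799, piece T1a: Baer–Suzuki in `X ⧸ C` -/

namespace Cfsg.Agent.S2799P

open Subgroup

/-- T1a (blueprint L9, Baer–Suzuki S0199 in `X ⧸ C`). -/
theorem T1a {X : Type*} [Group X] [Finite X] (C : Subgroup X) [C.Normal] (a : X)
    (ha2 : ∃ k : ℕ, a ^ (2 ^ k) = 1)
    (hO2 : ∀ N : Subgroup X, N.Normal → C ≤ N → (∀ n ∈ N, ∃ k : ℕ, n ^ (2 ^ k) ∈ C) → a ∉ N) :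
    ∃ g : X, ¬ ∀ d ∈ Subgroup.closure ({a, g * a * g⁻¹} : Set X), ∃ k : ℕ, d ^ (2 ^ k) ∈ C := by
  classical
  haveI : Fact (Nat.Prime 2) := ⟨Nat.prime_two⟩
  by_contra hcon
  push Not at hcon
  set π : X →* X ⧸ C := QuotientGroup.mk' C with hπ
  set Y : Subgroup (X ⧸ C) := Subgroup.zpowers (π a) with hY
  have hYp : IsPGroup 2 ↥Y := by
    obtain ⟨k, hk⟩ := ha2
    rintro ⟨y, hy⟩
    obtain ⟨i, rfl⟩ := Subgroup.mem_zpowers_iff.1 hy
    refine ⟨k, ?_⟩
    apply Subtype.ext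
    rw [SubmonoidClass.coe_pow, OneMemClass.coe_one]
    show ((π a) ^ i) ^ (2 ^ k) = 1
    rw [← zpow_natCast, ← zpow_mul, mul_comm, zpow_mul, zpow_natCast, ← map_pow, hk, map_one, one_zpow]
  have hBS : ∀ q : X ⧸ C, IsPGroup 2 ↥(Y ⊔ Y.map (MulAut.conj q).toMonoidHom) := by
    intro q
    obtain ⟨g, rfl⟩ := QuotientGroup.mk'_surjective C q
    have hle : Y ⊔ Y.map (MulAut.conj (QuotientGroup.mk' C g)).toMonoidHom ≤
        (Subgroup.closure ({a, g * a * g⁻¹} : Set X)).map π := by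
      apply sup_le
      · rw [hY, Subgroup.zpowers_le]
        exact ⟨a, Subgroup.subset_closure (by simp), rfl⟩
      · rw [hY, MonoidHom.map_zpowers, Subgroup.zpowers_le]
        refine ⟨g * a * g⁻¹, Subgroup.subset_closure (by simp), ?_⟩
        simp [hπ, MulAut.conj_apply]
    have hp : IsPGroup 2 ↥((Subgroup.closure ({a, g * a * g⁻¹} : Set X)).map π) := by
      rintro ⟨_, d, hd, rfl⟩
      obtain ⟨k, hk⟩ := hcon g d hd
      refine ⟨k, ?_⟩
      apply Subtype.ext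
      rw [SubmonoidClass.coe_pow, OneMemClass.coe_one]
      show (π d) ^ (2 ^ k) = 1
      rw [← map_pow, hπ, QuotientGroup.mk'_apply, QuotientGroup.eq_one_iff]
      exact hk
    exact hp.to_le hle
  obtain ⟨Nb, hNbn, hNbp, hYN⟩ := Cfsg.Agent.S0199.result (p := 2) Y hYp hBS
  have hNn : (Nb.comap π).Normal := hNbn.comap π
  refine hO2 (Nb.comap π) hNn ?_ ?_ ?_
  · intro c hc
    rw [Subgroup.mem_comap]
    have : π c = 1 := by rw [hπ, QuotientGroup.mk'_apply, QuotientGroup.eq_one_iff]; exact hc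
    rw [this]; exact Nb.one_mem
  · intro n hn
    rw [Subgroup.mem_comap] at hn
    obtain ⟨k, hk⟩ := hNbp ⟨π n, hn⟩
    refine ⟨k, ?_⟩
    have h1 : (π n) ^ (2 ^ k) = 1 := by
      have := congrArg Subtype.val hk
      simpa using this
    rw [← map_pow, hπ, QuotientGroup.mk'_apply, QuotientGroup.eq_one_iff] at h1
    exact h1
  · rw [Subgroup.mem_comap]
    exact hYN (Subgroup.mem_zpowers _)

end Cfsg.Agent.S2799P
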