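import Mathlib
import Cfsg.Agent.Helper10.S2799Cont
import Cfsg.Agent.Helper10.S2799E3
import Cfsg.Agent.Helper10.S2799H1
import Cfsg.Agent.Helper8.S2799E2
import Cfsg.Agent.Helper8.S2799F5
import Cfsg.Agent.Helper9.S2799F3
import Cfsg.Agent.Helper13.S2799F4c
import Cfsg.Agent.Helper10.S2799F4b
import Cfsg.Agent.Helper10.S2799T1a
import Cfsg.Agent.Helper11.S2799T1b
import Cfsg.Agent.Helper17.S2799T2

set_option autoImplicit false
set_option linter.unusedSectionVars false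
set_option linter.unusedVariables false
set_option linter.style.haveILetI false

namespace Cfsg.Agent.S2799P

open Cfsg Cfsg.Agent.Helper14 Cfsg.Agent.Helper10 Cfsg.Agent.Helper26 Subgroup
open scoped commutatorElement IsMulCommutative

/-! # S2799: the core theorem (assembly of the pieces of board `s2799pieces`) -/

/-- **Core theorem for the `S₄`-free alternative of S2799.**  In the minimal configuration (the Sylow
`2`-subgroup `S` lies in the unique maximal subgroup `C_X(x)`, `x ∈ Z(S) ∩ O_2(X)` not central), an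
abelian subgroup of `S` of largest order outside `O_2(X)` forces `S₄` to be involved in `X`. -/
theorem core_S4 {X : Type*} [Group X] [Finite X] (S : Sylow 2 X) (x : X)
    (hxQ : x ∈ Cfsg.pCore 2 X)
    (hSx : (S : Subgroup X) ≤ centralizer ({x} : Set X))
    (hmax : ∀ H₂ : Subgroup X, (S : Subgroup X) ≤ H₂ → H₂ ≠ ⊤ → H₂ ≤ centralizer ({x} : Set X))
    (hMtop : centralizer ({x} : Set X) ≠ ⊤)
    (A₀ : Subgroup X) (hA₀ : A₀ ∈ famEl 0 (S : Subgroup X))
    (hA₀Q : ¬ A₀ ≤ Cfsg.pCore 2 X) :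
    Cfsg.Involves (Equiv.Perm (Fin 4)) X := by
  classical
  haveI : Fact (Nat.Prime 2) := ⟨Nat.prime_two⟩
  set Q := Cfsg.pCore 2 X with hQdef
  haveI hQn : Q.Normal := pCore_normal (G := X) 2
  have hQS : Q ≤ (S : Subgroup X) := Cfsg.Agent.Helper14.pCore_le_sylow (p := 2) S
  -- `K = Z(Q)`
  set K : Subgroup X := Q ⊓ centralizer (Q : Set X) with hKdef
  haveI hKn : K.Normal := Subgroup.normal_inf_normal _ _
  have hKab : ∀ a ∈ K, ∀ b ∈ K, a * b = b * a := fun a ha b hb =>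
    (Subgroup.mem_centralizer_iff.1 hb.2 a ha.1)
  haveI hKc : IsMulCommutative ↥K := ⟨⟨fun a b => Subtype.ext (hKab a a.2 b b.2)⟩⟩
  have hKQ : K ≤ Q := inf_le_left
  have hKS : K ≤ (S : Subgroup X) := hKQ.trans hQS
  have hxS : x ∈ (S : Subgroup X) := hQS hxQ
  have hxK : x ∈ K := by
    refine ⟨hxQ, Subgroup.mem_centralizer_iff.2 ?_⟩
    intro q hq
    have := Subgroup.mem_centralizer_iff.1 (hSx (hQS hq)) x rfl
    exact this.symm
  have hQC : Q ≤ centralizer (K : Set X) := by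
    intro q hq
    rw [Subgroup.mem_centralizer_iff]
    intro k hk
    exact (Subgroup.mem_centralizer_iff.1 hk.2 q hq).symm
  have hSK : (S : Subgroup X) ≤ normalizer (K : Set X) := by
    rw [Subgroup.normalizer_eq_top_iff.2 hKn]; exact le_top
  have hS2 : IsPGroup 2 ↥(S : Subgroup X) := S.isPGroup'
  apply elt_core_K_cont (p := 2) K hKQ S x hxK hSx hMtop
  intro U V₀ hUn hVn hchief hUK hUbc hexp hFt m₀ hm₀ hfixM hprod
  have hUQ : U ≤ Cfsg.pCore 2 X := hUK.trans hKQ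
  -- L1: elements of `S` acting trivially on the chief factor lie in `Q`
  have hL1 : ∀ u ∈ (S : Subgroup X), rhoZ U V₀ u = 1 → u ∈ Q := by
    intro u hu h1
    refine mem_pCore_of_fixed (p := 2) U V₀ S hSx hmax hexp m₀ hm₀ hfixM hprod u hu ?_
    show ⁅U, Subgroup.zpowers u⁆ ≤ V₀
    exact commutator_le_of_rhoZ_eq_one U V₀ h1
  have hCtriv : ∀ u ∈ centralizer (K : Set X), rhoZ U V₀ u = 1 := by
    intro u hu
    apply rhoZ_eq_one_of_comm
    intro w hw
    have := Subgroup.mem_centralizer_iff.1 hu w (hUK hw)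
    have e : u * w * u⁻¹ * w⁻¹ = 1 := by
      rw [← this]; group
    rw [e]; exact V₀.one_mem
  have hCS : ∀ u ∈ (S : Subgroup X), u ∈ centralizer (K : Set X) → u ∈ Q :=
    fun u hu hc => hL1 u hu (hCtriv u hc)
  -- the class `{A : K ≰ A}`
  have hcls : ¬ K ≤ A₀ := by
    intro hKA
    apply hA₀Q
    intro a ha
    apply hCS a (hA₀.1 ha)
    rw [Subgroup.mem_centralizer_iff]
    intro k hk
    exact hA₀.2.1.1 k (hKA hk) a ha
  obtain ⟨A, hA, hKA, hKN, hbest⟩ := F3 (p := 2) (S : Subgroup X) K hS2 hKS hSK hKab A₀ hA₀ hcls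
  have hAS : A ≤ (S : Subgroup X) := hA.1
  have hAab : ∀ a ∈ A, ∀ b ∈ A, a * b = b * a := hA.2.1.1
  have hAC : ¬ A ≤ centralizer (K : Set X) := by
    intro hle
    apply hKA
    intro k hk
    apply mem_famEl_of_commute hA (hKS hk) (pow_zero k)
    intro a ha
    exact (Subgroup.mem_centralizer_iff.1 (hle ha) k hk).symm
  -- quadratic action on the chief factor
  have hquadX : ∀ a ∈ A, ∀ b ∈ A, ∀ w : ↥(Ub U V₀),
      rhoZ U V₀ b (rhoZ U V₀ a w * w⁻¹) = rhoZ U V₀ a w * w⁻¹ := by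
    intro a ha b hb w
    obtain ⟨u, hu, huw⟩ := w.2
    apply Subtype.ext
    rw [rhoZ_apply]
    have h1 : ((rhoZ U V₀ a w * w⁻¹ : ↥(Ub U V₀)) : X ⧸ V₀) =
        QuotientGroup.mk' V₀ (a * u * a⁻¹ * u⁻¹) := by
      rw [Subgroup.coe_mul, rhoZ_apply, Subgroup.coe_inv, ← huw]
      simp only [map_mul, map_inv]
    rw [h1, ← map_inv, ← map_mul, ← map_mul]
    congr 1
    -- `a u a⁻¹ u⁻¹ ∈ A`, and `A` is abelian
    have huN : u ∈ normalizer (A : Set X) := hKN (hUK hu)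
    have h2 : u * a⁻¹ * u⁻¹ ∈ A := (Subgroup.mem_normalizer_iff.1 huN a⁻¹).1 (A.inv_mem ha)
    have h3 : a * u * a⁻¹ * u⁻¹ ∈ A := by
      have e : a * u * a⁻¹ * u⁻¹ = a * (u * a⁻¹ * u⁻¹) := by group
      rw [e]; exact A.mul_mem ha h2
    have h4 := hAab b hb _ h3
    rw [h4]; group
  by_cases hidx : (A ⊓ centralizer (K : Set X)).relIndex A = 2
  · -- the transvection case
    obtain ⟨a, haA, haC⟩ := SetLike.not_le_iff_exists.1 hAC
    have htr := F4c (S : Subgroup X) K hKS hKab A hA hidx a haA haC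
    have ha2 : ∃ k : ℕ, a ^ (2 ^ k) = 1 := by
      obtain ⟨k, hk⟩ := hS2 ⟨a, hAS haA⟩
      exact ⟨k, by simpa using congrArg Subtype.val hk⟩
    have hO2 : ∀ N : Subgroup X, N.Normal → centralizer (K : Set X) ≤ N →
        (∀ n ∈ N, ∃ k : ℕ, n ^ (2 ^ k) ∈ centralizer (K : Set X)) → a ∉ N := by
      intro N hNn hCN hN2 haN
      haveI := hNn
      have h1 := H1 (p := 2) U V₀ hchief hUQ N (fun n hn => by
        obtain ⟨k, hk⟩ := hN2 n hn
        exact ⟨k, hCtriv _ hk⟩) a haN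
      exact haC (hQC (hL1 a (hAS haA) h1))
    obtain ⟨g, hg⟩ := T1a (centralizer (K : Set X)) a ha2 hO2
    obtain ⟨v, v', s, t, h1, h2, h3, h4, h5, h6, h7, h8, h9, h10⟩ := T1b K hKab a g htr hg
    exact T2 v v' s t h1 h2 h3 h4 h5 h6 h7 h8 h9 h10
  · -- no offender of order `≥ 4`
    exfalso
    have hb : ∀ B : Subgroup X, B ≤ A → B.relIndex A = 2 → A ⊓ K ≤ B →
        ¬ B ≤ centralizer (K : Set X) → K ⊓ centralizer (B : Set X) ≤ centralizer (A : Set X) :=
      fun B hBA hBi hAKB hBK => F4b (S : Subgroup X) K hKS hKab A hA hbest B hBA hBi hAKB hBK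
    have hno2 := F5 K hKab x hxK A hb hidx
    have hA2 : IsPGroup 2 ↥A := hS2.to_le hAS
    have hfeq : ∀ (g : X) (ω : X ⧸ centralizer ({x} : Set X)),
        rhoZ U V₀ (g • ω).out m₀ = rhoZ U V₀ g (rhoZ U V₀ ω.out m₀) := by
      intro g ω
      have e0 : g • ω = ((g * ω.out : X) : X ⧸ centralizer ({x} : Set X)) := by
        conv_lhs => rw [← QuotientGroup.out_eq' ω]
        rfl
      have h1 : (g * ω.out)⁻¹ * (g • ω).out ∈ centralizer ({x} : Set X) := by
        rw [← QuotientGroup.eq, QuotientGroup.out_eq', e0]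
      have e2 : (g • ω).out = g * ω.out * ((g * ω.out)⁻¹ * (g • ω).out) := by group
      rw [e2, map_mul, map_mul, MulAut.mul_apply, MulAut.mul_apply, hfixM _ h1]
    have hZ : ∀ T : Finset (X ⧸ centralizer ({x} : Set X)), (∀ a ∈ A, ∀ ω ∈ T, a • ω ∈ T) →
        (∀ ω ∈ T, ∃ a ∈ A, a • ω ≠ ω) → ∏ ω ∈ T, rhoZ U V₀ ω.out m₀ = 1 := by
      intro T hT hnf
      have hc : ∀ a b : ↥A, a * b = b * a := fun a b => Subtype.ext (hAab a a.2 b b.2)
      have hf : ∀ (a : ↥A) (ω : X ⧸ centralizer ({x} : Set X)),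
          (fun ω => rhoZ U V₀ ω.out m₀) (a • ω) =
            ((rhoZ U V₀).comp A.subtype) a ((fun ω => rhoZ U V₀ ω.out m₀) ω) :=
        fun a ω => hfeq (a : X) ω
      have hq : ∀ (a b : ↥A) (w : ↥(Ub U V₀)),
          ((rhoZ U V₀).comp A.subtype) b (((rhoZ U V₀).comp A.subtype) a w * w⁻¹) =
            ((rhoZ U V₀).comp A.subtype) a w * w⁻¹ := fun a b w => hquadX a a.2 b b.2 w
      have hT' : ∀ (a : ↥A), ∀ ω ∈ T, a • ω ∈ T := fun a ω hω => hT a a.2 ω hω
      have hnf' : ∀ ω ∈ T, ∃ a : ↥A, a • ω ≠ ω := fun ω hω => by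
        obtain ⟨a, ha, hne⟩ := hnf ω hω
        exact ⟨⟨a, ha⟩, hne⟩
      have := @E2 (↥A) _ _ hA2 hc (X ⧸ centralizer ({x} : Set X)) _ _ (↥(Ub U V₀)) _ hexp
        ((rhoZ U V₀).comp A.subtype) (fun ω => rhoZ U V₀ ω.out m₀) hf hq hno2 T hT' hnf'
      exact this
    have hAQ := E3 S hSx hmax (rhoZ U V₀) m₀ hm₀ hfixM hprod A hAS hZ
    exact hAC (hAQ.trans hQC)

end Cfsg.Agent.S2799P
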