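import Mathlib
import Cfsg.Agent.Helper10.WCElt

/-!
# S2799, piece G1: the induction `wc_elt_rel` with an abstract treatment of the core case
-/

set_option autoImplicit false
set_option linter.unusedSectionVars false
set_option linter.unusedVariables false
set_option linter.style.haveILetI false

namespace Cfsg.Agent.Helper10

open Cfsg Cfsg.Agent.Helper14 Subgroup
open scoped commutatorElement IsMulCommutative

section Relative

variable {G : Type*} [Group G]

/-- **Weak closure of elements**, relative form, by induction on `|H|`. -/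
theorem wc_elt_rel_core [Finite G] {p : ℕ} [Fact p.Prime] (W : Subgroup G → Subgroup G)
    (hW : Cfsg.IsConjugacyFunctor p W)
    (hWZ : ∀ P : Subgroup G, IsPGroup p ↥P → P ⊓ centralizer ((P : Subgroup G) : Set G) ≤ W P)
    (hcore : ∀ (H T : Subgroup G), T ≤ H → IsPGroup p ↥T → ¬ p ∣ T.relIndex H →
      ∀ x ∈ T ⊓ centralizer (T : Set G), x ∈ Cfsg.pCoreOf p H →
      (∀ H₂ : Subgroup G, T ≤ H₂ → H₂ ≤ H → ¬ H ≤ H₂ → ∀ k ∈ H₂, k * x * k⁻¹ = x) →
      (∃ h ∈ H, h * x * h⁻¹ ≠ x) →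
      ¬ H ≤ normalizer ((W T : Subgroup G) : Set G) → False) :
    ∀ n : ℕ, ∀ H T : Subgroup G, Nat.card ↥H = n → T ≤ H → IsPGroup p ↥T → ¬ p ∣ T.relIndex H →
      ∀ x ∈ T ⊓ centralizer ((H ⊓ normalizer ((W T : Subgroup G) : Set G) : Subgroup G) : Set G),
      ∀ h ∈ H, h * x * h⁻¹ ∈ T → h * x * h⁻¹ = x := by
  intro n
  induction n using Nat.strong_induction_on with
  | _ n ih =>
  intro H T hcard hTH hTp hTi x hx h hh hhx
  by_contra hne
  have hTN : T ≤ H ⊓ normalizer ((W T : Subgroup G) : Set G) :=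
    le_inf hTH (Subgroup.le_normalizer.trans (normalizer_le_normalizer_functor hW hTp))
  have hxZ : x ∈ T ⊓ centralizer (T : Set G) :=
    ⟨hx.1, Subgroup.centralizer_le (by exact_mod_cast hTN) hx.2⟩
  have hAZ : ({x} : Set G) ⊆ ((T ⊓ centralizer (T : Set G) : Subgroup G) : Set G) := by
    intro a ha
    rw [Set.mem_singleton_iff] at ha
    rw [ha]; exact hxZ
  have hAN : ∀ m ∈ H ⊓ normalizer ((W T : Subgroup G) : Set G), rc m ({x} : Set G) = {x} := by
    intro m hm
    rw [rc_single]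
    have hc := Subgroup.mem_centralizer_iff.1 hx.2 m hm
    have e : m⁻¹ * x * m = x := by
      rw [mul_assoc, ← hc]; group
    rw [e]
  have hfail : ∃ h' ∈ H, rc h' ({x} : Set G) ⊆ (T : Set G) ∧ rc h' ({x} : Set G) ≠ {x} := by
    refine ⟨h⁻¹, H.inv_mem hh, ?_, ?_⟩
    · rw [rc_single, inv_inv]
      intro a ha
      rw [Set.mem_singleton_iff] at ha
      rw [ha]; exact hhx
    · rw [rc_single, inv_inv]
      intro he
      exact hne (Set.singleton_eq_singleton_iff.1 he)
  obtain ⟨U, hUT, hAU, hAN₁, hTi₁, h₁, hh₁, hne₁⟩ :=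
    wc_reduce_rel W hW hWZ H T hTH hTp hTi {x} hAZ hAN hfail
  have hxU : x ∈ U := hAU rfl
  by_cases hHU : H ≤ normalizer (U : Set G)
  · -- the core case
    have hUQ : U ≤ pCoreOf p H := le_pCoreOf p (hUT.trans hTH) hHU (hTp.to_le hUT)
    have hNW : ¬ H ≤ normalizer ((W T : Subgroup G) : Set G) := by
      intro hle
      apply hne
      have hc := Subgroup.mem_centralizer_iff.1 hx.2 h ⟨hh, hle hh⟩
      rw [hc, mul_inv_cancel_right]
    refine hcore H T hTH hTp hTi x hxZ (hUQ hxU) ?_ ⟨h, hh, hne⟩ hNW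
    intro H₂ hTH₂ hH₂H hnle k hk
    have hlt : Nat.card ↥H₂ < n := by
      rw [← hcard]; exact card_lt_of_le_of_not_le hH₂H hnle
    refine ih _ hlt H₂ T rfl hTH₂ hTp (not_dvd_relIndex_of_le hTH₂ hH₂H hTi) x
      ⟨hx.1, Subgroup.centralizer_le (by
        intro m hm; exact ⟨hH₂H hm.1, hm.2⟩) hx.2⟩ k hk ?_
    exact hUT ((Subgroup.mem_normalizer_iff.1 (hHU (hH₂H hk)) x).1 hxU)
  · -- descent to `N_H(U)`
    have hlt : Nat.card ↥(H ⊓ normalizer (U : Set G)) < n := by
      rw [← hcard]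
      exact card_lt_of_le_of_not_le inf_le_left (fun hle => hHU (hle.trans inf_le_right))
    apply hne₁
    rw [rc_single]
    have hxc : x ∈ centralizer ((H ⊓ normalizer (U : Set G) ⊓
        normalizer ((W (T ⊓ normalizer (U : Set G)) : Subgroup G) : Set G) : Subgroup G) : Set G) := by
      rw [Subgroup.mem_centralizer_iff]
      intro m hm
      have h2 := hAN₁ m ⟨hm.1.1, hm.2⟩
      rw [rc_single] at h2
      have h3 : m⁻¹ * x * m = x := Set.singleton_eq_singleton_iff.1 h2
      have h4 : m * x = m * (m⁻¹ * x * m) := by rw [h3]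
      rw [h4]; group
    have hkey := ih _ hlt (H ⊓ normalizer (U : Set G)) (T ⊓ normalizer (U : Set G)) rfl
      (inf_le_inf_right _ hTH) (hTp.to_le inf_le_left) hTi₁ x
      ⟨⟨hx.1, Subgroup.le_normalizer hxU⟩, hxc⟩
      h₁⁻¹ (Subgroup.inv_mem _ hh₁) (by
        rw [inv_inv]
        have hu : h₁⁻¹ * x * h₁ ∈ U := by
          have := (Subgroup.mem_normalizer_iff.1 (Subgroup.inv_mem _ hh₁.2) x).1 hxU
          simpa using this
        exact ⟨hUT hu, Subgroup.le_normalizer hu⟩)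
    rw [inv_inv] at hkey
    rw [hkey]

end Relative

end Cfsg.Agent.Helper10
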