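import Mathlib
import Cfsg.Agent.Helper10.S2799ASM
import Cfsg.Agent.Helper9.S4Section
import Cfsg.Agent.Helper26.GJ1

set_option autoImplicit false
set_option linter.unusedSectionVars false
set_option linter.unusedVariables false
set_option linter.style.haveILetI false

/-! # S2799, piece G2: the core case of the weak-closure induction is impossible in an `S₄`-free group -/

namespace Cfsg.Agent.S2799P

open Cfsg Cfsg.Agent.Helper14 Cfsg.Agent.Helper10 Cfsg.Agent.Helper26 Subgroup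
open scoped commutatorElement IsMulCommutative

/-- The core case of `wc_elt_rel` cannot occur for `p = 2`, `W = J_A`, in an `S₄`-free group. -/
theorem hcore_S4free {G : Type*} [Group G] [Finite G]
    (hfree : ¬ Cfsg.Involves (Equiv.Perm (Fin 4)) G)
    (H T : Subgroup G) (hTH : T ≤ H) (hTp : IsPGroup 2 ↥T) (hTi : ¬ 2 ∣ T.relIndex H)
    (x : G) (hxT : x ∈ T ⊓ centralizer (T : Set G)) (hxQ : x ∈ Cfsg.pCoreOf 2 H)
    (hmax : ∀ H₂ : Subgroup G, T ≤ H₂ → H₂ ≤ H → ¬ H ≤ H₂ → ∀ k ∈ H₂, k * x * k⁻¹ = x)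
    (hnc : ∃ h ∈ H, h * x * h⁻¹ ≠ x)
    (hNW : ¬ H ≤ normalizer ((Cfsg.thompsonSubgroupAOf T : Subgroup G) : Set G)) : False := by
  classical
  haveI : Fact (Nat.Prime 2) := ⟨Nat.prime_two⟩
  set Q := Cfsg.pCoreOf 2 H with hQ
  have hT : IsSylowIn 2 T H := isSylowIn_of_relIndex hTH hTp hTi
  have hQT : Q ≤ T := pCoreOf_le_of_isSylowIn hT
  have hHQ : H ≤ normalizer (Q : Set G) := le_normalizer_pCoreOf 2 H
  -- some `A ∈ 𝒜(T)` is not inside `Q`
  have h1 : ∃ A ∈ famEl 0 T, ¬ A ≤ Q := by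
    by_contra hcon
    push Not at hcon
    apply hNW
    have heq := Cfsg.Agent.Helper26.GJ.famEl_eq_of_le hQT hcon
    have : Cfsg.thompsonSubgroupAOf T = Cfsg.thompsonSubgroupAOf Q := by
      rw [thompsonSubgroupAOf_eq, thompsonSubgroupAOf_eq, heq]
    rw [this]
    exact hHQ.trans (Cfsg.Agent.Helper26.GJ.thompsonSubgroupAOf_le_normalizer Q)
  obtain ⟨A, hA, hAQ⟩ := h1
  -- transport to the group `↥H`
  have hTp' : IsPGroup 2 ↥(T.subgroupOf H) := hTp.comap_subtype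
  have hTi' : ¬ 2 ∣ (T.subgroupOf H).index := hTi
  obtain ⟨S', hS'⟩ : ∃ S' : Sylow 2 ↥H, (S' : Subgroup ↥H) = T.subgroupOf H :=
    ⟨hTp'.toSylow hTi', IsPGroup.toSylow_coe _ _⟩
  have hcomm : ∀ t ∈ T, t * x = x * t := fun t ht => Subgroup.mem_centralizer_iff.1 hxT.2 t ht
  have hxQ' : (⟨x, hTH hxT.1⟩ : ↥H) ∈ Cfsg.pCore 2 ↥H := by
    obtain ⟨y, hy, hyx⟩ := hxQ
    have : y = ⟨x, hTH hxT.1⟩ := Subtype.ext hyx
    rw [← this]; exact hy
  have hSx : (S' : Subgroup ↥H) ≤ centralizer ({(⟨x, hTH hxT.1⟩ : ↥H)} : Set ↥H) := by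
    intro t ht
    rw [hS'] at ht
    rw [Subgroup.mem_centralizer_singleton_iff]
    apply Subtype.ext
    exact hcomm (t : G) (Subgroup.mem_subgroupOf.1 ht)
  have hmax' : ∀ H₂ : Subgroup ↥H, (S' : Subgroup ↥H) ≤ H₂ → H₂ ≠ ⊤ →
      H₂ ≤ centralizer ({(⟨x, hTH hxT.1⟩ : ↥H)} : Set ↥H) := by
    intro H₂ hSH₂ hH₂top k hk
    have h1 : T ≤ H₂.map H.subtype := by
      intro t ht
      refine ⟨⟨t, hTH ht⟩, hSH₂ ?_, rfl⟩
      rw [hS']; exact Subgroup.mem_subgroupOf.2 ht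
    have h2 : H₂.map H.subtype ≤ H := Subgroup.map_subtype_le _
    have h3 : ¬ H ≤ H₂.map H.subtype := by
      intro hle
      apply hH₂top
      rw [eq_top_iff]
      intro z _
      obtain ⟨w, hw, hwz⟩ := hle z.2
      have : w = z := Subtype.ext hwz
      rw [← this]; exact hw
    have h4 := hmax _ h1 h2 h3 (k : G) ⟨k, hk, rfl⟩
    rw [Subgroup.mem_centralizer_singleton_iff]
    apply Subtype.ext
    show (k : G) * x = x * (k : G)
    have h5 : (k : G) * x = ((k : G) * x * (k : G)⁻¹) * (k : G) := by group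
    rw [h5, h4]
  have hMtop : centralizer ({(⟨x, hTH hxT.1⟩ : ↥H)} : Set ↥H) ≠ ⊤ := by
    obtain ⟨h, hh, hne⟩ := hnc
    intro htop
    apply hne
    have h1 : (⟨h, hh⟩ : ↥H) ∈ centralizer ({(⟨x, hTH hxT.1⟩ : ↥H)} : Set ↥H) := by
      rw [htop]; trivial
    rw [Subgroup.mem_centralizer_singleton_iff] at h1
    have h2 : h * x = x * h := congrArg Subtype.val h1
    rw [h2, mul_inv_cancel_right]
  -- the abelian subgroup of largest order
  have hA' : A.subgroupOf H ∈ famEl 0 (S' : Subgroup ↥H) := by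
    rw [hS']
    refine ⟨?_, ⟨?_, fun y _ => pow_zero y⟩, ?_⟩
    · intro a ha
      rw [Subgroup.mem_subgroupOf] at ha ⊢
      exact hA.1 ha
    · intro a ha b hb
      apply Subtype.ext
      exact hA.2.1.1 (a : G) (Subgroup.mem_subgroupOf.1 ha) (b : G) (Subgroup.mem_subgroupOf.1 hb)
    · intro Y hY hYc
      have h1 : Y.map H.subtype ≤ T := by
        rintro _ ⟨y, hy, rfl⟩
        exact Subgroup.mem_subgroupOf.1 (hY hy)
      have h2 : (∀ a ∈ Y.map H.subtype, ∀ b ∈ Y.map H.subtype, a * b = b * a) ∧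
          ∀ a ∈ Y.map H.subtype, a ^ 0 = 1 := by
        refine ⟨?_, fun a _ => pow_zero a⟩
        rintro _ ⟨a, ha, rfl⟩ _ ⟨b, hb, rfl⟩
        exact congrArg Subtype.val (hYc.1 a ha b hb)
      have h3 := hA.2.2 _ h1 h2
      rw [Subgroup.card_map_of_injective H.subtype_injective] at h3
      have h4 : Nat.card ↥(A.subgroupOf H) = Nat.card ↥A :=
        Nat.card_congr (Subgroup.subgroupOfEquivOfLe (hA.1.trans hTH)).toEquiv
      rw [h4]
      exact h3
  have hA'Q : ¬ A.subgroupOf H ≤ Cfsg.pCore 2 ↥H := by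
    intro hle
    apply hAQ
    intro a ha
    have h1 : (⟨a, hTH (hA.1 ha)⟩ : ↥H) ∈ A.subgroupOf H := Subgroup.mem_subgroupOf.2 ha
    exact ⟨_, hle h1, rfl⟩
  have hinv := core_S4 S' _ hxQ' hSx hmax' hMtop (A.subgroupOf H) hA' hA'Q
  exact hfree (Cfsg.Agent.Helper9.S4Sec.involves_of_subgroup H hinv)

end Cfsg.Agent.S2799P
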