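import Cfsg.Agent.Helper7.S2806Defs

/-!
# S2806 board, piece KREL (helper10): the relative Kieler lemma along a `RelSubn` chain
(the proof of `Cfsg.Agent.Helper14.kieler_subnormal`, relativised).
-/

set_option autoImplicit false
set_option linter.unusedSectionVars false
set_option linter.unusedVariables false

namespace Cfsg.Agent.S2806P

open Cfsg Cfsg.Agent.Helper14 Cfsg.Agent.S2806P

variable {G : Type*} [Group G]

variable [Finite G] {p : ℕ} [Fact p.Prime]

/-- KREL (M): relative Kieler along a `RelSubn` chain. -/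
theorem kieler_rel {N T' X : Subgroup G}
    (hN : N ⊓ Subgroup.centralizer (pCoreOf p N : Set G) ≤ pCoreOf p N)
    (hT : IsSylowIn p T' N) (hX : RelSubn N X) :
    X ⊓ Subgroup.centralizer (pCoreOf p X : Set G) ≤ pCoreOf p X ∧
    IsSylowIn p (T' ⊓ X) X ∧
    X ⊓ Subgroup.centralizer ((ozc p T' : Subgroup G) : Set G) =
      X ⊓ Subgroup.centralizer ((ozc p (T' ⊓ X) : Subgroup G) : Set G) := by
  induction hX with
  | top =>
    have hTN : T' ⊓ N = T' := inf_eq_left.2 hT.1
    refine ⟨hN, ?_, ?_⟩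
    · rw [hTN]; exact hT
    · rw [hTN]
  | step B K hBK hK hKB ih =>
    obtain ⟨hKc, hKS, hKeq⟩ := ih
    have hinf : (T' ⊓ K) ⊓ B = T' ⊓ B := by
      rw [inf_assoc, inf_eq_right.2 hBK]
    refine ⟨charP_of_normal_rel hBK hKB hKc, ?_, ?_⟩
    · have := sylow_inf_isSylowIn hKS hBK hKB
      rwa [hinf] at this
    · have h1 := kieler_normal hBK hKB hKS hKc
      rw [hinf] at h1
      rw [← h1]
      have h2 : B ⊓ Subgroup.centralizer ((ozc p T' : Subgroup G) : Set G) =
          B ⊓ (K ⊓ Subgroup.centralizer ((ozc p T' : Subgroup G) : Set G)) := by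
        rw [← inf_assoc, inf_eq_left.2 hBK]
      rw [h2, hKeq, ← inf_assoc, inf_eq_left.2 hBK]

end Cfsg.Agent.S2806P
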