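import Mathlib
import Cfsg.Agent.Helper7.S2862Defs
import Cfsg.Agent.Helper7.S2862B1
import Cfsg.Agent.Helper22.S2862CP4

/-! Board `s2862pieces`, row B4 (Dedekind): core with the rows B2, B3 and CP2 (`CP_normal`) as hypotheses. -/

set_option autoImplicit false
set_option linter.unusedVariables false
set_option linter.unusedSectionVars false

namespace Cfsg.Agent.S2862P

open Cfsg
open Cfsg.Agent.Helper14 (cj)
open Subgroup
open scoped commutatorElement Pointwise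

variable {G : Type*} [Group G] [Finite G] {p : ℕ} [Fact p.Prime]
variable {H Y D L L0 Vt Vb : Subgroup G}

/-- the lattice fact behind B4: `A ⊔ B = Vt`, `B ≤ C ≤ Vt`, `C ⊓ A ≤ B`, `B` normalises `A` ⇒ `C ⊔ A = Vt` and `B = C`. -/
theorem B4_aux_dedekind {A B C Vt : Subgroup G} (hBC : B ≤ C) (hC : C ≤ Vt) (hA : A ≤ Vt) (hAB : A ⊔ B = Vt)
    (hCA : C ⊓ A ≤ B) (hn : B ≤ normalizer (A : Set G)) : C ⊔ A = Vt ∧ B = C := by
  refine ⟨le_antisymm (sup_le hC hA) ?_, le_antisymm hBC ?_⟩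
  · rw [← hAB]
    exact sup_le le_sup_right (hBC.trans le_sup_left)
  · intro c hc
    have hc' : c ∈ A ⊔ B := by rw [hAB]; exact hC hc
    have hset : ((A ⊔ B : Subgroup G) : Set G) = (A : Set G) * (B : Set G) :=
      Subgroup.coe_mul_of_right_le_normalizer_left A B hn
    have hc'' : c ∈ (A : Set G) * (B : Set G) := by
      rw [← hset]; exact hc'
    obtain ⟨a, ha, b, hb, rfl⟩ := hc''
    have haC : a ∈ C := by
      have : a = (a * b) * b⁻¹ := by group
      rw [this]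
      exact C.mul_mem hc (C.inv_mem (hBC hb))
    exact B.mul_mem (hCA ⟨haC, ha⟩) hb

/-- B4 with B2, B3 and CP2 as hypotheses. -/
theorem B4_aux_core (K : KHyp p H Y D L L0) (C : ChiefPair p H Vt Vb) {h : G} (hhH : h ∈ H)
    (hnormal : Vt ≤ normalizer ((commP Vt Vb (cjs h Y) : Subgroup G) : Set G))
    (hB2 : commP Vt Vb (cjs h Y) ⊔ commP Vt Vb D = Vt)
    (hB3 : fixP Vt Vb Y ⊓ commP Vt Vb (cjs h Y) = Vb) :
    fixP Vt Vb Y ⊔ commP Vt Vb (cjs h Y) = Vt ∧ commP Vt Vb D = fixP Vt Vb Y := by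
  have hYH : Y ≤ H := K.hYD.trans K.hDH
  have hcYH : cjs h Y ≤ H := by
    rintro _ ⟨y, hy, rfl⟩
    have : (cj h) y = h * y * h⁻¹ := rfl
    rw [this]
    exact H.mul_mem (H.mul_mem hhH (hYH hy)) (H.inv_mem hhH)
  have hCle : fixP Vt Vb Y ≤ Vt := fixP_le C hYH
  have hFle : commP Vt Vb (cjs h Y) ≤ Vt := commP_le C hcYH
  have hKle : commP Vt Vb D ≤ Vt := commP_le C K.hDH
  have hB1 : commP Vt Vb D ≤ fixP Vt Vb Y := (B1 K C).2
  refine B4_aux_dedekind hB1 hCle hFle hB2 ?_ (hKle.trans hnormal)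
  rw [hB3]
  exact le_commP D

end Cfsg.Agent.S2862P
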