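import Mathlib
import Cfsg.Agent.Helper7.S2862Defs
import Cfsg.Agent.Helper7.S2862B2
import Cfsg.Agent.Helper17.S2862CP2core
import Cfsg.Agent.Helper20.S2862CP1
import Cfsg.Agent.Helper10.S2862B4core

/-! Board `s2862pieces`, row B4 (Dedekind). -/

set_option autoImplicit false
set_option linter.unusedVariables false
set_option linter.unusedSectionVars false

namespace Cfsg.Agent.S2862P

open Cfsg
open Cfsg.Agent.Helper14 (cj)
open Subgroup
open scoped commutatorElement

variable {G : Type*} [Group G] [Finite G] {p : ℕ} [Fact p.Prime]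
variable {H Y D L L0 Vt Vb : Subgroup G}

/-- B4 -/
theorem B4 (K : KHyp p H Y D L L0) (C : ChiefPair p H Vt Vb) (hnc : Noncentral H Vt Vb) {h : G} (hh : h ∈ L)
    (hh0 : h ∉ L0) :
    fixP Vt Vb Y ⊔ commP Vt Vb (cjs h Y) = Vt ∧ commP Vt Vb D = fixP Vt Vb Y := by
  have hhH : h ∈ H := K.hLH hh
  have hYH : Y ≤ H := K.hYD.trans K.hDH
  have hcYH : cjs h Y ≤ H := by
    rintro _ ⟨y, hy, rfl⟩
    have : (cj h) y = h * y * h⁻¹ := rfl
    rw [this]
    exact H.mul_mem (H.mul_mem hhH (hYH hy)) (H.inv_mem hhH)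
  exact B4_aux_core K C hhH
    (CP2_aux_normal (CP_abel C) (le_commP (cjs h Y)) (commP_le C hcYH))
    (B2 K C hnc hh hh0).2 (B3 K C hnc hh hh0)

end Cfsg.Agent.S2862P
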