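import Mathlib
import Cfsg.Agent.Helper7.S2862Defs
import Cfsg.Agent.Helper22.S2862CP4

/-! Board `s2862pieces`, row S3d (`n ∈ L0` is trivial on `C/F`): core with the rows B7c, S3c and CP2 (`CP_normal`) as hypotheses. -/

set_option autoImplicit false
set_option linter.unusedVariables false
set_option linter.unusedSectionVars false

namespace Cfsg.Agent.S2862P

open Cfsg
open Cfsg.Agent.Helper14 (cj)
open Subgroup
open scoped commutatorElement Pointwise

variable {G : Type*} [Group G] [Finite G] {p : ℕ} [Fact p.Prime]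
variable {H Y D L L0 Vt Vb : Subgroup G}

/-- S3d with B7c (first half), S3c (first half) and `CP_normal` for `F` as hypotheses. -/
theorem S3d_aux_core (K : KHyp p H Y D L L0) (C : ChiefPair p H Vt Vb) {n : G} (hn : n ∈ L0)
    (hnormal : Vt ≤ normalizer ((commP Vt Vb Y : Subgroup G) : Set G))
    (hB7c : commP Vt Vb Y ⊔ fixP Vt Vb L = fixP Vt Vb Y)
    (hS3c : cjs n (commP Vt Vb Y) = commP Vt Vb Y) :
    TrivOn n (fixP Vt Vb Y) (commP Vt Vb Y) := by
  have hnL : n ∈ L := K.hL0L hn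
  have hCLle : fixP Vt Vb L ≤ Vt := fixP_le C K.hLH
  have hset : ((commP Vt Vb Y ⊔ fixP Vt Vb L : Subgroup G) : Set G)
      = (commP Vt Vb Y : Set G) * (fixP Vt Vb L : Set G) :=
    Subgroup.coe_mul_of_right_le_normalizer_left _ _ (hCLle.trans hnormal)
  have hnF : n ∈ normalizer ((commP Vt Vb Y : Subgroup G) : Set G) := by
    rw [Cfsg.Agent.Helper14.mem_normalizer_iff_map_cj]
    exact hS3c
  intro v hv
  rw [← hB7c] at hv
  have hv' : v ∈ (commP Vt Vb Y : Set G) * (fixP Vt Vb L : Set G) := by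
    rw [← hset]; exact hv
  obtain ⟨f, hf, c, hc, rfl⟩ := hv'
  rw [CP4_aux_comm_mul_left]
  have hc' := (CP4_aux_mem_fixP C).mp hc
  have h1 : ⁅c, n⁆ ∈ commP Vt Vb Y := le_commP Y (hc'.2 n hnL)
  have h2 : ⁅f, n⁆ ∈ commP Vt Vb Y := by
    rw [commutatorElement_def]
    have : n * f⁻¹ * n⁻¹ ∈ commP Vt Vb Y :=
      CP4_aux_conj_mem hnF ((commP Vt Vb Y).inv_mem hf)
    have e : f * n * f⁻¹ * n⁻¹ = f * (n * f⁻¹ * n⁻¹) := by group
    rw [e]
    exact (commP Vt Vb Y).mul_mem hf this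
  have h3 : f * ⁅c, n⁆ * f⁻¹ ∈ commP Vt Vb Y :=
    (commP Vt Vb Y).mul_mem ((commP Vt Vb Y).mul_mem hf h1) ((commP Vt Vb Y).inv_mem hf)
  exact (commP Vt Vb Y).mul_mem h3 h2

end Cfsg.Agent.S2862P
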