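import Mathlib
import Cfsg.Agent.Helper7.S2862Defs
import Cfsg.Agent.Helper22.S2862CP4
import Cfsg.Agent.Helper22.S2862CP11

/-! Board `s2862pieces`, row S4a (`D` and `D^n` are trivial on `F` and on `X/C` and stabilise `F`, `C`):
core with the rows B4 (second half), B5 and S3c as hypotheses. -/

set_option autoImplicit false
set_option linter.unusedVariables false
set_option linter.unusedSectionVars false

namespace Cfsg.Agent.S2862P

open Cfsg
open Cfsg.Agent.Helper14 (cj)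
open Subgroup
open scoped commutatorElement

variable {G : Type*} [Group G] [Finite G] {p : ℕ} [Fact p.Prime]
variable {H Y D L L0 Vt Vb : Subgroup G}

/-- the property of `g` propagated through `⟨D, D^n⟩`. -/
def S4a_aux_good (Vt Vb F C : Subgroup G) (g : G) : Prop :=
  g ∈ normalizer (Vb : Set G) ∧ g ∈ normalizer (F : Set G) ∧ g ∈ normalizer (C : Set G) ∧
    TrivOn g F Vb ∧ TrivOn g Vt C

theorem S4a_aux_good_one (Vt Vb F C : Subgroup G) : S4a_aux_good Vt Vb F C 1 := by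
  refine ⟨Subgroup.one_mem _, Subgroup.one_mem _, Subgroup.one_mem _, ?_, ?_⟩
  · intro v hv
    have : ⁅v, (1 : G)⁆ = 1 := by simp [commutatorElement_def]
    rw [this]; exact Vb.one_mem
  · intro v hv
    have : ⁅v, (1 : G)⁆ = 1 := by simp [commutatorElement_def]
    rw [this]; exact C.one_mem

theorem S4a_aux_good_mul {Vt Vb F C : Subgroup G} {g g' : G} (h : S4a_aux_good Vt Vb F C g)
    (h' : S4a_aux_good Vt Vb F C g') : S4a_aux_good Vt Vb F C (g * g') := by
  obtain ⟨hb, hF, hC, t1, t2⟩ := h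
  obtain ⟨hb', hF', hC', t1', t2'⟩ := h'
  refine ⟨Subgroup.mul_mem _ hb hb', Subgroup.mul_mem _ hF hF', Subgroup.mul_mem _ hC hC', ?_, ?_⟩
  · intro v hv
    rw [CP4_aux_comm_mul_right]
    exact Vb.mul_mem (t1 v hv) (CP4_aux_conj_mem hb (t1' v hv))
  · intro v hv
    rw [CP4_aux_comm_mul_right]
    exact C.mul_mem (t2 v hv) (CP4_aux_conj_mem hC (t2' v hv))

theorem S4a_aux_good_inv {Vt Vb F C : Subgroup G} {g : G} (h : S4a_aux_good Vt Vb F C g) :
    S4a_aux_good Vt Vb F C g⁻¹ := by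
  obtain ⟨hb, hF, hC, t1, t2⟩ := h
  refine ⟨Subgroup.inv_mem _ hb, Subgroup.inv_mem _ hF, Subgroup.inv_mem _ hC, ?_, ?_⟩
  · intro v hv
    rw [CP4_aux_comm_inv_right]
    exact CP4_aux_conj_mem' hb (Vb.inv_mem (t1 v hv))
  · intro v hv
    rw [CP4_aux_comm_inv_right]
    exact CP4_aux_conj_mem' hC (C.inv_mem (t2 v hv))

/-- conjugating a good element by `n` normalising `Vt, Vb, F, C` gives a good element. -/
theorem S4a_aux_good_conj {Vt Vb F C : Subgroup G} {g n : G} (h : S4a_aux_good Vt Vb F C g)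
    (nt : n ∈ normalizer (Vt : Set G)) (nb : n ∈ normalizer (Vb : Set G)) (nF : n ∈ normalizer (F : Set G))
    (nC : n ∈ normalizer (C : Set G)) : S4a_aux_good Vt Vb F C (n * g * n⁻¹) := by
  obtain ⟨hb, hF, hC, t1, t2⟩ := h
  have key : ∀ v : G, ⁅v, n * g * n⁻¹⁆ = n * ⁅n⁻¹ * v * n, g⁆ * n⁻¹ := by
    intro v
    simp only [commutatorElement_def]; group
  refine ⟨?_, ?_, ?_, ?_, ?_⟩
  · exact Subgroup.mul_mem _ (Subgroup.mul_mem _ nb hb) (Subgroup.inv_mem _ nb)
  · exact Subgroup.mul_mem _ (Subgroup.mul_mem _ nF hF) (Subgroup.inv_mem _ nF)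
  · exact Subgroup.mul_mem _ (Subgroup.mul_mem _ nC hC) (Subgroup.inv_mem _ nC)
  · intro v hv
    rw [key]
    exact CP4_aux_conj_mem nb (t1 _ (CP4_aux_conj_mem' nF hv))
  · intro v hv
    rw [key]
    exact CP4_aux_conj_mem nC (t2 _ (CP4_aux_conj_mem' nt hv))

/-- S4a with B4 (second half), B5 and S3c as hypotheses. -/
theorem S4a_aux_core (K : KHyp p H Y D L L0) (C : ChiefPair p H Vt Vb) {n : G} (hn : n ∈ L0)
    (hB4 : commP Vt Vb D = fixP Vt Vb Y) (hB5 : fixP Vt Vb D = commP Vt Vb Y)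
    (hS3c : cjs n (commP Vt Vb Y) = commP Vt Vb Y ∧ cjs n (fixP Vt Vb Y) = fixP Vt Vb Y)
    {g : G} (hg : g ∈ D ⊔ cjs n D) :
    TrivOn g (commP Vt Vb Y) Vb ∧ TrivOn g Vt (fixP Vt Vb Y) ∧
      g ∈ normalizer ((commP Vt Vb Y : Subgroup G) : Set G) ∧ g ∈ normalizer ((fixP Vt Vb Y : Subgroup G) : Set G) := by
  have hnH : n ∈ H := K.hLH (K.hL0L hn)
  have hgoodD : ∀ d ∈ D, S4a_aux_good Vt Vb (commP Vt Vb Y) (fixP Vt Vb Y) d := by
    intro d hd
    have hdH : d ∈ H := K.hDH hd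
    obtain ⟨c1, c2⟩ := commP_inv C K.hDH
    refine ⟨C.nb hdH, ?_, ?_, ?_, ?_⟩
    · rw [← hB5]
      exact fixP_inv C K.hDH hdH (Subgroup.le_normalizer hd)
    · rw [← hB4]
      exact c1 hd
    · intro v hv
      rw [← hB5] at hv
      exact ((CP4_aux_mem_fixP C).mp hv).2 d hd
    · rw [← hB4]
      exact c2 d hd
  have hnF : n ∈ normalizer ((commP Vt Vb Y : Subgroup G) : Set G) := by
    rw [Cfsg.Agent.Helper14.mem_normalizer_iff_map_cj]; exact hS3c.1
  have hnC : n ∈ normalizer ((fixP Vt Vb Y : Subgroup G) : Set G) := by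
    rw [Cfsg.Agent.Helper14.mem_normalizer_iff_map_cj]; exact hS3c.2
  have hgoodE : ∀ e ∈ cjs n D, S4a_aux_good Vt Vb (commP Vt Vb Y) (fixP Vt Vb Y) e := by
    rintro _ ⟨d, hd, rfl⟩
    have : (cj n) d = n * d * n⁻¹ := rfl
    rw [this]
    exact S4a_aux_good_conj (hgoodD d hd) (C.nt hnH) (C.nb hnH) hnF hnC
  have hsup : D ⊔ cjs n D = Subgroup.closure ((D : Set G) ∪ (cjs n D : Set G)) := by
    rw [Subgroup.closure_union, Subgroup.closure_eq, Subgroup.closure_eq]
  rw [hsup] at hg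
  have hgood : S4a_aux_good Vt Vb (commP Vt Vb Y) (fixP Vt Vb Y) g := by
    induction hg using Subgroup.closure_induction with
    | mem x hx =>
      rcases hx with hx | hx
      · exact hgoodD x hx
      · exact hgoodE x hx
    | one => exact S4a_aux_good_one _ _ _ _
    | mul x y _ _ hx hy => exact S4a_aux_good_mul hx hy
    | inv x _ hx => exact S4a_aux_good_inv hx
  exact ⟨hgood.2.2.2.1, hgood.2.2.2.2, hgood.2.1, hgood.2.2.1⟩

end Cfsg.Agent.S2862P
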