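import Mathlib
import Cfsg.Agent.Helper7.S2862Defs
import Cfsg.Agent.Helper18.S2862T4c

/-! Board `s2862top`, row T4a: `O_p(H)` normalises `L` (one-liner from helper18's `T4c_aux_T4a`). -/

set_option autoImplicit false
set_option linter.unusedVariables false
set_option linter.unusedSectionVars false

namespace Cfsg.Agent.S2862P

open Cfsg
open Cfsg.Agent.Helper14 (cj)
open Subgroup
open scoped commutatorElement

variable {G : Type*} [Group G] [Finite G] {p : ℕ} [Fact p.Prime]
variable {H Y D L L0 Vt Vb : Subgroup G}

/-- T4a : `O_p(H)` normalises `L` (it normalises `Y` and `Y^h`, and `L = ⟨Y, Y^h⟩`). -/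
theorem T4a (K : KHyp p H Y D L L0) : pCoreOf p H ≤ normalizer (L : Set G) := T4c_aux_T4a K

end Cfsg.Agent.S2862P
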