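import Mathlib
import Cfsg.Agent.Helper5.S2951Defs

/-! # S2951 board, piece PSTRUCT (blueprint §1 P6): the structure of `P = K T` when `T ≤ N_G(K)`. -/

set_option autoImplicit false

universe u

namespace Cfsg.Agent.S2951P

open Cfsg Subgroup Cfsg.Agent.Helper15.JComp
open scoped commutatorElement

variable {G : Type u} [Group G] [Finite G]

/-- the index of the normal core divides the factorial of the index -/
theorem PSTRUCT_aux_core_dvd {X : Type*} [Group X] [Finite X] (H : Subgroup X) :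
    H.normalCore.index ∣ (H.index).factorial := by
  rw [normalCore_eq_ker, index_ker, index_eq_card, ← Nat.card_perm]
  exact card_subgroup_dvd_card (MulAction.toPermHom X (X ⧸ H)).range

/-- a 2-subgroup `Q` with `T ≤ Q ≤ P`, `T` Sylow in `P`, equals `T` -/
theorem PSTRUCT_aux_eq_of_sylow {T P Q : Subgroup G} (hTP : IsSylowTwoIn T P) (hTQ : T ≤ Q) (hQP : Q ≤ P)
    (hQ : IsPGroup 2 ↥Q) : Q = T := by
  have h1 := relIndex_mul_relIndex T Q P hTQ hQP
  have hodd : Odd (T.relIndex Q) := by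
    have := hTP.2.2
    rw [← h1] at this
    exact (Nat.odd_mul.mp this).1
  obtain ⟨a, ha⟩ := IsPGroup.iff_card.mp hQ
  have hdvd2 : T.relIndex Q ∣ 2 ^ a := ha ▸ relIndex_dvd_card T Q
  have hone : T.relIndex Q = 1 := by
    obtain ⟨b, _, hb⟩ := (Nat.dvd_prime_pow Nat.prime_two).mp hdvd2
    rcases Nat.eq_zero_or_pos b with h0 | hpos
    · rw [hb, h0, pow_zero]
    · exfalso
      rw [hb] at hodd
      exact (Nat.not_even_iff_odd.mpr hodd) ((Nat.even_pow' hpos.ne').mpr even_two)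
  exact le_antisymm (relIndex_eq_one.mp hone) hTQ

section Main

variable {T K L : Subgroup G}

omit [Finite G] in
theorem PSTRUCT_aux_sylow (hTL : IsSylowTwoIn T L) (hKL : K ≤ L) : IsSylowTwoIn T (K ⊔ T) := by
  have hPL : K ⊔ T ≤ L := sup_le hKL hTL.1
  refine ⟨le_sup_right, hTL.2.1, ?_⟩
  have h1 := relIndex_mul_relIndex T (K ⊔ T) L le_sup_right hPL
  have := hTL.2.2
  rw [← h1] at this
  exact (Nat.odd_mul.mp this).1

theorem PSTRUCT_aux_R_le (hTL : IsSylowTwoIn T L) (hKL : K ≤ L)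
    (hTN : T ≤ normalizer (K : Set G)) : pCoreOf 2 K ≤ T := by
  have hS := PSTRUCT_aux_sylow hTL hKL
  have hRK := Cfsg.Agent.Helper14.pCoreOf_le 2 K
  have hn : K ⊔ T ≤ normalizer ((pCoreOf 2 K : Subgroup G) : Set G) :=
    sup_le (Cfsg.Agent.Helper14.le_normalizer_pCoreOf 2 K)
      (hTN.trans (normalizer_le_normalizer_pCoreOf 2 K))
  exact (Cfsg.Agent.Helper14.le_pCoreOf 2 (hRK.trans le_sup_left) hn
    (Cfsg.Agent.Helper14.pCoreOf_isPGroup 2 K)).trans (pCoreOf_le_of_isSylowTwoIn hS)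

theorem PSTRUCT_aux_inf (hK : IsJComponent T K) (hTL : IsSylowTwoIn T L) (hKL : K ≤ L)
    (hTN : T ≤ normalizer (K : Set G)) : K ⊓ T = pCoreOf 2 K := by
  have hRK := Cfsg.Agent.Helper14.pCoreOf_le 2 K
  have hRT := PSTRUCT_aux_R_le hTL hKL hTN
  apply le_antisymm
  · set D := K ⊓ T with hD
    have hRD : pCoreOf 2 K ≤ D := le_inf hRK hRT
    have hDK : D ≤ K := inf_le_left
    have hD2 : IsPGroup 2 D := hTL.2.1.to_le inf_le_right
    have h1 := relIndex_mul_relIndex _ _ _ hRD hDK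
    rw [jc_relIndex hK] at h1
    have hdvd3 : (pCoreOf 2 K).relIndex D ∣ 3 := Dvd.intro _ h1
    obtain ⟨a, ha⟩ := IsPGroup.iff_card.mp hD2
    have hdvd2 : (pCoreOf 2 K).relIndex D ∣ 2 ^ a := ha ▸ relIndex_dvd_card (pCoreOf 2 K) D
    have hcop : Nat.Coprime (2 ^ a) 3 := Nat.Coprime.pow_left a (by norm_num)
    have hone : (pCoreOf 2 K).relIndex D = 1 := Nat.eq_one_of_dvd_coprimes hcop hdvd2 hdvd3
    exact relIndex_eq_one.mp hone
  · exact le_inf hRK hRT

theorem PSTRUCT_aux_index (hK : IsJComponent T K) (hTL : IsSylowTwoIn T L) (hKL : K ≤ L)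
    (hTN : T ≤ normalizer (K : Set G)) : T.relIndex (K ⊔ T) = 3 := by
  have hRK := Cfsg.Agent.Helper14.pCoreOf_le 2 K
  have h1 := Cfsg.Agent.Helper17.card_sup_mul_card_inf K T hTN
  rw [PSTRUCT_aux_inf hK hTL hKL hTN] at h1
  have h3 := Cfsg.Agent.Helper26.card_mul_relIndex_of_le hRK
  rw [jc_relIndex hK] at h3
  have h4 := Cfsg.Agent.Helper26.card_mul_relIndex_of_le (le_sup_right : T ≤ K ⊔ T)
  have hRpos : 0 < Nat.card (pCoreOf 2 K) := Nat.card_pos
  have hTpos : 0 < Nat.card T := Nat.card_pos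
  have h5 : Nat.card T * T.relIndex (K ⊔ T) * Nat.card (pCoreOf 2 K)
      = Nat.card T * 3 * Nat.card (pCoreOf 2 K) := by
    rw [h4, h1, ← h3]; ring
  have := Nat.eq_of_mul_eq_mul_right hRpos h5
  exact Nat.eq_of_mul_eq_mul_left hTpos this

/-- `K` does not normalize `T`. -/
theorem PSTRUCT_aux_not_normal (hK : IsJComponent T K) (hTL : IsSylowTwoIn T L) (hKL : K ≤ L)
    (hTN : T ≤ normalizer (K : Set G)) : ¬ K ≤ normalizer (T : Set G) := by
  intro hKN
  have hJT : thompsonSubgroupOf 2 T ≤ T := Cfsg.Agent.S2941.thompsonSubgroupOf_le 2 T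
  have hle : K ≤ K ⊓ T := by
    conv_lhs => rw [← hK.2.1]
    rw [Subgroup.commutator_le]
    intro k hk j hj
    have hjT : j ∈ T := hJT hj
    refine mem_inf.mpr ⟨?_, ?_⟩
    · have h1 : j * k⁻¹ * j⁻¹ ∈ K := conj_mem_of_mem_normalizer (hTN hjT) (inv_mem hk)
      have e : ⁅k, j⁆ = k * (j * k⁻¹ * j⁻¹) := by
        simp only [commutatorElement_def]; group
      rw [e]; exact mul_mem hk h1
    · have h1 : k * j * k⁻¹ ∈ T := conj_mem_of_mem_normalizer (hKN hk) hjT
      have e : ⁅k, j⁆ = (k * j * k⁻¹) * j⁻¹ := by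
        simp only [commutatorElement_def]
      rw [e]; exact mul_mem h1 (inv_mem hjT)
  rw [PSTRUCT_aux_inf hK hTL hKL hTN] at hle
  have h1 : (pCoreOf 2 K).relIndex K = 1 := relIndex_eq_one.mpr hle
  rw [jc_relIndex hK] at h1
  norm_num at h1

omit [Finite G] in
theorem PSTRUCT_aux_relIndex_pCoreOf (P : Subgroup G) :
    (pCoreOf 2 P).relIndex P = (pCore 2 ↥P).index := by
  unfold pCoreOf relIndex subgroupOf
  rw [comap_map_eq_self_of_injective (subtype_injective P)]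

theorem PSTRUCT_aux_core (hTL : IsSylowTwoIn T L) (hKL : K ≤ L) :
    pCore 2 ↥(K ⊔ T) = (T.subgroupOf (K ⊔ T)).normalCore := by
  have hS := PSTRUCT_aux_sylow hTL hKL
  apply le_antisymm
  · have := Cfsg.Agent.Helper14.pCore_normal (G := ↥(K ⊔ T)) 2
    rw [normal_le_normalCore]
    intro x hx
    rw [mem_subgroupOf]
    exact pCoreOf_le_of_isSylowTwoIn hS ⟨x, hx, rfl⟩
  · apply Cfsg.Agent.Helper14.le_pCore 2 (normalCore_normal _)
    exact (hTL.2.1.comap_subtype).to_le (normalCore_le _)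

theorem PSTRUCT_aux_six (hK : IsJComponent T K) (hTL : IsSylowTwoIn T L) (hKL : K ≤ L)
    (hTN : T ≤ normalizer (K : Set G)) : (pCoreOf 2 (K ⊔ T)).relIndex (K ⊔ T) = 6 := by
  rw [PSTRUCT_aux_relIndex_pCoreOf, PSTRUCT_aux_core hTL hKL]
  set T' := T.subgroupOf (K ⊔ T) with hT'
  have hidx : T'.index = 3 := PSTRUCT_aux_index hK hTL hKL hTN
  have h6 : T'.normalCore.index ∣ 6 := by
    have := PSTRUCT_aux_core_dvd T'
    rw [hidx] at this
    exact this
  have h3 : 3 ∣ T'.normalCore.index := by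
    rw [← hidx]; exact index_dvd_of_le (normalCore_le T')
  have hne3 : T'.normalCore.index ≠ 3 := by
    intro h
    -- then `T'` is normal
    have h1 := relIndex_mul_index (normalCore_le T')
    rw [hidx, h] at h1
    have h2 : T'.normalCore.relIndex T' = 1 := by omega
    have h3 : T' ≤ T'.normalCore := relIndex_eq_one.mp h2
    have hTn : T'.Normal := by
      have : T'.normalCore = T' := le_antisymm (normalCore_le T') h3
      rw [← this]; infer_instance
    apply PSTRUCT_aux_not_normal hK hTL hKL hTN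
    intro k hk
    rw [mem_normalizer_iff]
    have key : ∀ (k : G), k ∈ K → ∀ t ∈ T, k * t * k⁻¹ ∈ T := by
      intro k hk t ht
      have hkP : k ∈ K ⊔ T := mem_sup_left hk
      have htP : t ∈ K ⊔ T := mem_sup_right ht
      have := hTn.conj_mem ⟨t, htP⟩ (mem_subgroupOf.mpr ht) ⟨k, hkP⟩
      rw [mem_subgroupOf] at this
      simpa using this
    intro t
    constructor
    · exact key k hk t
    · intro h
      have := key k⁻¹ (inv_mem hk) _ h
      have e : k⁻¹ * (k * t * k⁻¹) * k⁻¹⁻¹ = t := by group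
      rwa [e] at this
  have hpos : 0 < T'.normalCore.index := Nat.pos_of_ne_zero index_ne_zero_of_finite
  have hle : T'.normalCore.index ≤ 6 := Nat.le_of_dvd (by norm_num) h6
  obtain ⟨m, hm⟩ := h3
  have : m = 1 ∨ m = 2 := by
    have : m ≤ 2 := by omega
    have : m ≠ 0 := by rintro rfl; omega
    omega
  rcases this with rfl | rfl
  · exact absurd hm hne3
  · omega

end Main

/-- PSTRUCT (M–L) = P6. -/
theorem PSTRUCT {T K L : Subgroup G} (hK : IsJComponent T K) (hTL : IsSylowTwoIn T L) (hKL : K ≤ L)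
    (hTN : T ≤ normalizer (K : Set G)) :
    IsSylowTwoIn T (K ⊔ T) ∧ (pCoreOf 2 (K ⊔ T)).relIndex (K ⊔ T) = 6 ∧
      ¬ ⁅K ⊔ T, K ⊔ T⁆ ≤ pCoreOf 2 (K ⊔ T) ∧
      (∀ H : Subgroup G, T ≤ H → H ≤ K ⊔ T → H = T ∨ H = K ⊔ T) ∧
      (∀ x ∈ K ⊔ T, Odd (orderOf x) → x ∈ K) := by
  have hS := PSTRUCT_aux_sylow hTL hKL
  have hidx := PSTRUCT_aux_index hK hTL hKL hTN
  have hRK := Cfsg.Agent.Helper14.pCoreOf_le 2 K
  refine ⟨hS, PSTRUCT_aux_six hK hTL hKL hTN, ?_, ?_, ?_⟩
  · intro hcomm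
    apply PSTRUCT_aux_not_normal hK hTL hKL hTN
    have hQT : pCoreOf 2 (K ⊔ T) ≤ T := pCoreOf_le_of_isSylowTwoIn hS
    have key : ∀ (k : G), k ∈ K → ∀ t ∈ T, k * t * k⁻¹ ∈ T := by
      intro k hk t ht
      have h1 : ⁅k, t⁆ ∈ ⁅K ⊔ T, K ⊔ T⁆ :=
        commutator_mem_commutator (mem_sup_left hk) (mem_sup_right ht)
      have h2 : ⁅k, t⁆ ∈ T := hQT (hcomm h1)
      have e : k * t * k⁻¹ = ⁅k, t⁆ * t := by
        simp only [commutatorElement_def]; group
      rw [e]; exact mul_mem h2 ht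
    intro k hk
    rw [mem_normalizer_iff]
    intro t
    constructor
    · exact key k hk t
    · intro h
      have := key k⁻¹ (inv_mem hk) _ h
      have e : k⁻¹ * (k * t * k⁻¹) * k⁻¹⁻¹ = t := by group
      rwa [e] at this
  · intro H hTH hHP
    have h1 := relIndex_mul_relIndex T H (K ⊔ T) hTH hHP
    rw [hidx] at h1
    have hp : Nat.Prime 3 := Nat.prime_three
    have hd : T.relIndex H ∣ 3 := Dvd.intro _ h1
    rcases (Nat.dvd_prime hp).mp hd with h | h
    · left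
      exact le_antisymm (relIndex_eq_one.mp h) hTH
    · right
      rw [h] at h1
      have : H.relIndex (K ⊔ T) = 1 := by omega
      exact le_antisymm hHP (relIndex_eq_one.mp this)
  · intro x hx hodd
    -- `K` is normal in `P` with index a power of 2
    have hKP : K ≤ K ⊔ T := le_sup_left
    have hPN : K ⊔ T ≤ normalizer (K : Set G) := sup_le le_normalizer hTN
    have hn : (K.subgroupOf (K ⊔ T)).Normal := (normal_subgroupOf_iff_le_normalizer hKP).2 hPN
    obtain ⟨a, ha⟩ := IsPGroup.iff_card.mp hTL.2.1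
    have hcardK := Cfsg.Agent.Helper26.card_mul_relIndex_of_le hRK
    rw [jc_relIndex hK] at hcardK
    have hcardP := Cfsg.Agent.Helper26.card_mul_relIndex_of_le (le_sup_right : T ≤ K ⊔ T)
    rw [hidx] at hcardP
    have hcardPK := Cfsg.Agent.Helper26.card_mul_relIndex_of_le hKP
    have hdvd : K.relIndex (K ⊔ T) ∣ 2 ^ a := by
      have h1 : Nat.card (pCoreOf 2 K) * K.relIndex (K ⊔ T) = 2 ^ a := by
        have : Nat.card (pCoreOf 2 K) * 3 * K.relIndex (K ⊔ T) = 2 ^ a * 3 := by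
          rw [hcardK, hcardPK, ← hcardP, ha]
        nlinarith
      exact Dvd.intro_left _ h1
    obtain ⟨b, _, hb⟩ := (Nat.dvd_prime_pow Nat.prime_two).mp hdvd
    have hcardQ : Nat.card (↥(K ⊔ T) ⧸ K.subgroupOf (K ⊔ T)) = 2 ^ b := by
      rw [← Subgroup.index_eq_card]; exact hb
    have h1 : ((⟨x, hx⟩ : ↥(K ⊔ T)) : ↥(K ⊔ T) ⧸ K.subgroupOf (K ⊔ T)) ^ (2 ^ b) = 1 := by
      rw [← hcardQ]; exact pow_card_eq_one'
    have h2 : ((⟨x, hx⟩ : ↥(K ⊔ T)) : ↥(K ⊔ T) ⧸ K.subgroupOf (K ⊔ T)) ^ (orderOf x) = 1 := by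
      rw [← QuotientGroup.mk_pow]
      have : (⟨x, hx⟩ : ↥(K ⊔ T)) ^ orderOf x = 1 := by
        apply Subtype.ext
        simp [pow_orderOf_eq_one]
      rw [this]; rfl
    have hcop : Nat.Coprime (2 ^ b) (orderOf x) :=
      Nat.Coprime.pow_left b (Nat.coprime_two_left.mpr hodd)
    have h3 : ((⟨x, hx⟩ : ↥(K ⊔ T)) : ↥(K ⊔ T) ⧸ K.subgroupOf (K ⊔ T)) = 1 := by
      have := pow_gcd_eq_one.mpr ⟨h1, h2⟩
      rwa [hcop.gcd_eq_one, pow_one] at this
    rw [QuotientGroup.eq_one_iff, mem_subgroupOf] at h3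
    exact h3

end Cfsg.Agent.S2951P
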