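import Mathlib
import Cfsg.Agent.Helper5.S2951Defs
import Cfsg.Agent.Helper10.S2951PSTRUCT
import Cfsg.Agent.Helper11.Transfer
import Cfsg.Agent.Helper7.S2951FIN

/-! # S2951 board, piece E3 (blueprint §6 (E2)+(E3)): `N_G(K₁) = K₁ T`. -/

set_option autoImplicit false

universe u

namespace Cfsg.Agent.S2951P

open Cfsg Subgroup Cfsg.Agent.Helper15.JComp
open scoped commutatorElement

variable {G : Type u} [Group G] [Finite G]

/-- the subgroup generated by the elements of odd order of `P = K T` is `K` -/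
theorem E3_aux_odd {T K L : Subgroup G} (hK : IsJComponent T K) (hTL : IsSylowTwoIn T L) (hKL : K ≤ L)
    (hTN : T ≤ normalizer (K : Set G)) :
    closure {x : ↥(K ⊔ T) | Odd (orderOf x)} = K.subgroupOf (K ⊔ T) := by
  have hP := PSTRUCT hK hTL hKL hTN
  apply le_antisymm
  · rw [closure_le]
    intro x hx
    have hx' : Odd (orderOf x) := hx
    rw [← Subgroup.orderOf_coe] at hx'
    exact mem_subgroupOf.mpr (hP.2.2.2.2 _ x.2 hx')
  · intro x hx
    rw [mem_subgroupOf] at hx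
    have hle : K ≤ (closure {x : ↥(K ⊔ T) | Odd (orderOf x)}).map (K ⊔ T).subtype := by
      conv_lhs => rw [← hK.1]
      rw [closure_le]
      rintro g ⟨hgK, hgo⟩
      refine ⟨⟨g, mem_sup_left hgK⟩, subset_closure ?_, rfl⟩
      show Odd (orderOf (⟨g, mem_sup_left hgK⟩ : ↥(K ⊔ T)))
      rw [← Subgroup.orderOf_coe]
      exact hgo
    obtain ⟨y, hy, hyx⟩ := hle hx
    have : y = x := Subtype.ext hyx
    rwa [← this]

/-- the concrete facts of (E2), inside `G` -/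
theorem E3_aux_facts {T K L : Subgroup G} (hK : IsJComponent T K) (hTL : IsSylowTwoIn T L) (hKL : K ≤ L)
    (hTN : T ≤ normalizer (K : Set G)) (hiso : IsS4Type ↥(K ⊔ T)) :
    wOf K = pCoreOf 2 K ∧
    (K ⊔ T) ⊓ centralizer ((wOf K : Subgroup G) : Set G) = pCoreOf 2 (K ⊔ T) ∧
    (∀ a ∈ pCoreOf 2 (K ⊔ T), ∀ b ∈ pCoreOf 2 (K ⊔ T), a * b = b * a) ∧
    (∀ a ∈ pCoreOf 2 (K ⊔ T), a * a = 1) ∧
    (Nat.card ↥(pCoreOf 2 (K ⊔ T)) = 4 ∨ Nat.card ↥(pCoreOf 2 (K ⊔ T)) = 8) := by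
  have hF := FIN hiso (default : Sylow 2 ↥(K ⊔ T))
  have hodd := E3_aux_odd hK hTL hKL hTN
  have hRK := Cfsg.Agent.Helper14.pCoreOf_le 2 K
  have hKP : K ≤ K ⊔ T := le_sup_left
  -- `|K| = 12`, `|O₂(K)| = 4`, `W = O₂(K)`
  have hK12 : Nat.card K = 12 := by
    have := hF.card_odd
    rw [hodd, Cfsg.Agent.Helper17.card_subgroupOf_of_le hKP] at this
    exact this
  have hR4 : Nat.card (pCoreOf 2 K) = 4 := by
    have h3 := Cfsg.Agent.Helper26.card_mul_relIndex_of_le hRK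
    rw [jc_relIndex hK, hK12] at h3
    omega
  have hWR : wOf K = pCoreOf 2 K := by
    apply Subgroup.eq_of_le_of_card_ge (wOf_le_pCoreOf K)
    rw [hR4, jc_card_wOf hK]
  -- `O₂(K) ≤ O₂(P)`
  have hn : K ⊔ T ≤ normalizer ((pCoreOf 2 K : Subgroup G) : Set G) :=
    sup_le (Cfsg.Agent.Helper14.le_normalizer_pCoreOf 2 K)
      (hTN.trans (normalizer_le_normalizer_pCoreOf 2 K))
  have hRU : pCoreOf 2 K ≤ pCoreOf 2 (K ⊔ T) :=
    Cfsg.Agent.Helper14.le_pCoreOf 2 (hRK.trans hKP) hn (Cfsg.Agent.Helper14.pCoreOf_isPGroup 2 K)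
  -- `W₀ = W.subgroupOf P`
  have hW0 : (wOf K).subgroupOf (K ⊔ T) =
      closure {x : ↥(K ⊔ T) | Odd (orderOf x)} ⊓ pCore 2 ↥(K ⊔ T) := by
    apply Subgroup.eq_of_le_of_card_ge
    · intro x hx
      rw [mem_subgroupOf] at hx
      refine mem_inf.mpr ⟨?_, ?_⟩
      · rw [hodd, mem_subgroupOf]
        exact wOf_le K hx
      · have h1 : (x : G) ∈ pCoreOf 2 (K ⊔ T) := hRU (hWR ▸ hx)
        obtain ⟨y, hy, hyx⟩ := h1
        have : y = x := Subtype.ext hyx
        rwa [← this]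
    · rw [hF.card_W, Cfsg.Agent.Helper17.card_subgroupOf_of_le ((wOf_le K).trans hKP), jc_card_wOf hK]
  have hcent := hF.cent_W
  rw [← hW0] at hcent
  refine ⟨hWR, ?_, ?_, ?_, ?_⟩
  · apply le_antisymm
    · rintro x ⟨hxP, hxC⟩
      have h1 : (⟨x, hxP⟩ : ↥(K ⊔ T)) ∈ centralizer (((wOf K).subgroupOf (K ⊔ T) : Subgroup ↥(K ⊔ T)) : Set ↥(K ⊔ T)) := by
        rw [mem_centralizer_iff]
        intro w hw
        apply Subtype.ext
        have := mem_centralizer_iff.mp hxC (w : G) (mem_subgroupOf.mp hw)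
        simpa using this
      rw [hcent] at h1
      exact ⟨⟨x, hxP⟩, h1, rfl⟩
    · rintro _ ⟨u, hu, rfl⟩
      refine mem_inf.mpr ⟨u.2, ?_⟩
      rw [← hcent] at hu
      show ((K ⊔ T).subtype u) ∈ centralizer ((wOf K : Subgroup G) : Set G)
      rw [mem_centralizer_iff]
      intro w hw
      have hwP : w ∈ K ⊔ T := hKP (wOf_le K hw)
      have := mem_centralizer_iff.mp hu ⟨w, hwP⟩ (mem_subgroupOf.mpr hw)
      exact congrArg Subtype.val this
  · rintro _ ⟨a, ha, rfl⟩ _ ⟨b, hb, rfl⟩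
    have := hF.U_comm a ha b hb
    exact congrArg Subtype.val this
  · rintro _ ⟨a, ha, rfl⟩
    have := hF.U_sq a ha
    exact congrArg Subtype.val this
  · have hcU : Nat.card ↥(pCoreOf 2 (K ⊔ T)) = Nat.card ↥(pCore 2 ↥(K ⊔ T)) := by
      unfold pCoreOf
      exact Nat.card_congr ((pCore 2 ↥(K ⊔ T)).equivMapOfInjective _ (subtype_injective _)).symm.toEquiv
    rw [hcU]
    have h1 := hF.card_U
    rcases hF.card with h | h
    · left; omega
    · right; omega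

omit [Finite G] in
/-- an element of odd order commutes with whatever its square commutes with -/
theorem E3_aux_of_sq {y r : G} (hodd : Odd (orderOf y)) (h : Commute (y * y) r) : Commute y r := by
  obtain ⟨m, hm⟩ := hodd
  have e : y = (y * y) ^ (m + 1) := by
    rw [← pow_two, ← pow_mul]
    have : 2 * (m + 1) = orderOf y + 1 := by omega
    rw [this, pow_succ, pow_orderOf_eq_one, one_mul]
  rw [e]; exact h.pow_left _

/-- the stability-chain argument of (E3): `C = C_G(W)` is a 2-group -/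
theorem E3_aux_core {H W R C U : Subgroup G}
    (hC : C = centralizer (W : Set G))
    (hWel : ∀ w ∈ W, w * w = 1) (hWR : W ≤ R) (hW4 : Nat.card W = 4) (hWC : W ≤ C)
    (hCH : C ≤ H) (hHC : H ≤ normalizer (C : Set G)) (hRH : R ≤ H)
    (hHR : H ≤ normalizer (R : Set G))
    (hR2 : IsPGroup 2 R) (hCR : centralizer (R : Set G) ≤ R)
    (hDU : R ⊓ C ≤ U) (hUs : ∀ a ∈ U, a * a = 1)
    (hU48 : Nat.card U = 4 ∨ Nat.card U = 8) : IsPGroup 2 C := by
  have hWD : W ≤ R ⊓ C := le_inf hWR hWC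
  -- index of `W` in `D = R ∩ C`
  have hidx : W.relIndex (R ⊓ C) = 1 ∨ W.relIndex (R ⊓ C) = 2 := by
    have h1 := relIndex_mul_relIndex W (R ⊓ C) U hWD hDU
    have h2 := Cfsg.Agent.Helper26.card_mul_relIndex_of_le (hWD.trans hDU)
    rw [hW4] at h2
    have h3 : W.relIndex U = 1 ∨ W.relIndex U = 2 := by
      rcases hU48 with h | h <;> rw [h] at h2 <;> omega
    have hd : W.relIndex (R ⊓ C) ∣ W.relIndex U := Dvd.intro _ h1
    rcases h3 with h | h
    · left; rw [h] at hd; exact Nat.eq_one_of_dvd_one hd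
    · rw [h] at hd
      exact (Nat.dvd_prime Nat.prime_two).mp hd
  have key : ∀ y ∈ C, Odd (orderOf y) → y = 1 := by
    intro y hyC hyo
    have hyH : y ∈ H := hCH hyC
    have hycW : ∀ w ∈ W, y * w * y⁻¹ = w := by
      intro w hw
      have := mem_centralizer_iff.mp (hC ▸ hyC) w hw
      rw [← this]; group
    -- (a)
    have ha : ∀ r ∈ R, y * r * y⁻¹ * r⁻¹ ∈ R ⊓ C := by
      intro r hr
      refine mem_inf.mpr ⟨?_, ?_⟩
      · exact mul_mem (conj_mem_of_mem_normalizer (hHR hyH) hr) (inv_mem hr)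
      · have h1 : r * y⁻¹ * r⁻¹ ∈ C := conj_mem_of_mem_normalizer (hHC (hRH hr)) (inv_mem hyC)
        have e : y * r * y⁻¹ * r⁻¹ = y * (r * y⁻¹ * r⁻¹) := by group
        rw [e]; exact mul_mem hyC h1
    have hyD : ∀ x ∈ R ⊓ C, y * x * y⁻¹ ∈ R ⊓ C := by
      intro x hx
      exact mem_inf.mpr ⟨conj_mem_of_mem_normalizer (hHR hyH) (mem_inf.mp hx).1,
        conj_mem_of_mem_normalizer (hHC hyH) (mem_inf.mp hx).2⟩
    -- (b)
    have hb : ∀ x ∈ R ⊓ C, ∃ w ∈ W, y * x * y⁻¹ = x * w := by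
      intro x hx
      by_cases hxW : x ∈ W
      · exact ⟨1, one_mem _, by rw [hycW x hxW, mul_one]⟩
      · rcases hidx with h1 | h2
        · exact absurd (relIndex_eq_one.mp h1 hx) hxW
        · have h2' : (W.subgroupOf (R ⊓ C)).index = 2 := h2
          have hnot : y * x * y⁻¹ ∉ W := by
            intro hv
            apply hxW
            have h3 := hycW _ hv
            have h4 : y * x * y⁻¹ = x := by
              calc y * x * y⁻¹ = y⁻¹ * (y * (y * x * y⁻¹) * y⁻¹) * y := by group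
                _ = y⁻¹ * (y * x * y⁻¹) * y := by rw [h3]
                _ = x := by group
            rw [← h4]; exact hv
          have hm := Subgroup.mul_mem_iff_of_index_two h2'
            (a := (⟨x⁻¹, inv_mem hx⟩ : ↥(R ⊓ C))) (b := ⟨y * x * y⁻¹, hyD x hx⟩)
          have hmem : (⟨x⁻¹, inv_mem hx⟩ : ↥(R ⊓ C)) * ⟨y * x * y⁻¹, hyD x hx⟩ ∈
              W.subgroupOf (R ⊓ C) := by
            rw [hm]
            constructor
            · intro h; exact absurd (by simpa using inv_mem (mem_subgroupOf.mp h)) hxW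
            · intro h; exact absurd (mem_subgroupOf.mp h) hnot
          rw [mem_subgroupOf] at hmem
          refine ⟨x⁻¹ * (y * x * y⁻¹), hmem, by group⟩
    -- (b')
    have hb' : ∀ x ∈ R ⊓ C, Commute y x := by
      intro x hx
      apply E3_aux_of_sq hyo
      obtain ⟨w, hw, hxw⟩ := hb x hx
      have e : (y * y) * x * (y * y)⁻¹ = x := by
        calc (y * y) * x * (y * y)⁻¹ = y * (y * x * y⁻¹) * y⁻¹ := by group
          _ = y * (x * w) * y⁻¹ := by rw [hxw]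
          _ = (y * x * y⁻¹) * (y * w * y⁻¹) := by group
          _ = (x * w) * w := by rw [hxw, hycW w hw]
          _ = x * (w * w) := by group
          _ = x := by rw [hWel w hw, mul_one]
      show (y * y) * x = x * (y * y)
      calc (y * y) * x = ((y * y) * x * (y * y)⁻¹) * (y * y) := by group
        _ = x * (y * y) := by rw [e]
    -- (c)
    have hc : ∀ r ∈ R, Commute y r := by
      intro r hr
      apply E3_aux_of_sq hyo
      have hu := ha r hr
      have huy : y * (y * r * y⁻¹ * r⁻¹) * y⁻¹ = y * r * y⁻¹ * r⁻¹ := by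
        have := hb' _ hu
        have h' : y * (y * r * y⁻¹ * r⁻¹) = (y * r * y⁻¹ * r⁻¹) * y := this
        rw [h']; group
      have huu : (y * r * y⁻¹ * r⁻¹) * (y * r * y⁻¹ * r⁻¹) = 1 := hUs _ (hDU hu)
      have e : (y * y) * r * (y * y)⁻¹ = r := by
        calc (y * y) * r * (y * y)⁻¹
            = (y * (y * r * y⁻¹ * r⁻¹) * y⁻¹) * ((y * r * y⁻¹ * r⁻¹) * r) := by group
          _ = (y * r * y⁻¹ * r⁻¹) * ((y * r * y⁻¹ * r⁻¹) * r) := by rw [huy]
          _ = ((y * r * y⁻¹ * r⁻¹) * (y * r * y⁻¹ * r⁻¹)) * r := by group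
          _ = r := by rw [huu, one_mul]
      show (y * y) * r = r * (y * y)
      calc (y * y) * r = ((y * y) * r * (y * y)⁻¹) * (y * y) := by group
        _ = r * (y * y) := by rw [e]
    have hyR : y ∈ R := by
      apply hCR
      rw [mem_centralizer_iff]
      intro r hr
      exact ((hc r hr).eq).symm
    obtain ⟨k, hk⟩ := (IsPGroup.iff_orderOf.mp hR2) ⟨y, hyR⟩
    rw [Subgroup.orderOf_mk] at hk
    rcases Nat.eq_zero_or_pos k with h0 | hpos
    · rw [h0, pow_zero] at hk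
      exact orderOf_eq_one_iff.mp hk
    · exfalso
      rw [hk] at hyo
      exact (Nat.not_even_iff_odd.mpr hyo) ((Nat.even_pow' hpos.ne').mpr even_two)
  -- hence `C` is a 2-group
  intro g
  obtain ⟨k, m, hm, hkm⟩ := Nat.exists_eq_two_pow_mul_odd (orderOf_pos (g : G)).ne'
  refine ⟨k, ?_⟩
  have hy : ((g : G) ^ 2 ^ k) = 1 := by
    apply key _ (pow_mem g.2 _)
    have hd : 2 ^ k ∣ orderOf (g : G) := ⟨m, hkm⟩
    rw [orderOf_pow_of_dvd (by positivity) hd, hkm, Nat.mul_div_cancel_left _ (by positivity)]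
    exact hm
  apply Subtype.ext
  simpa using hy

/-- E3 (L) = (E3). -/
theorem E3 {M T : Subgroup G} {K₁ K₂ L₁ L₂ : Subgroup G} (d : PairData M T K₁ K₂ L₁ L₂)
    (hiso : IsS4Type ↥(K₁ ⊔ T)) : normalizer (K₁ : Set G) = K₁ ⊔ T := by
  have c := d.c
  have hK := d.comp₁
  have hKM := d.out₁
  obtain ⟨hH2, hHM, -⟩ := c.normalizer_facts hK hKM
  have hTH : T ≤ normalizer (K₁ : Set G) := d.norm₁
  obtain ⟨⟨hTsyl, -, hCR⟩, -⟩ := c.main hH2 hHM hTH
  have hHW : normalizer (K₁ : Set G) = normalizer ((wOf K₁ : Subgroup G) : Set G) :=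
    (jc_zero_normalizer_eq c.hL c.hN c.hZ c.hT2 (c.mem_zero hK hKM)).1
  have hKH : K₁ ≤ normalizer (K₁ : Set G) := le_normalizer
  obtain ⟨hWR, hPC, hUc, hUs, hU48⟩ := E3_aux_facts hK hTsyl hKH hTH hiso
  have hPS := PSTRUCT hK hTsyl hKH hTH
  obtain ⟨H, hH⟩ : ∃ H : Subgroup G, H = normalizer (K₁ : Set G) := ⟨_, rfl⟩
  obtain ⟨C, hC⟩ : ∃ C : Subgroup G, C = centralizer ((wOf K₁ : Subgroup G) : Set G) := ⟨_, rfl⟩
  rw [← hH] at hH2 hHM hTH hTsyl hCR hHW hKH ⊢
  rw [← hC] at hPC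
  have hPH : K₁ ⊔ T ≤ H := sup_le hKH hTH
  have hCH : C ≤ H := by rw [hC, hHW]; exact centralizer_le_normalizer _
  have hHC : H ≤ normalizer (C : Set G) := by
    rw [hC, hHW]; exact normalizer_le_normalizer_centralizer (wOf K₁)
  -- the index of `C` in `H` divides 6
  have hidx : C.relIndex H ∣ 6 := by
    have h1 := Cfsg.Agent.Helper11.relIndex_centralizer_normalizer_dvd_card_mulAut (wOf K₁)
    have h2 := Cfsg.Agent.Helper11.card_mulAut_dvd_factorial ↥(wOf K₁)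
    rw [jc_card_wOf hK] at h2
    rw [hC, hHW]
    exact h1.trans h2
  -- `H = C P`
  have hsup : C ⊔ (K₁ ⊔ T) = H := by
    apply Subgroup.eq_of_le_of_card_ge (sup_le hCH hPH)
    have h1 := Cfsg.Agent.Helper17.card_sup_mul_card_inf C (K₁ ⊔ T) (hPH.trans hHC)
    rw [inf_comm, hPC] at h1
    have h2 := Cfsg.Agent.Helper26.card_mul_relIndex_of_le (Cfsg.Agent.Helper14.pCoreOf_le 2 (K₁ ⊔ T))
    rw [hPS.2.1] at h2
    have h3 := Cfsg.Agent.Helper26.card_mul_relIndex_of_le hCH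
    have hUpos : 0 < Nat.card (pCoreOf 2 (K₁ ⊔ T)) := Nat.card_pos
    have hCpos : 0 < Nat.card C := Nat.card_pos
    have h4 : Nat.card (C ⊔ (K₁ ⊔ T) : Subgroup G) = Nat.card C * 6 := by
      have : Nat.card (C ⊔ (K₁ ⊔ T) : Subgroup G) * Nat.card (pCoreOf 2 (K₁ ⊔ T)) =
          (Nat.card C * 6) * Nat.card (pCoreOf 2 (K₁ ⊔ T)) := by
        rw [h1, ← h2]; ring
      exact Nat.eq_of_mul_eq_mul_right hUpos this
    rw [h4, ← h3]
    exact Nat.mul_le_mul_left _ (Nat.le_of_dvd (by norm_num) hidx)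
  -- `C` is a 2-group
  have hW2 : IsPGroup 2 (wOf K₁) := wOf_isPGroup K₁
  have hWH : wOf K₁ ≤ H := (wOf_le K₁).trans hKH
  have hWRH : wOf K₁ ≤ pCoreOf 2 H :=
    Cfsg.Agent.Helper14.le_pCoreOf 2 hWH (by rw [hHW]) hW2
  have hRT : pCoreOf 2 H ≤ T := pCoreOf_le_of_isSylowTwoIn hTsyl
  have hWC : wOf K₁ ≤ C := by rw [hC]; exact jc_wOf_le_centralizer_wOf hK
  have hDU : pCoreOf 2 H ⊓ C ≤ pCoreOf 2 (K₁ ⊔ T) := by
    rw [← hPC]
    exact inf_le_inf_right C (hRT.trans le_sup_right)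
  have hC2 : IsPGroup 2 C :=
    E3_aux_core hC (fun w hw => jc_wOf_sq hK hw) hWRH (jc_card_wOf hK) hWC hCH hHC
      (Cfsg.Agent.Helper14.pCoreOf_le 2 H) (Cfsg.Agent.Helper14.le_normalizer_pCoreOf 2 H)
      (Cfsg.Agent.Helper14.pCoreOf_isPGroup 2 H) hCR hDU hUs hU48
  -- so `C ≤ O₂(H) ≤ T`
  have hCT : C ≤ T := (Cfsg.Agent.Helper14.le_pCoreOf 2 hCH hHC hC2).trans hRT
  rw [← hsup]
  exact sup_eq_right.mpr (hCT.trans le_sup_right)

end Cfsg.Agent.S2951P
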