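import Mathlib
import Cfsg.Agent.Helper29.TV2Basic
import Cfsg.Agent.Helper24.TV2_DE
import Cfsg.Agent.Helper18.TV2_USPAN
import Cfsg.Agent.Helper11.TV2_L0ND
import Cfsg.Agent.Helper8.TV2_SYMM
import Cfsg.Agent.Helper11.TV2_TRANS

/-! Board `s2981pieces`, row Q2_TAU2 (driver helper29): a transvection `τ ∈ D ∩ M` has exactly two neighbours in `D1`. -/

set_option autoImplicit false
set_option linter.unusedSectionVars false

namespace Cfsg.Agent.TV2

variable {P : Type*} [Group P] [Finite P] {W : Type*} [AddCommGroup W] [Module (ZMod 2) W] [Finite W] [DistribMulAction P W]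

/-- Q2_TAU2 -/
theorem TAU2 (C : Ctx P W) {τ : P} (hτ : τ ∈ C.D) (hτM : τ ∈ C.M) :
    ∃ y ∈ C.D1, B W τ y = 1 ∧ τ * y * τ⁻¹ ∈ C.D1 ∧ τ * y * τ⁻¹ ≠ y ∧ cen W (τ * y * τ⁻¹) = cen W y + cen W τ ∧
      ∀ y'' ∈ C.D1, B W τ y'' = 1 → y'' = y ∨ y'' = τ * y * τ⁻¹ := by
  have hτtv : Tv W τ := DE_tv C hτ
  obtain ⟨y, hy, hB⟩ := ND_span C hτ C.D1 (USPAN_D1 C).le
  have hytv : Tv W y := DE_tv C hy.1
  have hy' : τ * y * τ⁻¹ ∈ C.D1 := DE_conj_D1 C hy hτM
  have hcen : ∀ v ∈ C.D1, B W τ v = 1 → cen W (τ * v * τ⁻¹) = cen W v + cen W τ := by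
    intro v hv hBv
    rw [Tv.cen_conj_tv (DE_tv C hv.1) hτtv, hBv, one_smul]
  refine ⟨y, hy, hB, hy', ?_, hcen y hy hB, ?_⟩
  · intro heq
    have h := hcen y hy hB
    rw [heq] at h
    exact hτtv.cen_ne_zero (by simpa using h)
  · intro y'' hy'' hB''
    by_contra hcon
    push Not at hcon
    obtain ⟨hne, hne'⟩ := hcon
    have hy''tv : Tv W y'' := DE_tv C hy''.1
    have hy''' : τ * y'' * τ⁻¹ ∈ C.D1 := DE_conj_D1 C hy'' hτM
    have hByτ : B W y τ = 1 := by rw [SYMM C hy.1 hτ]; exact hB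
    have hBy''τ : B W y'' τ = 1 := by rw [SYMM C hy''.1 hτ]; exact hB''
    have h1 : B W y (τ * y'' * τ⁻¹) = B W y y'' + 1 := by
      show fn W y (cen W (τ * y'' * τ⁻¹)) = fn W y (cen W y'') + 1
      rw [hcen y'' hy'' hB'', map_add]
      congr 1
    have h2 : B W y'' (τ * y'' * τ⁻¹) = 1 := by
      show fn W y'' (cen W (τ * y'' * τ⁻¹)) = 1
      rw [hcen y'' hy'' hB'', map_add, hy''tv.fn_cen_self, zero_add]
      exact hBy''τ
    have h2' : B W (τ * y'' * τ⁻¹) y'' = 1 := by rw [SYMM C hy'''.1 hy''.1]; exact h2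
    rcases zmod2_cases (B W y y'') with h0 | h0
    · -- `B y y'' = 0`, so `B y y''' = 1`, and TRANS gives `B y y'' = 1`
      rw [h0, zero_add] at h1
      have := TRANS C hy hy''' hy'' h1 h2' (fun h => hne h.symm)
      rw [h0] at this
      exact zero_ne_one this
    · -- `B y y'' = 1`, so `B y y''' = 0`
      rw [h0] at h1
      have h1' : B W y (τ * y'' * τ⁻¹) = 0 := by rw [h1]; rfl
      by_cases hyy : τ * y'' * τ⁻¹ = y
      · apply hne'
        have hinv : τ⁻¹ = τ := Tv.inv_eq C.faith hτtv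
        have : y'' = τ⁻¹ * (τ * y'' * τ⁻¹) * τ := by group
        rw [this, hyy, hinv]
      · have h3 : B W y'' y = 1 := by rw [SYMM C hy''.1 hy.1]; exact h0
        have := TRANS C hy''' hy'' hy h2' h3 hyy
        rw [SYMM C hy'''.1 hy.1, h1'] at this
        exact zero_ne_one this

end Cfsg.Agent.TV2
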