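import Mathlib
import Cfsg.Agent.Helper12.S2999Basic
import Cfsg.Agent.Helper20.S2999REPS
import Cfsg.Agent.Helper8.S2999PACK

/-!
# S2999 piece COUNT, core form (helper10 hedge): SPLIT enters as a hypothesis (PACK, REPS are real).
-/

set_option autoImplicit false

namespace Cfsg.Agent.S2999P

open Cfsg.Agent.S2789P
open scoped commutatorElement

/-- the numerics of COUNT. -/
theorem COUNTh_aux_num (v0 a y n : ℕ) (hv0 : 0 < v0) (hdvd : v0 ∣ a) (hlt : v0 < a)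
    (hsplit : y * v0 = a ^ 2) (hpack : v0 + n * (a - v0) ≤ y) : n * v0 ≤ a + v0 := by
  obtain ⟨α, rfl⟩ := hdvd
  have hα : 2 ≤ α := by
    by_contra h
    have : α ≤ 1 := by omega
    have : v0 * α ≤ v0 * 1 := Nat.mul_le_mul_left v0 this
    omega
  obtain ⟨β, rfl⟩ : ∃ β, α = β + 1 := ⟨α - 1, by omega⟩
  have hβ : 1 ≤ β := by omega
  have hy : y = v0 * (β + 1) ^ 2 := by
    have h1 : y * v0 = (v0 * (β + 1) ^ 2) * v0 := by rw [hsplit]; ring
    exact Nat.eq_of_mul_eq_mul_right hv0 h1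
  have hsub : v0 * (β + 1) - v0 = v0 * β := by
    rw [Nat.mul_succ]; omega
  rw [hsub, hy] at hpack
  -- v0 + n * (v0 * β) ≤ v0 * (β+1)^2
  have h2 : v0 * (1 + n * β) ≤ v0 * (β + 1) ^ 2 := by
    calc v0 * (1 + n * β) = v0 + n * (v0 * β) := by ring
      _ ≤ v0 * (β + 1) ^ 2 := hpack
  have h3 : 1 + n * β ≤ (β + 1) ^ 2 := Nat.le_of_mul_le_mul_left h2 hv0
  have h4 : n * β ≤ (β + 2) * β := by
    have : (β + 1) ^ 2 = 1 + (β + 2) * β := by ring
    omega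
  have h5 : n ≤ β + 2 := Nat.le_of_mul_le_mul_right h4 (by omega)
  calc n * v0 ≤ (β + 2) * v0 := Nat.mul_le_mul_right v0 h5
    _ = v0 * (β + 1) + v0 := by ring

variable {G : Type*} [Group G] [Finite G] {p : ℕ} [Fact p.Prime] {V P Mg Tg R A : Subgroup G}

/-- COUNT with SPLIT as a hypothesis. -/
theorem COUNTh_aux_core (S : Setup p V P Mg Tg R A) (Y : Subgroup G)
    (hYP : P ≤ Subgroup.normalizer (Y : Set G))
    (hY0 : fixV V P ≤ Y) (hne : ¬ (Y ⊓ fixV V A : Subgroup G) ≤ fixV V P)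
    (hsplit : Nat.card ↥Y * Nat.card ↥(fixV V P) = Nat.card ↥(Y ⊓ fixV V A : Subgroup G) ^ 2) :
    Mg.relIndex P * Nat.card ↥(fixV V P) ≤ Nat.card ↥(Y ⊓ fixV V A : Subgroup G) + Nat.card ↥(fixV V P) := by
  obtain ⟨Rp, -, hRpP, hopp, hcard⟩ := REPS P Mg S.hMP
  have hle : fixV V P ≤ (Y ⊓ fixV V A : Subgroup G) := le_inf hY0 (S.V0_le_fix S.hAP)
  have hdvd : Nat.card ↥(fixV V P) ∣ Nat.card ↥(Y ⊓ fixV V A : Subgroup G) := Subgroup.card_dvd_of_le hle
  have hlt : Nat.card ↥(fixV V P) < Nat.card ↥(Y ⊓ fixV V A : Subgroup G) := by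
    rcases Nat.lt_or_ge (Nat.card ↥(fixV V P)) (Nat.card ↥(Y ⊓ fixV V A : Subgroup G)) with h | h
    · exact h
    · exfalso
      apply hne
      exact (Subgroup.eq_of_le_of_card_ge hle h).ge
  have hp := (PACK S Y hYP hY0 Rp hRpP hopp).1
  rw [hcard] at hp
  exact COUNTh_aux_num _ _ _ _ Nat.card_pos hdvd hlt hsplit hp

end Cfsg.Agent.S2999P
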