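import Mathlib
import Cfsg.Agent.Helper27.S3001QDefs
import Cfsg.Agent.Helper27.S3001G1

/-!
# S3001 board `s3001qpieces`, piece G7 (helper10): transport of the hypotheses to the quotient `N_G(R)/R`.
-/

set_option autoImplicit false

namespace Cfsg.Agent.S3001P

open Cfsg.Agent.S2789P Cfsg.Agent.S2999P Cfsg.Agent.S3000P Cfsg.Agent.S3001P

universe u

variable {G : Type u} [Group G]

theorem hat_elab {R V : Subgroup G} {p : ℕ} (hV : Cfsg.IsElementaryAbelian p V) : Cfsg.IsElementaryAbelian p (hat R V) := by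
  obtain ⟨hc, hp⟩ := hV
  refine ⟨⟨⟨?_⟩⟩, ?_⟩
  · rintro ⟨a, ha⟩ ⟨b, hb⟩
    apply Subtype.ext
    obtain ⟨x, hx, rfl⟩ := mem_hat.1 ha
    obtain ⟨y, hy, rfl⟩ := mem_hat.1 hb
    show qpi R x * qpi R y = qpi R y * qpi R x
    rw [← map_mul, ← map_mul]
    congr 1
    apply Subtype.ext
    have := hc.is_comm.comm (⟨(x : G), hx⟩ : ↥V) ⟨(y : G), hy⟩
    have h2 : (x : G) * (y : G) = (y : G) * (x : G) := congrArg Subtype.val this
    exact h2
  · intro a ha
    obtain ⟨x, hx, rfl⟩ := mem_hat.1 ha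
    rw [← map_pow]
    have h1 : x ^ p = 1 := by
      apply Subtype.ext
      rw [Subgroup.coe_pow]
      exact hp _ hx
    rw [h1, map_one]

theorem hat_le_normalizer {R V P : Subgroup G} (hPV : P ≤ Subgroup.normalizer (V : Set G)) :
    hat R P ≤ Subgroup.normalizer ((hat R V : Subgroup (QG R)) : Set (QG R)) := by
  intro y hy
  obtain ⟨x, hx, rfl⟩ := mem_hat.1 hy
  have hxN := hPV hx
  rw [Subgroup.mem_normalizer_iff]
  intro h
  constructor
  · intro hh
    obtain ⟨v, hv, rfl⟩ := mem_hat.1 hh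
    have h1 : qpi R x * qpi R v * (qpi R x)⁻¹ = qpi R (x * v * x⁻¹) := by
      rw [map_mul, map_mul, map_inv]
    rw [h1]
    apply qpi_mem_hat
    show (x : G) * (v : G) * (x : G)⁻¹ ∈ V
    exact (Subgroup.mem_normalizer_iff.mp hxN _).mp hv
  · intro hh
    obtain ⟨v, hv, hveq⟩ := mem_hat.1 hh
    have h1 : h = qpi R (x⁻¹ * v * x) := by
      rw [map_mul, map_mul, map_inv, hveq]
      group
    rw [h1]
    apply qpi_mem_hat
    show (x : G)⁻¹ * (v : G) * (x : G) ∈ V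
    have := (Subgroup.mem_normalizer_iff.mp (Subgroup.inv_mem _ hxN) _).mp hv
    simpa using this

theorem hat_centralizer_le {R V : Subgroup G} :
    hat R (Subgroup.centralizer (V : Set G)) ≤ Subgroup.centralizer ((hat R V : Subgroup (QG R)) : Set (QG R)) := by
  intro y hy
  obtain ⟨x, hx, rfl⟩ := mem_hat.1 hy
  rw [Subgroup.mem_centralizer_iff]
  intro h hh
  obtain ⟨v, hv, rfl⟩ := mem_hat.1 hh
  rw [← map_mul, ← map_mul]
  congr 1
  apply Subtype.ext
  exact (Subgroup.mem_centralizer_iff.mp hx) _ hv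

theorem hat_fixV_le {R V B : Subgroup G} : hat R (fixV V B) ≤ fixV (hat R V) (hat R B) := by
  intro y hy
  obtain ⟨x, hx, rfl⟩ := mem_hat.1 hy
  obtain ⟨hxV, hxB⟩ := mem_fix.mp hx
  rw [mem_fix]
  refine ⟨qpi_mem_hat x hxV, ?_⟩
  intro e he
  obtain ⟨b, hb, rfl⟩ := mem_hat.1 he
  rw [← map_mul, ← map_mul]
  congr 1
  apply Subtype.ext
  exact hxB _ hb

end Cfsg.Agent.S3001P
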