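import Mathlib
import Cfsg.Agent.Helper27.S3001TOP

/-! Piece S3C of the board `s3001pieces` (S3001 endgame, driver helper23): core with the piece G3R as a hypothesis. -/

set_option autoImplicit false
set_option linter.unusedSectionVars false

namespace Cfsg.Agent.S3001P

open Cfsg.Agent.S2789P Cfsg.Agent.S2999P Cfsg.Agent.S3000P Cfsg.Agent.S3001P
open scoped commutatorElement

universe u

variable {G : Type u} [Group G] [Finite G] {p : ℕ} [Fact p.Prime] {V P : Subgroup G}

section STRUCT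
variable {r : ℕ} {E : Fin r → Subgroup G}

/-- S3C with G3R as a hypothesis. -/
theorem S3C_aux_core
    (hG3R : ∀ {x v : G}, x ∈ P → (orderOf x).Coprime p → v ∈ V →
      x * v * x⁻¹ * v⁻¹ ∈ V0 p V P → x * v = v * x)
    (H : Hyp1 p V P) (T : Sylow p ↥P) (hC : ConclPBB p (V0 p V P) V P (TT T) r E) {i j : Fin r} (hij : i ≠ j) {y : G} (hy : y ∈ E j)
    (hyo : (orderOf y).Coprime p) : ∀ u ∈ ⁅V, E i⁆ ⊔ V0 p V P, y * u = u * y := by
  obtain ⟨_, hEP, _, _, _, _, _, h8, _⟩ := hC
  have hyP : y ∈ P := hEP j hy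
  -- `[V, E i] ≤ V`
  have hVE : ⁅V, E i⁆ ≤ V := by
    rw [Subgroup.commutator_le]
    intro v hv e he
    -- `⁅v, e⁆ = v * e * v⁻¹ * e⁻¹`
    have h1 : e * v⁻¹ * e⁻¹ ∈ V := by
      have := (Subgroup.mem_normalizer_iff.mp (H.hPV (hEP i he)) v⁻¹).mp (V.inv_mem hv)
      simpa using this
    have : ⁅v, e⁆ = v * (e * v⁻¹ * e⁻¹) := by
      simp [commutatorElement_def, mul_assoc]
    rw [this]
    exact V.mul_mem hv h1
  have key : ⁅V, E i⁆ ⊔ V0 p V P ≤ Subgroup.centralizer ({y} : Set G) := by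
    refine sup_le ?_ ?_
    · intro u hu
      rw [Subgroup.mem_centralizer_iff]
      intro z hz
      rw [Set.mem_singleton_iff] at hz
      subst hz
      refine hG3R hyP hyo (hVE hu) ?_
      apply h8 i j hij
      have hc : ⁅u, z⁆ ∈ ⁅⁅V, E i⁆, E j⁆ := Subgroup.commutator_mem_commutator hu hy
      have : z * u * z⁻¹ * u⁻¹ = (⁅u, z⁆)⁻¹ := by
        simp [commutatorElement_def, mul_assoc]
      rw [this]
      exact Subgroup.inv_mem _ hc
    · intro u hu
      rw [Subgroup.mem_centralizer_iff]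
      intro z hz
      rw [Set.mem_singleton_iff] at hz
      subst hz
      have hu' : u ∈ fixV V (OpP p P) := hu
      rw [mem_fix] at hu'
      exact hu'.2 z (mem_OpP_of_coprime hyP hyo)
  intro u hu
  have := key hu
  rw [Subgroup.mem_centralizer_iff] at this
  exact this y rfl

end STRUCT

end Cfsg.Agent.S3001P
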