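import Mathlib
import Cfsg.Agent.Helper10.S3001S3Ccore

/-! Piece S3C of the board `s3001pieces` (S3001 endgame, driver helper23). Self-contained: contains its own copy of the small
lemma G3R (as `S3C_aux_g3r`), so that it does not wait for that row. -/

set_option autoImplicit false
set_option linter.unusedSectionVars false

namespace Cfsg.Agent.S3001P

open Cfsg.Agent.S2789P Cfsg.Agent.S2999P Cfsg.Agent.S3000P Cfsg.Agent.S3001P

universe u

variable {G : Type u} [Group G] [Finite G] {p : ℕ} [Fact p.Prime] {V P : Subgroup G}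

/-- own copy of G3R: a `p'`-element of `P` acting trivially on `v` modulo `R` centralises `v`. -/
theorem S3C_aux_g3r (H : Hyp1 p V P) {x v : G} (hx : x ∈ P) (hxo : (orderOf x).Coprime p) (hv : v ∈ V)
    (hz : x * v * x⁻¹ * v⁻¹ ∈ V0 p V P) : x * v = v * x := by
  set z := x * v * x⁻¹ * v⁻¹ with hzdef
  have hz' : z ∈ fixV V (OpP p P) := hz
  rw [mem_fix] at hz'
  have hxz : x * z = z * x := hz'.2 x (mem_OpP_of_coprime hx hxo)
  have hcv : x * v * x⁻¹ = z * v := by rw [hzdef]; group
  have hpow := S2a_aux_pow hxz hcv (orderOf x)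
  rw [pow_orderOf_eq_one] at hpow
  have hzk : z ^ orderOf x = 1 := by
    have : v = z ^ orderOf x * v := by simpa using hpow
    have h2 : z ^ orderOf x * v = 1 * v := by rw [one_mul]; exact this.symm
    exact mul_right_cancel h2
  have hzp : z ^ p = 1 := H.hV.2 z hz'.1
  have hz1 : z = 1 := by
    have h1 : orderOf z ∣ orderOf x := orderOf_dvd_of_pow_eq_one hzk
    have h2 : orderOf z ∣ p := orderOf_dvd_of_pow_eq_one hzp
    have h3 : orderOf z ∣ Nat.gcd (orderOf x) p := Nat.dvd_gcd h1 h2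
    rw [Nat.Coprime] at hxo
    rw [hxo] at h3
    exact orderOf_eq_one_iff.mp (Nat.dvd_one.mp h3)
  have : x * v * x⁻¹ = v := by rw [hcv, hz1, one_mul]
  calc x * v = (x * v * x⁻¹) * x := by group
    _ = v * x := by rw [this]

section STRUCT
variable {r : ℕ} {E : Fin r → Subgroup G}

/-- S3C (M): a `p'`-element of `E j` (`j ≠ i`) centralises `[V, E i] R` (it is trivial on it modulo `R` by clause 8 and on `R`; G3R). -/
theorem S3C (H : Hyp1 p V P) (T : Sylow p ↥P) (hC : ConclPBB p (V0 p V P) V P (TT T) r E) {i j : Fin r} (hij : i ≠ j) {y : G} (hy : y ∈ E j)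
    (hyo : (orderOf y).Coprime p) : ∀ u ∈ ⁅V, E i⁆ ⊔ V0 p V P, y * u = u * y :=
  S3C_aux_core (fun hx hxo hv hz => S3C_aux_g3r H hx hxo hv hz) H T hC hij hy hyo

end STRUCT

end Cfsg.Agent.S3001P
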