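import Mathlib
import Cfsg.Agent.Helper2.S3086Defs
import Cfsg.Agent.Helper2.S3086Basic
import Cfsg.Agent.Helper7.Quasisimple
import Cfsg.Agent.S0144

/-! S3086 board, row QS3: `QS_not_23` (Burnside: `K / Z(K)` is not a `{2,3}`-group). -/

set_option autoImplicit false

namespace Cfsg.Agent.S3086P

/-- a natural number all of whose prime divisors are `2` or `3` is `2 ^ a * 3 ^ b`. -/
theorem QS3_aux_two_three {n : ℕ} (hn : n ≠ 0) (h : ∀ r : ℕ, r.Prime → r ∣ n → r = 2 ∨ r = 3) :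
    ∃ a b : ℕ, n = 2 ^ a * 3 ^ b := by
  obtain ⟨a, m, hm, rfl⟩ := Nat.exists_eq_pow_mul_and_not_dvd hn 2 (by norm_num)
  have hm0 : m ≠ 0 := by
    rintro rfl
    simp at hn
  obtain ⟨b, m', hm', rfl⟩ := Nat.exists_eq_pow_mul_and_not_dvd hm0 3 (by norm_num)
  refine ⟨a, b, ?_⟩
  have hm'1 : m' = 1 := by
    by_contra hne
    obtain ⟨r, hr, hrd⟩ := Nat.exists_prime_and_dvd hne
    have hrn : r ∣ 2 ^ a * (3 ^ b * m') :=
      Dvd.dvd.mul_left (Dvd.dvd.mul_left hrd _) _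
    rcases h r hr hrn with rfl | rfl
    · exact hm (Dvd.dvd.mul_left hrd _)
    · exact hm' hrd
  rw [hm'1, mul_one]

/-- abstract form of `QS_not_23`. -/
theorem QS3_aux_abs {X : Type*} [Group X] [Finite X] (hX : Cfsg.IsQuasisimple X) :
    ∃ x : X, Odd (orderOf x) ∧ x ^ 3 ∉ Subgroup.center X := by
  by_contra hcon
  push Not at hcon
  apply Cfsg.Agent.Helper7.IsQuasisimple.not_isSolvable hX
  -- primes dividing `|X / Z|`
  have hprime : ∀ r : ℕ, r.Prime → r ∣ Nat.card (X ⧸ Subgroup.center X) → r = 2 ∨ r = 3 := by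
    intro r hr hrd
    have : Fact r.Prime := ⟨hr⟩
    obtain ⟨q, hq⟩ := exists_prime_orderOf_dvd_card' r hrd
    obtain ⟨k, rfl⟩ := QuotientGroup.mk_surjective q
    have hk0 : orderOf k ≠ 0 := (orderOf_pos k).ne'
    obtain ⟨v, m, hm, hkm⟩ := Nat.exists_eq_two_pow_mul_odd hk0
    have hxo : orderOf (k ^ (2 ^ v)) = m := by
      rw [orderOf_pow' k (pow_ne_zero v two_ne_zero), hkm]
      have : Nat.gcd (2 ^ v * m) (2 ^ v) = 2 ^ v := Nat.gcd_eq_right (Dvd.intro _ rfl)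
      rw [this]
      exact Nat.mul_div_cancel_left m (pow_pos two_pos v)
    have hx3 : (k ^ (2 ^ v)) ^ 3 ∈ Subgroup.center X := hcon _ (hxo ▸ hm)
    have hq1 : (QuotientGroup.mk k : X ⧸ Subgroup.center X) ^ (2 ^ v * 3) = 1 := by
      rw [← QuotientGroup.mk_pow, pow_mul]
      exact (QuotientGroup.eq_one_iff _).mpr hx3
    have hdvd : r ∣ 2 ^ v * 3 := by
      rw [← hq]
      exact orderOf_dvd_of_pow_eq_one hq1
    rcases (Nat.Prime.dvd_mul hr).mp hdvd with h2 | h3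
    · left
      exact (Nat.prime_dvd_prime_iff_eq hr Nat.prime_two).mp (hr.dvd_of_dvd_pow h2)
    · right
      exact (Nat.prime_dvd_prime_iff_eq hr Nat.prime_three).mp h3
  obtain ⟨a, b, hab⟩ := QS3_aux_two_three (Nat.card_pos (α := X ⧸ Subgroup.center X)).ne' hprime
  have hsolvQ : Group.IsSolvable (X ⧸ Subgroup.center X) :=
    Cfsg.Agent.S0144.result 2 3 a b Nat.prime_two Nat.prime_three hab
  have hsolvZ : Group.IsSolvable ↥(Subgroup.center X) := by
    apply Group.isSolvable_of_comm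
    rintro ⟨z, hz⟩ ⟨w, hw⟩
    apply Subtype.ext
    exact ((Subgroup.mem_center_iff.mp hz) w).symm
  exact (Group.isSolvable_iff_subgroup_quotient (Subgroup.center X)).mpr ⟨hsolvZ, hsolvQ⟩

section QS
variable {G : Type*} [Group G] {K : Subgroup G}

/-- QSh (M): Burnside: `K / Z(K)` is not a `{2,3}`-group: some `x ∈ K` of odd order has `x³ ∉ Z(K)`. (S0144) -/
theorem QS_not_23 [Finite G] (hK : Cfsg.IsQuasisimple ↥K) :
    ∃ x ∈ K, Odd (orderOf x) ∧ ∃ y ∈ K, x ^ 3 * y ≠ y * x ^ 3 := by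
  obtain ⟨x, hxo, hx3⟩ := QS3_aux_abs hK
  refine ⟨(x : G), x.2, ?_, ?_⟩
  · rw [Subgroup.orderOf_coe]; exact hxo
  · by_contra hcon
    push Not at hcon
    apply hx3
    rw [Subgroup.mem_center_iff]
    intro y
    apply Subtype.ext
    have := hcon (y : G) y.2
    simpa using this.symm

end QS

end Cfsg.Agent.S3086P
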