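import Mathlib
import Cfsg.Agent.Helper16.S3174Defs
import Cfsg.Agent.Helper23.S3174MSUB

/-!
# S3174 piece KT (core, CCARD bound as hypothesis) : `K_t = {⁅x,t⁆ z}` is a subgroup of order `≥ 2^7` inside `C_t`
-/

set_option autoImplicit false

namespace Cfsg.Agent.S3174P

open scoped commutatorElement

variable {T : Type*} [Group T] [Finite T]

omit [Finite T] in
/-- `⁅x, t⁆ ∈ W` for `x ∈ W` normal. -/
theorem KT_aux_comm_mem {W : Subgroup T} (hn : W.Normal) (x t : T) (hx : x ∈ W) : ⁅x, t⁆ ∈ W := by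
  have h : ⁅x, t⁆ = x * (t * x⁻¹ * t⁻¹) := by
    simp only [commutatorElement_def]; group
  rw [h]
  exact W.mul_mem hx (hn.conj_mem _ (W.inv_mem hx) t)

/-- the homomorphism `x ↦ ⁅x,t⁆ Z` from `W` to `T ⧸ Z_3` -/
noncomputable def KT_aux_hom {W : Subgroup T} (c : Cfg T W) (t : T) : ↥W →* T ⧸ (Zi T 3) :=
  MonoidHom.mk' (fun x => ((⁅(x : T), t⁆ : T) : T ⧸ (Zi T 3))) (by
    intro x y
    have ha : ⁅(x : T), t⁆ ∈ W := KT_aux_comm_mem c.nW x t x.2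
    have hb : ⁅(y : T), t⁆ ∈ W := KT_aux_comm_mem c.nW y t y.2
    rw [← QuotientGroup.mk_mul, eq_comm, QuotientGroup.eq]
    have hid : (⁅(x : T), t⁆ * ⁅(y : T), t⁆)⁻¹ * ⁅((x * y : ↥W) : T), t⁆ =
        ((⁅(x : T), t⁆ * ⁅(y : T), t⁆)⁻¹ * ⁅(x : T), ⁅(y : T), t⁆⁆ * (⁅(x : T), t⁆ * ⁅(y : T), t⁆)) *
          ⁅(⁅(y : T), t⁆)⁻¹, (⁅(x : T), t⁆)⁻¹⁆ := by
      simp only [Subgroup.coe_mul, commutatorElement_def]; group
    rw [hid]
    refine (Zi T 3).mul_mem ?_ (c.cm _ (W.inv_mem hb) _ (W.inv_mem ha))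
    have h1 : ⁅(x : T), ⁅(y : T), t⁆⁆ ∈ Zi T 3 := c.cm _ x.2 _ hb
    have := (inferInstance : (Zi T 3).Normal).conj_mem _ h1 (⁅(x : T), t⁆ * ⁅(y : T), t⁆)⁻¹
    simpa [mul_assoc] using this)

theorem KT_aux_hom_apply {W : Subgroup T} (c : Cfg T W) (t : T) (x : ↥W) :
    KT_aux_hom c t x = ((⁅(x : T), t⁆ : T) : T ⧸ (Zi T 3)) := rfl

/-- `⁅t, ⁅x,t⁆⁆ ∈ Z_3` when `t * t ∈ W`. -/
theorem KT_aux_double {W : Subgroup T} (c : Cfg T W) (t : T) (htt : t * t ∈ W) (x : T) (hx : x ∈ W) :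
    ⁅t, ⁅x, t⁆⁆ ∈ Zi T 3 := by
  -- u = t x t⁻¹, ⁅t,⁅x,t⁆⁆ = (u x⁻¹) * ⁅t*t, x⁆⁻¹ * (u x⁻¹)
  have hu : t * x * t⁻¹ * x⁻¹ ∈ W :=
    W.mul_mem (c.nW.conj_mem _ hx t) (W.inv_mem hx)
  have hz : (⁅t * t, x⁆)⁻¹ ∈ Zi T 3 := (Zi T 3).inv_mem (c.cm _ htt _ hx)
  have hid : ⁅t, ⁅x, t⁆⁆ = (t * x * t⁻¹ * x⁻¹) * (⁅t * t, x⁆)⁻¹ * (t * x * t⁻¹ * x⁻¹) := by
    simp only [commutatorElement_def]; group
  -- Z central in W
  have hcen : ∀ z ∈ Zi T 3, ∀ w ∈ W, w * z = z * w := by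
    intro z hz w hw
    have : w ∈ Subgroup.centralizer ((Zi T 3 : Subgroup T) : Set T) := c.hW ▸ hw
    exact (Subgroup.mem_centralizer_iff.mp this z hz).symm
  rw [hid, hcen _ hz _ hu, mul_assoc]
  refine (Zi T 3).mul_mem hz ?_
  have := c.sq _ hu
  simpa [pow_two] using this

/-- KT core: `kt_exists` with the CCARD bound `|C_t| ≤ 2^7` as a hypothesis. -/
theorem KT_aux_core {W : Subgroup T} (c : Cfg T W) (t : T) (ht : t ∈ Mc T) (htW : t ∉ W)
    (hct : Nat.card ↥(fixMod W (Zi T 3) (Subgroup.zpowers t)) ≤ 128) :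
    ∃ K : Subgroup T, (∀ y, y ∈ K ↔ ∃ x ∈ W, ∃ z ∈ Zi T 3, y = ⁅x, t⁆ * z) ∧ 2 ^ 7 ≤ Nat.card ↥K ∧
      K ≤ fixMod W (Zi T 3) (Subgroup.zpowers t) := by
  classical
  set Z : Subgroup T := Zi T 3 with hZdef
  set ψ := KT_aux_hom c t with hψ
  set K : Subgroup T := ψ.range.comap (QuotientGroup.mk' Z) with hK
  have hmem : ∀ y, y ∈ K ↔ ∃ x ∈ W, ∃ z ∈ Zi T 3, y = ⁅x, t⁆ * z := by
    intro y
    constructor
    · intro hy
      rw [hK, Subgroup.mem_comap] at hy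
      obtain ⟨x, hx⟩ := hy
      rw [hψ, KT_aux_hom_apply] at hx
      have hx' : ((⁅(x : T), t⁆ : T) : T ⧸ Z) = ((y : T) : T ⧸ Z) := hx
      rw [QuotientGroup.eq] at hx'
      exact ⟨x, x.2, _, hx', by group⟩
    · rintro ⟨x, hx, z, hz, rfl⟩
      rw [hK, Subgroup.mem_comap]
      refine ⟨⟨x, hx⟩, ?_⟩
      rw [hψ, KT_aux_hom_apply]
      show ((⁅x, t⁆ : T) : T ⧸ Z) = ((⁅x, t⁆ * z : T) : T ⧸ Z)
      rw [QuotientGroup.eq]
      have : (⁅x, t⁆)⁻¹ * (⁅x, t⁆ * z) = z := by group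
      rw [this]; exact hz
  refine ⟨K, hmem, ?_, ?_⟩
  · -- cardinality
    have hsurj : Function.Surjective (QuotientGroup.mk' Z) := QuotientGroup.mk'_surjective Z
    have h1 : K.index = ψ.range.index := Subgroup.index_comap_of_surjective _ hsurj
    have h2 : Nat.card ↥K * K.index = Nat.card T := Subgroup.card_mul_index K
    have h3 : Nat.card ↥ψ.range * ψ.range.index = Nat.card (T ⧸ Z) := Subgroup.card_mul_index _
    have h4 : Nat.card T = Nat.card (T ⧸ Z) * Nat.card ↥Z :=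
      Subgroup.card_eq_card_quotient_mul_card_subgroup Z
    have h5 : Nat.card ↥ψ.ker * ψ.ker.index = Nat.card ↥W := Subgroup.card_mul_index _
    have h6 : ψ.ker.index = Nat.card ↥ψ.range := Subgroup.index_ker ψ
    have hZ8 : Nat.card ↥Z = 8 := c.c3
    have hW : Nat.card ↥W = 2 ^ 11 := c.cW
    -- kernel bound
    have hker : Nat.card ↥ψ.ker ≤ 128 := by
      refine le_trans ?_ hct
      refine Nat.card_le_card_of_injective
        (fun x : ↥ψ.ker => (⟨((x : ↥W) : T), ?_⟩ : ↥(fixMod W (Zi T 3) (Subgroup.zpowers t)))) ?_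
      · rw [mem_fixMod_zpowers]
        refine ⟨(x : ↥W).2, ?_⟩
        have hx : ψ (x : ↥W) = 1 := MonoidHom.mem_ker.mp x.2
        have hx2 : ((⁅((x : ↥W) : T), t⁆ : T) : T ⧸ (Zi T 3)) = 1 := hx
        have hx' : ⁅((x : ↥W) : T), t⁆ ∈ Zi T 3 := (QuotientGroup.eq_one_iff _).mp hx2
        have := (Zi T 3).inv_mem hx'
        rwa [commutatorElement_inv] at this
      · intro x y hxy
        have : ((x : ↥W) : T) = ((y : ↥W) : T) := by
          simpa using congrArg (fun u : ↥(fixMod W (Zi T 3) (Subgroup.zpowers t)) => (u : T)) hxy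
        exact Subtype.ext (Subtype.ext this)
    have hidxpos : 0 < ψ.range.index := by
      have : ψ.range.index ≠ 0 := Subgroup.index_ne_zero_of_finite
      omega
    -- |K| = |range| * 8
    have hKcard : Nat.card ↥K = Nat.card ↥ψ.range * 8 := by
      have : Nat.card ↥K * ψ.range.index = (Nat.card ↥ψ.range * 8) * ψ.range.index := by
        rw [← h1, h2, h4, ← h3, hZ8, h1]; ring
      exact Nat.eq_of_mul_eq_mul_right hidxpos this
    have hrange : 16 ≤ Nat.card ↥ψ.range := by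
      by_contra hlt
      have hlt' : Nat.card ↥ψ.range ≤ 15 := by omega
      have : Nat.card ↥ψ.ker * Nat.card ↥ψ.range ≤ 128 * 15 :=
        Nat.mul_le_mul hker hlt'
      rw [← h6, h5, hW] at this
      norm_num at this
    rw [hKcard]
    omega
  · intro y hy
    obtain ⟨x, hx, z, hz, rfl⟩ := (hmem y).mp hy
    have htt : t * t ∈ W := (msub c).2.2.1 t ht
    refine (fixMod W (Zi T 3) (Subgroup.zpowers t)).mul_mem ?_ ?_
    · rw [mem_fixMod_zpowers]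
      exact ⟨KT_aux_comm_mem c.nW x t hx, KT_aux_double c t htt x hx⟩
    · rw [mem_fixMod_zpowers]
      refine ⟨c.ZW hz, ?_⟩
      have h : ⁅t, z⁆ = (t * z * t⁻¹) * z⁻¹ := by
        simp only [commutatorElement_def]
      rw [h]
      exact (Zi T 3).mul_mem ((inferInstance : (Zi T 3).Normal).conj_mem _ hz t) ((Zi T 3).inv_mem hz)

end Cfsg.Agent.S3174P
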