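import Mathlib
import Cfsg.Agent.Helper16.S3174Defs
import Cfsg.Agent.Helper27.S3174FIXPT
import Cfsg.Agent.Helper26.Basic

/-!
# S3174 piece LEMAP (hedge) : Lemma A'
-/

set_option autoImplicit false

namespace Cfsg.Agent.S3174P

open scoped commutatorElement

/-- conjugate of a subgroup -/
abbrev LEMAP_aux_cj {T : Type*} [Group T] (g : T) (H : Subgroup T) : Subgroup T :=
  H.map (MulAut.conj g).toMonoidHom

theorem LEMAP_aux_mem_cj {T : Type*} [Group T] (g : T) (H : Subgroup T) (x : T) :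
    x ∈ LEMAP_aux_cj g H ↔ g⁻¹ * x * g ∈ H := by
  constructor
  · rintro ⟨h, hh, rfl⟩
    have : g⁻¹ * ((MulAut.conj g).toMonoidHom h) * g = h := by
      simp [MulAut.conj_apply]; group
    rw [this]; exact hh
  · intro hx
    refine ⟨g⁻¹ * x * g, hx, ?_⟩
    simp [MulAut.conj_apply]; group

/-- `H ∪ Hy` as a subgroup, when `y` normalizes `H` and `y * y ∈ H` -/
def LEMAP_aux_ext {T : Type*} [Group T] (H : Subgroup T) (y : T)
    (hn : ∀ h ∈ H, y * h * y⁻¹ ∈ H) (hn' : ∀ h ∈ H, y⁻¹ * h * y ∈ H) (hy2 : y * y ∈ H) : Subgroup T where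
  carrier := {x | x ∈ H ∨ x * y⁻¹ ∈ H}
  one_mem' := Or.inl H.one_mem
  mul_mem' := by
    rintro a b (ha | ha) (hb | hb)
    · exact Or.inl (H.mul_mem ha hb)
    · refine Or.inr ?_
      have : a * b * y⁻¹ = a * (b * y⁻¹) := by group
      rw [this]; exact H.mul_mem ha hb
    · refine Or.inr ?_
      have : a * b * y⁻¹ = (a * y⁻¹) * (y * b * y⁻¹) := by group
      rw [this]; exact H.mul_mem ha (hn b hb)
    · refine Or.inl ?_
      have : a * b = (a * y⁻¹) * (y * (b * y⁻¹) * y⁻¹) * (y * y) := by group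
      rw [this]; exact H.mul_mem (H.mul_mem ha (hn _ hb)) hy2
  inv_mem' := by
    rintro a (ha | ha)
    · exact Or.inl (H.inv_mem ha)
    · refine Or.inr ?_
      have : a⁻¹ * y⁻¹ = (y⁻¹ * (a * y⁻¹)⁻¹ * y) * (y * y)⁻¹ := by group
      rw [this]; exact H.mul_mem (hn' _ (H.inv_mem ha)) (H.inv_mem hy2)

/-- LEMAP (Lemma A'): `G ≤ T` acts on the elementary abelian section `Y/Z`, `N ⊴ G` acts trivially,
`C/Z` are the fixed points: `|Y : Z| ≤ |C : Z| ^ |G : N|`. -/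
theorem lemAp {T : Type*} [Group T] [Finite T] (hT : IsPGroup 2 T) (Z Y C G N : Subgroup T)
    (hZY : Z ≤ Y)
    (hZn : ∀ g ∈ G, ∀ z ∈ Z, g * z * g⁻¹ ∈ Z)
    (hYn : ∀ g ∈ G, ∀ y ∈ Y, g * y * g⁻¹ ∈ Y)
    (hsq : ∀ y ∈ Y, y ^ 2 ∈ Z) (hcm : ∀ y ∈ Y, ∀ y' ∈ Y, ⁅y, y'⁆ ∈ Z)
    (hNG : N ≤ G) (hNn : ∀ g ∈ G, ∀ n ∈ N, g * n * g⁻¹ ∈ N)
    (hNY : ∀ n ∈ N, ∀ y ∈ Y, ⁅n, y⁆ ∈ Z)
    (hC : ∀ y, y ∈ C ↔ y ∈ Y ∧ ∀ g ∈ G, ⁅g, y⁆ ∈ Z) :
    Z.relIndex Y ≤ Z.relIndex C ^ N.relIndex G := by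
  classical
  have : Fact (Nat.Prime 2) := ⟨Nat.prime_two⟩
  -- basic facts
  have hZC : Z ≤ C := by
    intro z hz
    rw [hC]
    refine ⟨hZY hz, fun g hg => ?_⟩
    have : ⁅g, z⁆ = (g * z * g⁻¹) * z⁻¹ := by simp only [commutatorElement_def]
    rw [this]; exact Z.mul_mem (hZn g hg z hz) (Z.inv_mem hz)
  have hCY : C ≤ Y := fun y hy => ((hC y).mp hy).1
  -- conjugation by elements of Y preserves any H with Z ≤ H
  have hYnorm : ∀ H : Subgroup T, Z ≤ H → H ≤ Y → ∀ y ∈ Y, ∀ h ∈ H, y * h * y⁻¹ ∈ H := by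
    intro H hZH hHY y hy h hh
    have : y * h * y⁻¹ = ⁅y, h⁆ * h := by simp only [commutatorElement_def]; group
    rw [this]; exact H.mul_mem (hZH (hcm y hy h (hHY hh))) hh
  have hNnorm : ∀ H : Subgroup T, Z ≤ H → H ≤ Y → ∀ n ∈ N, ∀ h ∈ H, n * h * n⁻¹ ∈ H := by
    intro H hZH hHY n hn h hh
    have : n * h * n⁻¹ = ⁅n, h⁆ * h := by simp only [commutatorElement_def]; group
    rw [this]; exact H.mul_mem (hZH (hNY n hn h (hHY hh))) hh
  -- the family of candidate complements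
  let 𝓗 : Set (Subgroup T) := {H | Z ≤ H ∧ H ≤ Y ∧ H ⊓ C ≤ Z}
  have h𝓗fin : 𝓗.Finite := Set.toFinite _
  have h𝓗ne : 𝓗.Nonempty := ⟨Z, le_refl _, hZY, inf_le_left⟩
  obtain ⟨H, hH𝓗, hHmax⟩ := Set.exists_max_image 𝓗 (fun H => Nat.card ↥H) h𝓗fin h𝓗ne
  obtain ⟨hZH, hHY, hHC⟩ := hH𝓗
  -- Y ≤ H ⊔ C
  have hYHC : Y ≤ H ⊔ C := by
    intro y hy
    by_contra hyn
    have hyH : y ∉ H := fun h => hyn ((le_sup_left : H ≤ H ⊔ C) h)
    have hn1 : ∀ h ∈ H, y * h * y⁻¹ ∈ H := hYnorm H hZH hHY y hy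
    have hn2 : ∀ h ∈ H, y⁻¹ * h * y ∈ H := by
      intro h hh
      have := hYnorm H hZH hHY y⁻¹ (Y.inv_mem hy) h hh
      simpa using this
    have hy2 : y * y ∈ H := by
      have := hZH (hsq y hy)
      simpa [pow_two] using this
    set H' := LEMAP_aux_ext H y hn1 hn2 hy2 with hH'
    have hmemH' : ∀ x, x ∈ H' ↔ (x ∈ H ∨ x * y⁻¹ ∈ H) := fun x => Iff.rfl
    have hHH' : H ≤ H' := fun x hx => (hmemH' x).mpr (Or.inl hx)
    have hyH' : y ∈ H' := (hmemH' y).mpr (Or.inr (by simp))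
    have hH'𝓗 : H' ∈ 𝓗 := by
      refine ⟨hZH.trans hHH', ?_, ?_⟩
      · intro x hx
        rcases (hmemH' x).mp hx with h | h
        · exact hHY h
        · have : x = (x * y⁻¹) * y := by group
          rw [this]; exact Y.mul_mem (hHY h) hy
      · intro x hx
        rcases (hmemH' x).mp hx.1 with h | h
        · exact hHC ⟨h, hx.2⟩
        · exfalso
          apply hyn
          have : y = (x * y⁻¹)⁻¹ * x := by group
          rw [this]
          exact (H ⊔ C).mul_mem ((le_sup_left : H ≤ H ⊔ C) (H.inv_mem h))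
            ((le_sup_right : C ≤ H ⊔ C) hx.2)
    have hlt : H < H' := lt_of_le_of_ne hHH' (fun h => hyH (h ▸ hyH'))
    have hcardlt : Nat.card ↥H < Nat.card ↥H' := by
      have hle := Subgroup.card_le_of_le hHH'
      rcases lt_or_eq_of_le hle with h | h
      · exact h
      · exact absurd (Subgroup.eq_of_le_of_card_ge hHH' (le_of_eq h.symm)) (ne_of_lt hlt)
    have hmx : Nat.card ↥H' ≤ Nat.card ↥H := hHmax H' hH'𝓗
    omega
  -- cardinalities: |Y| * |Z| ≤ |H| * |C|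
  have hHCeq : H ⊓ C = Z := le_antisymm hHC (le_inf hZH hZC)
  have hCnormH : C ≤ Subgroup.normalizer (H : Set T) := by
    intro c hc
    rw [Subgroup.mem_normalizer_iff]
    intro h
    constructor
    · intro hh; exact hYnorm H hZH hHY c (hCY hc) h hh
    · intro hh
      have := hYnorm H hZH hHY c⁻¹ (Y.inv_mem (hCY hc)) _ hh
      have e : c⁻¹ * (c * h * c⁻¹) * c⁻¹⁻¹ = h := by group
      rwa [e] at this
  have hprod : Nat.card ↥(C ⊔ H : Subgroup T) * Nat.card ↥(C ⊓ H : Subgroup T) =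
      Nat.card ↥C * Nat.card ↥H := Cfsg.Agent.Helper26.card_sup_mul_card_inf hCnormH
  have hcardY : Nat.card ↥Y * Nat.card ↥Z ≤ Nat.card ↥H * Nat.card ↥C := by
    have h1 : Nat.card ↥Y ≤ Nat.card ↥(C ⊔ H : Subgroup T) :=
      Subgroup.card_le_of_le (by rw [sup_comm]; exact hYHC)
    rw [inf_comm, hHCeq] at hprod
    calc Nat.card ↥Y * Nat.card ↥Z ≤ Nat.card ↥(C ⊔ H : Subgroup T) * Nat.card ↥Z :=
          Nat.mul_le_mul_right _ h1
      _ = Nat.card ↥C * Nat.card ↥H := hprod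
      _ = Nat.card ↥H * Nat.card ↥C := by ring
  have hrel : H.relIndex Y ≤ Z.relIndex C := by
    have e1 := Cfsg.Agent.Helper26.card_mul_relIndex_of_le hHY
    have e2 := Cfsg.Agent.Helper26.card_mul_relIndex_of_le hZC
    have hHpos : 0 < Nat.card ↥H := Nat.card_pos
    have hZpos : 0 < Nat.card ↥Z := Nat.card_pos
    rw [← e1, ← e2] at hcardY
    have : (Nat.card ↥H * Nat.card ↥Z) * H.relIndex Y ≤ (Nat.card ↥H * Nat.card ↥Z) * Z.relIndex C := by
      calc (Nat.card ↥H * Nat.card ↥Z) * H.relIndex Y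
          = Nat.card ↥H * H.relIndex Y * Nat.card ↥Z := by ring
        _ ≤ Nat.card ↥H * (Nat.card ↥Z * Z.relIndex C) := hcardY
        _ = (Nat.card ↥H * Nat.card ↥Z) * Z.relIndex C := by ring
    exact Nat.le_of_mul_le_mul_left this (Nat.mul_pos hHpos hZpos)
  -- the core
  let K : Subgroup T := ⨅ g : ↥G, LEMAP_aux_cj (g : T) H
  have hKmem : ∀ x, x ∈ K ↔ ∀ g : ↥G, (g : T)⁻¹ * x * (g : T) ∈ H := by
    intro x
    simp only [K, Subgroup.mem_iInf, LEMAP_aux_mem_cj]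
  have hZK : Z ≤ K := by
    intro z hz
    rw [hKmem]
    intro g
    have := hZn (g : T)⁻¹ (G.inv_mem g.2) z hz
    simp only [inv_inv] at this
    exact hZH this
  have hKH : K ≤ H := by
    intro x hx
    have := (hKmem x).mp hx 1
    simpa using this
  have hKinv : ∀ a ∈ G, ∀ x ∈ K, a * x * a⁻¹ ∈ K := by
    intro a ha x hx
    rw [hKmem]
    intro g
    have := (hKmem x).mp hx (⟨a, ha⟩⁻¹ * g)
    have e : ((⟨a, ha⟩⁻¹ * g : ↥G) : T)⁻¹ * x * ((⟨a, ha⟩⁻¹ * g : ↥G) : T) =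
        (g : T)⁻¹ * (a * x * a⁻¹) * (g : T) := by
      simp only [Subgroup.coe_mul, Subgroup.coe_inv]; group
    rwa [e] at this
  have hKZ : K = Z := by
    by_contra hne
    have hlt : Z < K := lt_of_le_of_ne hZK (fun h => hne h.symm)
    obtain ⟨y, hyK, hyZ, hyfix⟩ := exists_fixed_mod hT Z K G hlt hKinv
    have hyC : y ∈ C := (hC y).mpr ⟨hHY (hKH hyK), hyfix⟩
    exact hyZ (hHC ⟨hKH hyK, hyC⟩)
  -- conjugates by elements of the same coset of N agree
  have hcjN : ∀ n ∈ N, LEMAP_aux_cj n H = H := by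
    intro n hn
    ext x
    rw [LEMAP_aux_mem_cj]
    constructor
    · intro hx
      have := hNnorm H hZH hHY n hn _ hx
      have e : n * (n⁻¹ * x * n) * n⁻¹ = x := by group
      rwa [e] at this
    · intro hx
      have := hNnorm H hZH hHY n⁻¹ (N.inv_mem hn) _ hx
      simpa using this
  have hcjmul : ∀ a b : T, LEMAP_aux_cj (a * b) H = LEMAP_aux_cj a (LEMAP_aux_cj b H) := by
    intro a b
    ext x
    simp only [LEMAP_aux_mem_cj]
    have e : (a * b)⁻¹ * x * (a * b) = b⁻¹ * (a⁻¹ * x * a) * b := by group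
    rw [e]
  let f : (↥G ⧸ N.subgroupOf G) → Subgroup T := fun q => LEMAP_aux_cj ((q.out : ↥G) : T) H
  have hKf : K = ⨅ q, f q := by
    apply le_antisymm
    · exact le_iInf (fun q => iInf_le (fun g : ↥G => LEMAP_aux_cj (g : T) H) q.out)
    · refine le_iInf (fun g => ?_)
      refine le_trans (iInf_le f (QuotientGroup.mk g)) ?_
      -- f (mk g) = cj g H
      have hmem : ((QuotientGroup.mk g : ↥G ⧸ N.subgroupOf G).out)⁻¹ * g ∈ N.subgroupOf G := by
        rw [← QuotientGroup.eq]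
        exact QuotientGroup.out_eq' _
      have hn : (((QuotientGroup.mk g : ↥G ⧸ N.subgroupOf G).out : ↥G) : T)⁻¹ * (g : T) ∈ N := by
        have := Subgroup.mem_subgroupOf.mp hmem
        simpa using this
      have hg : (g : T) = (((QuotientGroup.mk g : ↥G ⧸ N.subgroupOf G).out : ↥G) : T) *
          ((((QuotientGroup.mk g : ↥G ⧸ N.subgroupOf G).out : ↥G) : T)⁻¹ * (g : T)) := by group
      show f (QuotientGroup.mk g) ≤ LEMAP_aux_cj (g : T) H
      conv_rhs => rw [hg, hcjmul, hcjN _ hn]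
  -- relIndex of conjugates
  have hcjY : ∀ g ∈ G, LEMAP_aux_cj g Y = Y := by
    intro g hg
    ext x
    rw [LEMAP_aux_mem_cj]
    constructor
    · intro hx
      have := hYn g hg _ hx
      have e : g * (g⁻¹ * x * g) * g⁻¹ = x := by group
      rwa [e] at this
    · intro hx
      have := hYn g⁻¹ (G.inv_mem hg) _ hx
      simpa using this
  have hrelcj : ∀ g ∈ G, (LEMAP_aux_cj g H).relIndex Y = H.relIndex Y := by
    intro g hg
    conv_lhs => rw [← hcjY g hg]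
    exact Subgroup.relIndex_map_map_of_injective H Y (MulAut.conj g).injective
  haveI : Fintype (↥G ⧸ N.subgroupOf G) := Fintype.ofFinite _
  calc Z.relIndex Y = (⨅ q, f q).relIndex Y := by rw [← hKf, hKZ]
    _ ≤ ∏ q, (f q).relIndex Y := Subgroup.relIndex_iInf_le f
    _ = ∏ _q : (↥G ⧸ N.subgroupOf G), H.relIndex Y :=
        Finset.prod_congr rfl (fun q _ => hrelcj _ (q.out : ↥G).2)
    _ = H.relIndex Y ^ N.relIndex G := by
        rw [Finset.prod_const, Finset.card_univ, ← Nat.card_eq_fintype_card]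
        rfl
    _ ≤ Z.relIndex C ^ N.relIndex G := Nat.pow_le_pow_left hrel _

end Cfsg.Agent.S3174P
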