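import Mathlib
import Cfsg.Agent.Helper16.S3174Defs
import Cfsg.Agent.Helper8.S3174CCARD
import Cfsg.Agent.Helper10.S3174KTa

/-!
# S3174 piece KT : `K_t = {⁅x,t⁆ z}` is a subgroup of order `≥ 2^7` inside `C_t`
(wrapper of `KT_aux_core` with the CCARD bound `ct_card`)
-/

set_option autoImplicit false

namespace Cfsg.Agent.S3174P

open scoped commutatorElement

variable {T : Type*} [Group T] [Finite T]

/-- KT -/
theorem kt_exists {W : Subgroup T} (c : Cfg T W) (t : T) (ht : t ∈ Mc T) (htW : t ∉ W) :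
    ∃ K : Subgroup T, (∀ y, y ∈ K ↔ ∃ x ∈ W, ∃ z ∈ Zi T 3, y = ⁅x, t⁆ * z) ∧ 2 ^ 7 ≤ Nat.card ↥K ∧
      K ≤ fixMod W (Zi T 3) (Subgroup.zpowers t) :=
  KT_aux_core c t ht htW (ct_card c t ht htW)

end Cfsg.Agent.S3174P
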