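import Mathlib
import Cfsg.Agent.Helper16.S3174Defs
import Cfsg.Agent.Helper23.S3174MSUB
import Cfsg.Agent.Helper10.S3174KTa

/-!
# S3174 piece UHCARD (core, CCARD bounds as hypotheses) : `|Û| ≥ 2^8`
-/

set_option autoImplicit false

namespace Cfsg.Agent.S3174P

open scoped commutatorElement

variable {T : Type*} [Group T] [Finite T]

omit [Finite T] in
/-- UHLE (the trivial half is reproved here only in the form needed): `K_t ≤ Û`. -/
theorem UHCARD_aux_le {W : Subgroup T} (t : T) (ht : t ∈ Mc T) (K : Subgroup T)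
    (hK : ∀ y, y ∈ K ↔ ∃ x ∈ W, ∃ z ∈ Zi T 3, y = ⁅x, t⁆ * z) : K ≤ Uh W := by
  intro y hy
  obtain ⟨x, hx, z, hz, rfl⟩ := (hK y).mp hy
  refine (Uh W).mul_mem ?_ ?_
  · exact (le_sup_right : _ ≤ Uh W) (Subgroup.subset_closure ⟨x, hx, t, ht, rfl⟩)
  · exact (le_sup_left : Zi T 3 ≤ Uh W) hz

omit [Finite T] in
/-- a subgroup `H` with `W ≤ H ≤ M`, `|M : W| = 4`, containing `t, t' ∉ W` with `t⁻¹ t' ∉ W`, is `M`. -/
theorem UHCARD_aux_top {W M H : Subgroup T} (hWH : W ≤ H) (hHM : H ≤ M) (h4 : W.relIndex M = 4)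
    (t t' : T) (ht : t ∈ H) (ht' : t' ∈ H) (htW : t ∉ W) (ht'W : t' ∉ W) (htt' : t⁻¹ * t' ∉ W) :
    M ≤ H := by
  have hmul := Subgroup.relIndex_mul_relIndex W H M hWH hHM
  rw [h4] at hmul
  by_contra hne
  have hb1 : H.relIndex M ≠ 1 := fun h => hne (Subgroup.relIndex_eq_one.mp h)
  have hb0 : H.relIndex M ≠ 0 := by
    intro h; rw [h] at hmul; omega
  have ha0 : W.relIndex H ≠ 0 := by
    intro h; rw [h] at hmul; omega
  have ha : W.relIndex H ≤ 2 := by
    by_contra hgt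
    have h3 : 3 ≤ W.relIndex H := by omega
    have h2 : 2 ≤ H.relIndex M := by omega
    have : 6 ≤ W.relIndex H * H.relIndex M := by nlinarith
    omega
  have ha12 : W.relIndex H = 1 ∨ W.relIndex H = 2 := by omega
  rcases ha12 with h1 | h2
  · exact htW (Subgroup.relIndex_eq_one.mp h1 ht)
  · -- index two
    have hidx : (W.subgroupOf H).index = 2 := h2
    have key := @Subgroup.mul_mem_iff_of_index_two ↥H _ (W.subgroupOf H) hidx
      (⟨t, ht⟩⁻¹ : ↥H) (⟨t', ht'⟩ : ↥H)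
    have hA : ((⟨t, ht⟩⁻¹ : ↥H)) ∉ W.subgroupOf H := by
      rw [Subgroup.mem_subgroupOf]
      intro h
      have : t⁻¹ ∈ W := by simpa using h
      exact htW (by simpa using W.inv_mem this)
    have hB : (⟨t', ht'⟩ : ↥H) ∉ W.subgroupOf H := by
      rw [Subgroup.mem_subgroupOf]
      exact ht'W
    have hprod : (⟨t, ht⟩⁻¹ : ↥H) * (⟨t', ht'⟩ : ↥H) ∈ W.subgroupOf H :=
      key.mpr ⟨fun h => absurd h hA, fun h => absurd h hB⟩
    rw [Subgroup.mem_subgroupOf] at hprod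
    exact htt' (by simpa using hprod)

/-- UHCARD core: `uh_card` with the two CCARD bounds as hypotheses. -/
theorem UHCARD_aux_core {W : Subgroup T} (c : Cfg T W)
    (hcM : Nat.card ↥(fixMod W (Zi T 3) (Mc T)) ≤ 32)
    (hct : ∀ t : T, t ∈ Mc T → t ∉ W →
      Nat.card ↥(fixMod W (Zi T 3) (Subgroup.zpowers t)) ≤ 128) :
    2 ^ 8 ≤ Nat.card ↥(Uh W) := by
  classical
  obtain ⟨hWM, hidx, -, -, -, t, ht, t', ht', htW, ht'W, htt'⟩ := msub c
  obtain ⟨K, hKmem, hKcard, hKle⟩ := KT_aux_core c t ht htW (hct t ht htW)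
  obtain ⟨K', hK'mem, hK'card, hK'le⟩ := KT_aux_core c t' ht' ht'W (hct t' ht' ht'W)
  have hKU : K ≤ Uh W := UHCARD_aux_le t ht K hKmem
  have hK'U : K' ≤ Uh W := UHCARD_aux_le t' ht' K' hK'mem
  by_cases hsub : K' ≤ K
  · exfalso
    -- all equal
    have hC : Nat.card ↥(fixMod W (Zi T 3) (Subgroup.zpowers t)) ≤ 128 := hct t ht htW
    have hC' : Nat.card ↥(fixMod W (Zi T 3) (Subgroup.zpowers t')) ≤ 128 := hct t' ht' ht'W
    have hKC : K = fixMod W (Zi T 3) (Subgroup.zpowers t) :=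
      Subgroup.eq_of_le_of_card_ge hKle (by omega)
    have hKcard' : Nat.card ↥K ≤ 128 := le_trans (Subgroup.card_le_of_le hKle) hC
    have hK'K : K' = K := Subgroup.eq_of_le_of_card_ge hsub (by omega)
    have hK'C : K' = fixMod W (Zi T 3) (Subgroup.zpowers t') :=
      Subgroup.eq_of_le_of_card_ge hK'le (by omega)
    -- K ≤ fixMod W Z M
    have h4 : W.relIndex (Mc T) = 4 := by
      have := Subgroup.relIndex_mul_index hWM
      rw [hidx, c.idx] at this
      omega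
    have hKM : K ≤ fixMod W (Zi T 3) (Mc T) := by
      intro y hy
      have hy1 : y ∈ fixMod W (Zi T 3) (Subgroup.zpowers t) := hKC ▸ hy
      have hy2 : y ∈ fixMod W (Zi T 3) (Subgroup.zpowers t') := by
        rw [← hK'C, hK'K]; exact hy
      rw [mem_fixMod_zpowers] at hy1 hy2
      refine ⟨hy1.1, ?_⟩
      have hle : Mc T ≤ commIn (Zi T 3) y ⊓ Mc T := by
        refine UHCARD_aux_top (W := W) (M := Mc T) ?_ inf_le_right h4 t t' ?_ ?_ htW ht'W htt'
        · intro w hw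
          exact ⟨(mem_commIn _ _ _).mpr (c.cm w hw y hy1.1), hWM hw⟩
        · exact ⟨(mem_commIn _ _ _).mpr hy1.2, ht⟩
        · exact ⟨(mem_commIn _ _ _).mpr hy2.2, ht'⟩
      intro g hg
      exact (mem_commIn _ _ _).mp (hle hg).1
    have := le_trans (Subgroup.card_le_of_le hKM) hcM
    omega
  · -- K < K ⊔ K'
    have hlt : K < K ⊔ K' := lt_of_le_of_ne le_sup_left (fun h => hsub (h ▸ le_sup_right))
    have hle : K ⊔ K' ≤ Uh W := sup_le hKU hK'U
    have hdvd : Nat.card ↥K ∣ Nat.card ↥(K ⊔ K' : Subgroup T) := Subgroup.card_dvd_of_le le_sup_left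
    have hne : Nat.card ↥K ≠ Nat.card ↥(K ⊔ K' : Subgroup T) := by
      intro h
      exact (ne_of_lt hlt) (Subgroup.eq_of_le_of_card_ge le_sup_left (le_of_eq h.symm))
    have hpos : 0 < Nat.card ↥(K ⊔ K' : Subgroup T) := Nat.card_pos
    obtain ⟨k, hk⟩ := hdvd
    have hk2 : 2 ≤ k := by
      rcases k with _ | _ | k
      · rw [hk] at hpos; simp at hpos
      · exact absurd (by rw [hk]; ring) hne
      · omega
    have h1 : 2 ^ 8 ≤ Nat.card ↥(K ⊔ K' : Subgroup T) := by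
      rw [hk]
      calc 2 ^ 8 = 2 ^ 7 * 2 := by norm_num
        _ ≤ Nat.card ↥K * k := Nat.mul_le_mul hKcard hk2
    exact le_trans h1 (Subgroup.card_le_of_le hle)

end Cfsg.Agent.S3174P
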