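import Mathlib
import Cfsg.Agent.Helper16.S3174Defs
import Cfsg.Agent.Helper8.S3174CCARD
import Cfsg.Agent.Helper10.S3174UHCARDa

/-!
# S3174 piece UHCARD : `|Û| ≥ 2^8`
(wrapper of `UHCARD_aux_core` with the CCARD bounds `cM_card`, `ct_card`)
-/

set_option autoImplicit false

namespace Cfsg.Agent.S3174P

open scoped commutatorElement

variable {T : Type*} [Group T] [Finite T]

/-- UHCARD -/
theorem uh_card {W : Subgroup T} (c : Cfg T W) : 2 ^ 8 ≤ Nat.card ↥(Uh W) :=
  UHCARD_aux_core c (cM_card c) (fun t ht htW => ct_card c t ht htW)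

end Cfsg.Agent.S3174P
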