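import Mathlib

set_option autoImplicit false

namespace Cfsg.Agent.S3557P

open MulAction

/-- CLOSE: a fixed-point-free permutation of order dividing `p` that agrees locally with `G` gives, by 2-closure,
a derangement of prime order in `G`. -/
theorem CLOSE {G Ω : Type*} [Group G] [MulAction G Ω] [FaithfulSMul G Ω] [Nonempty Ω]
    (hcl : ∀ σ : Equiv.Perm Ω, (∀ a b : Ω, ∃ g : G, σ a = g • a ∧ σ b = g • b) → ∃ g : G, ∀ a : Ω, σ a = g • a)
    (p : ℕ) (hp : p.Prime) (σ : Equiv.Perm Ω)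
    (hloc : ∀ a b : Ω, ∃ g : G, σ a = g • a ∧ σ b = g • b)
    (hfpf : ∀ x, σ x ≠ x) (hσp : ∀ x, (σ ^ p) x = x) :
    ∃ g : G, (orderOf g).Prime ∧ ∀ ω : Ω, g • ω ≠ ω := by
  obtain ⟨g, hg⟩ := hcl σ hloc
  have hpow : ∀ (k : ℕ) (x : Ω), (σ ^ k) x = g ^ k • x := by
    intro k
    induction k with
    | zero => intro x; simp
    | succ k ih =>
      intro x
      rw [pow_succ, Equiv.Perm.mul_apply, hg x, ih, pow_succ, mul_smul]
  have hgp : g ^ p = 1 :=
    FaithfulSMul.eq_of_smul_eq_smul (α := Ω) (fun x => by rw [← hpow, hσp x, one_smul])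
  have hg1 : g ≠ 1 := by
    rintro rfl
    obtain ⟨x⟩ := ‹Nonempty Ω›
    exact hfpf x (by rw [hg x, one_smul])
  have : Fact p.Prime := ⟨hp⟩
  refine ⟨g, ?_, fun ω h => hfpf ω (by rw [hg ω, h])⟩
  rw [orderOf_eq_prime hgp hg1]
  exact hp

/-- CENT: a nontrivial finite `p`-group has a central element of order `p`. -/
theorem CENT {P : Type*} [Group P] [Finite P] [Nontrivial P] (p : ℕ) [Fact p.Prime] (hP : IsPGroup p P) :
    ∃ z : P, z ∈ Subgroup.center P ∧ orderOf z = p := by
  have hp : p.Prime := Fact.out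
  have : Nontrivial (Subgroup.center P) := hP.center_nontrivial
  have hZp : IsPGroup p (Subgroup.center P) := hP.to_subgroup _
  obtain ⟨n, hn⟩ := IsPGroup.iff_card.1 hZp
  have hn0 : n ≠ 0 := by
    rintro rfl
    have h1 : 1 < Nat.card (Subgroup.center P) := Finite.one_lt_card
    rw [hn, pow_zero] at h1
    omega
  have hdvd : p ∣ Nat.card (Subgroup.center P) := by
    rw [hn]; exact dvd_pow_self p hn0
  obtain ⟨z, hz⟩ := exists_prime_orderOf_dvd_card' p hdvd
  exact ⟨(z : P), z.2, by rw [Subgroup.orderOf_coe]; exact hz⟩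

/-- FIXINV: the fixed point set of a central element is invariant. -/
theorem FIXINV {P Ω : Type*} [Group P] [MulAction P Ω] (z : P) (hz : z ∈ Subgroup.center P) (x : Ω) (g : P) :
    z • (g • x) = g • x ↔ z • x = x := by
  have hc : z * g = g * z := ((Subgroup.mem_center_iff.1 hz) g).symm
  rw [← mul_smul, hc, mul_smul]
  exact (MulAction.injective g).eq_iff

/-- TRANS: a transitive faithful nontrivial `p`-group contains a derangement of order `p`. -/
theorem TRANS {P Ω : Type*} [Group P] [Finite P] [Nontrivial P] [MulAction P Ω] [FaithfulSMul P Ω]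
    [IsPretransitive P Ω] (p : ℕ) [Fact p.Prime] (hP : IsPGroup p P) :
    ∃ g : P, orderOf g = p ∧ ∀ x : Ω, g • x ≠ x := by
  have hp : p.Prime := Fact.out
  obtain ⟨z, hz, hzp⟩ := CENT p hP
  refine ⟨z, hzp, fun x hx => ?_⟩
  have hz1 : z = 1 := by
    apply FaithfulSMul.eq_of_smul_eq_smul (α := Ω)
    intro y
    obtain ⟨g, rfl⟩ := MulAction.exists_smul_eq P x y
    rw [one_smul]
    exact (FIXINV z hz x g).2 hx
  rw [hz1, orderOf_one] at hzp
  exact hp.ne_one hzp.symm

end Cfsg.Agent.S3557P
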