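import Mathlib
import Cfsg.Agent.Helper10.S3557BASE
import Cfsg.Agent.Helper5.S3557ALPHA
import Cfsg.Agent.Helper20.S3557DICH
import Cfsg.Agent.Helper26.S3557DISS
import Cfsg.Agent.Helper3.S3557K1
import Cfsg.Agent.Helper20.S3557MAX
import Cfsg.Agent.Helper19.S3557SPLIT
import Cfsg.Agent.Helper24.S3557WEL
import Cfsg.Agent.Helper11.S3557BETA

set_option autoImplicit false

namespace Cfsg.Agent.S3557P

open MulAction

theorem MAIN_pow {P Ω : Type*} [Group P] [MulAction P Ω] (O : Set Ω) (σ : Equiv.Perm Ω) (z : P)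
    (hO : ∀ x ∈ O, z • x ∈ O) (hσ : ∀ x ∈ O, σ x = z • x) (k : ℕ) :
    ∀ x ∈ O, (σ ^ k) x = z ^ k • x := by
  induction k with
  | zero => intro x _; simp
  | succ k ih =>
    intro x hx
    rw [pow_succ, Equiv.Perm.mul_apply, hσ x hx, ih _ (hO x hx), pow_succ, mul_smul]

theorem MAIN {P Ω : Type*} [Group P] [Finite P] [MulAction P Ω] [FaithfulSMul P Ω] [Finite Ω]
    (p : ℕ) [Fact p.Prime] (hP : IsPGroup p P) (hcard : Nat.card Ω = 2 * p ^ 2)
    (horb : ∀ x : Ω, Nat.card (orbit P x) = p ^ 2) :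
    ∃ σ : Equiv.Perm Ω, (∀ a b : Ω, ∃ g : P, σ a = g • a ∧ σ b = g • b) ∧ (∀ x, σ x ≠ x) ∧
      ∀ x, (σ ^ p) x = x := by
  classical
  have hp : p.Prime := Fact.out
  have hΩ : Nonempty Ω := by
    have : 0 < Nat.card Ω := by rw [hcard]; exact Nat.mul_pos (by norm_num) (pow_pos hp.pos 2)
    exact (Nat.card_pos_iff.1 this).1
  obtain ⟨x0⟩ := hΩ
  have hnt : Nontrivial P := by
    by_contra h
    rw [not_nontrivial_iff_subsingleton] at h
    have h1 : orbit P x0 = {x0} := by
      ext y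
      constructor
      · rintro ⟨g, rfl⟩
        show g • x0 = x0
        rw [Subsingleton.elim g 1, one_smul]
      · rintro rfl; exact mem_orbit_self _
    have h2 := horb x0
    rw [h1, Nat.card_eq_fintype_card, Fintype.card_unique] at h2
    have : 1 < p ^ 2 := Nat.one_lt_pow (by norm_num) hp.one_lt
    omega
  obtain ⟨z, hz, hzp⟩ := CENT p hP
  have hzpow : z ^ p = 1 := by rw [← hzp]; exact pow_orderOf_eq_one z
  have toPermCase : ∀ g : P, g ^ p = 1 → (∀ x : Ω, g • x ≠ x) →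
      ∃ σ : Equiv.Perm Ω, (∀ a b : Ω, ∃ g : P, σ a = g • a ∧ σ b = g • b) ∧ (∀ x, σ x ≠ x) ∧
        ∀ x, (σ ^ p) x = x := by
    intro g hgp hg
    refine ⟨MulAction.toPerm g, fun a b => ⟨g, rfl, rfl⟩, hg, fun x => ?_⟩
    have := MAIN_pow (Set.univ : Set Ω) (MulAction.toPerm g) g (fun _ _ => Set.mem_univ _) (fun _ _ => rfl) p x
      (Set.mem_univ _)
    rw [this, hgp, one_smul]
  by_cases hfix : ∃ b : Ω, z • b = b
  · obtain ⟨b, hzb⟩ := hfix
    have hz1 : z ≠ 1 := by
      intro h; rw [h, orderOf_one] at hzp; exact hp.ne_one hzp.symm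
    obtain ⟨a, hza⟩ : ∃ a : Ω, z • a ≠ a := by
      by_contra h
      simp only [not_exists, not_not] at h
      exact hz1 (FaithfulSMul.eq_of_smul_eq_smul (α := Ω) (fun x => by rw [h x, one_smul]))
    have hab : b ∉ orbit P a := by
      rintro ⟨g, rfl⟩
      exact hza ((FIXINV z hz a g).1 hzb)
    have hsplit := SPLIT p hcard horb a b hab
    have hzO1 : ∀ x ∈ orbit P a, z • x ≠ x := by
      rintro _ ⟨g, rfl⟩ h
      exact hza ((FIXINV z hz a g).1 h)
    by_cases hk : ∃ k : P, k ≠ 1 ∧ ∀ x ∈ orbit P a, k • x = x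
    · obtain ⟨k, hk1, hk⟩ := hk
      obtain ⟨g, hgp, hg⟩ := K1 p hP a b hsplit z hz hzp hzb hza k hk1 hk
      exact toPermCase g hgp hg
    · have hK1 : ∀ k : P, (∀ x ∈ orbit P a, k • x = x) → k = 1 := by
        intro k h
        by_contra h1
        exact hk ⟨k, h1, h⟩
      obtain ⟨M, hMn, hMi, hMa⟩ := MAX p hP a (horb a)
      rcases DICH p M hMn hMi b with hα | hβ
      · exact ALPHA p hP horb M hMi (fun x => (hsplit x).elim (hMa x) (hα x))
      · have htr := BETA p hP horb a b hsplit hab z hz hzp hzb hza hK1 M hMn hMi hMa hβ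
        obtain ⟨w, hw1, hw2⟩ := WEL p hP b (horb b)
        have hinv : ∀ (g : P) (x : Ω), g • x ∈ orbit P a ↔ x ∈ orbit P a := by
          intro g x
          rw [← orbit_eq_iff, orbit_smul, orbit_eq_iff]
        obtain ⟨σ, hσ1, hσ2, hσloc⟩ := DISS (orbit P a) hinv
          (fun v hv u hu u' hu' => htr v ((hsplit v).resolve_left hv) u hu u' hu') z w
        refine ⟨σ, hσloc, ?_, ?_⟩
        · intro x
          by_cases hx : x ∈ orbit P a
          · rw [hσ1 x hx]; exact hzO1 x hx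
          · rw [hσ2 x hx]; exact hw1 x ((hsplit x).resolve_left hx)
        · intro x
          by_cases hx : x ∈ orbit P a
          · rw [MAIN_pow (orbit P a) σ z (fun y hy => (hinv z y).2 hy) hσ1 p x hx, hzpow, one_smul]
          · rw [MAIN_pow (orbit P a)ᶜ σ w (fun y hy => fun h => hy ((hinv w y).1 h)) hσ2 p x hx]
            exact hw2 x ((hsplit x).resolve_left hx)
  · simp only [not_exists] at hfix
    exact toPermCase z hzpow hfix

end Cfsg.Agent.S3557P
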