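import Cfsg.Agent.Helper11.S3786Defs

/-! # S3786, board `s3786pieces`, row That_le (K1) -/

set_option autoImplicit false

namespace Cfsg.Agent.S3786P

open Subgroup

theorem That_le_aux_conj {H : Type*} [Group H] (T : Subgroup H) (p n : ℕ) {t : H} (ht : t ∈ T) :
    ∀ h ∈ That T p n, t * h * t⁻¹ ∈ That T p n := by
  intro h hh
  unfold That at hh ⊢
  induction hh using Subgroup.closure_induction with
  | mem z hz =>
    obtain ⟨w, hw, hord, rfl⟩ := hz
    apply Subgroup.subset_closure
    refine ⟨t * w * t⁻¹, T.mul_mem (T.mul_mem ht hw) (T.inv_mem ht), ?_, ?_⟩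
    · have : t * w * t⁻¹ = MulAut.conj t w := rfl
      rw [this, MulEquiv.orderOf_eq]
      exact hord
    · rw [conj_pow]
  | one => simp
  | mul a b _ _ ha hb =>
    have : t * (a * b) * t⁻¹ = (t * a * t⁻¹) * (t * b * t⁻¹) := by group
    rw [this]
    exact Subgroup.mul_mem _ ha hb
  | inv a _ ha =>
    have : t * a⁻¹ * t⁻¹ = (t * a * t⁻¹)⁻¹ := by group
    rw [this]
    exact Subgroup.inv_mem _ ha

/-- K1. -/
theorem That_le {H : Type*} [Group H] (T : Subgroup H) (p n : ℕ) : That T p n ≤ T ∧ T ≤ normalizer (That T p n : Set H) := by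
  refine ⟨?_, ?_⟩
  · unfold That
    rw [Subgroup.closure_le]
    rintro z ⟨w, hw, _, rfl⟩
    exact T.pow_mem hw _
  · intro t ht
    rw [Subgroup.mem_normalizer_iff]
    intro h
    refine ⟨That_le_aux_conj T p n ht h, fun hh => ?_⟩
    have := That_le_aux_conj T p n (T.inv_mem ht) _ hh
    have e : t⁻¹ * (t * h * t⁻¹) * t⁻¹⁻¹ = h := by group
    rw [e] at this
    exact this

end Cfsg.Agent.S3786P
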