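import Mathlib
import Cfsg.Prelude.Def_Characters
import Cfsg.Agent.Helper24.Generalized
import Cfsg.Agent.Helper24.TIInduction

/-!
# S3805: shared definitions

Model group `Q = D3 × D3` (`D3 = DihedralGroup 3 ≅ S3`), the integer valued class functions
`aZ j = φ ⊗ χ_j`, `bZ i = χ_i ⊗ φ` on `Q`, the configuration structure `Cfg G`
(an embedding `ι : Q →* G` whose image is the normalizer of a Sylow 3-subgroup and whose
3-singular elements form a TI set), TI-induction `Cfg.ind`, and the class-multiplication sums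
`PsiA`, `PsiB`.
-/

namespace Cfsg.Agent.S3805P

open Cfsg

/-- `D3 = S3`. -/
abbrev D3 : Type := DihedralGroup 3

/-- The model group `S3 × S3`. -/
abbrev Q : Type := DihedralGroup 3 × DihedralGroup 3

/-- The integer valued irreducible characters of `D3`: `0` trivial, `1` sign, `2` of degree 2. -/
def chiZ : Fin 3 → D3 → ℤ
  | 0, _ => 1
  | 1, DihedralGroup.r _ => 1
  | 1, DihedralGroup.sr _ => -1
  | 2, DihedralGroup.r i => if i = 0 then 2 else -1
  | 2, DihedralGroup.sr _ => 0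

/-- `φ = χ0 + χ1 - χ2`: value `3` on the two elements of order `3`, `0` elsewhere. -/
def phiZ : D3 → ℤ
  | DihedralGroup.r i => if i = 0 then 0 else 3
  | DihedralGroup.sr _ => 0

/-- The coefficients of `φ = Σ_i eZ i • χ_i`. -/
def eZ : Fin 3 → ℤ
  | 0 => 1
  | 1 => 1
  | 2 => -1

/-- `A_j = φ ⊗ χ_j`. -/
def aZ (j : Fin 3) (q : Q) : ℤ := phiZ q.1 * chiZ j q.2

/-- `B_i = χ_i ⊗ φ`. -/
def bZ (i : Fin 3) (q : Q) : ℤ := chiZ i q.1 * phiZ q.2

/-- Complex version of `aZ`. -/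
def aC (j : Fin 3) (q : Q) : ℂ := (aZ j q : ℂ)

/-- Complex version of `bZ`. -/
def bC (i : Fin 3) (q : Q) : ℂ := (bZ i q : ℂ)

/-- Complex version of `chiZ`. -/
def chiC (i : Fin 3) (t : D3) : ℂ := (chiZ i t : ℂ)

/-- The Sylow 3-subgroup `C3 × C3` of `Q`. -/
def T0 : Subgroup Q :=
  (Subgroup.zpowers (DihedralGroup.r 1 : D3)).prod (Subgroup.zpowers (DihedralGroup.r 1 : D3))

/-- The first factor `D3 × 1` of `Q`. -/
def F1 : Subgroup Q := (⊤ : Subgroup D3).prod ⊥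

/-- The second factor `1 × D3` of `Q`. -/
def F2 : Subgroup Q := (⊥ : Subgroup D3).prod ⊤

/-- `D3 × C3`, the subgroup of index 2 containing the first factor. -/
def F1T : Subgroup Q := (⊤ : Subgroup D3).prod (Subgroup.zpowers (DihedralGroup.r 1 : D3))

/-- `C3 × D3`, the subgroup of index 2 containing the second factor. -/
def F2T : Subgroup Q := (Subgroup.zpowers (DihedralGroup.r 1 : D3)).prod (⊤ : Subgroup D3)

/-- The swap automorphism of `Q`. -/
def swapQ : Q ≃* Q := MulEquiv.prodComm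

theorem swapQ_apply (q : Q) : swapQ q = (q.2, q.1) := rfl

theorem T0_map_swapQ : T0.map swapQ.toMonoidHom = T0 := by
  ext ⟨x, y⟩
  simp only [T0, Subgroup.mem_map, Subgroup.mem_prod, MulEquiv.toMonoidHom_eq_coe,
    MonoidHom.coe_coe, Prod.exists]
  constructor
  · rintro ⟨a, b, ⟨ha, hb⟩, h⟩
    have h' : (b, a) = (x, y) := h
    rw [Prod.mk.injEq] at h'
    rw [← h'.1, ← h'.2]
    exact ⟨hb, ha⟩
  · rintro ⟨hx, hy⟩
    exact ⟨y, x, ⟨hy, hx⟩, rfl⟩

/-- **The configuration.** `ι` embeds `Q = S3 × S3` in `G`; `ι(C3 × C3)` is a Sylow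
3-subgroup of `G`; and the set `ι {q | q * q ≠ 1}` of 3-singular elements of `ι(Q)` is a
TI-set whose normalizer is `ι(Q)`, in the strong form `ti` (which also encodes control of
fusion and `C_G(t) ≤ ι(Q)`). -/
structure Cfg (G : Type*) [Group G] where
  /-- the embedding -/
  ι : Q →* G
  inj : Function.Injective ι
  /-- the Sylow 3-subgroup -/
  P : Sylow 3 G
  hP : (P : Subgroup G) = T0.map ι
  ti : ∀ (g : G) (q q' : Q), q * q ≠ 1 → g * ι q * g⁻¹ = ι q' → g ∈ ι.range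

variable {G : Type*} [Group G]

/-- The configuration with the two factors of `Q` exchanged. -/
def Cfg.swap (c : Cfg G) : Cfg G where
  ι := c.ι.comp swapQ.toMonoidHom
  inj := c.inj.comp swapQ.injective
  P := c.P
  hP := by
    rw [c.hP, ← Subgroup.map_map, T0_map_swapQ]
  ti := by
    intro g q q' hq h
    have hq' : swapQ q * swapQ q ≠ 1 := by
      intro h1
      apply hq
      apply swapQ.injective
      rw [map_mul, h1, map_one]
    have := c.ti g (swapQ q) (swapQ q') hq' h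
    obtain ⟨x, hx⟩ := this
    exact ⟨swapQ.symm x, by simpa using hx⟩

theorem Cfg.swap_ι (c : Cfg G) (q : Q) : c.swap.ι q = c.ι (q.2, q.1) := rfl

theorem Cfg.swap_range (c : Cfg G) : c.swap.ι.range = c.ι.range := by
  ext g
  constructor
  · rintro ⟨q, rfl⟩
    exact ⟨(q.2, q.1), rfl⟩
  · rintro ⟨q, rfl⟩
    exact ⟨(q.2, q.1), rfl⟩

theorem Cfg.swap_map_F1 (c : Cfg G) : F1.map c.swap.ι = F2.map c.ι := by
  ext g
  simp only [Subgroup.mem_map, F1, F2, Subgroup.mem_prod, Subgroup.mem_top, Subgroup.mem_bot,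
    true_and, and_true]
  constructor
  · rintro ⟨q, hq, rfl⟩
    exact ⟨(q.2, q.1), hq, rfl⟩
  · rintro ⟨q, hq, rfl⟩
    exact ⟨(q.2, q.1), hq, rfl⟩

theorem Cfg.swap_map_F2 (c : Cfg G) : F2.map c.swap.ι = F1.map c.ι := by
  ext g
  simp only [Subgroup.mem_map, F1, F2, Subgroup.mem_prod, Subgroup.mem_top, Subgroup.mem_bot,
    true_and, and_true]
  constructor
  · rintro ⟨q, hq, rfl⟩
    exact ⟨(q.2, q.1), hq, rfl⟩
  · rintro ⟨q, hq, rfl⟩
    exact ⟨(q.2, q.1), hq, rfl⟩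

/-- `a = ι (r 1, 1)`, of order 3. -/
def Cfg.a (c : Cfg G) : G := c.ι (DihedralGroup.r 1, 1)
/-- `b = ι (1, r 1)`, of order 3. -/
def Cfg.b (c : Cfg G) : G := c.ι (1, DihedralGroup.r 1)
/-- `u = ι (sr 0, 1)`, an involution inverting `a`, centralizing `b`. -/
def Cfg.u (c : Cfg G) : G := c.ι (DihedralGroup.sr 0, 1)
/-- `v = ι (1, sr 0)`, an involution inverting `b`, centralizing `a`. -/
def Cfg.v (c : Cfg G) : G := c.ι (1, DihedralGroup.sr 0)
/-- `w = u * v = ι (sr 0, sr 0)`, an involution inverting `ι T0`. -/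
def Cfg.w (c : Cfg G) : G := c.ι (DihedralGroup.sr 0, DihedralGroup.sr 0)

theorem Cfg.swap_a (c : Cfg G) : c.swap.a = c.b := rfl
theorem Cfg.swap_b (c : Cfg G) : c.swap.b = c.a := rfl
theorem Cfg.swap_u (c : Cfg G) : c.swap.u = c.v := rfl
theorem Cfg.swap_v (c : Cfg G) : c.swap.v = c.u := rfl
theorem Cfg.swap_w (c : Cfg G) : c.swap.w = c.w := rfl

section Ind

variable [Fintype G]

/-- TI-induction: transport `θ : Q → ℂ` to `ι(Q)` and induce to `G`. -/
noncomputable def Cfg.ind (c : Cfg G) (θ : Q → ℂ) : G → ℂ :=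
  indFun c.ι.range (fun n => θ ((MonoidHom.ofInjective c.inj).symm n))

/-- `A_j^G`. -/
noncomputable def Cfg.A (c : Cfg G) (j : Fin 3) : G → ℂ := c.ind (aC j)

/-- `B_i^G`. -/
noncomputable def Cfg.B (c : Cfg G) (i : Fin 3) : G → ℂ := c.ind (bC i)

variable [Fintype (IrrCharacter G)]

/-- `Ψ^A_j(x,y) = Σ_χ ⟨A_j^G, χ⟩ χ(x) χ(y) / χ(1)`. -/
noncomputable def Cfg.PsiA (c : Cfg G) (j : Fin 3) (x y : G) : ℂ :=
  ∑ χ : IrrCharacter G,
    classInner (c.A j) (χ : G → ℂ) * (χ : G → ℂ) x * (χ : G → ℂ) y / (χ : G → ℂ) 1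

/-- `Ψ^B_i(x,y) = Σ_χ ⟨B_i^G, χ⟩ χ(x) χ(y) / χ(1)`. -/
noncomputable def Cfg.PsiB (c : Cfg G) (i : Fin 3) (x y : G) : ℂ :=
  ∑ χ : IrrCharacter G,
    classInner (c.B i) (χ : G → ℂ) * (χ : G → ℂ) x * (χ : G → ℂ) y / (χ : G → ℂ) 1

end Ind

end Cfsg.Agent.S3805P
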