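import Mathlib
import Cfsg.Agent.Helper10.S3805Defs

/-!
# S3805, piece IND1: basic properties of `Cfg.ind` (explicit formula, generalized characters,
Frobenius reciprocity).
-/

set_option autoImplicit false

namespace Cfsg.Agent.S3805P

open Cfsg Cfsg.Agent.Helper24

open scoped ComplexConjugate

variable {G : Type*} [Group G]

/-- The isomorphism `Q ≃* ι(Q)`. -/
noncomputable def Cfg.IND1_e (c : Cfg G) : Q ≃* c.ι.range := MonoidHom.ofInjective c.inj

theorem Cfg.IND1_e_coe (c : Cfg G) (q : Q) : ((c.IND1_e q : c.ι.range) : G) = c.ι q := rfl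

theorem Cfg.IND1_e_symm (c : Cfg G) (q : Q) (h : c.ι q ∈ c.ι.range) :
    c.IND1_e.symm ⟨c.ι q, h⟩ = q := by
  apply c.IND1_e.injective
  rw [MulEquiv.apply_symm_apply]
  exact Subtype.ext (c.IND1_e_coe q).symm

/-- The transported function on `ι(Q)`. -/
theorem IND1_ebz_ι (c : Cfg G) (θ : Q → ℂ) (q : Q) :
    extendByZero c.ι.range (fun n => θ ((MonoidHom.ofInjective c.inj).symm n)) (c.ι q) = θ q := by
  have h : c.ι q ∈ c.ι.range := ⟨q, rfl⟩
  rw [Cfsg.Agent.Helper8.ebz_mem _ _ h]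
  show θ (c.IND1_e.symm ⟨c.ι q, h⟩) = θ q
  rw [c.IND1_e_symm q h]

theorem IND1_ebz_not_mem (c : Cfg G) (θ : Q → ℂ) {g : G} (hg : g ∉ c.ι.range) :
    extendByZero c.ι.range (fun n => θ ((MonoidHom.ofInjective c.inj).symm n)) g = 0 :=
  Cfsg.Agent.Helper8.ebz_not_mem _ _ hg

theorem IND1_card_range (c : Cfg G) : Nat.card c.ι.range = Nat.card Q :=
  (Nat.card_congr c.IND1_e.toEquiv).symm

variable [Fintype G]

theorem ind_def (c : Cfg G) (θ : Q → ℂ) (g : G) :
    c.ind θ g = (Nat.card Q : ℂ)⁻¹ * ∑ x : G,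
      extendByZero c.ι.range (fun n => θ ((MonoidHom.ofInjective c.inj).symm n))
        (x⁻¹ * g * x) := by
  unfold Cfg.ind
  rw [Cfsg.Agent.Helper8.indFun_def, IND1_card_range]

/-- **IND1.** -/
theorem ind_isGeneralizedCharacter (c : Cfg G) {θ : Q → ℂ} (hθ : IsGeneralizedCharacter Q θ) :
    IsGeneralizedCharacter G (c.ind θ) := by
  unfold Cfg.ind
  apply IsGeneralizedCharacter.indFun
  exact IsGeneralizedCharacter.comp hθ (MonoidHom.ofInjective c.inj).symm.toMonoidHom

/-- **IND1.** Frobenius reciprocity. -/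
theorem classInner_ind (c : Cfg G) (θ : Q → ℂ) (χ : G → ℂ) (hχ : IsClassFunction G χ) :
    classInner (c.ind θ) χ = classInner θ (fun q => χ (c.ι q)) := by
  classical
  haveI : Fintype c.ι.range := Fintype.ofFinite _
  unfold Cfg.ind
  rw [Cfsg.Agent.Helper8.frobenius_reciprocity c.ι.range _ χ hχ]
  unfold classInner
  rw [IND1_card_range]
  congr 1
  rw [← Equiv.sum_comp c.IND1_e.toEquiv]
  refine Finset.sum_congr rfl ?_
  intro q _
  have h1 : (MonoidHom.ofInjective c.inj).symm (c.IND1_e.toEquiv q) = q :=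
    (MonoidHom.ofInjective c.inj).symm_apply_apply q
  show θ ((MonoidHom.ofInjective c.inj).symm (c.IND1_e.toEquiv q)) *
      (starRingEnd ℂ) (χ ((c.IND1_e.toEquiv q : c.ι.range) : G)) = _
  rw [h1]
  rfl

end Cfsg.Agent.S3805P
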