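import Mathlib
import Cfsg.Agent.Helper10.S3805IND1

/-!
# S3805, piece IND2: values of TI-induced class functions.
-/

set_option autoImplicit false

namespace Cfsg.Agent.S3805P

open Cfsg Cfsg.Agent.Helper24

variable {G : Type*} [Group G] [Fintype G]

/-- **IND2.** -/
theorem ind_eq_zero (c : Cfg G) {θ : Q → ℂ} (h0 : ∀ q : Q, q * q = 1 → θ q = 0) (g : G)
    (hg : ∀ (h : G) (q : Q), q * q ≠ 1 → h * g * h⁻¹ ≠ c.ι q) : c.ind θ g = 0 := by
  rw [ind_def]
  have hterm : ∀ x : G, extendByZero c.ι.range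
      (fun n => θ ((MonoidHom.ofInjective c.inj).symm n)) (x⁻¹ * g * x) = 0 := by
    intro x
    by_cases hx : x⁻¹ * g * x ∈ c.ι.range
    · obtain ⟨p, hp⟩ := hx
      rw [← hp, IND1_ebz_ι]
      apply h0
      by_contra hpp
      apply hg x⁻¹ p hpp
      rw [hp, inv_inv]
    · exact IND1_ebz_not_mem c θ hx
  simp_rw [hterm]
  simp

/-- **IND2.** -/
theorem ind_apply_ι (c : Cfg G) {θ : Q → ℂ} (hθ : IsClassFunction Q θ)
    (h0 : ∀ q : Q, q * q = 1 → θ q = 0) (q : Q) : c.ind θ (c.ι q) = θ q := by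
  classical
  by_cases hq : q * q = 1
  · rw [h0 q hq]
    apply ind_eq_zero c h0
    intro h p hp heq
    apply hp
    apply c.inj
    rw [map_mul, map_one, ← heq]
    have : h * c.ι q * h⁻¹ * (h * c.ι q * h⁻¹) = h * (c.ι q * c.ι q) * h⁻¹ := by group
    rw [this, ← map_mul, hq, map_one]
    group
  · rw [ind_def]
    have hterm : ∀ x : G, extendByZero c.ι.range
        (fun n => θ ((MonoidHom.ofInjective c.inj).symm n)) (x⁻¹ * c.ι q * x) =
        if x ∈ c.ι.range then θ q else 0 := by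
      intro x
      by_cases hx : x ∈ c.ι.range
      · rw [if_pos hx]
        obtain ⟨p, rfl⟩ := hx
        have h1 : (c.ι p)⁻¹ * c.ι q * c.ι p = c.ι (p⁻¹ * q * (p⁻¹)⁻¹) := by
          rw [inv_inv, map_mul, map_mul, map_inv]
        rw [h1, IND1_ebz_ι, hθ q p⁻¹]
      · rw [if_neg hx]
        apply IND1_ebz_not_mem
        rintro ⟨p, hp⟩
        apply hx
        have := c.ti x⁻¹ q p hq (by rw [inv_inv]; exact hp.symm)
        simpa using c.ι.range.inv_mem this
    simp_rw [hterm]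
    rw [Finset.sum_ite, Finset.sum_const_zero, add_zero, Finset.sum_const, nsmul_eq_mul]
    have hcard : ((Finset.univ.filter (fun x : G => x ∈ c.ι.range)).card : ℂ) =
        (Nat.card Q : ℂ) := by
      rw [← IND1_card_range c, Nat.card_eq_fintype_card, Fintype.card_subtype]
    rw [hcard, ← mul_assoc]
    have hN0 : (Nat.card Q : ℂ) ≠ 0 := by
      exact_mod_cast (Nat.card_pos (α := Q)).ne'
    rw [inv_mul_cancel₀ hN0, one_mul]

end Cfsg.Agent.S3805P
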