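import Mathlib
import Cfsg.Agent.Helper10.S3805Defs

/-!
# S3805, piece QGRAM: the Gram matrix of the class functions `aC j`, `bC i` on `Q`.
-/

set_option autoImplicit false

namespace Cfsg.Agent.S3805P

open Cfsg Cfsg.Agent.Helper24

open scoped ComplexConjugate

theorem QGRAM_card : Nat.card Q = 36 := by
  rw [Nat.card_eq_fintype_card]
  decide

/-- The inner product of two integer valued functions on `Q`. -/
theorem QGRAM_classInner_int (f g : Q → ℤ) :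
    classInner (fun q => ((f q : ℤ) : ℂ)) (fun q => ((g q : ℤ) : ℂ)) =
      (((∑ q : Q, f q * g q : ℤ)) : ℂ) / 36 := by
  unfold classInner
  rw [QGRAM_card]
  have h : ∀ q : Q, ((f q : ℤ) : ℂ) * conj ((g q : ℤ) : ℂ) = ((f q * g q : ℤ) : ℂ) := by
    intro q
    rw [map_intCast]
    push_cast
    ring
  simp_rw [h]
  rw [← Int.cast_sum]
  push_cast
  ring

theorem QGRAM_aa : ∀ j k : Fin 3, ∑ q : Q, aZ j q * aZ k q = if j = k then 108 else 0 := by
  decide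

theorem QGRAM_bb : ∀ i k : Fin 3, ∑ q : Q, bZ i q * bZ k q = if i = k then 108 else 0 := by
  decide

theorem QGRAM_ab : ∀ j i : Fin 3, ∑ q : Q, aZ j q * bZ i q = 36 * (eZ i * eZ j) := by
  decide

theorem QGRAM_a1 : ∀ j : Fin 3, ∑ q : Q, aZ j q * 1 = if j = 0 then 36 else 0 := by
  decide

theorem QGRAM_b1 : ∀ i : Fin 3, ∑ q : Q, bZ i q * 1 = if i = 0 then 36 else 0 := by
  decide

theorem QGRAM_a_conj : ∀ (j : Fin 3) (g h : Q), aZ j (h * g * h⁻¹) = aZ j g := by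
  decide

theorem QGRAM_b_conj : ∀ (i : Fin 3) (g h : Q), bZ i (h * g * h⁻¹) = bZ i g := by
  decide

theorem QGRAM_a_sq : ∀ (j : Fin 3) (q : Q), q * q = 1 → aZ j q = 0 := by
  decide

theorem QGRAM_b_sq : ∀ (i : Fin 3) (q : Q), q * q = 1 → bZ i q = 0 := by
  decide

/-- **QGRAM.** Inner products in `Q`. -/
theorem q_facts :
    (∀ j : Fin 3, IsClassFunction Q (aC j)) ∧ (∀ i : Fin 3, IsClassFunction Q (bC i)) ∧
    (∀ (j : Fin 3) (q : Q), q * q = 1 → aC j q = 0) ∧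
    (∀ (i : Fin 3) (q : Q), q * q = 1 → bC i q = 0) ∧
    (∀ j k : Fin 3, classInner (aC j) (aC k) = if j = k then 3 else 0) ∧
    (∀ i k : Fin 3, classInner (bC i) (bC k) = if i = k then 3 else 0) ∧
    (∀ j i : Fin 3, classInner (aC j) (bC i) = ((eZ i * eZ j : ℤ) : ℂ)) ∧
    (∀ j : Fin 3, classInner (aC j) (fun _ : Q => (1 : ℂ)) = if j = 0 then 1 else 0) ∧
    (∀ i : Fin 3, classInner (bC i) (fun _ : Q => (1 : ℂ)) = if i = 0 then 1 else 0) ∧
    (∀ (i : Fin 3) (q : Q), bC i q = aC i (q.2, q.1)) := by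
  refine ⟨?_, ?_, ?_, ?_, ?_, ?_, ?_, ?_, ?_, ?_⟩
  · intro j g h
    show ((aZ j (h * g * h⁻¹) : ℤ) : ℂ) = ((aZ j g : ℤ) : ℂ)
    rw [QGRAM_a_conj]
  · intro i g h
    show ((bZ i (h * g * h⁻¹) : ℤ) : ℂ) = ((bZ i g : ℤ) : ℂ)
    rw [QGRAM_b_conj]
  · intro j q hq
    show ((aZ j q : ℤ) : ℂ) = 0
    rw [QGRAM_a_sq j q hq, Int.cast_zero]
  · intro i q hq
    show ((bZ i q : ℤ) : ℂ) = 0
    rw [QGRAM_b_sq i q hq, Int.cast_zero]
  · intro j k
    show classInner (fun q => ((aZ j q : ℤ) : ℂ)) (fun q => ((aZ k q : ℤ) : ℂ)) = _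
    rw [QGRAM_classInner_int, QGRAM_aa]
    split_ifs <;> norm_num
  · intro i k
    show classInner (fun q => ((bZ i q : ℤ) : ℂ)) (fun q => ((bZ k q : ℤ) : ℂ)) = _
    rw [QGRAM_classInner_int, QGRAM_bb]
    split_ifs <;> norm_num
  · intro j i
    show classInner (fun q => ((aZ j q : ℤ) : ℂ)) (fun q => ((bZ i q : ℤ) : ℂ)) = _
    rw [QGRAM_classInner_int, QGRAM_ab]
    push_cast
    ring
  · intro j
    have h1 : (fun _ : Q => (1 : ℂ)) = fun q => (((fun _ : Q => (1 : ℤ)) q : ℤ) : ℂ) := by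
      funext q; simp
    rw [h1]
    show classInner (fun q => ((aZ j q : ℤ) : ℂ)) _ = _
    rw [QGRAM_classInner_int, QGRAM_a1]
    split_ifs <;> norm_num
  · intro i
    have h1 : (fun _ : Q => (1 : ℂ)) = fun q => (((fun _ : Q => (1 : ℤ)) q : ℤ) : ℂ) := by
      funext q; simp
    rw [h1]
    show classInner (fun q => ((bZ i q : ℤ) : ℂ)) _ = _
    rw [QGRAM_classInner_int, QGRAM_b1]
    split_ifs <;> norm_num
  · intro i q
    show ((bZ i q : ℤ) : ℂ) = ((aZ i (q.2, q.1) : ℤ) : ℂ)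
    congr 1
    unfold bZ aZ
    ring

end Cfsg.Agent.S3805P
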