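import Mathlib
import Cfsg.Agent.Helper10.S3805IND2
import Cfsg.Agent.Helper10.S3805QGRAM
import Cfsg.Agent.Helper24.S3805QGEN

/-!
# S3805, piece FACTS: the induced generalized characters `A j`, `B i` of `G`.
-/

set_option autoImplicit false

namespace Cfsg.Agent.S3805P

open Cfsg Cfsg.Agent.Helper24

variable {G : Type*} [Group G] [Fintype G]

theorem FACTS_bC_gen (i : Fin 3) : IsGeneralizedCharacter Q (bC i) := by
  have h := IsGeneralizedCharacter.comp (aC_isGeneralizedCharacter i) swapQ.toMonoidHom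
  have h2 : (fun x : Q => aC i (swapQ.toMonoidHom x)) = bC i := by
    funext q
    exact (q_facts.2.2.2.2.2.2.2.2.2 i q).symm
  rw [h2] at h
  exact h

theorem FACTS_A_gen (c : Cfg G) (j : Fin 3) : IsGeneralizedCharacter G (c.A j) :=
  ind_isGeneralizedCharacter c (aC_isGeneralizedCharacter j)

theorem FACTS_B_gen (c : Cfg G) (i : Fin 3) : IsGeneralizedCharacter G (c.B i) :=
  ind_isGeneralizedCharacter c (FACTS_bC_gen i)

theorem FACTS_const_cf (H : Type*) [Group H] : IsClassFunction H (fun _ : H => (1 : ℂ)) :=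
  fun _ _ => rfl

omit [Fintype G] in
/-- If `g * g = 1`, no conjugate of `g` is a 3-singular element of `ι(Q)`. -/
theorem FACTS_not_conj (c : Cfg G) (g : G) (hg : g * g = 1) (h : G) (q : Q) (hq : q * q ≠ 1) :
    h * g * h⁻¹ ≠ c.ι q := by
  intro heq
  apply hq
  apply c.inj
  rw [map_mul, map_one, ← heq]
  have : h * g * h⁻¹ * (h * g * h⁻¹) = h * (g * g) * h⁻¹ := by group
  rw [this, hg]
  group

/-- **FACTS.** The induced generalized characters `A j`, `B i` of `G`. -/
theorem ind_facts [Fintype (IrrCharacter G)] (c : Cfg G) :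
    (∀ j : Fin 3, IsGeneralizedCharacter G (c.A j)) ∧
    (∀ i : Fin 3, IsGeneralizedCharacter G (c.B i)) ∧
    (∀ j k : Fin 3, classInner (c.A j) (c.A k) = if j = k then 3 else 0) ∧
    (∀ i k : Fin 3, classInner (c.B i) (c.B k) = if i = k then 3 else 0) ∧
    (∀ j i : Fin 3, classInner (c.A j) (c.B i) = ((eZ i * eZ j : ℤ) : ℂ)) ∧
    (∀ j : Fin 3, classInner (c.A j) (fun _ : G => (1 : ℂ)) = if j = 0 then 1 else 0) ∧
    (∀ i : Fin 3, classInner (c.B i) (fun _ : G => (1 : ℂ)) = if i = 0 then 1 else 0) ∧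
    (∀ (j : Fin 3) (g : G), g * g = 1 → c.A j g = 0) ∧
    (∀ (i : Fin 3) (g : G), g * g = 1 → c.B i g = 0) := by
  obtain ⟨haC, hbC, ha0, hb0, haa, hbb, hab, ha1, hb1, -⟩ := q_facts
  have hAι : ∀ (k : Fin 3), (fun q => c.A k (c.ι q)) = aC k := by
    intro k
    funext q
    exact ind_apply_ι c (haC k) (ha0 k) q
  have hBι : ∀ (k : Fin 3), (fun q => c.B k (c.ι q)) = bC k := by
    intro k
    funext q
    exact ind_apply_ι c (hbC k) (hb0 k) q
  refine ⟨FACTS_A_gen c, FACTS_B_gen c, ?_, ?_, ?_, ?_, ?_, ?_, ?_⟩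
  · intro j k
    show classInner (c.ind (aC j)) (c.A k) = _
    rw [classInner_ind c (aC j) (c.A k) (IsGeneralizedCharacter.isClassFunction (FACTS_A_gen c k)), hAι, haa]
  · intro i k
    show classInner (c.ind (bC i)) (c.B k) = _
    rw [classInner_ind c (bC i) (c.B k) (IsGeneralizedCharacter.isClassFunction (FACTS_B_gen c k)), hBι, hbb]
  · intro j i
    show classInner (c.ind (aC j)) (c.B i) = _
    rw [classInner_ind c (aC j) (c.B i) (IsGeneralizedCharacter.isClassFunction (FACTS_B_gen c i)), hBι, hab]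
  · intro j
    show classInner (c.ind (aC j)) _ = _
    rw [classInner_ind c (aC j) _ (FACTS_const_cf G), ha1]
  · intro i
    show classInner (c.ind (bC i)) _ = _
    rw [classInner_ind c (bC i) _ (FACTS_const_cf G), hb1]
  · intro j g hg
    exact ind_eq_zero c (ha0 j) g (FACTS_not_conj c g hg)
  · intro i g hg
    exact ind_eq_zero c (hb0 i) g (FACTS_not_conj c g hg)

end Cfsg.Agent.S3805P
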