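import Mathlib
import Cfsg.Agent.Helper10.S3805Defs

/-!
# S3805, piece INTCOEFF: integer multiplicities of a generalized character.
-/

set_option autoImplicit false

namespace Cfsg.Agent.S3805P

open Cfsg Cfsg.Agent.Helper24

variable {G : Type*} [Group G] [Fintype G]

/-- **INTCOEFF.** Integer multiplicities of a generalized character, with Parseval and
evaluation. -/
theorem exists_int_mult [Fintype (IrrCharacter G)] {Θ : G → ℂ} (hΘ : IsGeneralizedCharacter G Θ) :
    ∃ m : IrrCharacter G → ℤ, (∀ χ : IrrCharacter G, classInner Θ (χ : G → ℂ) = (m χ : ℂ)) ∧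
      (∀ g : G, Θ g = ∑ χ : IrrCharacter G, (m χ : ℂ) * (χ : G → ℂ) g) ∧
      (∀ (Θ' : G → ℂ) (m' : IrrCharacter G → ℤ), IsGeneralizedCharacter G Θ' →
        (∀ χ : IrrCharacter G, classInner Θ' (χ : G → ℂ) = (m' χ : ℂ)) →
        classInner Θ Θ' = ((∑ χ : IrrCharacter G, m χ * m' χ : ℤ) : ℂ)) := by
  obtain ⟨n, hn⟩ := IsGeneralizedCharacter.exists_int_coeff hΘ
  refine ⟨n, ?_, ?_, ?_⟩
  · intro χ
    rw [hn]
    exact classInner_sum_irr _ χ
  · intro g
    rw [hn, Finset.sum_apply]
    refine Finset.sum_congr rfl ?_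
    intro χ _
    rfl
  · intro Θ' m' hΘ' hm'
    have h' : Θ' = ∑ ψ : IrrCharacter G, (m' ψ : ℂ) • (ψ : G → ℂ) := by
      have := IsGeneralizedCharacter.eq_sum_classInner hΘ'
      simp_rw [hm'] at this
      exact this
    rw [hn, h', classInner_sum_sum]
    push_cast
    refine Finset.sum_congr rfl ?_
    intro χ _
    rw [map_intCast]

end Cfsg.Agent.S3805P
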