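import Mathlib
import Cfsg.Agent.Helper10.S3805FACTS

/-!
# S3805, piece PROFILE: values of irreducible characters on `ι (t, r 1)`.
-/

set_option autoImplicit false

namespace Cfsg.Agent.S3805P

open Cfsg Cfsg.Agent.Helper24

open scoped ComplexConjugate

/-- The weight `Σ_i χ_i(t) B_i(q)`. -/
def PROFILE_w (t : D3) (q : Q) : ℤ := ∑ i : Fin 3, chiZ i t * bZ i q

theorem PROFILE_w_conj : ∀ (t : D3) (q : Q), PROFILE_w t q ≠ 0 →
    ∃ h : Q, h * (t, DihedralGroup.r 1) * h⁻¹ = q := by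
  decide

theorem PROFILE_w_sum : ∀ t : D3, ∑ q : Q, PROFILE_w t q = 36 := by
  decide

variable {G : Type*} [Group G] [Fintype G]

/-- **PROFILE.** -/
theorem profile_B [Fintype (IrrCharacter G)] (c : Cfg G) (χ : IrrCharacter G) (t : D3) :
    (χ : G → ℂ) (c.ι (t, DihedralGroup.r 1)) =
      ∑ i : Fin 3, chiC i t * classInner (c.B i) (χ : G → ℂ) := by
  have hχ : IsClassFunction G (χ : G → ℂ) := isClassFunction_irr χ
  -- the inner products, conjugated
  have hinner : ∀ i : Fin 3, classInner (c.B i) (χ : G → ℂ) =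
      (36 : ℂ)⁻¹ * ∑ q : Q, ((bZ i q : ℤ) : ℂ) * (χ : G → ℂ) (c.ι q) := by
    intro i
    obtain ⟨n, hn⟩ := IsGeneralizedCharacter.classInner_irr_int (FACTS_B_gen c i) χ
    have h1 : classInner (c.B i) (χ : G → ℂ) = conj (classInner (c.B i) (χ : G → ℂ)) := by
      rw [hn, map_intCast]
    rw [h1]
    show conj (classInner (c.ind (bC i)) (χ : G → ℂ)) = _
    rw [classInner_ind c (bC i) _ hχ]
    unfold classInner
    rw [QGRAM_card, map_mul, map_sum]
    congr 1
    · rw [map_inv₀]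
      congr 1
      norm_num [map_ofNat]
    · refine Finset.sum_congr rfl ?_
      intro q _
      rw [map_mul, Complex.conj_conj]
      show conj ((bZ i q : ℤ) : ℂ) * _ = _
      rw [map_intCast]
  simp_rw [hinner]
  -- exchange the sums
  have h2 : ∑ i : Fin 3, chiC i t * ((36 : ℂ)⁻¹ * ∑ q : Q, ((bZ i q : ℤ) : ℂ) * (χ : G → ℂ) (c.ι q)) =
      (36 : ℂ)⁻¹ * ∑ q : Q, ((PROFILE_w t q : ℤ) : ℂ) * (χ : G → ℂ) (c.ι q) := by
    simp_rw [Finset.mul_sum]
    rw [Finset.sum_comm]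
    refine Finset.sum_congr rfl ?_
    intro q _
    unfold PROFILE_w
    push_cast
    rw [Finset.sum_mul, Finset.mul_sum]
    refine Finset.sum_congr rfl ?_
    intro i _
    unfold chiC
    ring
  rw [h2]
  have h3 : ∀ q : Q, ((PROFILE_w t q : ℤ) : ℂ) * (χ : G → ℂ) (c.ι q) =
      ((PROFILE_w t q : ℤ) : ℂ) * (χ : G → ℂ) (c.ι (t, DihedralGroup.r 1)) := by
    intro q
    by_cases hw : PROFILE_w t q = 0
    · rw [hw, Int.cast_zero, zero_mul, zero_mul]
    · obtain ⟨h, hh⟩ := PROFILE_w_conj t q hw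
      rw [← hh, map_mul, map_mul, map_inv, hχ]
  simp_rw [h3]
  rw [← Finset.sum_mul, ← Int.cast_sum, PROFILE_w_sum]
  push_cast
  ring

end Cfsg.Agent.S3805P
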