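import Mathlib
import Cfsg.Agent.Helper10.S3805PROFILE
import Cfsg.Agent.Helper5.ClassMul
import Cfsg.Agent.Helper24.Abelian

/-!
# S3805, piece PSI: the class multiplication formula at `ι (t, r 1)`.
-/

set_option autoImplicit false

namespace Cfsg.Agent.S3805P

open Cfsg Cfsg.Agent.Helper24 Cfsg.Agent.Helper5 Subgroup
open Cfsg.Agent.Helper5.ClassMul Cfsg.Agent.Helper5.CC

open scoped ComplexConjugate

variable {G : Type*} [Group G] [Fintype G] [Fintype (IrrCharacter G)]

/-- The class multiplication formula (as in `Helper15.O7920.card_factorizations_gen`). -/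
theorem PSI_card_factorizations (a b x : G) :
    (Nat.card {s : G // IsConj a s ∧ IsConj b (s⁻¹ * x)} : ℂ) * (Nat.card G : ℂ) =
      ((centralizer ({a} : Set G)).index : ℂ) * ((centralizer ({b} : Set G)).index : ℂ) *
        ∑ ψ : IrrCharacter G, (ψ : G → ℂ) a * (ψ : G → ℂ) b *
          (starRingEnd ℂ) ((ψ : G → ℂ) x) / (ψ : G → ℂ) 1 := by
  have hG : (Nat.card G : ℂ) ≠ 0 := by
    have : 0 < Nat.card G := Nat.card_pos
    exact_mod_cast this.ne'
  rw [← conv_classIndicator_apply, conv_classIndicator_eq, mul_comm, ← mul_assoc,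
    mul_inv_cancel₀ hG, one_mul, Finset.mul_sum]
  refine Finset.sum_congr rfl ?_
  intro ψ _
  have h1 : (ψ : G → ℂ) 1 ≠ 0 := by
    rw [irrDeg_spec]
    have := irrDeg_pos ψ
    exact_mod_cast this.ne'
  rw [centralChar_def, centralChar_def]
  field_simp

/-- The value `χ (ι (t, r 1))` is real. -/
theorem PSI_conj_profile (c : Cfg G) (χ : IrrCharacter G) (t : D3) :
    conj ((χ : G → ℂ) (c.ι (t, DihedralGroup.r 1))) =
      ∑ i : Fin 3, chiC i t * classInner (c.B i) (χ : G → ℂ) := by
  rw [profile_B c χ t, map_sum]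
  refine Finset.sum_congr rfl ?_
  intro i _
  obtain ⟨n, hn⟩ := IsGeneralizedCharacter.classInner_irr_int (FACTS_B_gen c i) χ
  rw [map_mul, hn, map_intCast]
  unfold chiC
  rw [map_intCast]

/-- **PSI.** The class multiplication formula at `ι (t, r 1)`. -/
theorem psi_B (c : Cfg G) (x y : G) (t : D3) :
    (Nat.card {s : G // IsConj x s ∧ IsConj y (s⁻¹ * c.ι (t, DihedralGroup.r 1))} : ℂ) *
        (Nat.card G : ℂ) =
      ((Subgroup.centralizer ({x} : Set G)).index : ℂ) *
        ((Subgroup.centralizer ({y} : Set G)).index : ℂ) *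
        ∑ i : Fin 3, chiC i t * c.PsiB i x y := by
  rw [PSI_card_factorizations]
  congr 1
  unfold Cfg.PsiB
  simp_rw [PSI_conj_profile, Finset.mul_sum]
  rw [Finset.sum_comm]
  refine Finset.sum_congr rfl ?_
  intro ψ _
  rw [Finset.sum_div]
  refine Finset.sum_congr rfl ?_
  intro i _
  ring

end Cfsg.Agent.S3805P
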