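import Mathlib
import Cfsg.Agent.Helper10.S3805IND1

/-!
# S3805, piece IND3: multiplication by a class function, and the swapped configuration.
-/

set_option autoImplicit false

namespace Cfsg.Agent.S3805P

open Cfsg Cfsg.Agent.Helper24

variable {G : Type*} [Group G] [Fintype G]

omit [Fintype G] in
/-- The extension by zero of the transported function, as a sum over `Q`. -/
theorem IND3_ebz_eq_sum [DecidableEq G] (c : Cfg G) (θ : Q → ℂ) (y : G) :
    extendByZero c.ι.range (fun n => θ ((MonoidHom.ofInjective c.inj).symm n)) y =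
      ∑ q : Q, if c.ι q = y then θ q else 0 := by
  by_cases hy : y ∈ c.ι.range
  · obtain ⟨p, rfl⟩ := hy
    rw [IND1_ebz_ι]
    rw [Finset.sum_eq_single p]
    · rw [if_pos rfl]
    · intro q _ hqp
      rw [if_neg]
      intro h
      exact hqp (c.inj h)
    · intro h
      exact absurd (Finset.mem_univ p) h
  · rw [IND1_ebz_not_mem c θ hy]
    symm
    apply Finset.sum_eq_zero
    intro q _
    rw [if_neg]
    intro h
    exact hy ⟨q, h⟩

/-- **IND3.** -/
theorem mul_ind (c : Cfg G) (θ : Q → ℂ) (μ : G → ℂ) (hμ : IsClassFunction G μ) :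
    (fun g => μ g * c.ind θ g) = c.ind (fun q => μ (c.ι q) * θ q) := by
  classical
  funext g
  rw [ind_def, ind_def, mul_left_comm, Finset.mul_sum]
  congr 1
  refine Finset.sum_congr rfl ?_
  intro x _
  by_cases hx : x⁻¹ * g * x ∈ c.ι.range
  · obtain ⟨p, hp⟩ := hx
    have hR := IND1_ebz_ι c (fun q => μ (c.ι q) * θ q) p
    beta_reduce at hR
    rw [← hp, IND1_ebz_ι, hR, hp]
    have := hμ g x⁻¹
    rw [inv_inv] at this
    rw [this]
  · have hR := IND1_ebz_not_mem c (fun q => μ (c.ι q) * θ q) hx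
    beta_reduce at hR
    rw [IND1_ebz_not_mem c _ hx, hR, mul_zero]

/-- **IND3.** -/
theorem swap_ind (c : Cfg G) (θ : Q → ℂ) : c.swap.ind θ = c.ind (fun q => θ (q.2, q.1)) := by
  classical
  funext g
  rw [ind_def, ind_def]
  congr 1
  refine Finset.sum_congr rfl ?_
  intro x _
  have hR := IND3_ebz_eq_sum c (fun q => θ (q.2, q.1)) (x⁻¹ * g * x)
  beta_reduce at hR
  rw [IND3_ebz_eq_sum, hR]
  rw [← Equiv.sum_comp swapQ.toEquiv]
  refine Finset.sum_congr rfl ?_
  intro q _
  rfl

end Cfsg.Agent.S3805P
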