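import Mathlib
import Cfsg.Agent.Helper10.S3805IND3
import Cfsg.Agent.Helper10.S3805QGRAM

/-!
# S3805, piece SWAPFACTS: the induced class functions of the swapped configuration.
-/

set_option autoImplicit false

namespace Cfsg.Agent.S3805P

open Cfsg Cfsg.Agent.Helper24

variable {G : Type*} [Group G] [Fintype G]

theorem SWAPFACTS_A (c : Cfg G) (j : Fin 3) : c.swap.A j = c.B j := by
  unfold Cfg.A Cfg.B
  rw [swap_ind]
  congr 1
  funext q
  exact (q_facts.2.2.2.2.2.2.2.2.2 j q).symm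

theorem SWAPFACTS_B (c : Cfg G) (i : Fin 3) : c.swap.B i = c.A i := by
  unfold Cfg.A Cfg.B
  rw [swap_ind]
  congr 1
  funext q
  exact q_facts.2.2.2.2.2.2.2.2.2 i (q.2, q.1)

/-- **SWAPFACTS.** -/
theorem swap_facts [Fintype (IrrCharacter G)] (c : Cfg G) :
    (∀ j : Fin 3, c.swap.A j = c.B j) ∧ (∀ i : Fin 3, c.swap.B i = c.A i) ∧
    (∀ (i : Fin 3) (x y : G), c.swap.PsiB i x y = c.PsiA i x y) ∧
    (∀ (j : Fin 3) (x y : G), c.swap.PsiA j x y = c.PsiB j x y) := by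
  refine ⟨SWAPFACTS_A c, SWAPFACTS_B c, ?_, ?_⟩
  · intro i x y
    unfold Cfg.PsiB Cfg.PsiA
    rw [SWAPFACTS_B]
  · intro j x y
    unfold Cfg.PsiB Cfg.PsiA
    rw [SWAPFACTS_A]

end Cfsg.Agent.S3805P
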