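import Mathlib
import Cfsg.Agent.Helper10.S3805FACTS
import Cfsg.Agent.Helper10.S3805INTCOEFF
import Cfsg.Agent.Helper16.S3805FUSEDABS
import Cfsg.Agent.Helper25.S3805FUSEDPSI
import Cfsg.Agent.Helper24.S3805LAMBDA
import Cfsg.Agent.Helper3.S3805LAMFACTS
import Cfsg.Agent.Helper24.Abelian
import Cfsg.Agent.S0944

/-!
# S3805, piece FUSEDAPP: the fused case is impossible.
-/

set_option autoImplicit false

namespace Cfsg.Agent.S3805P

open Cfsg Cfsg.Agent.Helper24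

open scoped ComplexConjugate

variable {G : Type*} [Group G] [Fintype G] [Fintype (IrrCharacter G)]

theorem FUSEDAPP_chi1_sq : ∀ t : D3, chiZ 1 t * chiZ 1 t = 1 := by decide

theorem FUSEDAPP_chiC1_sq (t : D3) : chiC 1 t * chiC 1 t = 1 := by
  unfold chiC
  rw [← Int.cast_mul, FUSEDAPP_chi1_sq, Int.cast_one]

omit [Fintype (IrrCharacter G)] in
/-- Twisting the second argument of an inner product by the real valued function `chiC 1 ∘ π`. -/
theorem FUSEDAPP_twist (π : G →* D3) (Θ ψ ψ' : G → ℂ)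
    (h : ∀ g, ψ' g = chiC 1 (π g) * ψ g) :
    classInner Θ ψ' = classInner (fun g => chiC 1 (π g) * Θ g) ψ := by
  unfold classInner
  congr 1
  refine Finset.sum_congr rfl ?_
  intro g _
  rw [h g, map_mul]
  have : conj (chiC 1 (π g)) = chiC 1 (π g) := by
    unfold chiC
    rw [map_intCast]
  rw [this]
  ring

/-- Rewriting `Psi` as a rational sum. -/
theorem FUSEDAPP_psi_cast (Θ : G → ℂ) (m : IrrCharacter G → ℤ) (v : IrrCharacter G → ℤ) (u : G)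
    (hm : ∀ χ : IrrCharacter G, classInner Θ (χ : G → ℂ) = (m χ : ℂ))
    (hv : ∀ χ : IrrCharacter G, (χ : G → ℂ) u = (v χ : ℂ)) :
    ∑ χ : IrrCharacter G,
      classInner Θ (χ : G → ℂ) * (χ : G → ℂ) u * (χ : G → ℂ) u / (χ : G → ℂ) 1 =
    ((∑ χ : IrrCharacter G, (m χ : ℚ) * (v χ : ℚ) ^ 2 / (irrDeg χ : ℚ) : ℚ) : ℂ) := by
  push_cast
  refine Finset.sum_congr rfl ?_
  intro χ _
  rw [hm χ, hv χ, irrDeg_spec]
  ring

/-- **FUSEDAPP.** The fused case is impossible. -/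
theorem false_of_fused (c : Cfg G) (π : G →* D3) (hπ : ∀ q : Q, π (c.ι q) = q.1)
    (huw : IsConj c.u c.w) : False := by
  classical
  have hπu : π c.u = DihedralGroup.sr 0 := by
    unfold Cfg.u
    rw [hπ]
  have hπv : π c.v = 1 := by
    unfold Cfg.v
    rw [hπ]
  have huv : ¬ IsConj c.u c.v := by
    intro h
    obtain ⟨g, hg⟩ := isConj_iff.mp h
    have h1 := congrArg π hg
    rw [map_mul, map_mul, map_inv, hπu, hπv] at h1
    have h2 : (DihedralGroup.sr 0 : D3) = 1 := by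
      have h3 : (π g)⁻¹ * (π g * DihedralGroup.sr 0 * (π g)⁻¹) * π g = (π g)⁻¹ * 1 * π g := by
        rw [h1]
      simpa [mul_assoc] using h3
    exact absurd h2 (by decide)
  obtain ⟨κ, hψA0, hψA1, hψB0⟩ := fused_psi c huw huv
  obtain ⟨Λ, hΛ⟩ := exists_Lambda π
  obtain ⟨hlamA, hlamB⟩ := lambda_facts c π hπ
  obtain ⟨hAgen, hBgen, hAA, hBB, hAB, hA1, hB1, hA0, hB0⟩ := ind_facts c
  obtain ⟨mA0, hmA0, hmA0val, hmA0pars⟩ := exists_int_mult (hAgen 0)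
  obtain ⟨mA1, hmA1, hmA1val, hmA1pars⟩ := exists_int_mult (hAgen 1)
  obtain ⟨mB0, hmB0, hmB0val, hmB0pars⟩ := exists_int_mult (hBgen 0)
  obtain ⟨mB1, hmB1, hmB1val, hmB1pars⟩ := exists_int_mult (hBgen 1)
  have huu : c.u * c.u = 1 := by
    unfold Cfg.u
    rw [← map_mul]
    have : ((DihedralGroup.sr 0, 1) : Q) * (DihedralGroup.sr 0, 1) = 1 := by decide
    rw [this, map_one]
  have hu1 : c.u ≠ 1 := by
    intro h
    rw [h, map_one] at hπu
    exact absurd hπu.symm (by decide)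
  have hu2 : orderOf c.u = 2 := by
    apply orderOf_eq_prime
    · rw [pow_two]; exact huu
    · exact hu1
  choose v hv hvpar using fun χ : IrrCharacter G => Cfsg.Agent.S0944.result χ c.u hu2
  have htriv : ((trivIrr G : IrrCharacter G) : G → ℂ) = fun _ => (1 : ℂ) := rfl
  -- properties of Λ
  have hΛΛ : ∀ χ, Λ (Λ χ) = χ := by
    intro χ
    apply Subtype.ext
    funext g
    rw [hΛ (Λ χ) g, hΛ χ g, ← mul_assoc, FUSEDAPP_chiC1_sq, one_mul]
  have hdΛ : ∀ χ, irrDeg (Λ χ) = irrDeg χ := by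
    intro χ
    have h1 := hΛ χ 1
    rw [map_one, irrDeg_spec, irrDeg_spec] at h1
    have h2 : chiC 1 (1 : D3) = 1 := by
      unfold chiC
      have : chiZ 1 (1 : D3) = 1 := by decide
      rw [this, Int.cast_one]
    rw [h2, one_mul] at h1
    exact_mod_cast h1
  have hvΛ : ∀ χ, v (Λ χ) = - v χ := by
    intro χ
    have h1 := hΛ χ c.u
    rw [hπu, hv (Λ χ), hv χ] at h1
    have h2 : chiC 1 (DihedralGroup.sr 0 : D3) = -1 := by
      unfold chiC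
      have : chiZ 1 (DihedralGroup.sr 0 : D3) = -1 := by decide
      rw [this]
      norm_num
    rw [h2] at h1
    have h3 : ((v (Λ χ) : ℤ) : ℂ) = ((- v χ : ℤ) : ℂ) := by
      rw [h1]; push_cast; ring
    exact_mod_cast h3
  have hd1 : irrDeg (trivIrr G) = 1 := by
    have h := irrDeg_spec (trivIrr G)
    rw [trivIrr_apply] at h
    exact_mod_cast h.symm
  have hv1 : v (trivIrr G) = 1 := by
    have h := hv (trivIrr G)
    rw [trivIrr_apply] at h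
    exact_mod_cast h.symm
  -- multiplicities at twisted characters
  have hmA_twist : ∀ (j : Fin 3) (m : IrrCharacter G → ℤ),
      (∀ χ : IrrCharacter G, classInner (c.A j) (χ : G → ℂ) = (m χ : ℂ)) →
      ∀ χ, m (Λ χ) = m χ := by
    intro j m hm χ
    have h1 := FUSEDAPP_twist π (c.A j) (χ : G → ℂ) (Λ χ : G → ℂ) (hΛ χ)
    rw [hlamA j, hm, hm] at h1
    exact_mod_cast h1
  have hmB_twist : ∀ χ, mB0 (Λ χ) = mB1 χ := by
    intro χ
    have h1 := FUSEDAPP_twist π (c.B 0) (χ : G → ℂ) (Λ χ : G → ℂ) (hΛ χ)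
    rw [hlamB, hmB0, hmB1] at h1
    exact_mod_cast h1
  -- generic derivations
  have hnorm : ∀ (Θ : G → ℂ) (m : IrrCharacter G → ℤ) (hgen : IsGeneralizedCharacter G Θ)
      (hm : ∀ χ : IrrCharacter G, classInner Θ (χ : G → ℂ) = (m χ : ℂ))
      (hpars : ∀ (Θ' : G → ℂ) (m' : IrrCharacter G → ℤ), IsGeneralizedCharacter G Θ' →
        (∀ χ : IrrCharacter G, classInner Θ' (χ : G → ℂ) = (m' χ : ℂ)) →
        classInner Θ Θ' = ((∑ χ : IrrCharacter G, m χ * m' χ : ℤ) : ℂ)),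
      classInner Θ Θ = 3 → ∑ χ, m χ * m χ = 3 := by
    intro Θ m hgen hm hpars h3
    have h := hpars Θ m hgen hm
    rw [h3] at h
    exact_mod_cast h.symm
  have hdeg : ∀ (Θ : G → ℂ) (m : IrrCharacter G → ℤ)
      (hval : ∀ g : G, Θ g = ∑ χ : IrrCharacter G, (m χ : ℂ) * (χ : G → ℂ) g),
      Θ 1 = 0 → ∑ χ, m χ * (irrDeg χ : ℤ) = 0 := by
    intro Θ m hval h0
    have h := hval 1
    rw [h0] at h
    have h2 : ∑ χ : IrrCharacter G, (m χ : ℂ) * (χ : G → ℂ) 1 =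
        ((∑ χ : IrrCharacter G, m χ * (irrDeg χ : ℤ) : ℤ) : ℂ) := by
      push_cast
      refine Finset.sum_congr rfl ?_
      intro χ _
      rw [irrDeg_spec]
    rw [h2] at h
    exact_mod_cast h.symm
  have hvalu : ∀ (Θ : G → ℂ) (m : IrrCharacter G → ℤ)
      (hval : ∀ g : G, Θ g = ∑ χ : IrrCharacter G, (m χ : ℂ) * (χ : G → ℂ) g),
      Θ c.u = 0 → ∑ χ, m χ * v χ = 0 := by
    intro Θ m hval h0
    have h := hval c.u
    rw [h0] at h
    have h2 : ∑ χ : IrrCharacter G, (m χ : ℂ) * (χ : G → ℂ) c.u =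
        ((∑ χ : IrrCharacter G, m χ * v χ : ℤ) : ℂ) := by
      push_cast
      refine Finset.sum_congr rfl ?_
      intro χ _
      rw [hv χ]
    rw [h2] at h
    exact_mod_cast h.symm
  have hone : ∀ (Θ : G → ℂ) (m : IrrCharacter G → ℤ)
      (hm : ∀ χ : IrrCharacter G, classInner Θ (χ : G → ℂ) = (m χ : ℂ)),
      classInner Θ (fun _ : G => (1 : ℂ)) = 1 → m (trivIrr G) = 1 := by
    intro Θ m hm h1
    have h := hm (trivIrr G)
    rw [htriv, h1] at h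
    exact_mod_cast h.symm
  -- the Psi equations
  have hpsiA0 : ∑ χ : IrrCharacter G, (mA0 χ : ℚ) * (v χ : ℚ) ^ 2 / (irrDeg χ : ℚ) = 8 * κ := by
    have h := FUSEDAPP_psi_cast (c.A 0) mA0 v c.u hmA0 hv
    unfold Cfg.PsiA at hψA0
    rw [hψA0] at h
    exact_mod_cast h.symm
  have hpsiA1 : ∑ χ : IrrCharacter G, (mA1 χ : ℚ) * (v χ : ℚ) ^ 2 / (irrDeg χ : ℚ) = 2 * κ := by
    have h := FUSEDAPP_psi_cast (c.A 1) mA1 v c.u hmA1 hv
    unfold Cfg.PsiA at hψA1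
    rw [hψA1] at h
    exact_mod_cast h.symm
  have hpsiB0 : ∑ χ : IrrCharacter G, (mB0 χ : ℚ) * (v χ : ℚ) ^ 2 / (irrDeg χ : ℚ) =
      9 / 2 * κ := by
    have h := FUSEDAPP_psi_cast (c.B 0) mB0 v c.u hmB0 hv
    unfold Cfg.PsiB at hψB0
    rw [hψB0] at h
    exact_mod_cast h.symm
  refine fused_abs (trivIrr G) Λ (fun χ => irrDeg χ) v mA0 mA1 mB0 κ hΛΛ hdΛ hvΛ
    (fun χ => irrDeg_pos χ) hd1 hv1 ?_ ?_ ?_ ?_ ?_ hpsiA0 ?_ ?_ ?_ hpsiA1 ?_ ?_ ?_ ?_ ?_ hpsiB0 ?_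
  · exact hnorm (c.A 0) mA0 (hAgen 0) hmA0 hmA0pars (by rw [hAA 0 0, if_pos rfl])
  · exact hone (c.A 0) mA0 hmA0 (by rw [hA1 0, if_pos rfl])
  · rw [hmA_twist 0 mA0 hmA0]
    exact hone (c.A 0) mA0 hmA0 (by rw [hA1 0, if_pos rfl])
  · exact hdeg (c.A 0) mA0 hmA0val (hA0 0 1 (one_mul 1))
  · exact hvalu (c.A 0) mA0 hmA0val (hA0 0 c.u huu)
  · exact hnorm (c.A 1) mA1 (hAgen 1) hmA1 hmA1pars (by rw [hAA 1 1, if_pos rfl])
  · exact hmA_twist 1 mA1 hmA1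
  · exact hdeg (c.A 1) mA1 hmA1val (hA0 1 1 (one_mul 1))
  · exact hnorm (c.B 0) mB0 (hBgen 0) hmB0 hmB0pars (by rw [hBB 0 0, if_pos rfl])
  · exact hone (c.B 0) mB0 hmB0 (by rw [hB1 0, if_pos rfl])
  · exact hdeg (c.B 0) mB0 hmB0val (hB0 0 1 (one_mul 1))
  · exact hvalu (c.B 0) mB0 hmB0val (hB0 0 c.u huu)
  · -- Λ-orthogonality
    simp_rw [hmB_twist]
    have h := hmB0pars (c.B 1) mB1 (hBgen 1) hmB1
    rw [hBB 0 1, if_neg (by decide)] at h
    exact_mod_cast h.symm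
  · -- ⟨A1, B0⟩ = 1
    have h := hmA1pars (c.B 0) mB0 (hBgen 0) hmB0
    rw [hAB 1 0] at h
    have h2 : eZ 0 * eZ 1 = 1 := by decide
    rw [h2] at h
    exact_mod_cast h.symm

end Cfsg.Agent.S3805P
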