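import Mathlib
import Cfsg.Agent.Helper10.S3805PSI
import Cfsg.Agent.Helper10.S3805INTCOEFF
import Cfsg.Agent.Helper6.S3805COUNT0
import Cfsg.Agent.Helper16.S3805KERABS
import Cfsg.Agent.Helper24.S3805KERCHAR

/-!
# S3805, piece UNFNORMAL: in the unfused case, `u` lies in a proper normal subgroup.
-/

set_option autoImplicit false

namespace Cfsg.Agent.S3805P

open Cfsg Cfsg.Agent.Helper24

variable {G : Type*} [Group G] [Fintype G] [Fintype (IrrCharacter G)]

/-- In the unfused case all `PsiB i u u` vanish; we only need `i = 0`. -/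
theorem UNFNORMAL_psi_zero (c : Cfg G) (hS : ∀ q : Q, IsConj c.u (c.ι q) → q.2 = 1) :
    c.PsiB 0 c.u c.u = 0 := by
  have hidx : ((Subgroup.centralizer ({c.u} : Set G)).index : ℂ) ≠ 0 := by
    have : (Subgroup.centralizer ({c.u} : Set G)).index ≠ 0 := Subgroup.index_ne_zero_of_finite
    exact_mod_cast this
  have hzero : ∀ t : D3, ∑ i : Fin 3, chiC i t * c.PsiB i c.u c.u = 0 := by
    intro t
    have h := psi_B c c.u c.u t
    have hempty : IsEmpty {s : G // IsConj c.u s ∧
        IsConj c.u (s⁻¹ * c.ι (t, DihedralGroup.r 1))} := by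
      constructor
      rintro ⟨s, hs1, hs2⟩
      exact count_unfused c hS t s hs1 hs2
    rw [Nat.card_of_isEmpty, Nat.cast_zero, zero_mul] at h
    have h' := h.symm
    rcases mul_eq_zero.mp h' with h1 | h1
    · rcases mul_eq_zero.mp h1 with h2 | h2
      · exact absurd h2 hidx
      · exact absurd h2 hidx
    · exact h1
  have e1 := hzero (DihedralGroup.r 0)
  have e2 := hzero (DihedralGroup.r 1)
  have e3 := hzero (DihedralGroup.sr 0)
  simp only [Fin.sum_univ_three, chiC, chiZ] at e1 e2 e3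
  norm_num at e1 e2 e3
  linear_combination (1 / 6 : ℂ) * e1 + (1 / 3 : ℂ) * e2 + (1 / 2 : ℂ) * e3

/-- **UNFNORMAL.** In the unfused case, `u` lies in a proper normal subgroup. -/
theorem exists_normal_of_unfused (c : Cfg G)
    (hS : ∀ q : Q, IsConj c.u (c.ι q) → q.2 = 1) :
    ∃ K : Subgroup G, K.Normal ∧ K ≠ ⊤ ∧ c.u ∈ K := by
  classical
  obtain ⟨hAgen, hBgen, -, hBB, -, -, hB1, -, hB0⟩ := ind_facts c
  obtain ⟨m, hm, hmval, hmpars⟩ := exists_int_mult (hBgen 0)
  have huu : c.u * c.u = 1 := by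
    unfold Cfg.u
    rw [← map_mul]
    have : ((DihedralGroup.sr 0, 1) : Q) * (DihedralGroup.sr 0, 1) = 1 := by decide
    rw [this, map_one]
  -- apply the abstract kernel lemma
  have hker := kernel_abs (trivIrr G) (fun χ => irrDeg χ) (fun χ => (χ : G → ℂ) c.u) m
    (fun χ => irrDeg_pos χ) ?_ ?_ ?_ ?_ ?_ ?_ ?_
  · obtain ⟨χ, hχ, hval⟩ := hker
    refine exists_normal_of_irr_eq_deg χ hχ c.u ?_
    rw [hval, irrDeg_spec]
  · -- degree of the trivial character
    have h := irrDeg_spec (trivIrr G)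
    rw [trivIrr_apply] at h
    exact_mod_cast h.symm
  · exact trivIrr_apply c.u
  · -- multiplicity of the trivial character
    have h := hm (trivIrr G)
    have h1 : ((trivIrr G : IrrCharacter G) : G → ℂ) = fun _ => (1 : ℂ) := rfl
    rw [h1, hB1 0, if_pos rfl] at h
    exact_mod_cast h.symm
  · -- norm
    have h := hmpars (c.B 0) m (hBgen 0) hm
    rw [hBB 0 0, if_pos rfl] at h
    exact_mod_cast h.symm
  · -- degree equation
    have h := hmval 1
    rw [hB0 0 1 (one_mul 1)] at h
    rw [h]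
    refine Finset.sum_congr rfl ?_
    intro χ _
    rw [irrDeg_spec]
  · -- value equation
    have h := hmval c.u
    rw [hB0 0 c.u huu] at h
    exact h.symm
  · -- Psi equation
    have h := UNFNORMAL_psi_zero c hS
    unfold Cfg.PsiB at h
    rw [← h]
    refine Finset.sum_congr rfl ?_
    intro χ _
    rw [hm χ, irrDeg_spec]

end Cfsg.Agent.S3805P
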