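import Mathlib
import Cfsg.Agent.Helper13.S3816Defs
import Cfsg.Agent.Helper13.S3816Basic
import Cfsg.Agent.Helper22.S3816MC1
import Cfsg.Agent.Helper20.S3816PHI

/-!
# S3816 board, row C1F (helper10): core.  `⟨h^A⟩ Φ(K) ≠ K` in a minimal counterexample with `K' ≤ Φ(K)`.

Route (no normal closures): `M₁ := [h,A] Φ(K)` is normal in `G = K A` (it contains `K' ≤ Φ(K)` and is `A`-invariant).
Modulo `M₁` every `a h a⁻¹` equals `h`, so if `⟨h^A⟩ Φ(K) = K` then `K/M₁` is centralised by `A`, `K = [K,A] ≤ M₁`,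
and `[h,A] = K` by the nongenerating property of the Frattini subgroup: contradiction with `MC.cA_ne`.
-/

set_option autoImplicit false

namespace Cfsg.Agent.S3816P

open scoped commutatorElement

universe u

variable {G : Type u} [Group G] [Finite G] {p : ℕ} [Fact p.Prime] {A K N : Subgroup G}

omit [Finite G] in
/-- an element normalising `X` and `Z` normalises `X ⊔ Z`. -/
theorem c1F_aux_norm_sup {X Z : Subgroup G} {g : G} (hX : g ∈ Subgroup.normalizer (X : Set G))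
    (hZ : g ∈ Subgroup.normalizer (Z : Set G)) :
    g ∈ Subgroup.normalizer ((X ⊔ Z : Subgroup G) : Set G) := by
  have hmap : ∀ (H : Subgroup G) (g : G), g ∈ Subgroup.normalizer (H : Set G) →
      H.map (MulAut.conj g).toMonoidHom = H := by
    intro H g hg
    ext y
    rw [Subgroup.mem_map]
    constructor
    · rintro ⟨x, hx, rfl⟩
      exact (Subgroup.mem_normalizer_iff.mp hg x).mp hx
    · intro hy
      refine ⟨g⁻¹ * y * g, ?_, ?_⟩
      · rw [Subgroup.mem_normalizer_iff] at hg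
        refine (hg _).mpr ?_
        have e : g * (g⁻¹ * y * g) * g⁻¹ = y := by group
        rw [e]; exact hy
      · show g * (g⁻¹ * y * g) * g⁻¹ = y
        group
  have h1 : (X ⊔ Z).map (MulAut.conj g).toMonoidHom = X ⊔ Z := by
    rw [Subgroup.map_sup, hmap X g hX, hmap Z g hZ]
  rw [Subgroup.mem_normalizer_iff]
  intro n
  constructor
  · intro hn
    rw [← h1]
    exact Subgroup.mem_map.mpr ⟨n, hn, rfl⟩
  · intro hn
    rw [← h1] at hn
    obtain ⟨x, hx, hxe⟩ := Subgroup.mem_map.mp hn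
    have h2 : g * x * g⁻¹ = g * n * g⁻¹ := hxe
    have h3 : x = n := by
      have := congrArg (fun t => g⁻¹ * t * g) h2
      simpa [mul_assoc] using this
    rw [← h3]; exact hx

/-- the nongenerating property of `Phi K`. -/
theorem c1F_aux_frattini {X : Subgroup G} (hX : X ≤ K) (h : X ⊔ Phi K = K) : X = K := by
  have h1 : X.subgroupOf K ⊔ frattini ↥K = ⊤ := by
    apply Subgroup.map_injective K.subtype_injective
    rw [Subgroup.map_sup, Subgroup.map_subgroupOf_eq_of_le hX, ← MonoidHom.range_eq_map,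
      Subgroup.range_subtype]
    exact h
  have h2 : X.subgroupOf K = ⊤ := frattini_nongenerating h1
  rw [Subgroup.subgroupOf_eq_top] at h2
  exact le_antisymm hX h2

/-- C1F, with `K' ≤ Φ(K)` as a hypothesis. -/
theorem c1_Xh_ne_core (mc : MC p A K) (hKK : ⁅K, K⁆ ≤ Phi K) {h : G} (hh : h ∈ K) :
    Subgroup.closure {g : G | ∃ a ∈ A, g = a * h * a⁻¹} ⊔ Phi K ≠ K := by
  intro hY
  have hAK : A ≤ Subgroup.normalizer (K : Set G) := mc.hyp.norm
  have hX : cA A h ≤ K := cA_le hAK hh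
  have hM1K : cA A h ⊔ Phi K ≤ K := sup_le hX (Phi_le K)
  have hA1 : A ≤ Subgroup.normalizer ((cA A h ⊔ Phi K : Subgroup G) : Set G) := fun a ha =>
    c1F_aux_norm_sup (cA_normalized A h ha) (Phi_normalizer_le K (hAK ha))
  have hK1 : K ≤ Subgroup.normalizer ((cA A h ⊔ Phi K : Subgroup G) : Set G) := by
    have key : ∀ k ∈ K, ∀ y ∈ cA A h ⊔ Phi K, k * y * k⁻¹ ∈ cA A h ⊔ Phi K := by
      intro k hk y hy
      have h1 : ⁅k, y⁆ ∈ ⁅K, K⁆ := Subgroup.commutator_mem_commutator hk (hM1K hy)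
      have h2 : ⁅k, y⁆ ∈ cA A h ⊔ Phi K := (le_sup_right : Phi K ≤ cA A h ⊔ Phi K) (hKK h1)
      have e : k * y * k⁻¹ = ⁅k, y⁆ * y := by rw [commutatorElement_def]; group
      rw [e]; exact Subgroup.mul_mem _ h2 hy
    intro k hk
    rw [Subgroup.mem_normalizer_iff]
    intro y
    constructor
    · exact key k hk y
    · intro hy
      have h3 := key k⁻¹ (K.inv_mem hk) _ hy
      have e : k⁻¹ * (k * y * k⁻¹) * k⁻¹⁻¹ = y := by group
      rw [e] at h3; exact h3
  have hM1n : (cA A h ⊔ Phi K).Normal := by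
    have htop : Subgroup.normalizer ((cA A h ⊔ Phi K : Subgroup G) : Set G) = ⊤ := by
      rw [eq_top_iff, ← mc.top]; exact sup_le hK1 hA1
    exact Subgroup.normalizer_eq_top_iff.mp htop
  -- the centraliser of `A` modulo `M₁`
  have hπh : ∀ a ∈ A, (QuotientGroup.mk' (cA A h ⊔ Phi K)) (a * h * a⁻¹) =
      (QuotientGroup.mk' (cA A h ⊔ Phi K)) h := by
    intro a ha
    have h1 : h⁻¹ * (a * h * a⁻¹) ∈ cA A h ⊔ Phi K :=
      (le_sup_left : cA A h ≤ cA A h ⊔ Phi K) (Subgroup.subset_closure ⟨a, ha, rfl⟩)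
    exact (QuotientGroup.eq.mpr h1).symm
  have hcomm_h : ∀ b ∈ A, (QuotientGroup.mk' (cA A h ⊔ Phi K)) b * (QuotientGroup.mk' (cA A h ⊔ Phi K)) h =
      (QuotientGroup.mk' (cA A h ⊔ Phi K)) h * (QuotientGroup.mk' (cA A h ⊔ Phi K)) b := by
    intro b hb
    have h1 := hπh b hb
    rw [map_mul, map_mul, map_inv] at h1
    calc (QuotientGroup.mk' (cA A h ⊔ Phi K)) b * (QuotientGroup.mk' (cA A h ⊔ Phi K)) h
        = (QuotientGroup.mk' (cA A h ⊔ Phi K)) b * (QuotientGroup.mk' (cA A h ⊔ Phi K)) h *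
            ((QuotientGroup.mk' (cA A h ⊔ Phi K)) b)⁻¹ * (QuotientGroup.mk' (cA A h ⊔ Phi K)) b := by group
      _ = (QuotientGroup.mk' (cA A h ⊔ Phi K)) h * (QuotientGroup.mk' (cA A h ⊔ Phi K)) b := by rw [h1]
  have hYC : Subgroup.closure {g : G | ∃ a ∈ A, g = a * h * a⁻¹} ≤
      (Subgroup.centralizer ((A.map (QuotientGroup.mk' (cA A h ⊔ Phi K)) :
        Subgroup (G ⧸ (cA A h ⊔ Phi K))) : Set (G ⧸ (cA A h ⊔ Phi K)))).comap
          (QuotientGroup.mk' (cA A h ⊔ Phi K)) := by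
    rw [Subgroup.closure_le]
    rintro _ ⟨a, ha, rfl⟩
    rw [SetLike.mem_coe, Subgroup.mem_comap, hπh a ha, Subgroup.mem_centralizer_iff]
    rintro _ ⟨b, hb, rfl⟩
    exact hcomm_h b hb
  have hPC : Phi K ≤
      (Subgroup.centralizer ((A.map (QuotientGroup.mk' (cA A h ⊔ Phi K)) :
        Subgroup (G ⧸ (cA A h ⊔ Phi K))) : Set (G ⧸ (cA A h ⊔ Phi K)))).comap
          (QuotientGroup.mk' (cA A h ⊔ Phi K)) := by
    intro z hz
    rw [Subgroup.mem_comap]
    have h1 : (QuotientGroup.mk' (cA A h ⊔ Phi K)) z = 1 :=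
      (QuotientGroup.eq_one_iff z).mpr ((le_sup_right : Phi K ≤ cA A h ⊔ Phi K) hz)
    rw [h1]; exact Subgroup.one_mem _
  have hKC : K ≤
      (Subgroup.centralizer ((A.map (QuotientGroup.mk' (cA A h ⊔ Phi K)) :
        Subgroup (G ⧸ (cA A h ⊔ Phi K))) : Set (G ⧸ (cA A h ⊔ Phi K)))).comap
          (QuotientGroup.mk' (cA A h ⊔ Phi K)) := by
    intro k hk
    have hk' : k ∈ Subgroup.closure {g : G | ∃ a ∈ A, g = a * h * a⁻¹} ⊔ Phi K := by rw [hY]; exact hk
    exact (sup_le hYC hPC) hk'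
  have hcomm : ⁅K, A⁆ ≤ cA A h ⊔ Phi K := by
    rw [Subgroup.commutator_le]
    intro k hk a ha
    have h1 := hKC hk
    rw [Subgroup.mem_comap, Subgroup.mem_centralizer_iff] at h1
    have h2 := h1 _ ⟨a, ha, rfl⟩
    rw [← QuotientGroup.eq_one_iff, commutatorElement_def]
    have h3 : ((k * a * k⁻¹ * a⁻¹ : G) : G ⧸ (cA A h ⊔ Phi K)) =
        (QuotientGroup.mk' (cA A h ⊔ Phi K)) k * (QuotientGroup.mk' (cA A h ⊔ Phi K)) a *
          ((QuotientGroup.mk' (cA A h ⊔ Phi K)) k)⁻¹ * ((QuotientGroup.mk' (cA A h ⊔ Phi K)) a)⁻¹ := by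
      simp
    rw [h3, ← h2]
    group
  have hKM : K ≤ cA A h ⊔ Phi K := by
    intro k hk
    have hk' : k ∈ ⁅K, A⁆ := by rw [mc.comm_eq]; exact hk
    exact hcomm hk'
  have hM1eq : cA A h ⊔ Phi K = K := le_antisymm hM1K hKM
  exact mc.cA_ne hh (c1F_aux_frattini hX hM1eq)

end Cfsg.Agent.S3816P
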