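import Mathlib
import Cfsg.Agent.Helper13.S3816Defs
import Cfsg.Agent.Helper13.S3816Basic
import Cfsg.Agent.Helper10.S3816C1Fcore
import Cfsg.Agent.Helper21.S3816C1A
import Cfsg.Agent.Helper22.S3816C1E

/-!
# S3816 board, row C1F (helper10): `⟨h^A⟩ Φ(K) ≠ K`.
-/

set_option autoImplicit false

namespace Cfsg.Agent.S3816P

universe u

variable {G : Type u} [Group G] [Finite G] {p : ℕ} [Fact p.Prime] {A K N : Subgroup G}

/-- C1F -/
theorem c1_Xh_ne (mc : MC p A K) (hN : MinN K N) (h1 : N ≤ Subgroup.centralizer (A : Set G))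
    {h : G} (hh : h ∈ K) :
    Subgroup.closure {g : G | ∃ a ∈ A, g = a * h * a⁻¹} ⊔ Phi K ≠ K :=
  c1_Xh_ne_core mc (comm_le_Phi (c1_card mc hN h1) (c1_pgroup mc hN h1)) hh

end Cfsg.Agent.S3816P
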