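import Cfsg.Agent.Helper10.S3818SECTIONAux

/-!
# S3818 / S3822, row SECTION: `SECTION_module`

An elementary abelian section `N₂/N₁` normalised by the image of `φ : Γ →* G`, as a
`ZMod q`-representation of `Γ`.
-/

set_option autoImplicit false

namespace Cfsg.Agent.S3818P

open Module

universe u v w

/-- `N₁` is normal in `N₂` when `[N₂,N₂] ≤ N₁ ≤ N₂`. -/
theorem SECTION_normal {G : Type u} [Group G] (N₂ N₁ : Subgroup G)
    (hcomm : ∀ w ∈ N₂, ∀ w' ∈ N₂, w * w' * w⁻¹ * w'⁻¹ ∈ N₁) :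
    (N₁.subgroupOf N₂).Normal := by
  constructor
  intro n hn w
  rw [Subgroup.mem_subgroupOf] at hn ⊢
  have h := hcomm w w.2 n n.2
  have h' : (w : G) * n * (w : G)⁻¹ = ((w : G) * n * (w : G)⁻¹ * (n : G)⁻¹) * n := by group
  push_cast
  rw [h']
  exact N₁.mul_mem h hn

/-- The section `N₂/N₁` is commutative. -/
theorem SECTION_mul_comm {G : Type u} [Group G] (N₂ N₁ : Subgroup G)
    [(N₁.subgroupOf N₂).Normal]
    (hcomm : ∀ w ∈ N₂, ∀ w' ∈ N₂, w * w' * w⁻¹ * w'⁻¹ ∈ N₁)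
    (a b : ↥N₂ ⧸ N₁.subgroupOf N₂) : a * b = b * a := by
  induction a using QuotientGroup.induction_on with
  | H a =>
    induction b using QuotientGroup.induction_on with
    | H b =>
      rw [← QuotientGroup.mk_mul, ← QuotientGroup.mk_mul, QuotientGroup.eq,
        Subgroup.mem_subgroupOf]
      have h := hcomm (b : G)⁻¹ (N₂.inv_mem b.2) (a : G)⁻¹ (N₂.inv_mem a.2)
      have h' : (((a * b)⁻¹ * (b * a) : ↥N₂) : G)
          = (b : G)⁻¹ * (a : G)⁻¹ * ((b : G)⁻¹)⁻¹ * ((a : G)⁻¹)⁻¹ := by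
        push_cast
        group
      rw [h']
      exact h

/-- The section `N₂/N₁` as a commutative group. -/
@[reducible] def SECTION_commGroup {G : Type u} [Group G] (N₂ N₁ : Subgroup G)
    [(N₁.subgroupOf N₂).Normal]
    (hcomm : ∀ w ∈ N₂, ∀ w' ∈ N₂, w * w' * w⁻¹ * w'⁻¹ ∈ N₁) :
    CommGroup (↥N₂ ⧸ N₁.subgroupOf N₂) :=
  { QuotientGroup.Quotient.group (N₁.subgroupOf N₂) with
    mul_comm := SECTION_mul_comm N₂ N₁ hcomm }

/-- Conjugation by `g` on a subgroup it normalises. -/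
def SECTION_conj {G : Type u} [Group G] (N₂ : Subgroup G) (g : G)
    (h2 : ∀ w ∈ N₂, g * w * g⁻¹ ∈ N₂) : ↥N₂ →* ↥N₂ where
  toFun w := ⟨g * w * g⁻¹, h2 w w.2⟩
  map_one' := by
    apply Subtype.ext
    simp
  map_mul' a b := by
    apply Subtype.ext
    simp

theorem SECTION_conj_coe {G : Type u} [Group G] (N₂ : Subgroup G) (g : G)
    (h2 : ∀ w ∈ N₂, g * w * g⁻¹ ∈ N₂) (w : ↥N₂) :
    ((SECTION_conj N₂ g h2 w : ↥N₂) : G) = g * w * g⁻¹ := rfl

/-- SECTION (an elementary abelian section `N₂/N₁` normalised by the image of `φ : Γ →* G`, as a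
`ZMod q`-representation of `Γ`; shared with S3822). -/
theorem SECTION_module {G : Type u} [Group G] [Finite G] {Γ : Type v} [Group Γ] (φ : Γ →* G)
    (N₂ N₁ : Subgroup G) (q : ℕ) [Fact q.Prime] (h12 : N₁ ≤ N₂)
    (h2 : ∀ a : Γ, ∀ w ∈ N₂, φ a * w * (φ a)⁻¹ ∈ N₂)
    (h1 : ∀ a : Γ, ∀ w ∈ N₁, φ a * w * (φ a)⁻¹ ∈ N₁)
    (hcomm : ∀ w ∈ N₂, ∀ w' ∈ N₂, w * w' * w⁻¹ * w'⁻¹ ∈ N₁) (hpow : ∀ w ∈ N₂, w ^ q ∈ N₁) :
    ∃ (W : Type u) (_ : AddCommGroup W) (_ : Module (ZMod q) W) (_ : Finite W)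
      (τ : Representation (ZMod q) Γ W),
      Nat.card W * Nat.card N₁ = Nat.card N₂ ∧
      (∀ x : Γ, Nat.card ↥(LinearMap.ker (τ x - 1)) * Nat.card N₁ =
        Nat.card {w : G // w ∈ N₂ ∧ φ x * w * (φ x)⁻¹ * w⁻¹ ∈ N₁}) ∧
      ((N₁ ≠ N₂ ∧ ∀ U : Subgroup G, N₁ ≤ U → U ≤ N₂ →
          (∀ a : Γ, ∀ w ∈ U, φ a * w * (φ a)⁻¹ ∈ U) → U = N₁ ∨ U = N₂) → τ.IsIrreducible) := by
  classical
  have hN : (N₁.subgroupOf N₂).Normal := SECTION_normal N₂ N₁ hcomm
  let instCG : CommGroup (↥N₂ ⧸ N₁.subgroupOf N₂) := SECTION_commGroup N₂ N₁ hcomm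
  -- the action
  have hle : ∀ a : Γ, N₁.subgroupOf N₂ ≤
      (N₁.subgroupOf N₂).comap (SECTION_conj N₂ (φ a) (h2 a)) := by
    intro a w hw
    rw [Subgroup.mem_comap, Subgroup.mem_subgroupOf, SECTION_conj_coe]
    exact h1 a w hw
  let α : Γ → (↥N₂ ⧸ N₁.subgroupOf N₂) →* (↥N₂ ⧸ N₁.subgroupOf N₂) := fun a =>
    QuotientGroup.map (N₁.subgroupOf N₂) (N₁.subgroupOf N₂) (SECTION_conj N₂ (φ a) (h2 a)) (hle a)
  have hα : ∀ a (w : ↥N₂), α a (QuotientGroup.mk w) =
      QuotientGroup.mk (SECTION_conj N₂ (φ a) (h2 a) w) := fun a w => rfl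
  have hα1 : ∀ m, α 1 m = m := by
    intro m
    induction m using QuotientGroup.induction_on with
    | H w =>
      rw [hα]
      congr 1
      apply Subtype.ext
      rw [SECTION_conj_coe]
      simp
  have hαmul : ∀ a b m, α (a * b) m = α a (α b m) := by
    intro a b m
    induction m using QuotientGroup.induction_on with
    | H w =>
      rw [hα, hα, hα]
      congr 1
      apply Subtype.ext
      rw [SECTION_conj_coe, SECTION_conj_coe, SECTION_conj_coe]
      simp [mul_assoc]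
  have hpowM : ∀ m : ↥N₂ ⧸ N₁.subgroupOf N₂, m ^ q = 1 := by
    intro m
    induction m using QuotientGroup.induction_on with
    | H w =>
      rw [← QuotientGroup.mk_pow, QuotientGroup.eq_one_iff, Subgroup.mem_subgroupOf]
      push_cast
      exact hpow w w.2
  obtain ⟨W, iW1, iW2, iW3, τ, hW, hfix, hirr⟩ := SECTION_abstract α hα1 hαmul q hpowM
  have hcardN : Nat.card ↥(N₁.subgroupOf N₂) = Nat.card ↥N₁ :=
    Nat.card_congr (Subgroup.subgroupOfEquivOfLe h12).toEquiv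
  refine ⟨W, iW1, iW2, iW3, τ, ?_, ?_, ?_⟩
  · rw [hW, ← hcardN]
    exact (Subgroup.card_eq_card_quotient_mul_card_subgroup (N₁.subgroupOf N₂)).symm
  · intro x
    rw [hfix x]
    -- the subgroup of fixed points
    let K : Subgroup (↥N₂ ⧸ N₁.subgroupOf N₂) :=
      { carrier := {m | α x m = m}
        one_mem' := map_one _
        mul_mem' := fun {a b} ha hb => by
          change α x (a * b) = a * b
          rw [map_mul, ha, hb]
        inv_mem' := fun {a} ha => by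
          change α x a⁻¹ = a⁻¹
          rw [map_inv, ha] }
    have hK : Nat.card {m : ↥N₂ ⧸ N₁.subgroupOf N₂ // α x m = m} = Nat.card ↥K := rfl
    rw [hK, ← hcardN, ← SECTION_card_comap (N₁.subgroupOf N₂) K]
    have e1 : ↥(K.comap (QuotientGroup.mk' (N₁.subgroupOf N₂))) ≃
        {w : ↥N₂ // φ x * (w : G) * (φ x)⁻¹ * (w : G)⁻¹ ∈ N₁} := by
      refine Equiv.subtypeEquivRight ?_
      intro w
      rw [Subgroup.mem_comap]
      change α x (QuotientGroup.mk w) = QuotientGroup.mk w ↔ _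
      rw [hα, QuotientGroup.eq_iff_div_mem, Subgroup.mem_subgroupOf]
      rw [div_eq_mul_inv]
      push_cast
      rw [SECTION_conj_coe]
    exact Nat.card_congr (e1.trans (Equiv.subtypeSubtypeEquivSubtypeInter (· ∈ N₂)
      (fun w => φ x * w * (φ x)⁻¹ * w⁻¹ ∈ N₁)))
  · rintro ⟨hne, hmin⟩
    apply hirr
    refine ⟨?_, ?_⟩
    · -- nontrivial
      have : ∃ w ∈ N₂, w ∉ N₁ := by
        by_contra hcon
        push Not at hcon
        exact hne (le_antisymm h12 hcon)
      obtain ⟨w, hw2, hw1⟩ := this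
      refine ⟨⟨QuotientGroup.mk (⟨w, hw2⟩ : ↥N₂), 1, ?_⟩⟩
      rw [Ne, QuotientGroup.eq_one_iff, Subgroup.mem_subgroupOf]
      exact hw1
    · intro K hK
      let U : Subgroup G := (K.comap (QuotientGroup.mk' (N₁.subgroupOf N₂))).map N₂.subtype
      have hU : ∀ g : G, g ∈ U ↔ ∃ h : g ∈ N₂, (QuotientGroup.mk (⟨g, h⟩ : ↥N₂) :
          ↥N₂ ⧸ N₁.subgroupOf N₂) ∈ K := by
        intro g
        constructor
        · rintro ⟨w, hw, rfl⟩
          exact ⟨w.2, hw⟩
        · rintro ⟨h, hg⟩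
          exact ⟨⟨g, h⟩, hg, rfl⟩
      have hU1 : N₁ ≤ U := by
        intro n hn
        rw [hU]
        refine ⟨h12 hn, ?_⟩
        have : (QuotientGroup.mk (⟨n, h12 hn⟩ : ↥N₂) : ↥N₂ ⧸ N₁.subgroupOf N₂) = 1 := by
          rw [QuotientGroup.eq_one_iff, Subgroup.mem_subgroupOf]
          exact hn
        rw [this]
        exact K.one_mem
      have hU2 : U ≤ N₂ := by
        intro g hg
        rw [hU] at hg
        exact hg.1
      have hUinv : ∀ a : Γ, ∀ w ∈ U, φ a * w * (φ a)⁻¹ ∈ U := by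
        intro a w hw
        rw [hU] at hw ⊢
        obtain ⟨hw2, hwK⟩ := hw
        refine ⟨h2 a w hw2, ?_⟩
        have := hK a _ hwK
        rw [hα] at this
        exact this
      rcases hmin U hU1 hU2 hUinv with h | h
      · left
        rw [Subgroup.eq_bot_iff_forall]
        intro m hm
        induction m using QuotientGroup.induction_on with
        | H w =>
          have hwU : (w : G) ∈ U := by
            rw [hU]
            exact ⟨w.2, hm⟩
          rw [h] at hwU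
          rw [QuotientGroup.eq_one_iff, Subgroup.mem_subgroupOf]
          exact hwU
      · right
        rw [Subgroup.eq_top_iff']
        intro m
        induction m using QuotientGroup.induction_on with
        | H w =>
          have hwU : (w : G) ∈ U := by
            rw [h]
            exact w.2
          rw [hU] at hwU
          obtain ⟨_, hwK⟩ := hwU
          exact hwK

end Cfsg.Agent.S3818P
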