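import Cfsg.Agent.Helper26.S3818Defs

/-!
# S3818 / S3822, row SECTION: abstract part

An elementary abelian `q`-group `M` with an action of `Γ` by endomorphisms, viewed as a
`ZMod q`-representation of `Γ` on `Additive M`.
-/

set_option autoImplicit false

namespace Cfsg.Agent.S3818P

open Module

universe u v w

/-- Cardinality of the preimage of a subgroup of a quotient. -/
theorem SECTION_card_comap {H : Type*} [Group H] [Finite H] (N : Subgroup H) [N.Normal]
    (K : Subgroup (H ⧸ N)) :
    Nat.card ↥(K.comap (QuotientGroup.mk' N)) = Nat.card ↥K * Nat.card ↥N := by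
  have hsurj : Function.Surjective (QuotientGroup.mk' N) := QuotientGroup.mk'_surjective N
  have hidx : (K.comap (QuotientGroup.mk' N)).index = K.index :=
    Subgroup.index_comap_of_surjective K hsurj
  have h1 : Nat.card ↥(K.comap (QuotientGroup.mk' N)) * (K.comap (QuotientGroup.mk' N)).index
      = Nat.card H := Subgroup.card_mul_index _
  have h2 : Nat.card ↥K * K.index = Nat.card (H ⧸ N) := Subgroup.card_mul_index _
  have h3 : Nat.card H = Nat.card (H ⧸ N) * Nat.card ↥N :=
    Subgroup.card_eq_card_quotient_mul_card_subgroup N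
  have hpos : 0 < K.index := Nat.pos_of_ne_zero Subgroup.index_ne_zero_of_finite
  rw [hidx] at h1
  have : Nat.card ↥(K.comap (QuotientGroup.mk' N)) * K.index
      = (Nat.card ↥K * Nat.card ↥N) * K.index := by
    rw [h1, h3, ← h2]; ring
  exact Nat.eq_of_mul_eq_mul_right hpos this

/-- The representation attached to an action by endomorphisms. -/
theorem SECTION_rep {M : Type u} [CommGroup M] {Γ : Type v} [Group Γ]
    (α : Γ → M →* M) (h1 : ∀ m, α 1 m = m) (hmul : ∀ a b m, α (a * b) m = α a (α b m))
    (q : ℕ) [Fact q.Prime] [Module (ZMod q) (Additive M)] :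
    ∃ τ : Representation (ZMod q) Γ (Additive M),
      ∀ a (w : Additive M), τ a w = Additive.ofMul (α a (Additive.toMul w)) := by
  let f : Γ → (Additive M →ₗ[ZMod q] Additive M) :=
    fun a => (MonoidHom.toAdditive (α a)).toZModLinearMap q
  have hf : ∀ a (w : Additive M), f a w = Additive.ofMul (α a (Additive.toMul w)) :=
    fun _ _ => rfl
  have hf1 : f 1 = 1 := by
    apply LinearMap.ext
    intro m
    rw [hf, h1, Module.End.one_apply]
    rfl
  have hfmul : ∀ a b, f (a * b) = f a * f b := by
    intro a b
    apply LinearMap.ext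
    intro m
    rw [Module.End.mul_apply, hf, hf, hf, hmul]
    rfl
  exact ⟨⟨⟨f, hf1⟩, hfmul⟩, hf⟩

/-- Fixed points and irreducibility of the representation attached to an action. -/
theorem SECTION_rep_props {M : Type u} [CommGroup M] {Γ : Type v} [Group Γ]
    (α : Γ → M →* M) (q : ℕ) [Fact q.Prime] [Module (ZMod q) (Additive M)]
    (τ : Representation (ZMod q) Γ (Additive M))
    (hτ : ∀ a (w : Additive M), τ a w = Additive.ofMul (α a (Additive.toMul w))) :
    (∀ x : Γ, Nat.card ↥(LinearMap.ker (τ x - 1)) = Nat.card {m : M // α x m = m}) ∧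
      ((Nontrivial M ∧ ∀ K : Subgroup M, (∀ a, ∀ m ∈ K, α a m ∈ K) → K = ⊥ ∨ K = ⊤) →
        τ.IsIrreducible) := by
  refine ⟨?_, ?_⟩
  · intro x
    refine Nat.card_congr (Equiv.subtypeEquiv Additive.toMul ?_)
    intro w
    rw [LinearMap.mem_ker, LinearMap.sub_apply, sub_eq_zero, hτ, Module.End.one_apply]
    constructor
    · intro h
      exact congrArg Additive.toMul h
    · intro h
      exact congrArg Additive.ofMul h
  · rintro ⟨hnt, hmin⟩
    have : Nontrivial (Additive M) := hnt
    refine { exists_pair_ne := ?_, eq_bot_or_eq_top := ?_ }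
    · refine ⟨⊥, ⊤, ?_⟩
      intro h
      have h' : (⊥ : Submodule (ZMod q) (Additive M)) = ⊤ :=
        congrArg Subrepresentation.toSubmodule h
      exact bot_ne_top h'
    · intro σ
      -- the subgroup of `M` underlying `σ`
      let K : Subgroup M :=
        { carrier := {m | Additive.ofMul m ∈ σ.toSubmodule}
          one_mem' := σ.toSubmodule.zero_mem
          mul_mem' := fun {a b} ha hb => σ.toSubmodule.add_mem ha hb
          inv_mem' := fun {a} ha => σ.toSubmodule.neg_mem ha }
      have hK : ∀ a, ∀ m ∈ K, α a m ∈ K := by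
        intro a m hm
        have hm' : Additive.ofMul m ∈ σ.toSubmodule := hm
        have := σ.apply_mem_toSubmodule a hm'
        rw [hτ a (Additive.ofMul m)] at this
        exact this
      rcases hmin K hK with h | h
      · left
        apply Subrepresentation.toSubmodule_injective
        change σ.toSubmodule = ⊥
        rw [Submodule.eq_bot_iff]
        intro w hw
        have : Additive.toMul w ∈ K := hw
        rw [h, Subgroup.mem_bot] at this
        exact congrArg Additive.ofMul this
      · right
        apply Subrepresentation.toSubmodule_injective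
        change σ.toSubmodule = ⊤
        rw [Submodule.eq_top_iff']
        intro w
        have : Additive.toMul w ∈ K := by rw [h]; exact Subgroup.mem_top _
        exact this

/-- The abstract construction. -/
theorem SECTION_abstract {M : Type u} [CommGroup M] [Finite M] {Γ : Type v} [Group Γ]
    (α : Γ → M →* M) (h1 : ∀ m, α 1 m = m) (hmul : ∀ a b m, α (a * b) m = α a (α b m))
    (q : ℕ) [Fact q.Prime] (hpow : ∀ m : M, m ^ q = 1) :
    ∃ (W : Type u) (_ : AddCommGroup W) (_ : Module (ZMod q) W) (_ : Finite W)
      (τ : Representation (ZMod q) Γ W),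
      Nat.card W = Nat.card M ∧
      (∀ x : Γ, Nat.card ↥(LinearMap.ker (τ x - 1)) = Nat.card {m : M // α x m = m}) ∧
      ((Nontrivial M ∧ ∀ K : Subgroup M, (∀ a, ∀ m ∈ K, α a m ∈ K) → K = ⊥ ∨ K = ⊤) →
        τ.IsIrreducible) := by
  let instMod : Module (ZMod q) (Additive M) := AddCommGroup.zmodModule (by
    intro x
    change Additive.ofMul (Additive.toMul x ^ q) = 0
    rw [hpow]; rfl)
  obtain ⟨τ, hτ⟩ := SECTION_rep α h1 hmul q
  obtain ⟨hfix, hirr⟩ := SECTION_rep_props α q τ hτ
  exact ⟨Additive M, inferInstance, instMod, inferInstance, τ, rfl, hfix, hirr⟩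

end Cfsg.Agent.S3818P
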