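import Cfsg.Agent.Helper10.S3822MODULEcore
import Cfsg.Agent.Helper26.S3818Asm

/-!
# S3822, row MODULE: `MODULE_bound` (wrapper around `MODULE_core` + Theorem A' = `flavellA`)
-/

set_option autoImplicit false

namespace Cfsg.Agent.S3822P

open Module Cfsg.Agent.S3818P

/-- MODULE: Theorem A' applied to `A` acting on `W₀/Φ`. -/
theorem MODULE_bound {G : Type*} [Group G] [Finite G] {p : ℕ} [Fact p.Prime] (hp : 3 < p)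
    (P A : Subgroup G) (hP : Nat.card P = p)
    (hA : Group.IsSolvable ↥A ∧ ∃ a ∈ A, A = P ⊔ P.map (MulAut.conj a).toMonoidHom)
    (R W₀ Φ : Subgroup G) (q : ℕ) (hq : q.Prime) (hRA : R ≤ A)
    (hΦW : Φ ≤ W₀) (hne : Φ ≠ W₀)
    (hW₀n : ∀ a ∈ A, ∀ w ∈ W₀, a * w * a⁻¹ ∈ W₀) (hΦn : ∀ a ∈ A, ∀ w ∈ Φ, a * w * a⁻¹ ∈ Φ)
    (hcomm : ∀ w ∈ W₀, ∀ w' ∈ W₀, w * w' * w⁻¹ * w'⁻¹ ∈ Φ) (hpow : ∀ w ∈ W₀, w ^ q ∈ Φ)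
    (hirr : ∀ U : Subgroup G, Φ ≤ U → U ≤ W₀ → (∀ a ∈ A, ∀ w ∈ U, a * w * a⁻¹ ∈ U) →
      U = Φ ∨ U = W₀)
    (hfix : ∀ w ∈ W₀, (∀ y ∈ R, y * w * y⁻¹ * w⁻¹ ∈ Φ) → w ∈ Φ) :
    (Nat.card {w : G // w ∈ W₀ ∧ ∀ y ∈ P, y * w * y⁻¹ * w⁻¹ ∈ Φ}) ^ 2 <
      Nat.card W₀ * Nat.card Φ := by
  have : Fact q.Prime := ⟨hq⟩
  have := hA.1
  exact MODULE_core P A hP hA.2 R W₀ Φ q hRA hΦW hne hW₀n hΦn hcomm hpow hirr hfix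
    (fun x hx hgen W _ _ _ τ hτ hx1 => by
      have := hτ
      exact flavellA (Fact.out) hp x hx hgen τ hx1)

end Cfsg.Agent.S3822P
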