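import Cfsg.Agent.Helper10.S3818SECTION
import Cfsg.Prelude.Def_Solvable

/-!
# S3822, row MODULE: core (Theorem A' as a hypothesis)

Theorem A' applied to `A` acting on `W₀/Φ`.
-/

set_option autoImplicit false

namespace Cfsg.Agent.S3822P

open Module Cfsg.Agent.S3818P

universe u v w

/-- Arithmetic at the end of MODULE. -/
theorem MODULE_arith (q c n f s C W0 : ℕ) (hq : 2 ≤ q) (hcn : 2 * c < n) (hf : 0 < f)
    (hs : s = q ^ c * f) (hC : C ≤ s) (hW0 : W0 = q ^ n * f) : C ^ 2 < W0 * f := by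
  have h1 : q ^ (2 * c) < q ^ n := Nat.pow_lt_pow_right hq hcn
  have h2 : s ^ 2 = q ^ (2 * c) * (f * f) := by
    rw [hs, pow_mul']; ring
  have h3 : C ^ 2 ≤ s ^ 2 := Nat.pow_le_pow_left hC 2
  have h4 : q ^ (2 * c) * (f * f) < q ^ n * (f * f) :=
    Nat.mul_lt_mul_of_pos_right h1 (Nat.mul_pos hf hf)
  calc C ^ 2 ≤ s ^ 2 := h3
    _ = q ^ (2 * c) * (f * f) := h2
    _ < q ^ n * (f * f) := h4
    _ = W0 * f := by rw [hW0]; ring

/-- MODULE (core): Theorem A' (`hFA`) applied to `A` acting on `W₀/Φ`. -/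
theorem MODULE_core {G : Type u} [Group G] [Finite G] {p : ℕ} [Fact p.Prime]
    (P A : Subgroup G) (hP : Nat.card P = p)
    (hA : ∃ a ∈ A, A = P ⊔ P.map (MulAut.conj a).toMonoidHom)
    (R W₀ Φ : Subgroup G) (q : ℕ) [Fact q.Prime] (hRA : R ≤ A)
    (hΦW : Φ ≤ W₀) (hne : Φ ≠ W₀)
    (hW₀n : ∀ a ∈ A, ∀ w ∈ W₀, a * w * a⁻¹ ∈ W₀) (hΦn : ∀ a ∈ A, ∀ w ∈ Φ, a * w * a⁻¹ ∈ Φ)
    (hcomm : ∀ w ∈ W₀, ∀ w' ∈ W₀, w * w' * w⁻¹ * w'⁻¹ ∈ Φ) (hpow : ∀ w ∈ W₀, w ^ q ∈ Φ)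
    (hirr : ∀ U : Subgroup G, Φ ≤ U → U ≤ W₀ → (∀ a ∈ A, ∀ w ∈ U, a * w * a⁻¹ ∈ U) →
      U = Φ ∨ U = W₀)
    (hfix : ∀ w ∈ W₀, (∀ y ∈ R, y * w * y⁻¹ * w⁻¹ ∈ Φ) → w ∈ Φ)
    (hFA : ∀ x : ↥A, x ^ p = 1 → Subgroup.normalClosure ({x} : Set ↥A) = ⊤ →
      ∀ (W : Type u) [AddCommGroup W] [Module (ZMod q) W] [FiniteDimensional (ZMod q) W]
        (τ : Representation (ZMod q) ↥A W), τ.IsIrreducible → τ x ≠ 1 → Bound τ x) :
    (Nat.card {w : G // w ∈ W₀ ∧ ∀ y ∈ P, y * w * y⁻¹ * w⁻¹ ∈ Φ}) ^ 2 <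
      Nat.card W₀ * Nat.card Φ := by
  classical
  obtain ⟨a, haA, hAeq⟩ := hA
  have hPA : P ≤ A := by
    rw [hAeq]; exact le_sup_left
  -- the module
  obtain ⟨W, iW1, iW2, iW3, τ, hcard, hfixc, hirrτ⟩ :=
    SECTION_module A.subtype W₀ Φ q hΦW (fun b w hw => hW₀n b b.2 w hw)
      (fun b w hw => hΦn b b.2 w hw) hcomm hpow
  have hτirr : τ.IsIrreducible :=
    hirrτ ⟨hne, fun U h1 h2 h3 => hirr U h1 h2 (fun b hb w hw => h3 ⟨b, hb⟩ w hw)⟩
  -- a generator of `P`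
  have hcyc : IsCyclic ↥P := isCyclic_of_prime_card hP
  obtain ⟨g, hg⟩ := hcyc.exists_generator
  have hgp : g ^ p = 1 := by
    rw [← hP]; exact pow_card_eq_one'
  let x : ↥A := ⟨(g : G), hPA g.2⟩
  have hxp : x ^ p = 1 := by
    apply Subtype.ext
    have := congrArg (Subtype.val) hgp
    simpa using this
  -- the normal closure of `x` is `A`
  have hgen : Subgroup.normalClosure ({x} : Set ↥A) = ⊤ := by
    rw [eq_top_iff]
    have hxN : x ∈ Subgroup.normalClosure ({x} : Set ↥A) :=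
      Subgroup.subset_normalClosure (Set.mem_singleton x)
    have hle : A ≤ (Subgroup.normalClosure ({x} : Set ↥A)).map A.subtype := by
      have hP1 : P ≤ (Subgroup.normalClosure ({x} : Set ↥A)).map A.subtype := by
        intro y hy
        obtain ⟨k, hk⟩ := Subgroup.mem_zpowers_iff.mp (hg ⟨y, hy⟩)
        refine ⟨x ^ k, Subgroup.zpow_mem _ hxN k, ?_⟩
        have := congrArg (Subtype.val) hk
        simpa using this
      have hP2 : P.map (MulAut.conj a).toMonoidHom ≤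
          (Subgroup.normalClosure ({x} : Set ↥A)).map A.subtype := by
        rintro _ ⟨y, hy, rfl⟩
        obtain ⟨k, hk⟩ := Subgroup.mem_zpowers_iff.mp (hg ⟨y, hy⟩)
        have hk' : (g : G) ^ k = y := by
          have := congrArg (Subtype.val) hk
          simpa using this
        let a' : ↥A := ⟨a, haA⟩
        have hmem : a' * x ^ k * a'⁻¹ ∈ Subgroup.normalClosure ({x} : Set ↥A) :=
          Subgroup.normalClosure_normal.conj_mem _ (Subgroup.zpow_mem _ hxN k) a'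
        refine ⟨a' * x ^ k * a'⁻¹, hmem, ?_⟩
        change (a' : G) * ((x ^ k : ↥A) : G) * ((a'⁻¹ : ↥A) : G) = _
        rw [Subgroup.coe_zpow, Subgroup.coe_inv]
        change a * (g : G) ^ k * a⁻¹ = _
        rw [hk']
        rfl
      calc A = P ⊔ P.map (MulAut.conj a).toMonoidHom := hAeq
        _ ≤ _ := sup_le hP1 hP2
    intro b _
    obtain ⟨c, hc, hcb⟩ := hle b.2
    have : c = b := Subtype.ext hcb
    rw [← this]; exact hc
  -- `τ x ≠ 1`
  have hx1 : τ x ≠ 1 := by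
    intro hτx
    have hker : ∀ b : ↥A, τ b = 1 := by
      have : Subgroup.normalClosure ({x} : Set ↥A) ≤ MonoidHom.ker τ := by
        apply Subgroup.normalClosure_le_normal
        intro y hy
        rw [Set.mem_singleton_iff] at hy
        rw [hy]
        exact MonoidHom.mem_ker.mpr hτx
      rw [hgen] at this
      intro b
      exact MonoidHom.mem_ker.mp (this (Subgroup.mem_top b))
    apply hne
    refine le_antisymm hΦW ?_
    intro w hw
    apply hfix w hw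
    intro y hy
    have h1 := hfixc ⟨y, hRA hy⟩
    rw [hker ⟨y, hRA hy⟩, sub_self, LinearMap.ker_zero] at h1
    have h2 : Nat.card ↥(⊤ : Submodule (ZMod q) W) = Nat.card W :=
      Nat.card_congr (Submodule.topEquiv (R := ZMod q) (M := W)).toEquiv
    rw [h2, hcard] at h1
    -- the fixed set is all of `W₀`
    have hsub : {w : G | w ∈ W₀ ∧ (A.subtype ⟨y, hRA hy⟩) * w * (A.subtype ⟨y, hRA hy⟩)⁻¹ * w⁻¹ ∈ Φ}
        ⊆ (W₀ : Set G) := fun w hw => hw.1
    have hfin : (W₀ : Set G).Finite := Set.toFinite _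
    have heq := Set.eq_of_subset_of_ncard_le hsub (by
      rw [← Nat.card_coe_set_eq, ← Nat.card_coe_set_eq]
      exact le_of_eq h1) hfin
    have hw' : w ∈ (W₀ : Set G) := hw
    rw [← heq] at hw'
    exact hw'.2
  -- Theorem A'
  have hB : Bound τ x := hFA x hxp hgen W τ hτirr hx1
  unfold Bound at hB
  have hqW : Nat.card W = q ^ finrank (ZMod q) W := by
    rw [Module.natCard_eq_pow_finrank (K := ZMod q) (V := W), Nat.card_zmod]
  have hqK : Nat.card ↥(LinearMap.ker (τ x - 1)) =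
      q ^ finrank (ZMod q) ↥(LinearMap.ker (τ x - 1)) := by
    rw [Module.natCard_eq_pow_finrank (K := ZMod q) (V := ↥(LinearMap.ker (τ x - 1))),
      Nat.card_zmod]
  have hCle : Nat.card {w : G // w ∈ W₀ ∧ ∀ y ∈ P, y * w * y⁻¹ * w⁻¹ ∈ Φ} ≤
      Nat.card {w : G // w ∈ W₀ ∧ (A.subtype x) * w * (A.subtype x)⁻¹ * w⁻¹ ∈ Φ} := by
    apply Nat.card_le_card_of_injective
      (fun w => (⟨w.1, w.2.1, w.2.2 (g : G) g.2⟩ :
        {w : G // w ∈ W₀ ∧ (A.subtype x) * w * (A.subtype x)⁻¹ * w⁻¹ ∈ Φ}))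
    intro w w' h
    apply Subtype.ext
    exact congrArg (fun z => z.1) h
  exact MODULE_arith q _ _ (Nat.card Φ) _ _ _ (Fact.out : q.Prime).two_le hB Nat.card_pos
    (by rw [← hfixc x, hqK]) hCle (by rw [← hcard, hqW])

end Cfsg.Agent.S3822P
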