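import Mathlib
import Cfsg.Agent.Helper26.S3911Defs
import Cfsg.Agent.S3909

/-!
# S3911 piece ML6c, core form (helper10 hedge): ML5 enters as a hypothesis.
-/

set_option autoImplicit false

namespace Cfsg.Agent.S3911P

/-- ML6c with `ML5` (a Sylow subgroup of `A₀` inside `M` is trivial) as a hypothesis. -/
theorem ML6c_aux_core_h10 {G : Type*} [Group G] [Finite G] (hB : BProp G) (M : Subgroup G) [M.Normal]
    (hgood : Hgood M) (A₀ : Subgroup G) (p : ℕ) [Fact p.Prime] (hpM : p ∣ Nat.card ↥M)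
    (S : Sylow p ↥A₀) (hS : (S : Subgroup ↥A₀) ≠ ⊥)
    (h5 : (∀ s ∈ S, (s : G) ∈ M) → (S : Subgroup ↥A₀) = ⊥) :
    ∀ P : Sylow p G, IsCyclic ↥(P : Subgroup G) := by
  classical
  have hp : p.Prime := Fact.out
  have habs := (Cfsg.Agent.S3909.result hB M).1
  intro P
  -- every element of `S` is conjugate to an element of `P`
  have hconj : ∀ s ∈ S, ∃ g : G, ∃ x ∈ (P : Subgroup G), g * x * g⁻¹ = (s : G) := by
    intro s hs
    have hpg : IsPGroup p ↥((S : Subgroup ↥A₀).map A₀.subtype) := S.2.map A₀.subtype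
    obtain ⟨P'', hP''⟩ := hpg.exists_le_sylow
    obtain ⟨g, hg⟩ := MulAction.exists_smul_eq G P P''
    have hs'' : (s : G) ∈ (P'' : Subgroup G) := hP'' (Subgroup.mem_map_of_mem A₀.subtype hs)
    rw [← hg, Sylow.coe_subgroup_smul, Subgroup.mem_smul_pointwise_iff_exists] at hs''
    obtain ⟨x, hx, hxs⟩ := hs''
    refine ⟨g, x, hx, ?_⟩
    rw [← hxs]
    rfl
  rcases hgood p hp hpM P with hc | hexp | hle
  · exact hc
  · exfalso
    apply hS
    apply h5
    intro s hs
    obtain ⟨g, x, hx, hxs⟩ := hconj s hs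
    have hsp : (s : G) ^ p = 1 := by
      rw [← hxs, conj_pow, hexp x hx, mul_one, mul_inv_cancel]
    by_cases hs1 : (s : G) = 1
    · rw [hs1]; exact M.one_mem
    · have hord : orderOf (s : G) = p := orderOf_eq_prime hsp hs1
      obtain ⟨m, hm⟩ := exists_prime_orderOf_dvd_card' (G := ↥M) p hpM
      apply habs
      refine ⟨(m : G), m.2, ?_⟩
      rw [Subgroup.orderOf_coe, hm, hord]
  · exfalso
    apply hS
    apply h5
    intro s hs
    obtain ⟨g, x, hx, hxs⟩ := hconj s hs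
    rw [← hxs]
    exact ‹M.Normal›.conj_mem x (hle hx) g

end Cfsg.Agent.S3911P
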