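import Mathlib
import Cfsg.Agent.Helper17.S3913Defs

/-!
# S3913 board, piece ZMIN (helper10): a nontrivial Z-group has a normal subgroup of prime order `q` containing all
elements of order `q`.

Route: the commutator subgroup `C` of a Z-group is cyclic and a Hall subgroup (Mathlib); if `C = ⊥` the group is cyclic
and we take `C = ⊤`.  For a prime `q ∣ |C|` every element of order `q` lies in `C`, and a cyclic group has a unique
subgroup of order `q`.
-/

set_option autoImplicit false

namespace Cfsg.Agent.S3913P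

/-- in a finite cyclic group, an element `y` with `y ^ q = 1` lies in `zpowers c` when `c` has order `q`. -/
theorem ZMIN_aux_cyc {C : Type*} [Group C] [Finite C] [IsCyclic C] (q : ℕ) (hq : 0 < q) (c : C)
    (hc : orderOf c = q) (y : C) (hy : y ^ q = 1) : y ∈ Subgroup.zpowers c := by
  classical
  letI := Fintype.ofFinite C
  have h1 : (Finset.univ.filter (fun a : C => a ^ q = 1)).card ≤ q := IsCyclic.card_pow_eq_one_le hq
  have h2 : (Finset.univ.filter (fun a : C => a ∈ Subgroup.zpowers c)) ⊆
      Finset.univ.filter (fun a : C => a ^ q = 1) := by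
    intro a ha
    simp only [Finset.mem_filter, Finset.mem_univ, true_and] at ha ⊢
    obtain ⟨k, rfl⟩ := Subgroup.mem_zpowers_iff.mp ha
    rw [← zpow_natCast, ← zpow_mul, mul_comm, zpow_mul, zpow_natCast, ← hc, pow_orderOf_eq_one, one_zpow]
  have h3 : (Finset.univ.filter (fun a : C => a ∈ Subgroup.zpowers c)).card = q := by
    rw [← hc, ← Nat.card_zpowers, Nat.card_eq_fintype_card, Fintype.card_subtype]
  have h4 := Finset.eq_of_subset_of_card_le h2 (by rw [h3]; exact h1)
  have h5 : y ∈ Finset.univ.filter (fun a : C => a ^ q = 1) := by simp [hy]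
  rw [← h4] at h5
  simpa using h5

/-- a normal cyclic subgroup `C`, a prime `q ∣ |C|` such that all elements of order `q` lie in `C`. -/
theorem ZMIN_aux_main {X : Type*} [Group X] [Finite X] (C : Subgroup X) [hCn : C.Normal] [IsCyclic ↥C]
    (q : ℕ) (hq : q.Prime) (hdvd : q ∣ Nat.card ↥C) (hall : ∀ x : X, orderOf x = q → x ∈ C) :
    ∃ (M : Subgroup X), M.Normal ∧ Nat.card ↥M = q ∧ ∀ x : X, orderOf x = q → x ∈ M := by
  have : Fact q.Prime := ⟨hq⟩
  obtain ⟨c, hc⟩ := exists_prime_orderOf_dvd_card' q hdvd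
  have key : ∀ y : X, y ∈ C → y ^ q = 1 → y ∈ Subgroup.zpowers (c : X) := by
    intro y hyC hy
    have h1 := ZMIN_aux_cyc q hq.pos c hc ⟨y, hyC⟩ (Subtype.ext (by simpa using hy))
    obtain ⟨k, hk⟩ := Subgroup.mem_zpowers_iff.mp h1
    refine Subgroup.mem_zpowers_iff.mpr ⟨k, ?_⟩
    have h2 := congrArg Subtype.val hk
    simpa using h2
  have hcX : orderOf (c : X) = q := by rw [Subgroup.orderOf_coe]; exact hc
  refine ⟨Subgroup.zpowers (c : X), ⟨?_⟩, ?_, ?_⟩
  · intro n hn g
    obtain ⟨k, rfl⟩ := Subgroup.mem_zpowers_iff.mp hn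
    have h1 : g * (c : X) * g⁻¹ ∈ Subgroup.zpowers (c : X) := by
      apply key
      · exact hCn.conj_mem _ c.2 g
      · rw [conj_pow, ← hcX, pow_orderOf_eq_one]; simp
    rw [← conj_zpow]
    exact Subgroup.zpow_mem _ h1 k
  · rw [Nat.card_zpowers, hcX]
  · intro x hx
    apply key x (hall x hx)
    rw [← hx, pow_orderOf_eq_one]

/-- ZMIN (M): a nontrivial group with cyclic Sylow subgroups has a normal subgroup of prime order `q` containing all
elements of order `q`. -/
theorem ZMIN {X : Type*} [Group X] [Finite X] [IsZGroup X] [Nontrivial X] :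
    ∃ (M : Subgroup X) (q : ℕ), M.Normal ∧ q.Prime ∧ Nat.card ↥M = q ∧ ∀ x : X, orderOf x = q → x ∈ M := by
  by_cases hcomm : commutator X = ⊥
  · have hcen := (commutator_eq_bot_iff_center_eq_top X).mp hcomm
    haveI hnil : Group.IsNilpotent X := ⟨⟨1, by rw [Subgroup.upperCentralSeries_one, hcen]⟩⟩
    haveI hcyc : IsCyclic X := inferInstance
    haveI : IsCyclic ↥(⊤ : Subgroup X) :=
      isCyclic_of_surjective (Subgroup.topEquiv (G := X)).symm (Subgroup.topEquiv (G := X)).symm.surjective
    have hcard : Nat.card X ≠ 1 := by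
      have := Finite.one_lt_card (α := X)
      omega
    obtain ⟨M, h1, h2, h3⟩ := ZMIN_aux_main (⊤ : Subgroup X) (Nat.card X).minFac (Nat.minFac_prime hcard)
      (by rw [Subgroup.card_top]; exact Nat.minFac_dvd _) (fun x _ => Subgroup.mem_top x)
    exact ⟨M, _, h1, Nat.minFac_prime hcard, h2, h3⟩
  · haveI : IsCyclic ↥(commutator X) := IsZGroup.isCyclic_commutator X
    have hcop := IsZGroup.coprime_commutator_index X
    have hcard : Nat.card ↥(commutator X) ≠ 1 := fun h => hcomm (Subgroup.card_eq_one.mp h)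
    have hq : (Nat.card ↥(commutator X)).minFac.Prime := Nat.minFac_prime hcard
    have hqd : (Nat.card ↥(commutator X)).minFac ∣ Nat.card ↥(commutator X) := Nat.minFac_dvd _
    obtain ⟨M, h1, h2, h3⟩ := ZMIN_aux_main (commutator X) _ hq hqd (by
      intro x hx
      have hcq : (Nat.card ↥(commutator X)).minFac.Coprime (commutator X).index :=
        Nat.Coprime.coprime_dvd_left hqd hcop
      rw [← QuotientGroup.eq_one_iff (N := commutator X)]
      have h1 : orderOf ((x : X ⧸ commutator X)) ∣ (Nat.card ↥(commutator X)).minFac :=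
        hx ▸ orderOf_map_dvd (QuotientGroup.mk' (commutator X)) x
      have h2 : orderOf ((x : X ⧸ commutator X)) ∣ (commutator X).index := by
        rw [Subgroup.index_eq_card]; exact orderOf_dvd_natCard _
      have h3 := Nat.eq_one_of_dvd_coprimes hcq h1 h2
      exact orderOf_eq_one_iff.mp h3)
    exact ⟨M, _, h1, hq, h2, h3⟩

end Cfsg.Agent.S3913P
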