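import Mathlib
import Cfsg.Agent.Helper27.S4009Defs

/-!
# S4009 board, piece GEN2 (helper10): a subgroup of index `p ^ 2` modulo `N` is generated by at most two elements modulo `N`.
-/

set_option autoImplicit false

namespace Cfsg.Agent.S4009P

open Cfsg.Agent.S4009P Subgroup
open scoped commutatorElement

variable {P : Type*} [Group P]

/-- GEN2 (M): index `p ^ 2`. -/
theorem GEN2 [Finite P] {p : ℕ} (hp : p.Prime) {N X : Subgroup P} [N.Normal] (h : N.relIndex (X ⊔ N) = p ^ 2) :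
    (∃ c ∈ X, X ≤ zpowers c ⊔ N) ∨ ∃ c ∈ X, ∃ d ∈ X, X ≤ closure {c, d} ⊔ N := by
  have hp1 : p ≠ 1 := hp.ne_one
  -- `X ≰ N`
  have hXN : ¬ X ≤ N := by
    intro hle
    have h1 : X ⊔ N = N := sup_eq_right.mpr hle
    rw [h1, Subgroup.relIndex_self] at h
    have : p ^ 2 ≠ 1 := by
      intro h2
      exact hp1 (by simpa using (Nat.pow_eq_one.mp h2))
    exact this h.symm
  obtain ⟨c, hcX, hcN⟩ := SetLike.not_le_iff_exists.mp hXN
  have hNZ : N ≤ zpowers c ⊔ N := le_sup_right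
  have hZ : zpowers c ⊔ N ≤ X ⊔ N :=
    sup_le ((Subgroup.zpowers_le.mpr hcX).trans le_sup_left) le_sup_right
  have hmul := Subgroup.relIndex_mul_relIndex N (zpowers c ⊔ N) (X ⊔ N) hNZ hZ
  rw [h] at hmul
  have ha1 : N.relIndex (zpowers c ⊔ N) ≠ 1 := by
    intro h1
    have h2 : zpowers c ⊔ N ≤ N := Subgroup.relIndex_eq_one.mp h1
    exact hcN (h2 ((le_sup_left : zpowers c ≤ zpowers c ⊔ N) (Subgroup.mem_zpowers c)))
  have hdvd : N.relIndex (zpowers c ⊔ N) ∣ p ^ 2 := Dvd.intro _ hmul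
  obtain ⟨m, hm, hma⟩ := (Nat.dvd_prime_pow hp).mp hdvd
  have hm0 : m ≠ 0 := by
    rintro rfl
    exact ha1 (by rw [hma, pow_zero])
  have hm12 : m = 1 ∨ m = 2 := by omega
  have hppos : 0 < p := hp.pos
  rcases hm12 with rfl | rfl
  · -- relIndex `p`: a second generator is needed
    rw [hma, pow_one, sq] at hmul
    have hb : (zpowers c ⊔ N).relIndex (X ⊔ N) = p := Nat.eq_of_mul_eq_mul_left hppos hmul
    have hXZ : ¬ X ≤ zpowers c ⊔ N := by
      intro hle
      have h1 : X ⊔ N ≤ zpowers c ⊔ N := sup_le hle le_sup_right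
      rw [Subgroup.relIndex_eq_one.mpr h1] at hb
      exact hp1 hb.symm
    obtain ⟨d, hdX, hdZ⟩ := SetLike.not_le_iff_exists.mp hXZ
    have hcd : zpowers c ≤ closure {c, d} :=
      Subgroup.zpowers_le.mpr (Subgroup.subset_closure (by simp))
    have hZZ' : zpowers c ⊔ N ≤ closure {c, d} ⊔ N := sup_le_sup_right hcd N
    have hZ' : closure {c, d} ⊔ N ≤ X ⊔ N := by
      refine sup_le ?_ le_sup_right
      refine (Subgroup.closure_le X |>.mpr ?_).trans le_sup_left
      intro x hx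
      rcases hx with rfl | rfl
      · exact hcX
      · exact hdX
    have hmul2 := Subgroup.relIndex_mul_relIndex (zpowers c ⊔ N) (closure {c, d} ⊔ N) (X ⊔ N) hZZ' hZ'
    rw [hb] at hmul2
    have hb1 : (zpowers c ⊔ N).relIndex (closure {c, d} ⊔ N) ≠ 1 := by
      intro h1
      have h2 : closure {c, d} ⊔ N ≤ zpowers c ⊔ N := Subgroup.relIndex_eq_one.mp h1
      exact hdZ (h2 ((le_sup_left : closure {c, d} ≤ closure {c, d} ⊔ N)
        (Subgroup.subset_closure (by simp))))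
    have hdvd2 : (zpowers c ⊔ N).relIndex (closure {c, d} ⊔ N) ∣ p := Dvd.intro _ hmul2
    rcases (Nat.dvd_prime hp).mp hdvd2 with h3 | h3
    · exact absurd h3 hb1
    · rw [h3] at hmul2
      have h4 : (closure {c, d} ⊔ N).relIndex (X ⊔ N) = 1 := by
        have : p * (closure {c, d} ⊔ N).relIndex (X ⊔ N) = p * 1 := by rw [hmul2, mul_one]
        exact Nat.eq_of_mul_eq_mul_left hppos this
      have h5 : X ⊔ N ≤ closure {c, d} ⊔ N := Subgroup.relIndex_eq_one.mp h4
      exact Or.inr ⟨c, hcX, d, hdX, le_sup_left.trans h5⟩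
  · -- relIndex `p ^ 2`: `c` suffices
    rw [hma] at hmul
    have h4 : (zpowers c ⊔ N).relIndex (X ⊔ N) = 1 := by
      have : p ^ 2 * (zpowers c ⊔ N).relIndex (X ⊔ N) = p ^ 2 * 1 := by rw [hmul, mul_one]
      exact Nat.eq_of_mul_eq_mul_left (pow_pos hppos 2) this
    have h5 : X ⊔ N ≤ zpowers c ⊔ N := Subgroup.relIndex_eq_one.mp h4
    exact Or.inl ⟨c, hcX, le_sup_left.trans h5⟩

end Cfsg.Agent.S4009P
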