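import Mathlib

/-!
# S4017: definitions shared by the pieces (driver helper10)

`Hyp G p q` bundles the hypotheses of the frozen statement, `IH` is the induction hypothesis,
`Cfg G p a Q z` is the reduced configuration (Mersenne case `p = 2 ^ a - 1`, `q = 2`), `U p t` is the
subgroup generated by the `p`-elements of the centralizer of `t`, and `Facts` bundles the basic
consequences of `Cfg` used by the later pieces.
-/

set_option autoImplicit false

namespace Cfsg.Agent.S4017P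

/-- every prime divisor of `n` is `p` or `q` -/
def PQ (p q n : ℕ) : Prop := ∀ r : ℕ, r.Prime → r ∣ n → r = p ∨ r = q

/-- `x` is a `p`-element -/
def IsPEl (p : ℕ) {G : Type*} [Group G] (x : G) : Prop := ∃ k : ℕ, orderOf x = p ^ k

/-- the hypotheses of S4017 -/
structure Hyp (G : Type*) [Group G] [Finite G] (p q : ℕ) : Prop where
  hp : p.Prime
  hq : q.Prime
  hpq : p ≠ q
  hp2 : p ≠ 2
  hpG : p ∣ Nat.card G
  hqG : q ∣ Nat.card G
  hmix : ∀ H : Subgroup G, H ≠ ⊤ → ¬ IsPGroup q H → q ∣ Nat.card H → p ∣ Nat.card H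
  hlarge : q ^ (Nat.card G).factorization q - 1 < p ∨
      (p = q ^ (Nat.card G).factorization q - 1 ∧ ∀ P : Sylow p G, IsMulCommutative P)

/-- the induction hypothesis: the theorem for all groups (in the same universe) of order `< n` -/
def IH.{u} (p q n : ℕ) : Prop :=
  ∀ (G' : Type u) [Group G'] [Finite G'], Nat.card G' < n → Hyp G' p q → PQ p q (Nat.card G')

/-- the subgroup generated by the `p`-elements of `C_G(t)` -/
def U (p : ℕ) {G : Type*} [Group G] (t : G) : Subgroup G :=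
  Subgroup.closure {x : G | x * t = t * x ∧ IsPEl p x}

/-- the reduced configuration: `q = 2`, `p = 2 ^ a - 1`, `Q` an (elementary abelian) Sylow 2-subgroup,
`z` a `p`-element of `N_G(Q)` transitive on `Q - 1`; every proper subgroup of even order is a
`{2,p}`-group, a third prime divides `|G|`, `p`-subgroups are abelian, no central element of order `p`,
`O_2(G) = 1`. -/
structure Cfg (G : Type*) [Group G] [Finite G] (p a : ℕ) (Q : Subgroup G) (z : G) : Prop where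
  hp : p.Prime
  hp2 : p ≠ 2
  ha : 2 ^ a = p + 1
  hQ : Nat.card Q = 2 ^ a
  hG2 : (Nat.card G).factorization 2 = a
  hI : ∀ H : Subgroup G, H ≠ ⊤ → 2 ∣ Nat.card H → PQ p 2 (Nat.card H)
  hthird : ∃ r : ℕ, r.Prime ∧ r ∣ Nat.card G ∧ r ≠ p ∧ r ≠ 2
  hab : ∀ P : Subgroup G, IsPGroup p P → ∀ x ∈ P, ∀ y ∈ P, x * y = y * x
  hzN : z ∈ Subgroup.normalizer (Q : Set G)
  hzp : IsPEl p z
  htrans : ∀ x ∈ Q, x ≠ 1 → ∀ y ∈ Q, y ≠ 1 → ∃ i : ℕ, z ^ i * x * (z ^ i)⁻¹ = y
  hcen : ∀ c ∈ Subgroup.center G, orderOf c = p → False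
  hO2 : ∀ N : Subgroup G, N.Normal → IsPGroup 2 N → N = ⊥

/-- basic consequences of `Cfg` (each field is one of the basic pieces) -/
structure Facts (G : Type*) [Group G] [Finite G] (p a : ℕ) (Q : Subgroup G) (z : G) : Prop where
  /-- `Q` is elementary abelian -/
  elem : ∀ x ∈ Q, x * x = 1
  /-- `Q` is a Sylow 2-subgroup: every 2-subgroup is conjugate into `Q` -/
  sylQ : ∀ S : Subgroup G, IsPGroup 2 S → ∃ g : G, ∀ x ∈ S, g * x * g⁻¹ ∈ Q
  /-- every 2-element squares to 1 -/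
  two : ∀ x : G, IsPEl 2 x → x * x = 1
  /-- one class of involutions -/
  conj : ∀ s t : G, orderOf s = 2 → orderOf t = 2 → ∃ g : G, g * s * g⁻¹ = t
  /-- proper subgroups of even order have order dividing `2^a p^(v_p)` -/
  maxord : ∀ H : Subgroup G, H ≠ ⊤ → 2 ∣ Nat.card H →
    Nat.card H ∣ 2 ^ a * p ^ (Nat.card G).factorization p
  /-- orbit lemma -/
  orb : ∀ (S : Subgroup G) (y : G), (∀ x ∈ S, y * x * y⁻¹ ∈ S) → IsPEl p y →
    (Nat.card S < 2 ^ a ∨ (Nat.card S ≤ 2 ^ a ∧ ∃ t ∈ S, t ≠ 1 ∧ y * t * y⁻¹ = t)) →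
    ∀ x ∈ S, y * x * y⁻¹ = x
  /-- `U p t` is a `p`-group -/
  utp : ∀ t : G, orderOf t = 2 → IsPGroup p (U p t)
  /-- `|C(t)| = 2^a |U p t|` -/
  utcard : ∀ t : G, orderOf t = 2 →
    Nat.card (Subgroup.centralizer ({t} : Set G)) = 2 ^ a * Nat.card (U p t)
  /-- a `p`-element of `N_G(Q)` lying in `P Q`, `P` a `p`-subgroup normalized by `Q`, centralizes `Q` -/
  zout : ∀ P : Subgroup G, IsPGroup p P → (∀ v ∈ Q, ∀ x ∈ P, v * x * v⁻¹ ∈ P) →
    ∀ m : G, m ∈ Subgroup.normalizer (Q : Set G) → IsPEl p m → m ∈ P ⊔ Q → ∀ v ∈ Q, m * v = v * m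
  /-- `z` does not centralize `Q` -/
  znc : ∃ v ∈ Q, z * v ≠ v * z
  /-- `N_G(<y>)` is proper for a `p`-element `y ≠ 1` inverted by an involution -/
  proper : ∀ y s : G, y ≠ 1 → IsPEl p y → orderOf s = 2 → s * y * s⁻¹ = y⁻¹ →
    Subgroup.normalizer ((Subgroup.zpowers y : Subgroup G) : Set G) ≠ ⊤
  /-- `p`-elements of `N_G(Q)` commute with `p`-elements of `C_G(Q)` -/
  zc : ∀ m c : G, m ∈ Subgroup.normalizer (Q : Set G) → IsPEl p m → IsPEl p c →
    (∀ v ∈ Q, c * v = v * c) → m * c = c * m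

/-- Case A: `Q` centralizes `U p t` for every `t ∈ Q - 1` -/
def CaseA (p : ℕ) {G : Type*} [Group G] (Q : Subgroup G) : Prop :=
  ∀ t ∈ Q, t ≠ 1 → ∀ x ∈ U p t, ∀ v ∈ Q, x * v = v * x

/-- `C_G(Q)` contains no nontrivial `p`-element -/
def NoCQ (p : ℕ) {G : Type*} [Group G] (Q : Subgroup G) : Prop :=
  ∀ c : G, IsPEl p c → (∀ v ∈ Q, c * v = v * c) → c = 1

/-- the conclusion of the piece `NY`, for one element `y`: a Sylow `p`-subgroup of `G` normalized by `Q`
and containing every `p`-element of `C_G(y)` -/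
def NYc (p : ℕ) {G : Type*} [Group G] (Q : Subgroup G) (y : G) : Prop :=
  ∃ Pst : Subgroup G, IsPGroup p Pst ∧ Nat.card Pst = p ^ (Nat.card G).factorization p ∧
    (∀ v ∈ Q, ∀ x ∈ Pst, v * x * v⁻¹ ∈ Pst) ∧ (∀ x : G, x * y = y * x → IsPEl p x → x ∈ Pst)

/-- the hypothesis of the piece `NY` on `y`: `Q` acts on `y` by `±1`, not trivially -/
def NYh (p : ℕ) {G : Type*} [Group G] (Q : Subgroup G) (y : G) : Prop :=
  y ≠ 1 ∧ IsPEl p y ∧ (∀ v ∈ Q, v * y * v⁻¹ = y ∨ v * y * v⁻¹ = y⁻¹) ∧ ∃ s ∈ Q, s * y * s⁻¹ = y⁻¹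

end Cfsg.Agent.S4017P
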