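import Mathlib
import Cfsg.Agent.Helper10.S4017Defs
import Cfsg.Agent.S0071

/-!
# S4017: normal 2-complement in a `{2,p}`-subgroup with trivial 2-local `p`-action (used by UT and NY)
-/

set_option autoImplicit false

namespace Cfsg.Agent.S4017P

theorem NC_ispel_of_dvd {p n : ℕ} (hp : p.Prime) (hn : n ≠ 0)
    (h : ∀ r : ℕ, r.Prime → r ∣ n → r = p) : ∃ k : ℕ, n = p ^ k :=
  ⟨_, Nat.eq_prime_pow_of_unique_prime_dvd hn (fun {d} hd hdn => h d hd hdn)⟩

theorem NC_main {G : Type*} [Group G] [Finite G] {p : ℕ} (hp : p.Prime) (hp2 : p ≠ 2)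
    (C : Subgroup G)
    (hC : ∀ r : ℕ, r.Prime → r ∣ Nat.card C → r = p ∨ r = 2)
    (hloc : ∀ Q2 : Subgroup G, Q2 ≤ C → IsPGroup 2 Q2 → ∀ g ∈ C, IsPEl p g →
      (∀ x ∈ Q2, g * x * g⁻¹ ∈ Q2) → ∀ x ∈ Q2, g * x * g⁻¹ = x) :
    ∃ K : Subgroup G, K ≤ C ∧ IsPGroup p K ∧ Nat.card K = p ^ (Nat.card C).factorization p ∧
      Nat.card C = 2 ^ (Nat.card C).factorization 2 * Nat.card K ∧
      ∀ x ∈ C, IsPEl p x → x ∈ K := by
  classical
  haveI : Fact (Nat.Prime 2) := ⟨Nat.prime_two⟩
  obtain ⟨P⟩ : Nonempty (Sylow 2 C) := inferInstance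
  have hfrob := (Cfsg.Agent.S0071.result P).2 (by
    intro Q2' hQ2' g' hg'N hg'c
    -- g' is a p-element
    have hg'p : IsPEl p (g' : G) := by
      have hdvd : orderOf g' ∣ Nat.card C := orderOf_dvd_natCard g'
      obtain ⟨k, hk⟩ := NC_ispel_of_dvd hp (orderOf_pos g').ne' (by
        intro r hr hrn
        rcases hC r hr (hrn.trans hdvd) with h1 | h1
        · exact h1
        · exfalso
          rw [h1] at hrn
          have := Nat.Coprime.eq_one_of_dvd hg'c.symm hrn
          omega)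
      exact ⟨k, by rw [Subgroup.orderOf_coe]; exact hk⟩
    have hQ2p : IsPGroup 2 (Q2'.map C.subtype) := (P.2.to_le hQ2').map _
    have hQ2le : Q2'.map C.subtype ≤ C := Subgroup.map_subtype_le _
    have hnorm : ∀ x ∈ Q2'.map C.subtype, (g' : G) * x * (g' : G)⁻¹ ∈ Q2'.map C.subtype := by
      rintro x ⟨x', hx', rfl⟩
      refine ⟨g' * x' * g'⁻¹, ?_, by simp⟩
      exact (Subgroup.mem_normalizer_iff.1 hg'N x').1 hx'
    have hcen := hloc _ hQ2le hQ2p (g' : G) g'.2 hg'p hnorm
    rw [Subgroup.mem_centralizer_iff]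
    intro x' hx'
    have := hcen (x' : G) ⟨x', hx', rfl⟩
    apply Subtype.ext
    have e : ((x' * g' : C) : G) = (x' : G) * (g' : G) := rfl
    have e2 : ((g' * x' : C) : G) = (g' : G) * (x' : G) := rfl
    rw [e, e2]
    calc (x' : G) * (g' : G) = ((g' : G) * (x' : G) * (g' : G)⁻¹) * (g' : G) := by rw [this]
      _ = (g' : G) * (x' : G) := by group)
  obtain ⟨N, hNn, hNc⟩ := hfrob
  have hcard : Nat.card N * Nat.card (P : Subgroup C) = Nat.card C := hNc.card_mul_card
  have hPcard : Nat.card (P : Subgroup C) = 2 ^ (Nat.card C).factorization 2 :=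
    Sylow.card_eq_multiplicity P
  have hCpos : Nat.card C ≠ 0 := Nat.card_pos.ne'
  -- card N is the 2'-part
  have hNodd : ¬ 2 ∣ Nat.card N := by
    intro h2
    have : 2 ^ ((Nat.card C).factorization 2 + 1) ∣ Nat.card C := by
      have h3 : Nat.card C = Nat.card N * 2 ^ (Nat.card C).factorization 2 := by
        rw [← hPcard]; exact hcard.symm
      obtain ⟨m, hm⟩ := h2
      refine ⟨m, ?_⟩
      calc Nat.card C = Nat.card N * 2 ^ (Nat.card C).factorization 2 := h3
        _ = 2 ^ ((Nat.card C).factorization 2 + 1) * m := by rw [hm]; ring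
    exact Nat.pow_succ_factorization_not_dvd hCpos Nat.prime_two this
  have hNpos : Nat.card N ≠ 0 := Nat.card_pos.ne'
  obtain ⟨k, hk⟩ := NC_ispel_of_dvd hp hNpos (by
    intro r hr hrN
    have : r ∣ Nat.card C := by rw [← hcard]; exact hrN.mul_right _
    rcases hC r hr this with h1 | h1
    · exact h1
    · exfalso; rw [h1] at hrN; exact hNodd hrN)
  have hkfac : k = (Nat.card C).factorization p := by
    have h1 : (Nat.card C).factorization p
        = (Nat.card N).factorization p + (Nat.card (P : Subgroup C)).factorization p := by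
      rw [← hcard, Nat.factorization_mul hNpos (by rw [hPcard]; positivity)]
      rfl
    rw [h1, hk, hPcard, hp.factorization_pow, Nat.prime_two.factorization_pow]
    simp [hp2.symm]
  refine ⟨N.map C.subtype, Subgroup.map_subtype_le _, ?_, ?_, ?_, ?_⟩
  · apply IsPGroup.of_card (n := k)
    rw [Subgroup.card_map_of_injective (Subgroup.subtype_injective C)]
    exact hk
  · rw [Subgroup.card_map_of_injective (Subgroup.subtype_injective C), hk, hkfac]
  · rw [Subgroup.card_map_of_injective (Subgroup.subtype_injective C), ← hPcard, mul_comm]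
    exact hcard.symm
  · intro x hx hxp
    haveI := hNn
    refine ⟨⟨x, hx⟩, ?_, rfl⟩
    -- image in the quotient has order dividing p^j and 2^i
    obtain ⟨j, hj⟩ := hxp
    have h1 : (QuotientGroup.mk (⟨x, hx⟩ : C) : C ⧸ N) ^ (p ^ j) = 1 := by
      rw [← QuotientGroup.mk_pow]
      have : (⟨x, hx⟩ : C) ^ (p ^ j) = 1 := by
        apply Subtype.ext
        simp only [Subgroup.coe_pow, Subgroup.coe_one]
        rw [← hj]; exact pow_orderOf_eq_one x
      rw [this]; rfl
    have hqcard : Nat.card (C ⧸ N) = 2 ^ (Nat.card C).factorization 2 := by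
      have := Subgroup.card_eq_card_quotient_mul_card_subgroup N
      rw [← hcard, hPcard] at this
      have h3 : Nat.card (C ⧸ N) * Nat.card N = 2 ^ (Nat.card C).factorization 2 * Nat.card N := by
        rw [← this]; ring
      exact Nat.eq_of_mul_eq_mul_right (Nat.pos_of_ne_zero hNpos) h3
    have h2 : (QuotientGroup.mk (⟨x, hx⟩ : C) : C ⧸ N) ^ (2 ^ (Nat.card C).factorization 2) = 1 := by
      rw [← hqcard]; exact pow_card_eq_one'
    have hcop : Nat.Coprime (p ^ j) (2 ^ (Nat.card C).factorization 2) := by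
      apply Nat.Coprime.pow
      exact (Nat.coprime_primes hp Nat.prime_two).2 hp2
    have h3 : (QuotientGroup.mk (⟨x, hx⟩ : C) : C ⧸ N) = 1 := by
      have := pow_gcd_eq_one.2 ⟨h1, h2⟩
      rwa [hcop.gcd_eq_one, pow_one] at this
    exact (QuotientGroup.eq_one_iff _).1 h3

end Cfsg.Agent.S4017P
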