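import Mathlib
import Cfsg.Agent.Helper10.S4017Defs
import Cfsg.Agent.Helper10.S4017NC

/-!
# S4017 piece NY: `C_G(y)` has a normal Sylow `p`-subgroup, a full Sylow `p`-subgroup of `G`,
normalized by `Q`
-/

set_option autoImplicit false

namespace Cfsg.Agent.S4017P

theorem NY {G : Type*} [Group G] [Finite G] {p a : ℕ} {Q : Subgroup G} {z : G}
    (h : Cfg G p a Q z) (f : Facts G p a Q z) : ∀ y : G, NYh p Q y → NYc p Q y := by
  intro y hy
  obtain ⟨hy1, hyp, hact, s, hsQ, hsy⟩ := hy
  -- basic facts on s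
  have hs1 : s ≠ 1 := by
    rintro rfl
    simp only [one_mul, inv_one, mul_one] at hsy
    -- y = y⁻¹ ⇒ y * y = 1 ⇒ order divides 2, odd ⇒ y = 1
    have hyy : y * y = 1 := by
      calc y * y = y * y⁻¹ := by rw [← hsy]
        _ = 1 := mul_inv_cancel y
    obtain ⟨k, hk⟩ := hyp
    have hdvd : orderOf y ∣ 2 := orderOf_dvd_of_pow_eq_one (by rw [pow_two]; exact hyy)
    rw [hk] at hdvd
    have hodd : Odd (p ^ k) := (h.hp.odd_of_ne_two h.hp2).pow
    have : p ^ k = 1 := by
      rcases (Nat.dvd_prime Nat.prime_two).1 hdvd with h1 | h1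
      · exact h1
      · rw [h1] at hodd; exact absurd hodd (by decide)
    rw [this] at hk
    exact hy1 (orderOf_eq_one_iff.1 hk)
  have hs2 : orderOf s = 2 :=
    orderOf_eq_prime (by rw [pow_two]; exact f.elem s hsQ) hs1
  have hsnc : s * y ≠ y * s := by
    intro hc
    have : s * y * s⁻¹ = y := by rw [hc]; group
    rw [this] at hsy
    -- y = y⁻¹ again
    have hyy : y * y = 1 := by
      calc y * y = y * y⁻¹ := by rw [← hsy]
        _ = 1 := mul_inv_cancel y
    obtain ⟨k, hk⟩ := hyp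
    have hdvd : orderOf y ∣ 2 := orderOf_dvd_of_pow_eq_one (by rw [pow_two]; exact hyy)
    rw [hk] at hdvd
    have hodd : Odd (p ^ k) := (h.hp.odd_of_ne_two h.hp2).pow
    have : p ^ k = 1 := by
      rcases (Nat.dvd_prime Nat.prime_two).1 hdvd with h1 | h1
      · exact h1
      · rw [h1] at hodd; exact absurd hodd (by decide)
    rw [this] at hk
    exact hy1 (orderOf_eq_one_iff.1 hk)
  set N := Subgroup.normalizer ((Subgroup.zpowers y : Subgroup G) : Set G) with hNdef
  set C := Subgroup.centralizer ({y} : Set G) with hCdef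
  have hmemC : ∀ x : G, x ∈ C ↔ x * y = y * x := by
    intro x
    rw [hCdef, Subgroup.mem_centralizer_iff]
    constructor
    · intro hx; exact (hx y rfl).symm
    · intro hx w hw; rw [Set.mem_singleton_iff] at hw; rw [hw]; exact hx.symm
  have hNtop : N ≠ ⊤ := f.proper y s hy1 hyp hs2 hsy
  have hNmem : ∀ n ∈ N, ∀ x : G, x ∈ Subgroup.zpowers y ↔ n * x * n⁻¹ ∈ Subgroup.zpowers y := by
    intro n hn
    exact Subgroup.mem_normalizer_iff.1 hn
  -- membership in N: g y g⁻¹ ∈ zpowers y and g⁻¹ y g ∈ zpowers y suffices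
  have hmemN : ∀ g : G, g * y * g⁻¹ ∈ Subgroup.zpowers y → g⁻¹ * y * g ∈ Subgroup.zpowers y →
      g ∈ N := by
    intro g h1 h2
    rw [hNdef, Subgroup.mem_normalizer_iff]
    intro x
    constructor
    · rintro ⟨k, rfl⟩
      have : g * y ^ k * g⁻¹ = (g * y * g⁻¹) ^ k := by
        rw [← MulAut.conj_apply, map_zpow, MulAut.conj_apply]
      rw [this]; exact zpow_mem h1 k
    · intro hx
      obtain ⟨k, hk⟩ := hx
      have e : x = g⁻¹ * (g * x * g⁻¹) * g := by group
      rw [e, ← hk]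
      have : g⁻¹ * y ^ k * g = (g⁻¹ * y * g) ^ k := by
        have := map_zpow (MulAut.conj g⁻¹).toMonoidHom y k
        simpa [MulAut.conj_apply] using this
      rw [this]; exact zpow_mem h2 k
  have hCN : C ≤ N := by
    intro g hg
    have hgy := (hmemC g).1 hg
    apply hmemN
    · have : g * y * g⁻¹ = y := by rw [hgy]; group
      rw [this]; exact Subgroup.mem_zpowers y
    · have : g⁻¹ * y * g = y := by
        calc g⁻¹ * y * g = g⁻¹ * (y * g) := by group
          _ = g⁻¹ * (g * y) := by rw [hgy]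
          _ = y := by group
      rw [this]; exact Subgroup.mem_zpowers y
  have hQN : Q ≤ N := by
    intro v hv
    have hv' : v⁻¹ ∈ Q := Q.inv_mem hv
    apply hmemN
    · rcases hact v hv with h1 | h1
      · rw [h1]; exact Subgroup.mem_zpowers y
      · rw [h1]; exact Subgroup.inv_mem _ (Subgroup.mem_zpowers y)
    · rcases hact v⁻¹ hv' with h1 | h1
      · rw [inv_inv] at h1; rw [h1]; exact Subgroup.mem_zpowers y
      · rw [inv_inv] at h1; rw [h1]; exact Subgroup.inv_mem _ (Subgroup.mem_zpowers y)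
  have hsN : s ∈ N := hQN hsQ
  have h2N : 2 ∣ Nat.card N := by
    have := orderOf_dvd_natCard (⟨s, hsN⟩ : N)
    rwa [Subgroup.orderOf_mk, hs2] at this
  have hNord := f.maxord N hNtop h2N
  have hCdvdN : Nat.card C ∣ Nat.card N := Subgroup.card_dvd_of_le hCN
  -- primes of card C
  have hCpq : ∀ r : ℕ, r.Prime → r ∣ Nat.card C → r = p ∨ r = 2 := by
    intro r hr hrC
    have h1 : r ∣ 2 ^ a * p ^ (Nat.card G).factorization p := (hrC.trans hCdvdN).trans hNord
    rcases (Nat.Prime.dvd_mul hr).1 h1 with h2 | h2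
    · right; exact (Nat.prime_dvd_prime_iff_eq hr Nat.prime_two).1 (hr.dvd_of_dvd_pow h2)
    · left; exact (Nat.prime_dvd_prime_iff_eq hr h.hp).1 (hr.dvd_of_dvd_pow h2)
  -- 2 * card C divides card N, via the quotient of N by C
  have h2CN : 2 * Nat.card C ∣ Nat.card N := by
    have hnorm : (C.subgroupOf N).Normal := by
      constructor
      intro n hn g
      rw [Subgroup.mem_subgroupOf] at hn ⊢
      -- g n g⁻¹ commutes with y
      -- g⁻¹ y g = y^k
      have hy' : (g : G)⁻¹ * y * ((g : G)⁻¹)⁻¹ ∈ Subgroup.zpowers y :=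
        (hNmem _ (N.inv_mem g.2) y).1 (Subgroup.mem_zpowers y)
      obtain ⟨k, hk0⟩ := hy'
      have hk : y ^ k = (g : G)⁻¹ * y * (g : G) := by simpa using hk0
      have hny : (n : G) * y = y * (n : G) := (hmemC _).1 hn
      have hnyk : (n : G) * y ^ k = y ^ k * (n : G) := by
        have : Commute (n : G) y := hny
        exact (this.zpow_right k)
      rw [hmemC]
      have e1 : ((g * n * g⁻¹ : N) : G) = (g : G) * (n : G) * (g : G)⁻¹ := rfl
      rw [e1]
      have hy2 : y = (g : G) * y ^ k * (g : G)⁻¹ := by rw [hk]; group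
      calc (g : G) * (n : G) * (g : G)⁻¹ * y
          = (g : G) * (n : G) * (g : G)⁻¹ * ((g : G) * y ^ k * (g : G)⁻¹) := by rw [← hy2]
        _ = (g : G) * ((n : G) * y ^ k) * (g : G)⁻¹ := by group
        _ = (g : G) * (y ^ k * (n : G)) * (g : G)⁻¹ := by rw [hnyk]
        _ = ((g : G) * y ^ k * (g : G)⁻¹) * ((g : G) * (n : G) * (g : G)⁻¹) := by group
        _ = y * ((g : G) * (n : G) * (g : G)⁻¹) := by rw [← hy2]
    have hcardC : Nat.card (C.subgroupOf N) = Nat.card C := by
      exact Nat.card_congr (Subgroup.subgroupOfEquivOfLe hCN).toEquiv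
    have hlag := Subgroup.card_eq_card_quotient_mul_card_subgroup (C.subgroupOf N)
    rw [hcardC] at hlag
    -- order of the image of s is 2
    have hsC : (⟨s, hsN⟩ : N) ∉ C.subgroupOf N := by
      rw [Subgroup.mem_subgroupOf]
      intro hc
      exact hsnc ((hmemC s).1 hc)
    have hs_sq : (⟨s, hsN⟩ : N) * ⟨s, hsN⟩ = 1 := by
      apply Subtype.ext
      exact f.elem s hsQ
    have hord : orderOf (QuotientGroup.mk (⟨s, hsN⟩ : N) : N ⧸ C.subgroupOf N) = 2 := by
      apply orderOf_eq_prime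
      · rw [pow_two, ← QuotientGroup.mk_mul, hs_sq]; rfl
      · intro h1
        exact hsC ((QuotientGroup.eq_one_iff _).1 h1)
    have h2q : 2 ∣ Nat.card (N ⧸ C.subgroupOf N) := by
      rw [← hord]; exact orderOf_dvd_natCard _
    rw [hlag]
    exact Nat.mul_dvd_mul_right h2q _
  -- 2-subgroups of C have order < 2^a
  have hv2C : (Nat.card C).factorization 2 + 1 ≤ a := by
    have h1 : 2 ^ ((Nat.card C).factorization 2 + 1) ∣ Nat.card N := by
      rw [pow_succ, mul_comm]
      exact (Nat.mul_dvd_mul_left 2 (Nat.ordProj_dvd _ 2)).trans h2CN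
    have h2 : 2 ^ ((Nat.card C).factorization 2 + 1) ∣ Nat.card G :=
      h1.trans (Subgroup.card_subgroup_dvd_card N)
    have := (Nat.prime_two.pow_dvd_iff_le_factorization Nat.card_pos.ne').1 h2
    rwa [h.hG2] at this
  have hloc : ∀ Q2 : Subgroup G, Q2 ≤ C → IsPGroup 2 Q2 → ∀ g ∈ C, IsPEl p g →
      (∀ x ∈ Q2, g * x * g⁻¹ ∈ Q2) → ∀ x ∈ Q2, g * x * g⁻¹ = x := by
    intro Q2 hQ2C hQ2 g _ hgp hnorm
    apply f.orb Q2 g hnorm hgp
    left
    obtain ⟨k, hk⟩ := IsPGroup.iff_card.1 hQ2
    rw [hk]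
    apply Nat.pow_lt_pow_right (by norm_num)
    have hdvd : 2 ^ k ∣ Nat.card C := by rw [← hk]; exact Subgroup.card_dvd_of_le hQ2C
    have := (Nat.prime_two.pow_dvd_iff_le_factorization Nat.card_pos.ne').1 hdvd
    omega
  obtain ⟨K, hKC, hKp, hKcard, -, hKall⟩ := NC_main h.hp h.hp2 C hCpq hloc
  -- a Sylow p-subgroup through y lies in C
  have hfacC : (Nat.card C).factorization p = (Nat.card G).factorization p := by
    apply le_antisymm
    · exact (Nat.factorization_le_iff_dvd Nat.card_pos.ne' Nat.card_pos.ne').2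
        (Subgroup.card_subgroup_dvd_card C) p
    · haveI : Fact p.Prime := ⟨h.hp⟩
      have hzp : IsPGroup p (Subgroup.zpowers y) := by
        obtain ⟨k, hk⟩ := hyp
        apply IsPGroup.of_card (n := k)
        rw [Nat.card_zpowers, hk]
      obtain ⟨S, hS⟩ := hzp.exists_le_sylow
      have hSC : (S : Subgroup G) ≤ C := by
        intro x hx
        rw [hmemC]
        exact h.hab S S.2 x hx y (hS (Subgroup.mem_zpowers y))
      have hdvd : p ^ (Nat.card G).factorization p ∣ Nat.card C := by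
        rw [← Sylow.card_eq_multiplicity S]
        exact Subgroup.card_dvd_of_le hSC
      exact (h.hp.pow_dvd_iff_le_factorization Nat.card_pos.ne').1 hdvd
  refine ⟨K, hKp, by rw [hKcard, hfacC], ?_, ?_⟩
  · -- Q normalizes K
    intro v hv x hx
    apply hKall
    · rw [hmemC]
      have hxy := (hmemC x).1 (hKC hx)
      have hv' : v⁻¹ ∈ Q := Q.inv_mem hv
      -- v x v⁻¹ commutes with y iff x commutes with v⁻¹ y v ∈ {y, y⁻¹}
      rcases hact v⁻¹ hv' with h1 | h1
      · rw [inv_inv] at h1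
        calc v * x * v⁻¹ * y = v * (x * (v⁻¹ * y * v)) * v⁻¹ := by group
          _ = v * (x * y) * v⁻¹ := by rw [h1]
          _ = v * (y * x) * v⁻¹ := by rw [hxy]
          _ = v * ((v⁻¹ * y * v) * x) * v⁻¹ := by rw [h1]
          _ = y * (v * x * v⁻¹) := by group
      · rw [inv_inv] at h1
        have hxy' : x * y⁻¹ = y⁻¹ * x := by
          have : Commute x y := hxy
          exact this.inv_right
        calc v * x * v⁻¹ * y = v * (x * (v⁻¹ * y * v)) * v⁻¹ := by group
          _ = v * (x * y⁻¹) * v⁻¹ := by rw [h1]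
          _ = v * (y⁻¹ * x) * v⁻¹ := by rw [hxy']
          _ = v * ((v⁻¹ * y * v) * x) * v⁻¹ := by rw [h1]
          _ = y * (v * x * v⁻¹) := by group
    · -- p-element
      obtain ⟨k, hk⟩ := hKp ⟨x, hx⟩
      have h1 : x ^ p ^ k = 1 := by
        have := congrArg Subtype.val hk
        simpa using this
      obtain ⟨j, -, hj⟩ := (Nat.dvd_prime_pow h.hp).1 (orderOf_dvd_of_pow_eq_one h1)
      refine ⟨j, ?_⟩
      rw [← hj]
      have : v * x * v⁻¹ = MulAut.conj v x := rfl
      rw [this, MulEquiv.orderOf_eq]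
  · intro x hxy hxp
    exact hKall x ((hmemC x).2 hxy) hxp

end Cfsg.Agent.S4017P
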