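import Mathlib
import Cfsg.Agent.Helper10.S4017Defs

/-!
# S4017 piece SUB (hedge by the driver): the hypotheses pass to proper subgroups
-/

set_option autoImplicit false

namespace Cfsg.Agent.S4017P

theorem SUB.{u} {G : Type u} [Group G] [Finite G] {p q : ℕ} (h : Hyp G p q)
    (ih : IH.{u} p q (Nat.card G)) :
    ∀ H : Subgroup G, H ≠ ⊤ → q ∣ Nat.card H → PQ p q (Nat.card H) := by
  intro H hH hqH
  by_cases hqg : IsPGroup q H
  · intro r hr hrH
    haveI : Fact q.Prime := ⟨h.hq⟩
    obtain ⟨k, hk⟩ := IsPGroup.iff_card.1 hqg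
    rw [hk] at hrH
    right
    exact (Nat.prime_dvd_prime_iff_eq hr h.hq).1 (hr.dvd_of_dvd_pow hrH)
  · have hpH := h.hmix H hH hqg hqH
    have hdvd : Nat.card H ∣ Nat.card G := Subgroup.card_subgroup_dvd_card H
    have hlt : Nat.card H < Nat.card G := by
      rcases lt_or_eq_of_le (Nat.le_of_dvd Nat.card_pos hdvd) with h1 | h1
      · exact h1
      · exact absurd ((Subgroup.card_eq_iff_eq_top H).1 h1) hH
    apply ih H hlt
    have hfac : (Nat.card H).factorization q ≤ (Nat.card G).factorization q :=
      (Nat.factorization_le_iff_dvd Nat.card_pos.ne' Nat.card_pos.ne').2 hdvd q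
    have hq1 : 1 ≤ q := h.hq.one_lt.le
    refine ⟨h.hp, h.hq, h.hpq, h.hp2, hpH, hqH, ?_, ?_⟩
    · intro H1 hH1 hH1q hqH1
      have hcard : Nat.card (H1.map H.subtype) = Nat.card H1 :=
        Subgroup.card_map_of_injective (Subgroup.subtype_injective H)
      have htop : H1.map H.subtype ≠ ⊤ := by
        intro ht
        apply hH
        rw [eq_top_iff, ← ht]
        exact Subgroup.map_subtype_le _
      have hnq : ¬ IsPGroup q (H1.map H.subtype) := by
        intro hq'
        apply hH1q
        exact hq'.of_equiv (H1.equivMapOfInjective H.subtype (Subgroup.subtype_injective H)).symm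
      have := h.hmix _ htop hnq (by rw [hcard]; exact hqH1)
      rwa [hcard] at this
    · rcases h.hlarge with hl | ⟨heq, hab⟩
      · left
        refine lt_of_le_of_lt ?_ hl
        exact Nat.sub_le_sub_right (Nat.pow_le_pow_right hq1 hfac) 1
      · rcases lt_or_eq_of_le hfac with hb | hb
        · left
          rw [heq]
          have h1 : q ^ (Nat.card H).factorization q < q ^ (Nat.card G).factorization q :=
            Nat.pow_lt_pow_right h.hq.one_lt hb
          have h2 : 1 ≤ q ^ (Nat.card H).factorization q := Nat.one_le_pow _ _ (by omega)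
          omega
        · right
          refine ⟨by rw [hb]; exact heq, ?_⟩
          intro P1
          have hP1 : IsPGroup p ((P1 : Subgroup H).map H.subtype) := P1.2.map _
          obtain ⟨S, hS⟩ := hP1.exists_le_sylow
          refine ⟨⟨fun x y => ?_⟩⟩
          have hx : (x : H).1 ∈ (S : Subgroup G) := hS ⟨x.1, x.2, rfl⟩
          have hy : (y : H).1 ∈ (S : Subgroup G) := hS ⟨y.1, y.2, rfl⟩
          have := (hab S).is_comm.comm ⟨_, hx⟩ ⟨_, hy⟩
          have h3 : (x : H).1 * (y : H).1 = (y : H).1 * (x : H).1 := congrArg Subtype.val this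
          apply Subtype.ext
          apply Subtype.ext
          exact h3

end Cfsg.Agent.S4017P
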