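import Mathlib
import Cfsg.Agent.Helper10.S4017Defs
import Cfsg.Agent.Helper10.S4017NC

/-!
# S4017 piece UT: the `p`-elements of `C(t)` form a `p`-group of index `2^a`
-/

set_option autoImplicit false

namespace Cfsg.Agent.S4017P

theorem UT_card_conj {G : Type*} [Group G] (c t : G) :
    Nat.card (Subgroup.centralizer ({c * t * c⁻¹} : Set G))
      = Nat.card (Subgroup.centralizer ({t} : Set G)) := by
  refine Nat.card_congr ⟨fun y => ⟨c⁻¹ * y.1 * c, ?_⟩, fun x => ⟨c * x.1 * c⁻¹, ?_⟩, ?_, ?_⟩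
  · have hy := y.2
    rw [Subgroup.mem_centralizer_iff] at hy ⊢
    intro w hw
    rw [Set.mem_singleton_iff] at hw
    have := hy (c * t * c⁻¹) rfl
    rw [hw]
    have e1 : t * (c⁻¹ * y.1 * c) = c⁻¹ * ((c * t * c⁻¹) * y.1) * c := by group
    have e2 : c⁻¹ * y.1 * c * t = c⁻¹ * (y.1 * (c * t * c⁻¹)) * c := by group
    rw [e1, e2, this]
  · have hx := x.2
    rw [Subgroup.mem_centralizer_iff] at hx ⊢
    intro w hw
    rw [Set.mem_singleton_iff] at hw
    have := hx t rfl
    rw [hw]
    have e1 : c * t * c⁻¹ * (c * x.1 * c⁻¹) = c * (t * x.1) * c⁻¹ := by group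
    have e2 : c * x.1 * c⁻¹ * (c * t * c⁻¹) = c * (x.1 * t) * c⁻¹ := by group
    rw [e1, e2, this]
  · intro y; apply Subtype.ext; simp only; group
  · intro x; apply Subtype.ext; simp only; group

theorem UT_comm_of_sq {G : Type*} [Group G] {u x : G} (h2 : u * u = 1) (h3 : x * x = 1)
    (h1 : (u * x) * (u * x) = 1) : u * x = x * u := by
  have hu : u⁻¹ = u := inv_eq_of_mul_eq_one_left h2
  have hx : x⁻¹ = x := inv_eq_of_mul_eq_one_left h3
  have hux : (u * x)⁻¹ = u * x := inv_eq_of_mul_eq_one_left h1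
  calc u * x = (u * x)⁻¹ := hux.symm
    _ = x⁻¹ * u⁻¹ := mul_inv_rev u x
    _ = x * u := by rw [hx, hu]

theorem UT {G : Type*} [Group G] [Finite G] {p a : ℕ} {Q : Subgroup G} {z : G}
    (h : Cfg G p a Q z) (helem : ∀ x ∈ Q, x * x = 1)
    (hsyl : ∀ S : Subgroup G, IsPGroup 2 S → ∃ g : G, ∀ x ∈ S, g * x * g⁻¹ ∈ Q)
    (horb : ∀ (S : Subgroup G) (y : G), (∀ x ∈ S, y * x * y⁻¹ ∈ S) → IsPEl p y →
      (Nat.card S < 2 ^ a ∨ (Nat.card S ≤ 2 ^ a ∧ ∃ t ∈ S, t ≠ 1 ∧ y * t * y⁻¹ = t)) →
      ∀ x ∈ S, y * x * y⁻¹ = x) :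
    ∀ t : G, orderOf t = 2 → IsPGroup p (U p t) ∧
      Nat.card (Subgroup.centralizer ({t} : Set G)) = 2 ^ a * Nat.card (U p t) := by
  intro t ht
  have ht1 : t ≠ 1 := by
    rintro rfl; simp at ht
  have htt : t * t = 1 := by
    have := pow_orderOf_eq_one t
    rwa [ht, pow_two] at this
  set C := Subgroup.centralizer ({t} : Set G) with hCdef
  have hmemC : ∀ x : G, x ∈ C ↔ x * t = t * x := by
    intro x
    rw [hCdef, Subgroup.mem_centralizer_iff]
    constructor
    · intro hx; exact (hx t rfl).symm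
    · intro hx w hw; rw [Set.mem_singleton_iff] at hw; rw [hw]; exact hx.symm
  have htC : t ∈ C := (hmemC t).2 rfl
  have hz2 : IsPGroup 2 (Subgroup.zpowers t) := by
    apply IsPGroup.of_card (n := 1)
    rw [Nat.card_zpowers, ht]; rfl
  -- C ≠ ⊤
  have hCtop : C ≠ ⊤ := by
    intro htop
    have hcen : t ∈ Subgroup.center G := by
      rw [Subgroup.mem_center_iff]
      intro g
      have : g ∈ C := by rw [htop]; trivial
      exact (hmemC g).1 this
    have hnorm : (Subgroup.zpowers t).Normal := by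
      constructor
      intro n hn g
      obtain ⟨k, rfl⟩ := hn
      have hk : t ^ k ∈ Subgroup.center G := zpow_mem hcen k
      rw [Subgroup.mem_center_iff] at hk
      have : g * t ^ k * g⁻¹ = t ^ k := by
        rw [hk g]; group
      rw [this]; exact ⟨k, rfl⟩
    have := h.hO2 _ hnorm hz2
    have h1 : t ∈ Subgroup.zpowers t := Subgroup.mem_zpowers t
    rw [this, Subgroup.mem_bot] at h1
    exact ht1 h1
  have h2C : 2 ∣ Nat.card C := by
    have := orderOf_dvd_natCard (⟨t, htC⟩ : C)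
    rwa [Subgroup.orderOf_mk, ht] at this
  have hPQ := h.hI C hCtop h2C
  -- cardinality of 2-subgroups
  have hcard2 : ∀ S : Subgroup G, IsPGroup 2 S → Nat.card S ∣ 2 ^ a := by
    intro S hS
    obtain ⟨k, hk⟩ := IsPGroup.iff_card.1 hS
    rw [hk]
    apply pow_dvd_pow
    have hdvd : 2 ^ k ∣ Nat.card G := by rw [← hk]; exact Subgroup.card_subgroup_dvd_card S
    have := (Nat.prime_two.pow_dvd_iff_le_factorization Nat.card_pos.ne').1 hdvd
    rwa [h.hG2] at this
  have hloc : ∀ Q2 : Subgroup G, Q2 ≤ C → IsPGroup 2 Q2 → ∀ g ∈ C, IsPEl p g →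
      (∀ x ∈ Q2, g * x * g⁻¹ ∈ Q2) → ∀ x ∈ Q2, g * x * g⁻¹ = x := by
    intro Q2 hQ2C hQ2 g hg hgp hnorm
    apply horb Q2 g hnorm hgp
    have hdvd := hcard2 Q2 hQ2
    have hle : Nat.card Q2 ≤ 2 ^ a := Nat.le_of_dvd (by positivity) hdvd
    rcases Nat.lt_or_ge (Nat.card Q2) (2 ^ a) with hlt | hge
    · exact Or.inl hlt
    · right
      refine ⟨hle, t, ?_, ht1, ?_⟩
      · -- t ∈ Q2 by maximality
        have hnormal : Subgroup.zpowers t ≤ Subgroup.normalizer (Q2 : Set G) := by
          rw [Subgroup.zpowers_le]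
          rw [Subgroup.mem_normalizer_iff]
          intro x
          have key : ∀ y ∈ Q2, t * y * t⁻¹ = y := by
            intro y hy
            have := (hmemC y).1 (hQ2C hy)
            rw [← this]; group
          constructor
          · intro hx; rw [key x hx]; exact hx
          · intro hx
            have hx' : t⁻¹ * (t * x * t⁻¹) * t ∈ Q2 := by
              have := key _ hx
              have e : t⁻¹ * (t * x * t⁻¹) * t = t⁻¹ * (t * (t * x * t⁻¹) * t⁻¹) * t := by
                rw [this]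
              rw [e]
              have e2 : t⁻¹ * (t * (t * x * t⁻¹) * t⁻¹) * t = t * x * t⁻¹ := by group
              rw [e2]; exact hx
            have e3 : t⁻¹ * (t * x * t⁻¹) * t = x := by group
            rwa [e3] at hx'
        have hsup : IsPGroup 2 ((Subgroup.zpowers t) ⊔ Q2 : Subgroup G) :=
          IsPGroup.to_sup_of_normal_right' hz2 hQ2 hnormal
        have hsupcard := hcard2 _ hsup
        have hle2 : Nat.card ((Subgroup.zpowers t) ⊔ Q2 : Subgroup G) ≤ Nat.card Q2 :=
          le_trans (Nat.le_of_dvd (by positivity) hsupcard) hge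
        have heq : Q2 = (Subgroup.zpowers t) ⊔ Q2 :=
          Subgroup.eq_of_le_of_card_ge le_sup_right hle2
        rw [heq]
        exact (le_sup_left : Subgroup.zpowers t ≤ _) (Subgroup.mem_zpowers t)
      · have := (hmemC g).1 hg
        rw [this]; group
  obtain ⟨K, hKC, hKp, hKcard, hCcard, hKall⟩ := NC_main h.hp h.hp2 C hPQ hloc
  -- U p t = K
  have hUK : U p t = K := by
    apply le_antisymm
    · unfold U
      rw [Subgroup.closure_le]
      intro x hx
      exact hKall x ((hmemC x).2 hx.1) hx.2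
    · intro x hx
      apply Subgroup.subset_closure
      refine ⟨(hmemC x).1 (hKC hx), ?_⟩
      obtain ⟨k, hk⟩ := hKp ⟨x, hx⟩
      have h1 : x ^ p ^ k = 1 := by
        have := congrArg Subtype.val hk
        simpa using this
      obtain ⟨j, -, hj⟩ := (Nat.dvd_prime_pow h.hp).1 (orderOf_dvd_of_pow_eq_one h1)
      exact ⟨j, hj⟩
  refine ⟨by rw [hUK]; exact hKp, ?_⟩
  rw [hUK]
  -- factorization 2 of card C is a
  have hfac : (Nat.card C).factorization 2 = a := by
    apply le_antisymm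
    · have hdvd : Nat.card C ∣ Nat.card G := Subgroup.card_subgroup_dvd_card C
      have := (Nat.factorization_le_iff_dvd Nat.card_pos.ne' Nat.card_pos.ne').2 hdvd 2
      rwa [h.hG2] at this
    · obtain ⟨g, hg⟩ := hsyl _ hz2
      have hgt : g * t * g⁻¹ ∈ Q := hg t (Subgroup.mem_zpowers t)
      have hQle : Q ≤ Subgroup.centralizer ({g * t * g⁻¹} : Set G) := by
        intro x hx
        rw [Subgroup.mem_centralizer_iff]
        intro w hw
        rw [Set.mem_singleton_iff] at hw
        rw [hw]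
        -- Q abelian
        exact UT_comm_of_sq (helem _ hgt) (helem _ hx) (helem _ (Q.mul_mem hgt hx))
      have hdvd : 2 ^ a ∣ Nat.card C := by
        rw [← h.hQ, hCdef, ← UT_card_conj g t]
        exact Subgroup.card_dvd_of_le hQle
      exact (Nat.prime_two.pow_dvd_iff_le_factorization Nat.card_pos.ne').1 hdvd
  rw [← hfac]
  exact hCcard

end Cfsg.Agent.S4017P
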