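import Mathlib
import Cfsg.Agent.Helper10.S4017Defs
import Cfsg.Agent.Helper10.S4017NY
import Cfsg.Agent.Helper10.S4017SUB
import Cfsg.Agent.Helper10.S4017UT
import Cfsg.Agent.Helper13.S4017MINV
import Cfsg.Agent.Helper13.S4017ORB
import Cfsg.Agent.Helper14.S4017B2AR
import Cfsg.Agent.Helper16.S4017A3ARITH
import Cfsg.Agent.Helper19.S4017CENTRAL
import Cfsg.Agent.Helper19.S4017PROPER
import Cfsg.Agent.Helper2.S4017FROB
import Cfsg.Agent.Helper2.S4017TRANS
import Cfsg.Agent.Helper20.S4017ACENT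
import Cfsg.Agent.Helper20.S4017BY
import Cfsg.Agent.Helper21.S4017PG
import Cfsg.Agent.Helper22.S4017ZC
import Cfsg.Agent.Helper22.S4017ZOUT
import Cfsg.Agent.Helper23.S4017A3CNT2
import Cfsg.Agent.Helper26.S4017B3
import Cfsg.Agent.Helper27.S4017ELEM
import Cfsg.Agent.Helper27.S4017MAXORD
import Cfsg.Agent.Helper27.S4017SYLQ
import Cfsg.Agent.Helper27.S4017UCONJ
import Cfsg.Agent.Helper27.S4017ZNC
import Cfsg.Agent.Helper28.S4017A2
import Cfsg.Agent.Helper29.S4017B2STR
import Cfsg.Agent.Helper29.S4017MMAX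
import Cfsg.Agent.Helper3.S4017A2MAX
import Cfsg.Agent.Helper3.S4017AALL
import Cfsg.Agent.Helper3.S4017B2HYP
import Cfsg.Agent.Helper5.S4017DICH
import Cfsg.Agent.Helper5.S4017OQ
import Cfsg.Agent.Helper6.S4017A3INV
import Cfsg.Agent.Helper6.S4017NONCOMM
import Cfsg.Agent.Helper8.S4017A3CNT1

/-!
# S4017: assembly of the pieces (driver helper10)
-/

set_option autoImplicit false

namespace Cfsg.Agent.S4017P

theorem ASM_ispel {G : Type*} [Group G] {p : ℕ} (hp : p.Prime) {H : Subgroup G}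
    (hH : IsPGroup p H) {x : G} (hx : x ∈ H) : IsPEl p x := by
  obtain ⟨k, hk⟩ := hH ⟨x, hx⟩
  have h1 : x ^ p ^ k = 1 := by
    have := congrArg Subtype.val hk
    simpa using this
  obtain ⟨j, -, hj⟩ := (Nat.dvd_prime_pow hp).1 (orderOf_dvd_of_pow_eq_one h1)
  exact ⟨j, hj⟩

/-- every 2-element squares to one -/
theorem ASM_two {G : Type*} [Group G] [Finite G] {p a : ℕ} {Q : Subgroup G} {z : G}
    (helem : ∀ x ∈ Q, x * x = 1)
    (hsyl : ∀ S : Subgroup G, IsPGroup 2 S → ∃ g : G, ∀ x ∈ S, g * x * g⁻¹ ∈ Q) :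
    ∀ x : G, IsPEl 2 x → x * x = 1 := by
  intro x hx
  have hS : IsPGroup 2 (Subgroup.zpowers x) := by
    obtain ⟨k, hk⟩ := hx
    apply IsPGroup.of_card (n := k)
    rw [Nat.card_zpowers, hk]
  obtain ⟨g, hg⟩ := hsyl _ hS
  have h1 := helem _ (hg x (Subgroup.mem_zpowers x))
  have : g * (x * x) * g⁻¹ = 1 := by
    rw [← h1]; group
  have h2 : x * x = g⁻¹ * (g * (x * x) * g⁻¹) * g := by group
  rw [h2, this]; group

/-- one class of involutions -/
theorem ASM_conj {G : Type*} [Group G] [Finite G] {p a : ℕ} {Q : Subgroup G} {z : G}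
    (h : Cfg G p a Q z)
    (hsyl : ∀ S : Subgroup G, IsPGroup 2 S → ∃ g : G, ∀ x ∈ S, g * x * g⁻¹ ∈ Q) :
    ∀ s t : G, orderOf s = 2 → orderOf t = 2 → ∃ g : G, g * s * g⁻¹ = t := by
  have key : ∀ s : G, orderOf s = 2 → ∃ g : G, g * s * g⁻¹ ∈ Q ∧ g * s * g⁻¹ ≠ 1 := by
    intro s hs
    have hS : IsPGroup 2 (Subgroup.zpowers s) := by
      apply IsPGroup.of_card (n := 1)
      rw [Nat.card_zpowers, hs]; rfl
    obtain ⟨g, hg⟩ := hsyl _ hS
    refine ⟨g, hg s (Subgroup.mem_zpowers s), ?_⟩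
    intro h1
    have : s = 1 := by
      have : s = g⁻¹ * (g * s * g⁻¹) * g := by group
      rw [this, h1]; group
    rw [this] at hs; simp at hs
  intro s t hs ht
  obtain ⟨g1, hg1, hg1'⟩ := key s hs
  obtain ⟨g2, hg2, hg2'⟩ := key t ht
  obtain ⟨i, hi⟩ := h.htrans _ hg1 hg1' _ hg2 hg2'
  refine ⟨g2⁻¹ * z ^ i * g1, ?_⟩
  have : g2⁻¹ * z ^ i * g1 * s * (g2⁻¹ * z ^ i * g1)⁻¹
      = g2⁻¹ * (z ^ i * (g1 * s * g1⁻¹) * (z ^ i)⁻¹) * g2 := by group
  rw [this, hi]; group

theorem FACTS {G : Type*} [Group G] [Finite G] {p a : ℕ} {Q : Subgroup G} {z : G}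
    (h : Cfg G p a Q z) : Facts G p a Q z := by
  have helem := ELEM h
  have hsyl := SYLQ h
  have horb : ∀ (S : Subgroup G) (y : G), (∀ x ∈ S, y * x * y⁻¹ ∈ S) → IsPEl p y →
      (Nat.card S < 2 ^ a ∨ (Nat.card S ≤ 2 ^ a ∧ ∃ t ∈ S, t ≠ 1 ∧ y * t * y⁻¹ = t)) →
      ∀ x ∈ S, y * x * y⁻¹ = x := fun S y => ORB h.hp h.hp2 h.ha S y
  have hut := UT h helem hsyl horb
  exact
    { elem := helem
      sylQ := hsyl
      two := ASM_two (p := p) (a := a) (z := z) helem hsyl
      conj := ASM_conj h hsyl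
      maxord := MAXORD h
      orb := horb
      utp := fun t ht => (hut t ht).1
      utcard := fun t ht => (hut t ht).2
      zout := ZOUT h
      znc := ZNC h
      proper := PROPER h helem hsyl
      zc := ZC h (fun t ht => (hut t ht).1) }

/-- `Q` has an element `≠ 1` -/
theorem ASM_Qne {G : Type*} [Group G] [Finite G] {p a : ℕ} {Q : Subgroup G} {z : G}
    (f : Facts G p a Q z) : ∃ t ∈ Q, t ≠ 1 := by
  obtain ⟨v, hv, hne⟩ := f.znc
  refine ⟨v, hv, ?_⟩
  rintro rfl
  exact hne (by simp)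

theorem ASM_ord2 {G : Type*} [Group G] [Finite G] {p a : ℕ} {Q : Subgroup G} {z : G}
    (f : Facts G p a Q z) : ∀ t ∈ Q, t ≠ 1 → orderOf t = 2 := by
  intro t ht ht1
  have := f.elem t ht
  exact orderOf_eq_prime (by rw [pow_two]; exact this) ht1

/-- in Case B all `U p t`, `t ∈ Q - 1`, are nontrivial -/
theorem ASM_Une {G : Type*} [Group G] [Finite G] {p a : ℕ} {Q : Subgroup G} {z : G}
    (h : Cfg G p a Q z) (t : G) (htQ : t ∈ Q) (ht1 : t ≠ 1)
    (hne : ∃ x ∈ U p t, x ≠ 1) : ∀ t' ∈ Q, t' ≠ 1 → U p t' ≠ ⊥ := by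
  intro t' ht' ht'1
  obtain ⟨i, hi⟩ := h.htrans t htQ ht1 t' ht' ht'1
  obtain ⟨x, hx, hx1⟩ := hne
  have hmem := UCONJ p (z ^ i) t x hx
  rw [hi] at hmem
  intro hbot
  rw [hbot, Subgroup.mem_bot] at hmem
  apply hx1
  have : x = (z ^ i)⁻¹ * (z ^ i * x * (z ^ i)⁻¹) * z ^ i := by group
  rw [this, hmem]; group

theorem ASM_a2 {p a : ℕ} (hp : p.Prime) (hp2 : p ≠ 2) (ha : 2 ^ a = p + 1) : 2 ≤ a := by
  by_contra hlt
  push Not at hlt
  have h3 : 3 ≤ p := by
    have := hp.two_le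
    omega
  interval_cases a <;> omega

theorem CASEA {G : Type*} [Group G] [Finite G] {p a : ℕ} {Q : Subgroup G} {z : G}
    (h : Cfg G p a Q z) (f : Facts G p a Q z) (hA : CaseA p Q) : False := by
  obtain ⟨hac, hti⟩ := ACENT h f hA
  have hmm := MMAX h f
  have hpg := PG h f hA hti
  have hnc := NONCOMM h f
  have hmax := A2MAX h f hA hmm
  have h0 : NoCQ p Q := A2 h f hA hti hmax hpg hnc
  -- every U p t (t ∈ Q - 1) is trivial
  have hU : ∀ t ∈ Q, t ≠ 1 → ∀ x ∈ U p t, x = 1 := by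
    intro t ht ht1 x hx
    have hxp : IsPEl p x := ASM_ispel h.hp (f.utp t (ASM_ord2 f t ht ht1)) hx
    exact h0 x hxp (hA t ht ht1 x hx)
  -- centralizers of involutions of Q are inside Q
  have hCQ : ∀ t ∈ Q, t ≠ 1 → ∀ g : G, g * t = t * g → g ∈ Q := by
    intro t ht ht1 g hg
    obtain ⟨x, hx, v, hv, rfl⟩ := hac t ht ht1 g hg
    rw [hU t ht ht1 x hx, one_mul]; exact hv
  have hC : ∀ t : G, orderOf t = 2 → ∀ g : G, g * t = t * g → g * g = 1 := by
    intro t ht g hg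
    obtain ⟨t0, ht0, ht01⟩ := ASM_Qne f
    obtain ⟨c, hc⟩ := f.conj t t0 ht (ASM_ord2 f t0 ht0 ht01)
    have h1 : (c * g * c⁻¹) * t0 = t0 * (c * g * c⁻¹) := by
      rw [← hc]
      have e1 : c * g * c⁻¹ * (c * t * c⁻¹) = c * (g * t) * c⁻¹ := by group
      have e2 : c * t * c⁻¹ * (c * g * c⁻¹) = c * (t * g) * c⁻¹ := by group
      rw [e1, e2, hg]
    have h2 := f.elem _ (hCQ t0 ht0 ht01 _ h1)
    have e3 : g * g = c⁻¹ * ((c * g * c⁻¹) * (c * g * c⁻¹)) * c := by group
    rw [e3, h2]; group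
  have hCc : ∀ t : G, orderOf t = 2 → Nat.card (Subgroup.centralizer ({t} : Set G)) = 2 ^ a := by
    intro t ht
    rw [f.utcard t ht]
    have : U p t = ⊥ := by
      rw [eq_bot_iff]
      intro x hx
      rw [Subgroup.mem_bot]
      -- x is a p-element with x * x = 1
      have hxp : IsPEl p x := ASM_ispel h.hp (f.utp t ht) hx
      have hxt : x * t = t * x := by
        have hle : U p t ≤ Subgroup.centralizer ({t} : Set G) := by
          apply (Subgroup.closure_le _).2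
          intro y hy
          rw [SetLike.mem_coe, Subgroup.mem_centralizer_iff]
          intro w hw
          rw [Set.mem_singleton_iff] at hw
          rw [hw]; exact hy.1.symm
        have := hle hx
        rw [Subgroup.mem_centralizer_iff] at this
        exact (this t rfl).symm
      have hx2 := hC t ht x hxt
      obtain ⟨k, hk⟩ := hxp
      have hdvd : orderOf x ∣ 2 := orderOf_dvd_of_pow_eq_one (by rw [pow_two]; exact hx2)
      rw [hk] at hdvd
      have hodd : Odd (p ^ k) := (h.hp.odd_of_ne_two h.hp2).pow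
      have : p ^ k = 1 := by
        rcases (Nat.dvd_prime Nat.prime_two).1 hdvd with h1 | h1
        · exact h1
        · rw [h1] at hodd; exact absurd hodd (by decide)
      rw [this] at hk
      exact orderOf_eq_one_iff.1 hk
    rw [this]; simp
  have hinv := A3INV h f hC hpg
  obtain ⟨c1, c2⟩ := A3CNT1 h f hC hCc
  have c3 := A3CNT2 h f hpg hinv hnc
  -- arithmetic
  have hpG : 1 ≤ (Nat.card G).factorization p := by
    obtain ⟨t, u, ht, hu, htu⟩ := hnc
    obtain ⟨hp1, hp2, hp3⟩ := hpg t u ht hu htu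
    by_contra hlt
    push Not at hlt
    have h0 : (Nat.card G).factorization p = 0 := by omega
    rw [h0, pow_zero] at hp3
    have : t * u = 1 := by
      have hmem : t * u ∈ Subgroup.centralizer ({t * u} : Set G) := by
        rw [Subgroup.mem_centralizer_iff]; intro w hw; rw [Set.mem_singleton_iff] at hw; rw [hw]
      have := (Subgroup.card_eq_one.1 hp3)
      rw [this, Subgroup.mem_bot] at hmem
      exact hmem
    apply htu
    have hu' : u = t⁻¹ := eq_inv_of_mul_eq_one_right this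
    rw [hu']; group
  have hS : 0 < Nat.card {x : G × G // orderOf x.1 = 2 ∧ orderOf x.2 = 2 ∧ x.1 * x.2 ≠ x.2 * x.1} := by
    obtain ⟨t, u, ht, hu, htu⟩ := hnc
    exact Nat.card_pos_iff.2 ⟨⟨⟨(t, u), ht, hu, htu⟩⟩, inferInstance⟩
  exact A3ARITH p a (p ^ (Nat.card G).factorization p) (Nat.card {t : G // orderOf t = 2})
    (Nat.card {x : G × G // orderOf x.1 = 2 ∧ orderOf x.2 = 2 ∧ x.1 * x.2 ≠ x.2 * x.1})
    (Nat.card G) h.hp h.hp2 h.ha ⟨_, hpG, rfl⟩ (Nat.ordProj_dvd _ _) Nat.card_pos c1 c2 c3 hS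

theorem CASEB {G : Type*} [Group G] [Finite G] {p a : ℕ} {Q : Subgroup G} {z : G}
    (h : Cfg G p a Q z) (f : Facts G p a Q z) (h0 : NoCQ p Q)
    (t : G) (htQ : t ∈ Q) (ht1 : t ≠ 1) (hne : ∃ x ∈ U p t, x ≠ 1) : False := by
  have hny := NY h f
  have hUne := ASM_Une h t htQ ht1 hne
  have hby : ∀ t ∈ Q, t ≠ 1 → ∃ y ∈ U p t, NYh p Q y :=
    fun t' ht' ht'1 => BY h f h0 t' ht' ht'1 (hUne t' ht' ht'1)
  have ha2 := ASM_a2 h.hp h.hp2 h.ha
  rcases Nat.lt_or_ge a 3 with hlt | hge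
  · have ha : a = 2 := by omega
    obtain ⟨hB1, hB2, hB3⟩ := B2STR h f ha h0 hny hUne t htQ ht1
    obtain ⟨hbsw, hN⟩ := B2HYP h f ha t htQ ht1 hB1 hB2 hB3
    have ht2 := ASM_ord2 f t htQ ht1
    have hCc : ∀ s : G, orderOf s = 2 →
        Nat.card (Subgroup.centralizer ({s} : Set G)) = 4 * p ^ (Nat.card G).factorization p := by
      intro s hs
      obtain ⟨c, hc⟩ := f.conj t s ht2 hs
      have e1 : Nat.card (Subgroup.centralizer ({s} : Set G))
          = Nat.card (Subgroup.centralizer ({t} : Set G)) := by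
        refine (Nat.card_congr ?_).symm
        refine ⟨fun x => ⟨c * x.1 * c⁻¹, ?_⟩, fun y => ⟨c⁻¹ * y.1 * c, ?_⟩, ?_, ?_⟩
        · have hx := x.2
          rw [Subgroup.mem_centralizer_iff] at hx ⊢
          intro w hw
          rw [Set.mem_singleton_iff] at hw
          have := hx t rfl
          rw [hw, ← hc]
          have e1 : c * t * c⁻¹ * (c * x.1 * c⁻¹) = c * (t * x.1) * c⁻¹ := by group
          have e2 : c * x.1 * c⁻¹ * (c * t * c⁻¹) = c * (x.1 * t) * c⁻¹ := by group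
          rw [e1, e2, this]
        · have hy := y.2
          rw [Subgroup.mem_centralizer_iff] at hy ⊢
          intro w hw
          rw [Set.mem_singleton_iff] at hw
          have := hy s rfl
          rw [hw]
          have hts : t = c⁻¹ * s * c := by rw [← hc]; group
          rw [hts]
          have e1 : c⁻¹ * s * c * (c⁻¹ * y.1 * c) = c⁻¹ * (s * y.1) * c := by group
          have e2 : c⁻¹ * y.1 * c * (c⁻¹ * s * c) = c⁻¹ * (y.1 * s) * c := by group
          rw [e1, e2, this]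
        · intro x; apply Subtype.ext; simp only; group
        · intro y; apply Subtype.ext; simp only; group
      rw [e1, f.utcard t ht2, hB1, ha]; norm_num
    exact B2AR h f ha hbsw (U p t) hB1 hN hCc
  · exact B3 h f hge hny hby

theorem CFGFALSE {G : Type*} [Group G] [Finite G] {p a : ℕ} {Q : Subgroup G} {z : G}
    (h : Cfg G p a Q z) : False := by
  have f := FACTS h
  obtain ⟨t, htQ, ht1⟩ := ASM_Qne f
  by_cases hA : ∀ x ∈ U p t, ∀ v ∈ Q, x * v = v * x
  · exact CASEA h f (AALL h f t htQ ht1 hA)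
  · by_cases h0 : NoCQ p Q
    · push Not at hA
      obtain ⟨x, hx, v, hv, hxv⟩ := hA
      refine CASEB h f h0 t htQ ht1 ⟨x, hx, ?_⟩
      rintro rfl
      exact hxv (by simp)
    · push Not at hA
      unfold NoCQ at h0
      push Not at h0
      obtain ⟨c, hc1, hc2, hc3⟩ := h0
      exact DICH h f (NY h f) t htQ ht1 hA ⟨c, hc3, hc1, hc2⟩

end Cfsg.Agent.S4017P

namespace Cfsg.Agent.S4017P

theorem MAIN.{u} (p q : ℕ) : ∀ n : ℕ, ∀ (G : Type u) [Group G] [Finite G], Nat.card G = n →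
    Hyp G p q → PQ p q (Nat.card G) := by
  intro n
  induction n using Nat.strong_induction_on with
  | _ n ih =>
    intro G _ _ hn h
    have ihG : IH.{u} p q (Nat.card G) := by
      intro G' _ _ hlt h'
      exact ih (Nat.card G') (hn ▸ hlt) G' rfl h'
    by_contra hcon
    unfold PQ at hcon
    push Not at hcon
    obtain ⟨r, hr, hrG, hrp, hrq⟩ := hcon
    have hI := SUB h ihG
    have hcen := CENTRAL h ihG hI r hr hrG hrp hrq
    have hO := OQ h hI r hr hrG hrp hrq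
    obtain ⟨P, Q0, g, hQ0, hgN, hgc, hgC⟩ := FROB h hI r hr hrG hrp hrq
    obtain ⟨hq2, ha, hQc, hgp, htr, hab⟩ := TRANS h hI hO P Q0 g hQ0 hgN hgc hgC
    subst hq2
    have cfg : Cfg G p ((Nat.card G).factorization 2) Q0 g :=
      { hp := h.hp
        hp2 := h.hp2
        ha := ha
        hQ := hQc
        hG2 := rfl
        hI := hI
        hthird := ⟨r, hr, hrG, hrp, hrq⟩
        hab := by
          intro P' hP' x hx y hy
          obtain ⟨S, hS⟩ := hP'.exists_le_sylow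
          have := (hab S).is_comm.comm ⟨x, hS hx⟩ ⟨y, hS hy⟩
          exact congrArg Subtype.val this
        hzN := hgN
        hzp := hgp
        htrans := htr
        hcen := hcen
        hO2 := hO }
    exact CFGFALSE cfg

end Cfsg.Agent.S4017P
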