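import Mathlib
import Cfsg.Agent.Helper1.Metacyclic
import Cfsg.Agent.Helper19.Huppert
import Cfsg.Agent.Helper10.S3911ML8b

/-!
# S4079 piece KM (helper10): `M = {g | g^(p²) = 1}` is a subgroup of order `p⁴`.
-/

set_option autoImplicit false
open Cfsg

namespace Cfsg.Agent.S4079P

variable {L : Type*} [Group L] [Finite L] {p : ℕ} [Fact p.Prime]

/-- `E = {x | x^p = 1}` is a normal subgroup. -/
theorem KM_aux_normal (E : Subgroup L) (hE : ∀ x, x ∈ E ↔ x ^ p = 1) : E.Normal := by
  refine ⟨fun n hn g => ?_⟩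
  rw [hE] at hn ⊢
  rw [conj_pow, hn, mul_one, mul_inv_cancel]

/-- `L ⧸ E` is not cyclic. -/
theorem KM_aux_noncyclic (hL : IsPGroup p L)
    (hnc : ∀ C : Subgroup L, IsCyclic C → C.index ≠ p)
    (E : Subgroup L) [E.Normal] (hE : ∀ x, x ∈ E ↔ x ^ p = 1) (hEc : Nat.card E = p ^ 2) :
    ¬ IsCyclic (L ⧸ E) := by
  classical
  have hp : p.Prime := Fact.out
  intro hcyc
  obtain ⟨q, hq⟩ := hcyc.exists_generator
  obtain ⟨g, rfl⟩ := QuotientGroup.mk_surjective q
  set C : Subgroup L := Subgroup.zpowers g with hC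
  -- `C ⊔ E = ⊤`
  have hsup : C ⊔ E = ⊤ := by
    rw [eq_top_iff]
    intro x _
    obtain ⟨k, hk⟩ := Subgroup.mem_zpowers_iff.mp (hq (x : L ⧸ E))
    have h1 : ((g ^ k : L) : L ⧸ E) = (x : L ⧸ E) := by
      rw [← hk]; rfl
    have h2 : (g ^ k)⁻¹ * x ∈ E := QuotientGroup.eq.mp h1
    have h3 : x = g ^ k * ((g ^ k)⁻¹ * x) := by group
    rw [h3]
    exact Subgroup.mul_mem _ (Subgroup.mem_sup_left (Subgroup.zpow_mem_zpowers g k))
      (Subgroup.mem_sup_right h2)
  -- `D = C ⊓ E` has order at most `p`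
  set D : Subgroup L := C ⊓ E with hD
  have hDcyc : IsCyclic ↥D :=
    isCyclic_of_injective (Subgroup.inclusion (inf_le_left : D ≤ C)) (Subgroup.inclusion_injective _)
  have hDle : Nat.card ↥D ≤ p := by
    apply Cfsg.Agent.Helper1.Metacyclic.card_le_of_isCyclic_of_pow hDcyc hp.pos
    intro d
    apply Subtype.ext
    have : (d : L) ∈ E := (Subgroup.mem_inf.mp d.2).2
    simpa using (hE _).mp this
  -- index computation
  have hrel : E.relIndex C = E.index := by
    have h1 := Subgroup.relIndex_sup_right (H := C) (K := E)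
    rw [hsup, Subgroup.relIndex_top_right] at h1
    exact h1.symm
  have hcardC : Nat.card ↥D * E.index = Nat.card ↥C := by
    rw [← hrel]
    have h1 := Subgroup.card_mul_index (E.subgroupOf C)
    have h2 : Nat.card ↥(E.subgroupOf C) = Nat.card ↥D := by
      rw [hD, inf_comm]
      rw [← Subgroup.inf_subgroupOf_right E C]
      exact Nat.card_congr (Subgroup.subgroupOfEquivOfLe (inf_le_right : E ⊓ C ≤ C)).toEquiv
    rw [h2] at h1
    exact h1
  have hcardL1 : Nat.card ↥E * E.index = Nat.card L := Subgroup.card_mul_index E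
  have hcardL2 : Nat.card ↥C * C.index = Nat.card L := Subgroup.card_mul_index C
  have hidx_pos : 0 < E.index := Nat.pos_of_ne_zero Subgroup.index_ne_zero_of_finite
  have hkey : Nat.card ↥D * C.index = p ^ 2 := by
    have : (Nat.card ↥D * C.index) * E.index = p ^ 2 * E.index := by
      calc (Nat.card ↥D * C.index) * E.index = (Nat.card ↥D * E.index) * C.index := by ring
        _ = Nat.card ↥C * C.index := by rw [hcardC]
        _ = Nat.card L := hcardL2
        _ = Nat.card ↥E * E.index := hcardL1.symm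
        _ = p ^ 2 * E.index := by rw [hEc]
    exact Nat.eq_of_mul_eq_mul_right hidx_pos this
  -- `|D|` is `1` or `p`
  have hDdvd : Nat.card ↥D ∣ p ^ 2 := Dvd.intro _ hkey
  obtain ⟨j, hj2, hj⟩ := (Nat.dvd_prime_pow hp).mp hDdvd
  have hj1 : j ≤ 1 := by
    by_contra hcon
    have hj2' : j = 2 := by omega
    rw [hj2'] at hj
    rw [hj] at hDle
    have : p < p ^ 2 := by
      calc p = p ^ 1 := (pow_one p).symm
        _ < p ^ 2 := Nat.pow_lt_pow_right hp.one_lt (by norm_num)
    omega
  rcases Nat.le_one_iff_eq_zero_or_eq_one.mp hj1 with h0 | h1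
  · -- `D = ⊥`
    rw [h0, pow_zero] at hj
    have hDbot : D = ⊥ := Subgroup.card_eq_one.mp hj
    have hg1 : g = 1 := by
      by_contra hg
      have hCne : Nat.card ↥C ≠ 1 := by
        intro h
        have := Subgroup.card_eq_one.mp h
        apply hg
        have hgC : g ∈ C := Subgroup.mem_zpowers g
        rw [this, Subgroup.mem_bot] at hgC
        exact hgC
      have hCp : IsPGroup p ↥C := hL.to_subgroup C
      obtain ⟨k, hk⟩ := IsPGroup.iff_card.mp hCp
      have hk0 : k ≠ 0 := by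
        rintro rfl
        exact hCne (by rw [hk, pow_zero])
      have hpd : p ∣ Nat.card ↥C := by
        rw [hk]; exact dvd_pow_self p hk0
      obtain ⟨x, hx⟩ := exists_prime_orderOf_dvd_card' (G := ↥C) p hpd
      have hx1 : (x : L) ^ p = 1 := by
        have := pow_orderOf_eq_one x
        rw [hx] at this
        have := congrArg Subtype.val this
        simpa using this
      have hxD : (x : L) ∈ D := Subgroup.mem_inf.mpr ⟨x.2, (hE _).mpr hx1⟩
      rw [hDbot, Subgroup.mem_bot] at hxD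
      have : x = 1 := Subtype.ext hxD
      rw [this, orderOf_one] at hx
      exact hp.one_lt.ne hx
    -- `C = ⊥`, `E = ⊤`
    have hCbot : C = ⊥ := by
      rw [hC, hg1]; exact Subgroup.zpowers_one_eq_bot
    have hEtop : E = ⊤ := by
      rw [hCbot, bot_sup_eq] at hsup; exact hsup
    have hLcard : Nat.card L = p ^ 2 := by
      rw [← hEc, hEtop, Subgroup.card_top]
    have hnt : Nontrivial L := by
      rw [← Finite.one_lt_card_iff_nontrivial, hLcard]
      exact Nat.one_lt_pow (by norm_num) hp.one_lt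
    obtain ⟨x, hx⟩ := exists_ne (1 : L)
    have hxp : x ^ p = 1 := (hE x).mp (by rw [hEtop]; exact Subgroup.mem_top x)
    have hord : orderOf x = p := orderOf_eq_prime hxp hx
    have hidx : (Subgroup.zpowers x).index = p := by
      have h1 := Subgroup.card_mul_index (Subgroup.zpowers x)
      rw [Nat.card_zpowers, hord, hLcard, sq] at h1
      exact Nat.eq_of_mul_eq_mul_left hp.pos h1
    exact hnc _ inferInstance hidx
  · -- `|D| = p`: `C` has index `p`
    rw [h1, pow_one] at hj
    rw [hj, sq] at hkey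
    have hidx : C.index = p := Nat.eq_of_mul_eq_mul_left hp.pos hkey
    exact hnc C inferInstance hidx

/-- KM: `M = {g | g^(p²) = 1}` is a subgroup of order `p⁴`. -/
theorem KM (hp : p ≠ 2) (hL : IsPGroup p L) (hmc : Cfsg.IsMetacyclic L)
    (hnc : ∀ C : Subgroup L, IsCyclic C → C.index ≠ p)
    (E : Subgroup L) (hE : ∀ x, x ∈ E ↔ x ^ p = 1) (hEc : Nat.card E = p ^ 2) :
    ∃ M : Subgroup L, (∀ g, g ∈ M ↔ g ^ (p ^ 2) = 1) ∧ Nat.card M = p ^ 4 := by
  classical
  have hEn : E.Normal := KM_aux_normal E hE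
  have hQp : IsPGroup p (L ⧸ E) := hL.to_quotient E
  have hQm : Cfsg.IsMetacyclic (L ⧸ E) := Cfsg.Agent.Helper19.Huppert.isMetacyclic_quotient hmc E
  have hQnc : ¬ IsCyclic (L ⧸ E) := KM_aux_noncyclic hL hnc E hE hEc
  obtain ⟨K, hK, hKc⟩ := Cfsg.Agent.Helper1.Metacyclic.metacyclic_omega hp hQp hQm hQnc
  refine ⟨K.comap (QuotientGroup.mk' E), ?_, ?_⟩
  · intro g
    rw [Subgroup.mem_comap, hK, QuotientGroup.mk'_apply, ← QuotientGroup.mk_pow,
      QuotientGroup.eq_one_iff, hE, ← pow_mul, sq]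
  · have hmap : (K.comap (QuotientGroup.mk' E)).map (QuotientGroup.mk' E) = K :=
      Subgroup.map_comap_eq_self_of_surjective (QuotientGroup.mk'_surjective E) K
    have hle : E ≤ K.comap (QuotientGroup.mk' E) := by
      intro e he
      rw [Subgroup.mem_comap, QuotientGroup.mk'_apply, (QuotientGroup.eq_one_iff e).mpr he]
      exact K.one_mem
    rw [Cfsg.Agent.S3911P.ML8b E K _ hmap, hKc, inf_eq_right.mpr hle, hEc, ← pow_add]

end Cfsg.Agent.S4079P
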