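import Mathlib
import Cfsg.Agent.Helper9.S4091Defs
import Cfsg.Agent.Lead.PSolvHall

/-!
# S4091 piece QP : quotient by a normal `p`-subgroup preserves `LG`
-/

set_option autoImplicit false

namespace Cfsg.Agent.S4091P

open Cfsg.Agent.Helper7 (subFinset)

universe u v

variable {p : ℕ} [Fact p.Prime]

/-- the final arithmetic of (QP) -/
theorem QP_aux_arith (q k mb A nb gb : ℕ) (h : A ^ (q + 1) ≤ nb ^ (q * mb) * gb ^ mb) :
    (k ^ (k * mb) * A ^ k) ^ (q + 1) ≤ (k * nb) ^ (q * (k * mb)) * (gb * k) ^ (k * mb) := by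
  calc (k ^ (k * mb) * A ^ k) ^ (q + 1) = k ^ (k * mb * (q + 1)) * (A ^ (q + 1)) ^ k := by ring
    _ ≤ k ^ (k * mb * (q + 1)) * (nb ^ (q * mb) * gb ^ mb) ^ k :=
        Nat.mul_le_mul_left _ (Nat.pow_le_pow_left h k)
    _ = (k * nb) ^ (q * (k * mb)) * (gb * k) ^ (k * mb) := by ring

/-- QP: quotient by a normal `p`-subgroup -/
theorem QP {G : Type u} [Group G] [Finite G] (K : Subgroup G) [K.Normal]
    (hK : IsPGroup p K) (h : LG p (G ⧸ K)) : LG p G := by
  classical
  intro P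
  have hπ : Function.Surjective (QuotientGroup.mk' K) := QuotientGroup.mk'_surjective K
  set Pb : Sylow p (G ⧸ K) := P.mapSurjective hπ with hPb
  have hKP : K ≤ (P : Subgroup G) := hK.le_sylow_of_normal P
  have hPbcoe : (Pb : Subgroup (G ⧸ K)) = (P : Subgroup G).map (QuotientGroup.mk' K) := rfl
  -- membership transfer
  have hmem : ∀ y : G, (QuotientGroup.mk' K y) ∈ (Pb : Subgroup (G ⧸ K)) ↔ y ∈ (P : Subgroup G) := by
    intro y
    constructor
    · intro hy
      rw [hPbcoe, Subgroup.mem_map] at hy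
      obtain ⟨y', hy', e⟩ := hy
      have e' : ((y' : G) : G ⧸ K) = ((y : G) : G ⧸ K) := e
      rw [QuotientGroup.eq] at e'
      have : y = y' * (y'⁻¹ * y) := by group
      rw [this]
      exact (P : Subgroup G).mul_mem hy' (hKP e')
    · intro hy
      rw [hPbcoe]
      exact Subgroup.mem_map_of_mem _ hy
  set k := Nat.card ↥K with hk
  -- (a) tc
  have htc : ∀ x : G, tc (P : Subgroup G) x
      = k * tc (Pb : Subgroup (G ⧸ K)) (QuotientGroup.mk' K x) := by
    intro x
    have h1 := QuotientGroup.card_preimage_mk K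
      {q : G ⧸ K | q * (QuotientGroup.mk' K x) * q⁻¹ ∈ (Pb : Subgroup (G ⧸ K))}
    unfold tc
    rw [hk]
    have h2 : Nat.card {q : G ⧸ K // q * (QuotientGroup.mk' K x) * q⁻¹ ∈ (Pb : Subgroup (G ⧸ K))}
        = Nat.card ↥({q : G ⧸ K | q * (QuotientGroup.mk' K x) * q⁻¹ ∈ (Pb : Subgroup (G ⧸ K))}) := rfl
    rw [h2, ← h1]
    refine Nat.card_congr (Equiv.subtypeEquivRight ?_)
    intro g
    rw [Set.mem_preimage, Set.mem_ofPred_eq, ← hmem]
    rfl
  -- (b) normalizer
  have hnorm : Nat.card ↥(Subgroup.normalizer ((P : Subgroup G) : Set G))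
      = k * Nat.card ↥(Subgroup.normalizer ((Pb : Subgroup (G ⧸ K)) : Set (G ⧸ K))) := by
    have h1 := QuotientGroup.card_preimage_mk K
      ((Subgroup.normalizer ((Pb : Subgroup (G ⧸ K)) : Set (G ⧸ K)) : Subgroup (G ⧸ K)) : Set (G ⧸ K))
    rw [hk]
    have h2 : Nat.card ↥(Subgroup.normalizer ((Pb : Subgroup (G ⧸ K)) : Set (G ⧸ K)))
        = Nat.card ↥((Subgroup.normalizer ((Pb : Subgroup (G ⧸ K)) : Set (G ⧸ K)) :
            Subgroup (G ⧸ K)) : Set (G ⧸ K)) := rfl
    rw [h2, ← h1]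
    refine Nat.card_congr (Equiv.subtypeEquivRight ?_)
    intro g
    rw [Set.mem_preimage, SetLike.mem_coe, Subgroup.mem_normalizer_iff, Subgroup.mem_normalizer_iff]
    constructor
    · intro hg q
      obtain ⟨y, rfl⟩ := hπ q
      have := hg y
      rw [hmem]
      have e : (g : G ⧸ K) * (QuotientGroup.mk' K y) * (g : G ⧸ K)⁻¹
          = QuotientGroup.mk' K (g * y * g⁻¹) := rfl
      rw [e, hmem]
      exact this
    · intro hg y
      have := hg (QuotientGroup.mk' K y)
      have e : (g : G ⧸ K) * (QuotientGroup.mk' K y) * (g : G ⧸ K)⁻¹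
          = QuotientGroup.mk' K (g * y * g⁻¹) := rfl
      rw [e, hmem, hmem] at this
      exact this
  -- (c) |G|
  have hG : Nat.card G = Nat.card (G ⧸ K) * k := Subgroup.card_eq_card_quotient_mul_card_subgroup K
  -- (d) |P|
  have hPcard : Nat.card ↥(P : Subgroup G) = k * Nat.card ↥(Pb : Subgroup (G ⧸ K)) := by
    have h1 := QuotientGroup.card_preimage_mk K ((Pb : Subgroup (G ⧸ K)) : Set (G ⧸ K))
    rw [hk]
    have h2 : Nat.card ↥(Pb : Subgroup (G ⧸ K))
        = Nat.card ↥((Pb : Subgroup (G ⧸ K)) : Set (G ⧸ K)) := rfl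
    rw [h2, ← h1]
    refine Nat.card_congr (Equiv.subtypeEquivRight ?_)
    intro g
    rw [Set.mem_preimage, SetLike.mem_coe, ← hmem]
    rfl
  -- (e) fibres
  have hfib : ∀ y ∈ subFinset (Pb : Subgroup (G ⧸ K)),
      ((subFinset (P : Subgroup G)).filter (fun x => QuotientGroup.mk' K x = y)).card = k := by
    intro y hy
    rw [Cfsg.Agent.Helper7.mem_subFinset] at hy
    have h1 := QuotientGroup.card_preimage_mk K ({y} : Set (G ⧸ K))
    have hs : Nat.card ↥({y} : Set (G ⧸ K)) = 1 := by simp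
    rw [hs, mul_one] at h1
    rw [hk, ← h1]
    symm
    have h2 : Nat.card ↥((QuotientGroup.mk : G → G ⧸ K) ⁻¹' ({y} : Set (G ⧸ K)))
        = Nat.card {x : G // QuotientGroup.mk' K x = y} := rfl
    rw [h2]
    refine Nat.subtype_card _ ?_
    intro x
    rw [Finset.mem_filter, Cfsg.Agent.Helper7.mem_subFinset]
    constructor
    · exact fun hx => hx.2
    · intro hx
      refine ⟨?_, hx⟩
      rw [← hmem, hx]
      exact hy
  -- the product
  have hprod : ∏ x ∈ subFinset (P : Subgroup G), tc (P : Subgroup G) x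
      = k ^ (k * Nat.card ↥(Pb : Subgroup (G ⧸ K)))
        * (∏ y ∈ subFinset (Pb : Subgroup (G ⧸ K)), tc (Pb : Subgroup (G ⧸ K)) y) ^ k := by
    have h1 : ∏ x ∈ subFinset (P : Subgroup G), tc (P : Subgroup G) x
        = ∏ x ∈ subFinset (P : Subgroup G),
            (k * tc (Pb : Subgroup (G ⧸ K)) (QuotientGroup.mk' K x)) :=
      Finset.prod_congr rfl (fun x _ => htc x)
    rw [h1, Finset.prod_mul_distrib, Finset.prod_const, Cfsg.Agent.Helper7.card_subFinset, hPcard]
    congr 1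
    have hmaps : ∀ x ∈ subFinset (P : Subgroup G),
        QuotientGroup.mk' K x ∈ subFinset (Pb : Subgroup (G ⧸ K)) := by
      intro x hx
      rw [Cfsg.Agent.Helper7.mem_subFinset] at hx ⊢
      exact (hmem x).mpr hx
    rw [← Finset.prod_fiberwise_of_maps_to hmaps, ← Finset.prod_pow]
    refine Finset.prod_congr rfl ?_
    intro y hy
    have h3 : ∏ x ∈ (subFinset (P : Subgroup G)).filter (fun x => QuotientGroup.mk' K x = y),
        tc (Pb : Subgroup (G ⧸ K)) (QuotientGroup.mk' K x)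
        = ∏ _x ∈ (subFinset (P : Subgroup G)).filter (fun x => QuotientGroup.mk' K x = y),
            tc (Pb : Subgroup (G ⧸ K)) y := by
      refine Finset.prod_congr rfl ?_
      intro x hx
      rw [(Finset.mem_filter.mp hx).2]
    rw [h3, Finset.prod_const, hfib y hy]
  -- assemble
  have hLG := h Pb
  obtain ⟨q, hq⟩ : ∃ q, p = q + 1 := ⟨p - 1, by have := (Fact.out : p.Prime).pos; omega⟩
  have hq' : p - 1 = q := by omega
  rw [hprod, hnorm, hG, hPcard, hq']
  rw [hq'] at hLG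
  have hLG' : (∏ y ∈ subFinset (Pb : Subgroup (G ⧸ K)), tc (Pb : Subgroup (G ⧸ K)) y) ^ (q + 1)
      ≤ Nat.card ↥(Subgroup.normalizer ((Pb : Subgroup (G ⧸ K)) : Set (G ⧸ K)))
          ^ (q * Nat.card ↥(Pb : Subgroup (G ⧸ K)))
        * Nat.card (G ⧸ K) ^ Nat.card ↥(Pb : Subgroup (G ⧸ K)) := by
    rw [← hq]; exact hLG
  have := QP_aux_arith q k _ _ _ _ hLG'
  rw [← hq] at this
  exact this

end Cfsg.Agent.S4091P
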