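import Mathlib

/-!
# S4130 board, row PLINESA: the abstract lines lemma.
-/

set_option autoImplicit false

namespace Cfsg.Agent.S4130P

open Subgroup

section
variable {V : Type*} [Group V]

/-- the commutator map `v ↦ α v * v⁻¹` of an automorphism of an abelian group -/
def PLINESA_aux_c (hV : ∀ a b : V, a * b = b * a) (α : MulAut V) : V →* V where
  toFun v := α v * v⁻¹
  map_one' := by simp
  map_mul' a b := by
    rw [map_mul, mul_inv_rev]
    calc α a * α b * (b⁻¹ * a⁻¹) = α a * (α b * (b⁻¹ * a⁻¹)) := by rw [mul_assoc]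
      _ = α a * ((b⁻¹ * a⁻¹) * α b) := by rw [hV (α b)]
      _ = α a * (a⁻¹ * b⁻¹ * α b) := by rw [hV b⁻¹ a⁻¹]
      _ = α a * a⁻¹ * (b⁻¹ * α b) := by simp only [mul_assoc]
      _ = α a * a⁻¹ * (α b * b⁻¹) := by rw [hV b⁻¹ (α b)]

theorem PLINESA_aux_c_apply (hV : ∀ a b : V, a * b = b * a) (α : MulAut V) (v : V) :
    PLINESA_aux_c hV α v = α v * v⁻¹ := rfl

theorem PLINESA_aux_mem_ker (hV : ∀ a b : V, a * b = b * a) (α : MulAut V) (v : V) :
    v ∈ (PLINESA_aux_c hV α).ker ↔ α v = v := by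
  rw [MonoidHom.mem_ker, PLINESA_aux_c_apply, mul_inv_eq_one]

/-- coprime action: a commutator fixed by `α` is trivial -/
theorem PLINESA_aux_coprime (hV : ∀ a b : V, a * b = b * a) {r : ℕ} (hVr : IsPGroup r V)
    (α : MulAut V) (hcop : (orderOf α).Coprime r) {w : V}
    (hw : w ∈ (PLINESA_aux_c hV α).range) (hfix : α w = w) : w = 1 := by
  obtain ⟨v, rfl⟩ := hw
  set w := PLINESA_aux_c hV α v with hwdef
  have hαv : α v = w * v := by
    rw [hwdef, PLINESA_aux_c_apply, inv_mul_cancel_right]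
  have hpow : ∀ k : ℕ, (α ^ k) v = w ^ k * v := by
    intro k
    induction k with
    | zero => simp
    | succ k ih =>
      rw [pow_succ', MulAut.mul_apply, ih, map_mul, map_pow, hfix, hαv, pow_succ, mul_assoc]
  have h1 : w ^ orderOf α = 1 := by
    have := hpow (orderOf α)
    rw [pow_orderOf_eq_one, MulAut.one_apply] at this
    exact mul_eq_right.mp this.symm
  obtain ⟨n, hn⟩ := hVr w
  have hd1 : orderOf w ∣ orderOf α := orderOf_dvd_of_pow_eq_one h1
  have hd2 : orderOf w ∣ r ^ n := orderOf_dvd_of_pow_eq_one hn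
  have hc : (orderOf α).Coprime (r ^ n) := hcop.pow_right n
  have : orderOf w = 1 := Nat.eq_one_of_dvd_coprimes hc hd1 hd2
  exact orderOf_eq_one_iff.mp this

/-- a nontrivial subgroup of a subgroup of prime order is everything -/
theorem PLINESA_aux_prime [Finite V] {r : ℕ} (hr : r.Prime) {L K : Subgroup V}
    (hL : Nat.card L = r) (hK : K ≤ L) (hne : K ≠ ⊥) : K = L := by
  have hd : Nat.card K ∣ r := hL ▸ Subgroup.card_dvd_of_le hK
  rcases (Nat.dvd_prime hr).mp hd with h | h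
  · exact absurd (Subgroup.eq_bot_of_card_eq K h) hne
  · exact Subgroup.eq_of_le_of_card_ge hK (by rw [hL, h])

/-- two subgroups with the same finite index, one inside the other, are equal -/
theorem PLINESA_aux_index [Finite V] {H K : Subgroup V} (hle : H ≤ K) (hidx : H.index = K.index) :
    H = K := by
  apply le_antisymm hle
  have h1 := Subgroup.relIndex_mul_index hle
  rw [hidx] at h1
  have hK0 : K.index ≠ 0 := Subgroup.index_ne_zero_of_finite
  have h2 : H.relIndex K = 1 := by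
    have : H.relIndex K * K.index = 1 * K.index := by rw [h1, one_mul]
    exact Nat.eq_of_mul_eq_mul_right (Nat.pos_of_ne_zero hK0) this
  exact Subgroup.relIndex_eq_one.mp h2

/-- the pair lemma: two commuting coprime automorphisms with lines of order `r` have the same line -/
theorem PLINESA_aux_pair [Finite V] (hV : ∀ a b : V, a * b = b * a) {r : ℕ} [Fact r.Prime]
    (hVr : IsPGroup r V) (α β : MulAut V) (hab : α * β = β * α)
    (hcα : (orderOf α).Coprime r) (hcβ : (orderOf β).Coprime r)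
    (hα : Nat.card (PLINESA_aux_c hV α).range = r) (hβ : Nat.card (PLINESA_aux_c hV β).range = r)
    (hαβ : (PLINESA_aux_c hV (α * β)).ker.index = 1 ∨ (PLINESA_aux_c hV (α * β)).ker.index = r) :
    (PLINESA_aux_c hV α).range = (PLINESA_aux_c hV β).range := by
  have hr : r.Prime := Fact.out
  set Lα := (PLINESA_aux_c hV α).range with hLα
  set Lβ := (PLINESA_aux_c hV β).range with hLβ
  -- if the lines meet they are equal
  have hmeet : Lα ⊓ Lβ ≠ ⊥ → Lα = Lβ := by
    intro hne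
    have h1 := PLINESA_aux_prime hr hα inf_le_left hne
    have h2 := PLINESA_aux_prime hr hβ inf_le_right hne
    rw [← h1, h2]
  by_contra hneq
  have hdisj : Lα ⊓ Lβ = ⊥ := by
    by_contra h; exact hneq (hmeet h)
  -- `β` preserves `Lα`, `α` preserves `Lβ`
  have hβL : ∀ w ∈ Lα, β w ∈ Lα := by
    rintro _ ⟨v, rfl⟩
    refine ⟨β v, ?_⟩
    rw [PLINESA_aux_c_apply, PLINESA_aux_c_apply, map_mul, map_inv]
    have : α (β v) = β (α v) := by
      rw [← MulAut.mul_apply, ← MulAut.mul_apply, hab]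
    rw [this]
  have hαL : ∀ w ∈ Lβ, α w ∈ Lβ := by
    rintro _ ⟨v, rfl⟩
    refine ⟨α v, ?_⟩
    rw [PLINESA_aux_c_apply, PLINESA_aux_c_apply, map_mul, map_inv]
    have : β (α v) = α (β v) := by
      rw [← MulAut.mul_apply, ← MulAut.mul_apply, hab]
    rw [this]
  -- `β` is trivial on `Lα`
  have hβfix : ∀ w ∈ Lα, β w = w := by
    intro w hw
    by_contra hne
    apply hneq
    apply hmeet
    intro hbot
    have hmem : PLINESA_aux_c hV β w ∈ Lα ⊓ Lβ := by
      refine Subgroup.mem_inf.mpr ⟨?_, ⟨w, rfl⟩⟩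
      rw [PLINESA_aux_c_apply]
      exact Lα.mul_mem (hβL w hw) (Lα.inv_mem hw)
    rw [hbot, Subgroup.mem_bot, PLINESA_aux_c_apply, mul_inv_eq_one] at hmem
    exact hne hmem
  have hαfix : ∀ w ∈ Lβ, α w = w := by
    intro w hw
    by_contra hne
    apply hneq
    apply hmeet
    intro hbot
    have hmem : PLINESA_aux_c hV α w ∈ Lα ⊓ Lβ := by
      refine Subgroup.mem_inf.mpr ⟨⟨w, rfl⟩, ?_⟩
      rw [PLINESA_aux_c_apply]
      exact Lβ.mul_mem (hαL w hw) (Lβ.inv_mem hw)
    rw [hbot, Subgroup.mem_bot, PLINESA_aux_c_apply, mul_inv_eq_one] at hmem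
    exact hne hmem
  -- fixed points of `α β`
  set Cα := (PLINESA_aux_c hV α).ker with hCα
  set Cβ := (PLINESA_aux_c hV β).ker with hCβ
  set Cαβ := (PLINESA_aux_c hV (α * β)).ker with hCαβ
  have hsub : ∀ v ∈ Cαβ, β v = v ∧ α v = v := by
    intro v hv
    rw [hCαβ, PLINESA_aux_mem_ker, MulAut.mul_apply] at hv
    have hprod : PLINESA_aux_c hV α (β v) * PLINESA_aux_c hV β v = 1 := by
      rw [PLINESA_aux_c_apply, PLINESA_aux_c_apply, mul_assoc, inv_mul_cancel_left, hv,
        mul_inv_cancel]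
    have hmem : PLINESA_aux_c hV β v ∈ Lα ⊓ Lβ := by
      refine Subgroup.mem_inf.mpr ⟨?_, ⟨v, rfl⟩⟩
      have : PLINESA_aux_c hV β v = (PLINESA_aux_c hV α (β v))⁻¹ :=
        (eq_inv_of_mul_eq_one_right hprod)
      rw [this]
      exact Lα.inv_mem ⟨β v, rfl⟩
    rw [hdisj, Subgroup.mem_bot, PLINESA_aux_c_apply, mul_inv_eq_one] at hmem
    refine ⟨hmem, ?_⟩
    rw [hmem] at hv
    exact hv
  have hleα : Cαβ ≤ Cα := fun v hv => (PLINESA_aux_mem_ker hV α v).mpr (hsub v hv).2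
  have hleβ : Cαβ ≤ Cβ := fun v hv => (PLINESA_aux_mem_ker hV β v).mpr (hsub v hv).1
  have hiα : Cα.index = r := by rw [hCα, Subgroup.index_ker]; exact hα
  have hiβ : Cβ.index = r := by rw [hCβ, Subgroup.index_ker]; exact hβ
  have hiαβ : Cαβ.index = r := by
    rcases hαβ with h | h
    · exfalso
      have hd : Cα.index ∣ Cαβ.index := Subgroup.index_dvd_of_le hleα
      rw [hiα, h] at hd
      exact hr.one_lt.ne' (Nat.dvd_one.mp hd)
    · exact h
  have e1 : Cαβ = Cα := PLINESA_aux_index hleα (by rw [hiαβ, hiα])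
  have e2 : Cαβ = Cβ := PLINESA_aux_index hleβ (by rw [hiαβ, hiβ])
  have hCeq : Cα = Cβ := by rw [← e1, e2]
  -- `Lα ≤ Cβ = Cα`, so `Lα = ⊥`
  have hLbot : Lα = ⊥ := by
    rw [eq_bot_iff]
    intro w hw
    rw [Subgroup.mem_bot]
    have h1 : w ∈ Cβ := (PLINESA_aux_mem_ker hV β w).mpr (hβfix w hw)
    rw [← hCeq] at h1
    exact PLINESA_aux_coprime hV hVr α hcα hw ((PLINESA_aux_mem_ker hV α w).mp h1)
  rw [hLbot] at hα
  have : Nat.card (⊥ : Subgroup V) = 1 := Subgroup.card_bot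
  rw [this] at hα
  exact hr.one_lt.ne' hα.symm

end

/-- (PLINESA) abstract lines lemma. `V` a finite abelian `r`-group; `Γ` acts on `V` through an
abelian group of automorphisms of orders prime to `r`; every `γ` fixes a subgroup of index `1` or
`r`: then `[V, Γ]` has order dividing `r`. -/
theorem PLINESA {Γ V : Type*} [Group Γ] [Group V] [Finite V]
    (hV : ∀ a b : V, a * b = b * a) (ρ : Γ →* MulAut V) (r : ℕ) [Fact r.Prime]
    (hVr : IsPGroup r V)
    (hcomm : ∀ γ δ : Γ, ρ γ * ρ δ = ρ δ * ρ γ)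
    (hcop : ∀ γ : Γ, (orderOf (ρ γ)).Coprime r)
    (hidx : ∀ γ : Γ, ∃ C : Subgroup V, (∀ v : V, v ∈ C ↔ ρ γ v = v) ∧ (C.index = 1 ∨ C.index = r)) :
    Nat.card (closure {w : V | ∃ (γ : Γ) (v : V), w = ρ γ v * v⁻¹}) ∣ r := by
  classical
  have hr : r.Prime := Fact.out
  -- index of the kernel
  have hker : ∀ γ : Γ, (PLINESA_aux_c hV (ρ γ)).ker.index = 1 ∨ (PLINESA_aux_c hV (ρ γ)).ker.index = r := by
    intro γ
    obtain ⟨C, hC, hCi⟩ := hidx γ
    have : (PLINESA_aux_c hV (ρ γ)).ker = C := by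
      ext v
      rw [PLINESA_aux_mem_ker, hC]
    rw [this]; exact hCi
  have hrange : ∀ γ : Γ, Nat.card (PLINESA_aux_c hV (ρ γ)).range = 1 ∨
      Nat.card (PLINESA_aux_c hV (ρ γ)).range = r := by
    intro γ
    rw [← Subgroup.index_ker]; exact hker γ
  by_cases hex : ∃ γ₀ : Γ, Nat.card (PLINESA_aux_c hV (ρ γ₀)).range = r
  · obtain ⟨γ₀, hγ₀⟩ := hex
    have hle : closure {w : V | ∃ (γ : Γ) (v : V), w = ρ γ v * v⁻¹} ≤ (PLINESA_aux_c hV (ρ γ₀)).range := by
      rw [Subgroup.closure_le]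
      rintro w ⟨γ, v, rfl⟩
      rcases hrange γ with h1 | h1
      · have hbot : (PLINESA_aux_c hV (ρ γ)).range = ⊥ := Subgroup.eq_bot_of_card_eq _ h1
        have hmem : ρ γ v * v⁻¹ ∈ (PLINESA_aux_c hV (ρ γ)).range := ⟨v, rfl⟩
        rw [hbot, Subgroup.mem_bot] at hmem
        rw [hmem]
        exact Subgroup.one_mem _
      · have hpair := PLINESA_aux_pair hV hVr (ρ γ) (ρ γ₀) (hcomm γ γ₀) (hcop γ) (hcop γ₀) h1 hγ₀
          (by rw [← map_mul]; exact hker (γ * γ₀))
        rw [← hpair]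
        exact ⟨v, rfl⟩
    have := Subgroup.card_dvd_of_le hle
    rwa [hγ₀] at this
  · push Not at hex
    have hbot : closure {w : V | ∃ (γ : Γ) (v : V), w = ρ γ v * v⁻¹} = ⊥ := by
      rw [eq_bot_iff, Subgroup.closure_le]
      rintro w ⟨γ, v, rfl⟩
      have h1 : Nat.card (PLINESA_aux_c hV (ρ γ)).range = 1 := by
        rcases hrange γ with h | h
        · exact h
        · exact absurd h (hex γ)
      have hb : (PLINESA_aux_c hV (ρ γ)).range = ⊥ := Subgroup.eq_bot_of_card_eq _ h1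
      have hmem : ρ γ v * v⁻¹ ∈ (PLINESA_aux_c hV (ρ γ)).range := ⟨v, rfl⟩
      rw [hb] at hmem
      exact hmem
    rw [hbot, Subgroup.card_bot]
    exact one_dvd r

end Cfsg.Agent.S4130P
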