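import Mathlib
import Cfsg.Agent.Helper5.S4330Defs

/-!
# S4330 board, piece GEN: the `Fix K`, `K ∈ MaxFix E`, generate `V`.
-/

set_option autoImplicit false
open Pointwise
open scoped commutatorElement

namespace Cfsg.Agent.Helper5.S4330

section module
variable {V : Type*} [CommGroup V] [Finite V]

/-- local copy of the MAXFIX piece `exists_mem_MaxFix` (kept under an own name). -/
theorem GEN_aux_exists_mem_MaxFix {E K₀ : Subgroup (MulAut V)} (hK₀ : K₀ ≤ E)
    (hfix : Fix (K₀ : Set (MulAut V)) ≠ ⊥) : ∃ K ∈ MaxFix E, K₀ ≤ K := by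
  classical
  have : Finite (MulAut V) := Finite.of_injective (fun f : MulAut V => (f : V → V))
    (fun f g h => MulEquiv.ext (congrFun h))
  let s : Set (Subgroup (MulAut V)) :=
    {K | K₀ ≤ K ∧ K ≤ E ∧ Fix (K : Set (MulAut V)) ≠ ⊥}
  have hsfin : s.Finite := Set.toFinite s
  have hsne : s.Nonempty := ⟨K₀, le_rfl, hK₀, hfix⟩
  obtain ⟨K, hK⟩ := hsfin.exists_maximal hsne
  refine ⟨K, ⟨hK.1.2.1, hK.1.2.2, ?_⟩, hK.1.1⟩
  intro K' hK'E hlt
  by_contra hne
  have hK's : K' ∈ s := ⟨hK.1.1.trans hlt.le, hK'E, hne⟩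
  exact (not_le_of_gt hlt) (hK.2 hK's hlt.le)

/-- local copy of the MAXFIX piece `cj_mem_MaxFix` (kept under an own name). -/
theorem GEN_aux_cj_mem_MaxFix {𝓛 E : Subgroup (MulAut V)} (hN : NormBy 𝓛 E) {l : MulAut V}
    (hl : l ∈ 𝓛) {K : Subgroup (MulAut V)} (hK : K ∈ MaxFix E) : cj l K ∈ MaxFix E := by
  obtain ⟨hKE, hKfix, hKmax⟩ := hK
  refine ⟨hN.cj_le hl hKE, ?_, ?_⟩
  · intro hbot
    apply hKfix
    rw [eq_bot_iff]
    intro v hv
    have h1 : l v ∈ Fix (cj l K : Set (MulAut V)) := apply_mem_Fix_cj hv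
    rw [hbot, Subgroup.mem_bot] at h1
    rw [Subgroup.mem_bot]
    have : l v = l 1 := by rw [h1, map_one]
    exact l.injective this
  · intro K' hK'E hlt
    have hlt' : K < cj l⁻¹ K' := by
      have := cj_lt_cj (a := l⁻¹) hlt
      rwa [cj_inv_cj] at this
    have hle' : cj l⁻¹ K' ≤ E := hN.cj_le (𝓛.inv_mem hl) hK'E
    have hbot := hKmax _ hle' hlt'
    rw [eq_bot_iff]
    intro v hv
    have h1 : l⁻¹ v ∈ Fix (cj l⁻¹ K' : Set (MulAut V)) := apply_mem_Fix_cj hv
    rw [hbot, Subgroup.mem_bot] at h1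
    rw [Subgroup.mem_bot]
    have : l⁻¹ v = l⁻¹ 1 := by rw [h1, map_one]
    exact (l⁻¹).injective this

theorem iSup_Fix_MaxFix {𝓛 E : Subgroup (MulAut V)} (hirr : Irr 𝓛) (hN : NormBy 𝓛 E) :
    ⨆ K ∈ MaxFix E, Fix (K : Set (MulAut V)) = ⊤ := by
  obtain ⟨hnt, hirr⟩ := hirr
  set U : Subgroup V := ⨆ K ∈ MaxFix E, Fix (K : Set (MulAut V)) with hU
  have hinv : Inv 𝓛 U := by
    intro l hl w hw
    have hmap : U.map (l : MulAut V).toMonoidHom ≤ U := by
      rw [hU, Subgroup.map_iSup]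
      apply iSup_le
      intro K
      rw [Subgroup.map_iSup]
      apply iSup_le
      intro hK
      have hK' : cj l K ∈ MaxFix E := GEN_aux_cj_mem_MaxFix hN hl hK
      have h1 : (Fix (K : Set (MulAut V))).map (l : MulAut V).toMonoidHom ≤
          Fix (cj l K : Set (MulAut V)) := by
        rintro _ ⟨v, hv, rfl⟩
        exact apply_mem_Fix_cj hv
      exact h1.trans (le_iSup₂_of_le (cj l K) hK' le_rfl)
    exact hmap ⟨w, hw, rfl⟩
  rcases hirr U hinv with h | h
  · exfalso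
    have hfix : Fix ((⊥ : Subgroup (MulAut V)) : Set (MulAut V)) ≠ ⊥ := by
      intro hbot
      obtain ⟨v, hv⟩ := exists_ne (1 : V)
      apply hv
      have : v ∈ Fix ((⊥ : Subgroup (MulAut V)) : Set (MulAut V)) := by
        intro s hs
        have : s = 1 := hs
        rw [this]; rfl
      rw [hbot, Subgroup.mem_bot] at this
      exact this
    obtain ⟨K, hK, -⟩ := GEN_aux_exists_mem_MaxFix (E := E) (K₀ := ⊥) bot_le hfix
    apply hK.2.1
    rw [eq_bot_iff, ← h]
    exact le_iSup₂_of_le K hK le_rfl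
  · exact h

/-- consequence: a non-identity automorphism moves a vector of some `Fix K` -/
theorem exists_MaxFix_moved {𝓛 E : Subgroup (MulAut V)} (hirr : Irr 𝓛) (hN : NormBy 𝓛 E)
    {x : MulAut V} (hx1 : x ≠ 1) :
    ∃ K ∈ MaxFix E, ∃ w ∈ Fix (K : Set (MulAut V)), x w ≠ w := by
  by_contra hcon
  push Not at hcon
  apply hx1
  have hle : (⨆ K ∈ MaxFix E, Fix (K : Set (MulAut V))) ≤ Fix ({x} : Set (MulAut V)) := by
    apply iSup₂_le
    intro K hK w hw s hs
    have : s = x := hs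
    rw [this]
    exact hcon K hK w hw
  rw [iSup_Fix_MaxFix hirr hN] at hle
  ext v
  have : v ∈ Fix ({x} : Set (MulAut V)) := hle (Subgroup.mem_top v)
  exact this x rfl

end module

end Cfsg.Agent.Helper5.S4330
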