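import Mathlib
import Cfsg.Agent.Helper26.S4394Defs
import Cfsg.Agent.Helper14.PCore
import Cfsg.Agent.Helper13.S4394C2c1
import Cfsg.Agent.Helper12.S4394TH1
import Cfsg.Agent.Helper26.S4394TH2

/-!
# S4394 piece C2c : the bridge — apply TH1 + TH2 to `T/Q` and `R_G/Q` acting on `Q = O_p(G)`
-/

set_option autoImplicit false

namespace Cfsg.Agent.S4394P

open Cfsg

/-- the order of the image of a subgroup under a homomorphism -/
theorem C2c_aux_card_map {G H : Type*} [Group G] [Group H] (f : G →* H) (K : Subgroup G) :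
    Nat.card ↥(K.map f) = f.ker.relIndex K := by
  rw [← MonoidHom.domRestrict_range, ← Subgroup.index_ker, MonoidHom.ker_domRestrict]
  rfl

/-- C2c (L): bridge; apply TH to `T/Q` and `R_G/Q` acting on `Q`. -/
theorem C2c {G : Type*} [Group G] [Finite G] {p : ℕ} [Fact p.Prime]
    (hsol : Cfsg.IsPSolvable p G) (T : Sylow p G)
    (hna : ¬ ∀ a b : ↥(T : Subgroup G), a * b = b * a)
    (Z : Subgroup ↥(T : Subgroup G)) (hZ : GoodZ p ↥(T : Subgroup G) Z)
    (hQT : Cfsg.pCore p G ≤ (T : Subgroup G))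
    (hZQ : Z.map (T : Subgroup G).subtype ≤ Cfsg.pCore p G)
    (hQel : Cfsg.IsElementaryAbelian p (Cfsg.pCore p G))
    (hCQ : Subgroup.centralizer (Cfsg.pCore p G : Set G) = Cfsg.pCore p G) :
    (Cfsg.pCore p G).relIndex (T : Subgroup G) = p ∧ Nat.card Z = p := by
  classical
  obtain ⟨hG1, hG2, hG3, hP2, -⟩ := hZ
  set Q : Subgroup G := Cfsg.pCore p G with hQ
  have hQn : Q.Normal := Cfsg.Agent.Helper14.pCore_normal p
  have hQp : IsPGroup p ↥Q := Cfsg.Agent.Helper14.pCore_isPGroup p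
  have hQc : ∀ a b : ↥Q, a * b = b * a := fun a b => hQel.1.is_comm.comm a b
  set ρ : G →* MulAut ↥Q := MulAut.conjNormal with hρ
  have hρapp : ∀ (g : G) (v : ↥Q), ((ρ g v : ↥Q) : G) = g * v * g⁻¹ :=
    fun g v => MulAut.conjNormal_apply g v
  -- the kernel of ρ
  have hker : ρ.ker = Q := by
    refine Eq.trans ?_ hCQ
    ext g
    rw [MonoidHom.mem_ker, Subgroup.mem_centralizer_iff]
    constructor
    · intro hg v hv
      have := congrArg (fun a : MulAut ↥Q => ((a ⟨v, hv⟩ : ↥Q) : G)) hg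
      simp only [hρapp, MulAut.one_apply] at this
      -- g v g⁻¹ = v
      have h2 : g * v = v * g := by
        calc g * v = (g * v * g⁻¹) * g := by group
          _ = v * g := by rw [this]
      exact h2.symm
    · intro hg
      apply MulEquiv.ext
      intro v
      apply Subtype.ext
      rw [hρapp, MulAut.one_apply]
      have := hg v v.2
      calc g * v * g⁻¹ = (v * g) * g⁻¹ := by rw [this]
        _ = v := by group
  have hmemker : ∀ g : G, g ∈ Q → ρ g = 1 := fun g hg => by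
    have : g ∈ ρ.ker := by rw [hker]; exact hg
    exact MonoidHom.mem_ker.mp this
  -- facts on T
  have hcommZ : ∀ s s' : G, s ∈ (T : Subgroup G) → s' ∈ (T : Subgroup G) →
      s * s' * s⁻¹ * s'⁻¹ ∈ Z.map (T : Subgroup G).subtype := by
    intro s s' hs hs'
    exact ⟨_, hG2 ⟨s, hs⟩ ⟨s', hs'⟩, rfl⟩
  have hpowZ : ∀ s : G, s ∈ (T : Subgroup G) → s ^ p ∈ Z.map (T : Subgroup G).subtype := by
    intro s hs
    exact ⟨_, hG3 ⟨s, hs⟩, rfl⟩
  have hcentZ : ∀ s z : G, s ∈ (T : Subgroup G) → z ∈ Z.map (T : Subgroup G).subtype →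
      s * z = z * s := by
    intro s z hs hz
    obtain ⟨z0, hz0, rfl⟩ := hz
    have := Subgroup.mem_center_iff.mp (hG1 hz0) ⟨s, hs⟩
    have h2 := congrArg (fun w : ↥(T : Subgroup G) => (w : G)) this
    exact h2
  -- the subgroups A, R
  obtain ⟨RG, hRGn, hQRG, hRGp, hRGfaith⟩ := C2c1 hsol T
  set A : Subgroup (MulAut ↥Q) := (T : Subgroup G).map ρ with hA
  set R : Subgroup (MulAut ↥Q) := RG.map ρ with hR
  have hAc : ∀ a ∈ A, ∀ b ∈ A, a * b = b * a := by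
    rintro _ ⟨s, hs, rfl⟩ _ ⟨s', hs', rfl⟩
    have h1 : ρ (s * s' * s⁻¹ * s'⁻¹) = 1 := hmemker _ (hZQ (hcommZ s s' hs hs'))
    rw [map_mul, map_mul, map_mul, map_inv, map_inv] at h1
    calc ρ s * ρ s' = (ρ s * ρ s' * (ρ s)⁻¹ * (ρ s')⁻¹) * (ρ s' * ρ s) := by group
      _ = ρ s' * ρ s := by rw [h1, one_mul]
  have hAp : ∀ a ∈ A, a ^ p = 1 := by
    rintro _ ⟨s, hs, rfl⟩
    rw [← map_pow]
    exact hmemker _ (hZQ (hpowZ s hs))
  have hRcard : ¬ p ∣ Nat.card ↥R := by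
    rw [hR, C2c_aux_card_map, hker]
    exact hRGp
  have hAR : A ≤ Subgroup.normalizer (R : Set (MulAut ↥Q)) := by
    have h1 : (T : Subgroup G) ≤ Subgroup.normalizer (RG : Set G) := by
      rw [Subgroup.normalizer_eq_top]
      exact le_top
    exact le_trans (Subgroup.map_mono h1) (Subgroup.le_normalizer_map ρ)
  -- T is not contained in Q
  have hTQ : ∃ t₀ ∈ (T : Subgroup G), t₀ ∉ Q := by
    by_contra hcon
    push Not at hcon
    apply hna
    intro a b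
    have ha : (a : G) ∈ Q := hcon a a.2
    have hb : (b : G) ∈ Q := hcon b b.2
    have := hQc ⟨a, ha⟩ ⟨b, hb⟩
    have h2 := congrArg (fun w : ↥Q => (w : G)) this
    exact Subtype.ext h2
  obtain ⟨t₀, ht₀T, ht₀Q⟩ := hTQ
  have hnc : ∃ a ∈ A, ∃ r ∈ R, a * r ≠ r * a := by
    by_contra hcon
    push Not at hcon
    apply ht₀Q
    apply hRGfaith t₀ ht₀T
    intro r hr
    have h1 := hcon (ρ t₀) ⟨t₀, ht₀T, rfl⟩ (ρ r) ⟨r, hr, rfl⟩
    have h2 : ρ (t₀ * r * t₀⁻¹ * r⁻¹) = 1 := by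
      rw [map_mul, map_mul, map_mul, map_inv, map_inv, h1]
      group
    have : t₀ * r * t₀⁻¹ * r⁻¹ ∈ ρ.ker := MonoidHom.mem_ker.mpr h2
    rwa [hker] at this
  obtain ⟨R₁, t, hR₁R, hAR₁, htA, htnc, hcomm, hdec⟩ := TH1 A R hAc hAp hRcard hAR hnc
  have hR₁card : ¬ p ∣ Nat.card ↥R₁ := by
    intro h
    exact hRcard (dvd_trans h (Subgroup.card_dvd_of_le hR₁R))
  -- the subgroup Z' of Q
  set Z' : Subgroup ↥Q := (Z.map (T : Subgroup G).subtype).subgroupOf Q with hZ'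
  have hz1 : ∀ a ∈ A, ∀ z ∈ Z', a z = z := by
    rintro _ ⟨s, hs, rfl⟩ z hz
    apply Subtype.ext
    rw [hρapp]
    have hz' : (z : G) ∈ Z.map (T : Subgroup G).subtype := Subgroup.mem_subgroupOf.mp hz
    have := hcentZ s z hs hz'
    calc s * (z : G) * s⁻¹ = ((z : G) * s) * s⁻¹ := by rw [this]
      _ = z := by group
  have hz2 : ∀ a ∈ A, ∀ v : ↥Q, a v * v⁻¹ ∈ Z' := by
    rintro _ ⟨s, hs, rfl⟩ v
    rw [hZ', Subgroup.mem_subgroupOf]
    have : ((ρ s v * v⁻¹ : ↥Q) : G) = s * v * s⁻¹ * (v : G)⁻¹ := by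
      rw [Subgroup.coe_mul, hρapp, Subgroup.coe_inv]
    rw [this]
    exact hcommZ s v hs (hQT v.2)
  have hz3 : ∀ v : ↥Q, v ∉ Z' → ∀ z ∈ Z', ∃ a ∈ A, a v * v⁻¹ = z := by
    intro v hv z hz
    have hvT : (v : G) ∈ (T : Subgroup G) := hQT v.2
    have hvZ : (⟨v, hvT⟩ : ↥(T : Subgroup G)) ∉ Z := by
      intro h
      apply hv
      rw [hZ', Subgroup.mem_subgroupOf]
      exact ⟨_, h, rfl⟩
    have hz' : (z : G) ∈ Z.map (T : Subgroup G).subtype := Subgroup.mem_subgroupOf.mp hz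
    obtain ⟨z0, hz0, hz0e⟩ := hz'
    obtain ⟨s, hs⟩ := hP2 ⟨v, hvT⟩ hvZ z0⁻¹ (Z.inv_mem hz0)
    refine ⟨ρ s, ⟨s, s.2, rfl⟩, ?_⟩
    apply Subtype.ext
    have h1 : ((ρ s v * v⁻¹ : ↥Q) : G) = (s : G) * v * (s : G)⁻¹ * (v : G)⁻¹ := by
      rw [Subgroup.coe_mul, hρapp, Subgroup.coe_inv]
    rw [h1, ← hz0e]
    have h2 := congrArg (fun w : ↥(T : Subgroup G) => (w : G)) hs
    simp only [Subgroup.coe_mul, Subgroup.coe_inv] at h2
    -- h2 : v * s * v⁻¹ * s⁻¹ = z0⁻¹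
    have h3 : (s : G) * v * (s : G)⁻¹ * (v : G)⁻¹ = ((v : G) * s * (v : G)⁻¹ * (s : G)⁻¹)⁻¹ := by group
    rw [h3, h2, inv_inv]
    rfl
  obtain ⟨hcardA, hcardZ'⟩ := TH2 hQc hQp A R₁ t hAc hAp hR₁card hAR₁ htA htnc hcomm hdec Z'
    hz1 hz2 hz3
  constructor
  · have h1 : Nat.card ↥A = Q.relIndex (T : Subgroup G) := by
      rw [hA, C2c_aux_card_map, hker]
    exact h1.symm.trans hcardA
  · have h1 : Nat.card ↥Z' = Nat.card ↥Z := by
      rw [hZ', Nat.card_congr (Subgroup.subgroupOfEquivOfLe hZQ).toEquiv]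
      exact Subgroup.card_map_of_injective (Subgroup.subtype_injective _)
    exact h1.symm.trans hcardZ'

end Cfsg.Agent.S4394P
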