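import Mathlib

set_option autoImplicit false

namespace Cfsg.Agent.S4395P

open Polynomial

/-- A finite field `F` of order `p^a`, `a = orderOf (p : ZMod q)`, is generated over `ZMod p` by any
element `x` of order `q`: evaluation at `x` is onto. -/
theorem M1abs_aux_surj (p q : ℕ) [Fact p.Prime] [Fact q.Prime]
    {F : Type*} [Field F] [Finite F] [Algebra (ZMod p) F]
    (hF : Nat.card F = p ^ orderOf (p : ZMod q))
    (x : F) (hx : orderOf x = q) :
    Function.Surjective (Polynomial.aeval (R := ZMod p) x) := by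
  classical
  have hp : p.Prime := Fact.out
  have hq : q.Prime := Fact.out
  let L : IntermediateField (ZMod p) F := IntermediateField.adjoin (ZMod p) {x}
  have hxL : x ∈ L := IntermediateField.mem_adjoin_simple_self (ZMod p) x
  set d := Module.finrank (ZMod p) L with hd
  have hcardL : Nat.card L = p ^ d := by
    have := Module.natCard_eq_pow_finrank (K := ZMod p) (V := L)
    rw [this, Nat.card_zmod]
  have hdpos : 0 < d := Module.finrank_pos
  -- the unit
  have hx0 : x ≠ 0 := by
    rintro rfl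
    rw [orderOf_eq_zero_iff'.mpr] at hx
    · exact hq.ne_zero hx.symm
    · intro n hn
      simp [zero_pow hn.ne']
  let xL : L := ⟨x, hxL⟩
  have hxL0 : xL ≠ 0 := by
    intro h
    apply hx0
    exact congrArg Subtype.val h
  let u : Lˣ := Units.mk0 xL hxL0
  have hu : orderOf u = q := by
    rw [← hx]
    have h1 : orderOf u = orderOf (u : L) := (orderOf_units).symm
    rw [h1]
    have h2 : ((u : L) : F) = x := rfl
    rw [← h2]
    exact (orderOf_injective (L.val : L →* F) Subtype.val_injective (u : L)).symm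
  have hdvd : q ∣ Nat.card Lˣ := hu ▸ orderOf_dvd_natCard u
  have hcu : Nat.card Lˣ = p ^ d - 1 := by
    rw [Nat.card_units, hcardL]
  rw [hcu] at hdvd
  have hpow : ((p : ZMod q)) ^ d = 1 := by
    have h1 : ((p ^ d - 1 : ℕ) : ZMod q) = 0 := (ZMod.natCast_eq_zero_iff _ _).mpr hdvd
    have h2 : 1 ≤ p ^ d := Nat.one_le_pow _ _ hp.pos
    rw [Nat.cast_sub h2] at h1
    have h3 := sub_eq_zero.mp h1
    simpa using h3
  have hle : orderOf (p : ZMod q) ≤ d := Nat.le_of_dvd hdpos (orderOf_dvd_of_pow_eq_one hpow)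
  have hcard : Nat.card F ≤ Nat.card L := by
    rw [hF, hcardL]
    exact Nat.pow_le_pow_right hp.pos hle
  have hbij : Function.Bijective (Subtype.val : L → F) :=
    Function.Injective.bijective_of_nat_card_le Subtype.val_injective hcard
  intro y
  obtain ⟨⟨y', hy'⟩, rfl⟩ := hbij.2 y
  have hint : IsAlgebraic (ZMod p) x := IsAlgebraic.of_finite (ZMod p) x
  have hL : L.toSubalgebra = Algebra.adjoin (ZMod p) {x} :=
    IntermediateField.adjoin_simple_toSubalgebra_of_isAlgebraic hint
  have : y' ∈ Algebra.adjoin (ZMod p) {x} := by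
    rw [← hL]; exact hy'
  rw [Algebra.adjoin_singleton_eq_range_aeval] at this
  exact this

/-- Linear-algebra core of M1abs. -/
theorem M1abs_aux_core (p q : ℕ) [Fact p.Prime] [Fact q.Prime]
    {F : Type*} [Field F] [Finite F] [Algebra (ZMod p) F]
    (hF : Nat.card F = p ^ orderOf (p : ZMod q))
    (ζ : F) (hζ : orderOf ζ = q)
    {V : Type*} [AddCommGroup V] [Finite V] [Module (ZMod p) V] (a : Module.End (ZMod p) V)
    (haq : a ^ q = 1) (hα1 : ∃ v : V, a v ≠ v)
    (hirr : ∀ W : AddSubgroup V, (∀ w ∈ W, a w ∈ W) → W = ⊥ ∨ W = ⊤) :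
    ∃ (j : ℕ) (e : V ≃ₗ[ZMod p] F), ¬ q ∣ j ∧ ∀ v : V, e (a v) = ζ ^ j * e v := by
  classical
  have hp : p.Prime := Fact.out
  have hq : q.Prime := Fact.out
  have : NeZero p := ⟨hp.ne_zero⟩
  have : NeZero q := ⟨hq.ne_zero⟩
  -- commutation
  have hcomm : ∀ f : (ZMod p)[X], ∀ v : V, aeval a f (a v) = a (aeval a f v) := by
    intro f v
    have h1 : aeval a (f * X) = aeval a (X * f) := by rw [mul_comm]
    rw [map_mul, map_mul, aeval_X] at h1
    have h2 := congrArg (fun g : Module.End (ZMod p) V => g v) h1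
    simpa [Module.End.mul_apply] using h2
  -- kernel argument
  have hker : ∀ f : (ZMod p)[X], (∃ v, v ≠ 0 ∧ aeval a f v = 0) → aeval a f = 0 := by
    rintro f ⟨v, hv0, hv⟩
    let W : AddSubgroup V := (LinearMap.ker (aeval a f)).toAddSubgroup
    have hW : ∀ w ∈ W, a w ∈ W := by
      intro w hw
      have hw' : aeval a f w = 0 := hw
      show aeval a f (a w) = 0
      rw [hcomm, hw', map_zero]
    rcases hirr W hW with h | h
    · exfalso
      apply hv0
      have : v ∈ W := hv
      rw [h] at this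
      exact this
    · apply LinearMap.ext
      intro w
      have : w ∈ W := by rw [h]; trivial
      exact this
  obtain ⟨v1, hv1⟩ := hα1
  have hv10 : v1 ≠ 0 := by
    rintro rfl
    exact hv1 (map_zero a)
  -- evaluation maps
  let φ : (ZMod p)[X] →ₗ[ZMod p] V := (LinearMap.applyₗ v1).comp (aeval a).toLinearMap
  have hφ_apply : ∀ f, φ f = aeval a f v1 := fun f => rfl
  have hφsurj : Function.Surjective φ := by
    let W : AddSubgroup V := (LinearMap.range φ).toAddSubgroup
    have hW : ∀ w ∈ W, a w ∈ W := by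
      rintro w ⟨f, rfl⟩
      refine ⟨X * f, ?_⟩
      rw [hφ_apply, hφ_apply, map_mul, aeval_X, Module.End.mul_apply]
    have h1 : v1 ∈ W := ⟨1, by rw [hφ_apply, map_one, Module.End.one_apply]⟩
    rcases hirr W hW with h | h
    · exfalso
      rw [h] at h1
      exact hv10 h1
    · intro w
      have : w ∈ W := by rw [h]; trivial
      exact this
  -- the minimal polynomial and its root
  have : Nontrivial (Module.End (ZMod p) V) :=
    ⟨⟨1, 0, fun h => hv10 (by
      have h2 := congrArg (fun g : Module.End (ZMod p) V => g v1) h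
      simpa using h2)⟩⟩
  have hint : IsIntegral (ZMod p) a := Algebra.IsIntegral.isIntegral a
  set μ := minpoly (ZMod p) a with hμ
  have hμdvd : ∀ f : (ZMod p)[X], aeval a f = 0 → μ ∣ f := fun f hf => minpoly.dvd (ZMod p) a hf
  have hζprim : IsPrimitiveRoot ζ q := hζ ▸ IsPrimitiveRoot.orderOf ζ
  have hXq : μ ∣ (X ^ q - 1 : (ZMod p)[X]) := by
    apply hμdvd
    rw [map_sub, map_pow, aeval_X, map_one, haq, sub_self]
  have hXqF : μ.map (algebraMap (ZMod p) F) ∣ (X ^ q - C 1 : F[X]) := by
    have := Polynomial.map_dvd (algebraMap (ZMod p) F) hXq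
    simpa using this
  have hsplit : (μ.map (algebraMap (ZMod p) F)).Splits :=
    (X_pow_sub_one_splits hζprim).of_dvd (X_pow_sub_C_ne_zero hq.pos 1) hXqF
  have hdeg : (μ.map (algebraMap (ZMod p) F)).degree ≠ 0 := by
    rw [degree_map]
    exact (minpoly.degree_pos hint).ne'
  obtain ⟨x, hx⟩ := hsplit.exists_eval_eq_zero hdeg
  have hxμ : aeval x μ = 0 := by
    rw [aeval_def, eval₂_eq_eval_map]; exact hx
  have hax : ∀ f : (ZMod p)[X], aeval a f = 0 → aeval x f = 0 := by
    intro f hf
    obtain ⟨g, rfl⟩ := hμdvd f hf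
    rw [map_mul, hxμ, zero_mul]
  have hxa : ∀ f : (ZMod p)[X], aeval x f = 0 → aeval a f = 0 := by
    intro f hf
    by_contra hne
    -- `aeval a f` is injective
    have hinj : Function.Injective (aeval a f) := by
      rw [injective_iff_map_eq_zero]
      intro w hw
      by_contra hw0
      exact hne (hker f ⟨w, hw0, hw⟩)
    have hsurj : Function.Surjective (aeval a f) := Finite.surjective_of_injective hinj
    obtain ⟨w, hw⟩ := hsurj v1
    obtain ⟨g, rfl⟩ := hφsurj w
    have h0 : aeval a (f * g - 1) v1 = 0 := by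
      rw [map_sub, map_mul, map_one, LinearMap.sub_apply, Module.End.mul_apply, Module.End.one_apply,
        ← hφ_apply g, hw, sub_self]
    have h1 := hax _ (hker _ ⟨v1, hv10, h0⟩)
    rw [map_sub, map_mul, map_one, hf, zero_mul, zero_sub, neg_eq_zero] at h1
    exact one_ne_zero h1
  have hxq : x ^ q = 1 := by
    have := hax (X ^ q - 1) (by rw [map_sub, map_pow, aeval_X, map_one, haq, sub_self])
    rw [map_sub, map_pow, aeval_X, map_one] at this
    exact sub_eq_zero.mp this
  have hx1 : x ≠ 1 := by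
    rintro rfl
    have := hxa (X - 1) (by rw [map_sub, aeval_X, map_one, sub_self])
    rw [map_sub, aeval_X, map_one] at this
    have h2 := congrArg (fun g : Module.End (ZMod p) V => g v1) (sub_eq_zero.mp this)
    exact hv1 h2
  obtain ⟨j, -, hj⟩ := hζprim.eq_pow_of_pow_eq_one hxq
  have hordx : orderOf x = q := orderOf_eq_prime hxq hx1
  refine ⟨j, ?_⟩
  have hqj : ¬ q ∣ j := by
    rintro ⟨k, rfl⟩
    apply hx1
    rw [← hj, pow_mul, ← hζ, pow_orderOf_eq_one, one_pow]
  let ψ : (ZMod p)[X] →ₗ[ZMod p] F := (aeval x).toLinearMap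
  have hψ_apply : ∀ f, ψ f = aeval x f := fun f => rfl
  have hψsurj : Function.Surjective ψ := M1abs_aux_surj p q hF x hordx
  have hkereq : LinearMap.ker φ = LinearMap.ker ψ := by
    ext f
    rw [LinearMap.mem_ker, LinearMap.mem_ker, hφ_apply, hψ_apply]
    constructor
    · intro h
      exact hax f (hker f ⟨v1, hv10, h⟩)
    · intro h
      rw [hxa f h, LinearMap.zero_apply]
  let e : V ≃ₗ[ZMod p] F :=
    ((φ.quotKerEquivOfSurjective hφsurj).symm.trans (Submodule.quotEquivOfEq _ _ hkereq)).trans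
      (ψ.quotKerEquivOfSurjective hψsurj)
  have he : ∀ f, e (φ f) = ψ f := by
    intro f
    have h1 : (φ.quotKerEquivOfSurjective hφsurj).symm (φ f) = Submodule.Quotient.mk f := by
      rw [LinearEquiv.symm_apply_eq]
      rfl
    show (ψ.quotKerEquivOfSurjective hψsurj)
      ((Submodule.quotEquivOfEq _ _ hkereq) ((φ.quotKerEquivOfSurjective hφsurj).symm (φ f))) = ψ f
    rw [h1]
    rfl
  refine ⟨e, hqj, ?_⟩
  intro v
  obtain ⟨f, rfl⟩ := hφsurj v
  have h1 : a (φ f) = φ (X * f) := by
    rw [hφ_apply, hφ_apply, map_mul, aeval_X, Module.End.mul_apply]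
  rw [h1, he, he, hψ_apply, hψ_apply, map_mul, aeval_X, hj]

/-- M1abs with the module structure as an instance argument. -/
theorem M1abs_aux_mod (p q : ℕ) [Fact p.Prime] [Fact q.Prime]
    {F : Type*} [Field F] [Finite F] [Algebra (ZMod p) F]
    (hF : Nat.card F = p ^ orderOf (p : ZMod q))
    (ζ : F) (hζ : orderOf ζ = q)
    {V : Type*} [AddCommGroup V] [Finite V] [Module (ZMod p) V] (α : V ≃+ V)
    (hαq : ∀ v : V, (⇑α)^[q] v = v) (hα1 : ∃ v : V, α v ≠ v)
    (hirr : ∀ W : AddSubgroup V, (∀ w ∈ W, α w ∈ W) → W = ⊥ ∨ W = ⊤) :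
    ∃ (j : ℕ) (ι : V ≃+ F), ¬ q ∣ j ∧ ∀ v : V, ι (α v) = ζ ^ j * ι v := by
  classical
  have hp : p.Prime := Fact.out
  have : NeZero p := ⟨hp.ne_zero⟩
  let a : Module.End (ZMod p) V := AddMonoidHom.toZModLinearMap p α.toAddMonoidHom
  have ha_apply : ∀ v, a v = α v := fun v => rfl
  have hpow_apply : ∀ (n : ℕ) (v : V), (a ^ n) v = (⇑α)^[n] v := by
    intro n
    induction n with
    | zero => intro v; simp
    | succ n ih =>
      intro v
      rw [pow_succ, Module.End.mul_apply, ih, ha_apply, Function.iterate_succ_apply]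
  have haq : a ^ q = 1 := by
    apply LinearMap.ext
    intro v
    rw [hpow_apply, hαq, Module.End.one_apply]
  obtain ⟨j, e, hj, he⟩ := M1abs_aux_core p q hF ζ hζ a haq hα1 hirr
  exact ⟨j, e.toAddEquiv, hj, he⟩

/-- M1abs (L): an irreducible module for a cyclic group of order `q` in characteristic `p` is the
field of order `p^a` with the generator acting as a primitive `q`-th root of unity. -/
theorem M1abs (p q : ℕ) [Fact p.Prime] [Fact q.Prime] (hpq : p ≠ q)
    {F : Type*} [Field F] [Finite F] [CharP F p] (hF : Nat.card F = p ^ orderOf (p : ZMod q))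
    (ζ : F) (hζ : orderOf ζ = q)
    {V : Type*} [AddCommGroup V] [Finite V] (hVp : ∀ v : V, p • v = 0) (α : V ≃+ V)
    (hαq : ∀ v : V, (⇑α)^[q] v = v) (hα1 : ∃ v : V, α v ≠ v)
    (hirr : ∀ W : AddSubgroup V, (∀ w ∈ W, α w ∈ W) → W = ⊥ ∨ W = ⊤) :
    ∃ (j : ℕ) (ι : V ≃+ F), ¬ q ∣ j ∧ ∀ v : V, ι (α v) = ζ ^ j * ι v := by
  letI : Module (ZMod p) V := AddCommGroup.zmodModule hVp
  letI : Algebra (ZMod p) F := ZMod.algebra F p
  exact M1abs_aux_mod p q hF ζ hζ α hαq hα1 hirr

end Cfsg.Agent.S4395P
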