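import Mathlib
import Cfsg.Agent.Helper2.S3086Defs
import Cfsg.Agent.Helper2.S3086Basic

/-! # S4414 (Thompson, N-groups): definitions for the board `s4414pieces` (driver helper10)

Blueprint: `departures/helper10_S4414_blueprint.md`.  Everything happens inside `GL(E) = GLV 2 E` (left action), in the
framework of helper2's `Cfsg.Agent.S3086P` (`fixS`, `stabS`, `centS`, `imgS`, `res`, `cjg`).

* `Hyp p q G P T Q` : the abstract hypotheses (`G ≤ GL(E)` irreducible, `P ⊴ G` elementary abelian of order `p` or `p²`,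
  `T` a 2-subgroup, `Q` of order `q` with `C_P(Q) = 1`, `G = ⟨P,T,Q⟩`, `|G|` divides `2ᵃ |P| q`).
* `Concl T Q` : the conclusion of S4414.
* `Lines p P` : the subgroups of order `p` of `P`;  `LL p P` : those with nonzero fixed points.
* `proj K = ∑_{k ∈ K} k` : for `|K|` odd this is the projection of `E` onto `C_E(K)`.
* `TConj T K K'` : `K' = t K t⁻¹` for some `t ∈ T`.
-/

set_option autoImplicit false

namespace Cfsg.Agent.S4414P

open Cfsg.Agent.S3086P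

universe u

variable {E : Type u} [AddCommGroup E] [Module (ZMod 2) E]

/-- the abstract hypotheses of S4414 inside `GL(E)`. -/
structure Hyp (p q : ℕ) (G P T Q : Subgroup (GLV 2 E)) : Prop where
  hp : p.Prime
  hq : q.Prime
  hp2 : p ≠ 2
  hq2 : q ≠ 2
  hpq : p ≠ q
  hPG : P ≤ G
  hTG : T ≤ G
  hQG : Q ≤ G
  hgen : G ≤ P ⊔ T ⊔ Q
  hPn : ∀ g ∈ G, cjg g P = P
  hPc : ∀ x ∈ P, ∀ y ∈ P, x * y = y * x
  hPe : ∀ x ∈ P, x ^ p = 1
  hPcard : Nat.card ↥P = p ∨ Nat.card ↥P = p ^ 2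
  hT : IsPGroup 2 ↥T
  hQcard : Nat.card ↥Q = q
  hfpf : ∀ x ∈ P, (∀ y ∈ Q, y * x = x * y) → x = 1
  hcard : ∃ a : ℕ, Nat.card ↥G ∣ 2 ^ a * Nat.card ↥P * q
  hirr : ∀ W : Submodule (ZMod 2) E, (∀ g ∈ G, ∀ w ∈ W, g w ∈ W) → W = ⊥ ∨ W = ⊤

/-- the conclusion of S4414. -/
def Concl (T Q : Subgroup (GLV 2 E)) : Prop :=
  8 ≤ Nat.card ↥(fixS T) ∨
    (Nat.card ↥(fixS T) = 4 ∧ ∃ y ∈ Q, ∃ v ∈ fixS T, y v ∉ fixS T)

/-- the subgroups of order `p` of `P` -/
def Lines (p : ℕ) (P : Subgroup (GLV 2 E)) : Set (Subgroup (GLV 2 E)) := {K | K ≤ P ∧ Nat.card ↥K = p}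

/-- the lines of `P` with nonzero fixed points on `E` -/
def LL (p : ℕ) (P : Subgroup (GLV 2 E)) : Set (Subgroup (GLV 2 E)) := {K | K ∈ Lines p P ∧ fixS K ≠ ⊥}

/-- `π_K = ∑_{k ∈ K} k` in `End(E)` -/
noncomputable def proj (K : Subgroup (GLV 2 E)) : Module.End (ZMod 2) E := ∑ᶠ k : ↥K, toE (k : GLV 2 E)

/-- `K'` is a `T`-conjugate of `K` -/
def TConj (T K K' : Subgroup (GLV 2 E)) : Prop := ∃ t ∈ T, K' = cjg t K

/-- the stabiliser of `K` in `G` under conjugation -/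
def NK (G K : Subgroup (GLV 2 E)) : Subgroup (GLV 2 E) where
  carrier := {g | g ∈ G ∧ cjg g K = K}
  mul_mem' := by
    rintro g h ⟨hg, hgK⟩ ⟨hh, hhK⟩
    refine ⟨G.mul_mem hg hh, ?_⟩
    rw [← cjg_mul, hhK, hgK]
  one_mem' := ⟨G.one_mem, cjg_one K⟩
  inv_mem' := by
    rintro g ⟨hg, hgK⟩
    refine ⟨G.inv_mem hg, ?_⟩
    have h := congrArg (cjg g⁻¹) hgK
    rw [cjg_mul, inv_mul_cancel, cjg_one] at h
    exact h.symm

theorem mem_NK {G K : Subgroup (GLV 2 E)} {g : GLV 2 E} : g ∈ NK G K ↔ g ∈ G ∧ cjg g K = K := Iff.rfl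

/-- the homomorphism `S → GL(E)` of a representation -/
noncomputable def iota {S : Type*} [Group S] (ρ : Representation (ZMod 2) S E) : S →* GLV 2 E :=
  (LinearMap.GeneralLinearGroup.generalLinearEquiv (ZMod 2) E).toMonoidHom.comp ρ.toHomUnits

theorem iota_apply {S : Type*} [Group S] (ρ : Representation (ZMod 2) S E) (g : S) (v : E) : iota ρ g v = ρ g v := rfl

end Cfsg.Agent.S4414P
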