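import Mathlib
import Cfsg.Agent.Helper2.S3086Defs
import Cfsg.Agent.Helper2.S3086Basic
import Cfsg.Agent.Helper5.S3086RES1
import Cfsg.Agent.Helper5.S3086RES2
import Cfsg.Agent.Helper16.S3086DIH

/-! S4414 (Thompson, N-groups): general lemma L1.  A 2-subgroup `R` of `GL(V)`, `V` a finite `F₂`-space:
`|V| ≤ |C_V(R)| ^ |R|`, i.e. `dim C_V(R) ≥ dim V / |R|`. -/

set_option autoImplicit false

namespace Cfsg.Agent.S4414P

open Cfsg.Agent.S3086P

universe u

/-- `(t - 1)² = 0` for an involution in characteristic 2 -/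
theorem L1_aux_sq {V : Type u} [AddCommGroup V] [Module (ZMod 2) V] (t : GLV 2 V) (ht : t * t = 1) (v : V) :
    Nop t (Nop t v) = 0 := by
  have h2 : ∀ w : V, w + w = 0 := DIH_aux_char2 rfl
  have htt : t (t v) = v := by
    have := congrArg (fun s : GLV 2 V => s v) ht
    simpa using this
  show (toE t - 1) ((toE t - 1) v) = 0
  simp only [LinearMap.sub_apply, Module.End.one_apply, toE, LinearEquiv.coe_coe, map_sub]
  rw [htt]
  have := h2 (v - t v)
  rw [← this]
  abel

/-- `|V| ≤ |C_V(t)|²` for an involution `t` in characteristic 2 -/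
theorem L1_aux_invol {V : Type u} [AddCommGroup V] [Module (ZMod 2) V] [Finite V] (t : GLV 2 V) (ht : t * t = 1) :
    Nat.card V ≤ Nat.card ↥(LinearMap.ker (Nop t)) ^ 2 := by
  have h1 := DIH_aux_card (Nop t) (⊤ : Submodule (ZMod 2) V)
  have htop : Nat.card ↥(⊤ : Submodule (ZMod 2) V) = Nat.card V :=
    Nat.card_congr (Submodule.topEquiv (R := ZMod 2) (M := V)).toEquiv
  have hk : Nat.card ↥((⊤ : Submodule (ZMod 2) V) ⊓ LinearMap.ker (Nop t)) = Nat.card ↥(LinearMap.ker (Nop t)) := by
    rw [top_inf_eq]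
  have hle : (⊤ : Submodule (ZMod 2) V).map (Nop t) ≤ LinearMap.ker (Nop t) := by
    rintro _ ⟨v, _, rfl⟩
    exact LinearMap.mem_ker.mpr (L1_aux_sq t ht v)
  have hr : Nat.card ↥((⊤ : Submodule (ZMod 2) V).map (Nop t)) ≤ Nat.card ↥(LinearMap.ker (Nop t)) :=
    Nat.card_le_card_of_injective (Submodule.inclusion hle) (Submodule.inclusion_injective hle)
  rw [htop, hk] at h1
  rw [h1, pow_two]
  exact Nat.mul_le_mul_left _ hr

/-- L1: a 2-subgroup `R ≤ GL(V)` in characteristic 2 satisfies `|V| ≤ |C_V(R)| ^ |R|`. -/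
theorem L1_aux_ind : ∀ (n : ℕ) (V : Type u) [AddCommGroup V] [Module (ZMod 2) V] [Finite V] (R : Subgroup (GLV 2 V)),
    IsPGroup 2 ↥R → Nat.card ↥R = n → Nat.card V ≤ Nat.card ↥(fixS R) ^ n := by
  intro n
  induction n using Nat.strong_induction_on with
  | _ n ih =>
    intro V _ _ _ R hR hn
    have : Finite (GLV 2 V) := Finite.of_injective (fun g : GLV 2 V => (g : V → V)) (fun g h hgh => LinearEquiv.ext (congrFun hgh))
    by_cases hbot : R = ⊥
    · subst hbot
      rw [fixS_bot]
      have h1 : Nat.card ↥(⊥ : Subgroup (GLV 2 V)) = 1 := Subgroup.card_bot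
      rw [← hn, h1, pow_one]
      exact le_of_eq (Nat.card_congr (Submodule.topEquiv (R := ZMod 2) (M := V)).toEquiv).symm
    · -- a central involution
      have hnt : Nontrivial ↥R := (Subgroup.nontrivial_iff_ne_bot R).mpr hbot
      have hcen : Nontrivial ↥(Subgroup.center ↥R) := hR.center_nontrivial
      have hcard2 : 2 ∣ Nat.card ↥(Subgroup.center ↥R) := by
        have hpc : IsPGroup 2 ↥(Subgroup.center ↥R) := hR.to_subgroup _
        obtain ⟨k, hk⟩ := hpc.exists_card_eq
        have h1 : 1 < Nat.card ↥(Subgroup.center ↥R) := Finite.one_lt_card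
        rw [hk] at h1 ⊢
        cases k with
        | zero => simp at h1
        | succ k => exact Dvd.intro_left _ (by rw [pow_succ])
      obtain ⟨c, hc⟩ := exists_prime_orderOf_dvd_card' 2 hcard2
      set t : GLV 2 V := ((c : ↥R) : GLV 2 V) with htdef
      have htR : t ∈ R := (c : ↥R).2
      have ht2 : t * t = 1 := by
        have h1 : c ^ 2 = 1 := by
          have := pow_orderOf_eq_one c
          rwa [hc] at this
        have h2 : ((c ^ 2 : ↥(Subgroup.center ↥R)) : ↥R) = 1 := by rw [h1]; rfl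
        have h3 : (((c ^ 2 : ↥(Subgroup.center ↥R)) : ↥R) : GLV 2 V) = 1 := by rw [h2]; rfl
        simpa [pow_two] using h3
      have ht1 : t ≠ 1 := by
        intro h
        have h1 : (c : ↥R) = 1 := Subtype.ext h
        have h2 : c = 1 := Subtype.ext h1
        rw [h2, orderOf_one] at hc
        exact absurd hc (by norm_num)
      have htcomm : ∀ g ∈ R, g * t = t * g := by
        intro g hg
        have := Subgroup.mem_center_iff.mp c.2 ⟨g, hg⟩
        exact congrArg Subtype.val this
      set W : Submodule (ZMod 2) V := LinearMap.ker (Nop t) with hWdef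
      have hRW : R ≤ stabS W := by
        intro g hg
        rw [mem_stabS]
        intro w
        rw [hWdef, mem_ker_Nop, mem_ker_Nop]
        have e : ∀ v : V, t (g v) = g (t v) := by
          intro v
          have := congrArg (fun s : GLV 2 V => s v) (htcomm g hg)
          simpa using this.symm
        constructor
        · intro h; rw [e, h]
        · intro h
          rw [e] at h
          exact g.injective h
      have hV : Nat.card V ≤ Nat.card ↥W ^ 2 := L1_aux_invol t ht2
      -- the image of `R` in `GL(W)`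
      have hcardR := RES_card (S := R) (W := W) hRW
      have htc : t ∈ R ⊓ centS W := by
        refine ⟨htR, ?_⟩
        intro w hw
        exact mem_ker_Nop.mp hw
      have hk2 : 2 ≤ Nat.card ↥(R ⊓ centS W) := by
        have hnt' : Nontrivial ↥(R ⊓ centS W) := by
          refine ⟨⟨⟨t, htc⟩, 1, ?_⟩⟩
          intro h
          exact ht1 (congrArg Subtype.val h)
        exact Finite.one_lt_card
      have hpos : 0 < Nat.card ↥(imgS W R) := Nat.card_pos
      have hlt : Nat.card ↥(imgS W R) < n := by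
        rw [← hn, ← hcardR]
        calc Nat.card ↥(imgS W R) = Nat.card ↥(imgS W R) * 1 := (mul_one _).symm
          _ < Nat.card ↥(imgS W R) * Nat.card ↥(R ⊓ centS W) :=
            Nat.mul_lt_mul_of_pos_left (lt_of_lt_of_le (by norm_num) hk2) hpos
      have hR' : IsPGroup 2 ↥(imgS W R) := by
        unfold imgS
        exact IsPGroup.map (hR.comap_subtype) _
      have hih := ih _ hlt ↥W (imgS W R) hR' rfl
      have hfix : Nat.card ↥(fixS (imgS W R)) ≤ Nat.card ↥(fixS R) := by
        rw [RES_fix hRW]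
        exact Nat.card_le_card_of_injective (Submodule.inclusion inf_le_left) (Submodule.inclusion_injective _)
      have hfpos : 0 < Nat.card ↥(fixS R) := Nat.card_pos
      have h2k : 2 * Nat.card ↥(imgS W R) ≤ n := by
        rw [← hn, ← hcardR, mul_comm]
        exact Nat.mul_le_mul_left _ hk2
      calc Nat.card V ≤ Nat.card ↥W ^ 2 := hV
        _ ≤ (Nat.card ↥(fixS (imgS W R)) ^ Nat.card ↥(imgS W R)) ^ 2 := Nat.pow_le_pow_left hih 2
        _ ≤ (Nat.card ↥(fixS R) ^ Nat.card ↥(imgS W R)) ^ 2 :=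
            Nat.pow_le_pow_left (Nat.pow_le_pow_left hfix _) 2
        _ = Nat.card ↥(fixS R) ^ (2 * Nat.card ↥(imgS W R)) := by rw [← pow_mul, mul_comm]
        _ ≤ Nat.card ↥(fixS R) ^ n := Nat.pow_le_pow_right hfpos h2k

/-- L1: a 2-subgroup `R ≤ GL(V)` in characteristic 2 satisfies `|V| ≤ |C_V(R)| ^ |R|`. -/
theorem L1 {V : Type u} [AddCommGroup V] [Module (ZMod 2) V] [Finite V] (R : Subgroup (GLV 2 V)) (hR : IsPGroup 2 ↥R) :
    Nat.card V ≤ Nat.card ↥(fixS R) ^ Nat.card ↥R :=
  L1_aux_ind _ V R hR rfl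

end Cfsg.Agent.S4414P
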