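import Mathlib
import Cfsg.Agent.Helper6.S4414Defs

/-!
# S4414 (board `s4414pieces`), row ORB

Pure group action: `|H| = |T| q`, `T ≤ H` a `2`-group, `q` an odd prime, no element of order `q` of `H` fixes `i`;
then the `H`-orbit of `i` is not a single `T`-orbit.
-/

set_option autoImplicit false
set_option linter.unusedSectionVars false
set_option linter.unusedVariables false

namespace Cfsg.Agent.S4414P

open Module Cfsg.Agent.Helper5.FrobMod

variable {K : Type*} [Field K] {W : Type*} [AddCommGroup W] [Module K W]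
variable {G : Type*} [Group G] (σ : Representation K G W)
variable {I : Type*}

/-- the orbit of `i` under `↥T` (subgroup action) is `orbS T i`. -/
theorem ORB_aux_orbit [MulAction G I] (T : Subgroup G) (i : I) :
    MulAction.orbit ↥T i = orbS T i := by
  ext j
  constructor
  · rintro ⟨t, rfl⟩
    exact ⟨(t : G), t.2, rfl⟩
  · rintro ⟨t, ht, rfl⟩
    exact ⟨⟨t, ht⟩, rfl⟩

/-- if `q` divides `|H|` and the index of the stabiliser is a power of two, `q` odd, then the stabiliser of `i` in `↥H`
contains an element of order `q`. -/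
theorem ORB_aux_cauchy [Finite G] [MulAction G I] (H : Subgroup G) {q : ℕ} (hq : q.Prime) (hq2 : q ≠ 2)
    (hdvd : q ∣ Nat.card ↥H) (i : I) {m : ℕ} (hidx : (MulAction.stabilizer ↥H i).index = 2 ^ m) :
    ∃ g ∈ H, g • i = i ∧ orderOf g = q := by
  have : Fact q.Prime := ⟨hq⟩
  have h1 : (MulAction.stabilizer ↥H i).index * Nat.card ↥(MulAction.stabilizer ↥H i) = Nat.card ↥H :=
    Subgroup.index_mul_card _
  have hcop : Nat.Coprime q (2 ^ m) := by
    apply Nat.Coprime.pow_right
    exact (Nat.coprime_primes hq Nat.prime_two).mpr hq2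
  have h2 : q ∣ Nat.card ↥(MulAction.stabilizer ↥H i) := by
    rw [← h1, hidx] at hdvd
    exact hcop.dvd_of_dvd_mul_left hdvd
  obtain ⟨x, hx⟩ := exists_prime_orderOf_dvd_card' q h2
  refine ⟨((x : ↥H) : G), (x : ↥H).2, ?_, ?_⟩
  · have := x.2
    rw [MulAction.mem_stabilizer_iff] at this
    exact this
  · rw [Subgroup.orderOf_coe, Subgroup.orderOf_coe]
    exact hx

/-- ORB (M): the `H`-orbit of `i` is not a single `T`-orbit. -/
theorem ORB [Finite G] [MulAction G I] (T H : Subgroup G) (hTH : T ≤ H) (hT : IsPGroup 2 ↥T) {q : ℕ} (hq : q.Prime)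
    (hq2 : q ≠ 2) (hcard : Nat.card ↥H = Nat.card ↥T * q) (i : I)
    (hstab : ∀ g ∈ H, g • i = i → orderOf g ≠ q) : ∃ h ∈ H, h • i ∉ orbS T i := by
  by_contra hcon
  push Not at hcon
  -- the two orbits coincide
  have horb : MulAction.orbit ↥H i = MulAction.orbit ↥T i := by
    rw [ORB_aux_orbit, ORB_aux_orbit]
    ext j
    constructor
    · rintro ⟨h, hh, rfl⟩
      exact hcon h hh
    · rintro ⟨t, ht, rfl⟩
      exact ⟨t, hTH ht, rfl⟩
  have hiH : (MulAction.stabilizer ↥H i).index = (MulAction.orbit ↥H i).ncard := MulAction.index_stabilizer ↥H i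
  have hiT : (MulAction.stabilizer ↥T i).index = (MulAction.orbit ↥T i).ncard := MulAction.index_stabilizer ↥T i
  have hdT : (MulAction.stabilizer ↥T i).index ∣ Nat.card ↥T := Subgroup.index_dvd_card _
  obtain ⟨n, hn⟩ := (IsPGroup.iff_card (p := 2)).mp hT
  rw [hn] at hdT
  obtain ⟨m, _, hm⟩ := (Nat.dvd_prime_pow Nat.prime_two).mp hdT
  have hidx : (MulAction.stabilizer ↥H i).index = 2 ^ m := by
    rw [hiH, horb, ← hiT, hm]
  obtain ⟨g, hg, hgi, hgo⟩ := ORB_aux_cauchy H hq hq2 (by rw [hcard]; exact Dvd.intro_left _ rfl) i hidx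
  exact hstab g hg hgi hgo

end Cfsg.Agent.S4414P
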