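import Mathlib
import Cfsg.Prelude.Def_Transfer
import Cfsg.Prelude.Def_Solvable
import Cfsg.Agent.Helper11.S4409Defs
import Cfsg.Agent.Helper9.S4415Defs

/-!
# S4415 (board `s4415pieces`), row MOD3C : `[E, gYg⁻¹] = g [E,Y]`, so the two have the same order.
-/

set_option autoImplicit false
set_option linter.unusedVariables false
set_option linter.unusedSectionVars false

namespace Cfsg.Agent.S4415P

open Subgroup
open Cfsg.Agent.S4409P (Zc Fr Der IsV4 IsQ8 SpecialInt IsAb)

variable {S : Type*} [Group S] [Finite S] {E : Type*} [AddCommGroup E] [Module (ZMod 3) E] [Finite E]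

/-- `[E, gYg⁻¹] = g [E,Y]`. -/
theorem MOD3C_aux_map (ρ : Representation (ZMod 3) S E) (Y : Subgroup S) (g : S) :
    ComE ρ (Y.map (MulAut.conj g).toMonoidHom) = (ComE ρ Y).map (ρ g) := by
  unfold ComE
  rw [Submodule.map_span]
  congr 1
  ext w
  constructor
  · rintro ⟨y', hy', v, rfl⟩
    obtain ⟨y, hy, rfl⟩ := Subgroup.mem_map.mp hy'
    refine ⟨ρ y (ρ g⁻¹ v) - ρ g⁻¹ v, ⟨y, hy, ρ g⁻¹ v, rfl⟩, ?_⟩
    have h1 : (MulAut.conj g).toMonoidHom y = g * y * g⁻¹ := rfl
    rw [h1, map_sub, ← Module.End.mul_apply, ← Module.End.mul_apply, ← Module.End.mul_apply, ← map_mul, ← map_mul,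
      ← map_mul, mul_inv_cancel, map_one, Module.End.one_apply, mul_assoc]
  · rintro ⟨w0, ⟨y, hy, v, rfl⟩, rfl⟩
    refine ⟨(MulAut.conj g).toMonoidHom y, Subgroup.mem_map.mpr ⟨y, hy, rfl⟩, ρ g v, ?_⟩
    have h1 : (MulAut.conj g).toMonoidHom y = g * y * g⁻¹ := rfl
    rw [h1, map_sub, ← Module.End.mul_apply, ← Module.End.mul_apply, ← map_mul, ← map_mul, inv_mul_cancel_right]

/-- MOD3C : `[E, gYg⁻¹] = g [E,Y]`, so the two have the same order. -/
theorem card_comE_conj (ρ : Representation (ZMod 3) S E) (Y : Subgroup S) (g : S) :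
    Nat.card ↥(ComE ρ (Y.map (MulAut.conj g).toMonoidHom)) = Nat.card ↥(ComE ρ Y) := by
  rw [(MOD3C_aux_map ρ Y g)]
  have hinj : Function.Injective (ρ g) := by
    intro u v huv
    have := congrArg (ρ g⁻¹) huv
    rwa [← Module.End.mul_apply, ← Module.End.mul_apply, ← map_mul, inv_mul_cancel, map_one, Module.End.one_apply,
      Module.End.one_apply] at this
  exact (Nat.card_congr (Submodule.equivMapOfInjective (ρ g) hinj (ComE ρ Y)).toEquiv).symm

end Cfsg.Agent.S4415P
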