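import Mathlib
import Cfsg.Prelude.Def_Characters

/-! S4751 piece S4Ga1: an involution outside the centralizer of a normal four-group. -/

set_option autoImplicit false

namespace Cfsg.Agent.S4751P

open scoped ComplexConjugate Pointwise

universe u

variable {G : Type u} [Group G] [Finite G]

namespace S4Ga1

/-- `2`-elements of `P ⊔ Z(G)` lie in `P` when `P ∩ Z(G) = 1` and `Z(G)` has odd order. -/
theorem mem_of_two_pow (P : Subgroup G) [P.Normal]
    (hPZ : P ⊓ Subgroup.center G = ⊥) (hZodd : ¬ 2 ∣ Nat.card (Subgroup.center G))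
    (c : G) (hc : c ∈ P ⊔ Subgroup.center G) (k : ℕ) (hck : c ^ (2 ^ k) = 1) : c ∈ P := by
  have hc' : c ∈ (P : Set G) * (Subgroup.center G : Set G) := by
    rw [← Subgroup.mul_normal]
    exact hc
  obtain ⟨y, hy, z, hz, rfl⟩ := Set.mem_mul.mp hc'
  have hyP : y ∈ P := hy
  have hzZ : z ∈ Subgroup.center G := hz
  have hcomm : Commute y z := (Subgroup.mem_center_iff.mp hzZ) y
  have hpow : y ^ (2 ^ k) * z ^ (2 ^ k) = 1 := by rw [← hcomm.mul_pow]; exact hck
  have hzk : z ^ (2 ^ k) = (y ^ (2 ^ k))⁻¹ := by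
    rw [eq_inv_iff_mul_eq_one, ← (hcomm.pow_pow (2 ^ k) (2 ^ k)).eq]
    exact hpow
  have hzkP : z ^ (2 ^ k) ∈ P ⊓ Subgroup.center G := by
    refine ⟨?_, Subgroup.pow_mem _ hzZ _⟩
    rw [hzk]
    exact P.inv_mem (P.pow_mem hyP _)
  rw [hPZ, Subgroup.mem_bot] at hzkP
  have hdvd : orderOf z ∣ 2 ^ k := orderOf_dvd_of_pow_eq_one hzkP
  have hdvdZ : orderOf z ∣ Nat.card (Subgroup.center G) := by
    have := orderOf_dvd_natCard (⟨z, hzZ⟩ : Subgroup.center G)
    rwa [Subgroup.orderOf_mk] at this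
  obtain ⟨j, -, hj⟩ := (Nat.dvd_prime_pow Nat.prime_two).mp hdvd
  rcases Nat.eq_zero_or_pos j with h0 | hpos
  · rw [h0, pow_zero, orderOf_eq_one_iff] at hj
    rw [hj, mul_one]
    exact hyP
  · exfalso
    apply hZodd
    refine dvd_trans ?_ hdvdZ
    rw [hj]
    exact dvd_pow_self 2 hpos.ne'

end S4Ga1

/-- S4Ga1 -/
theorem exists_invol (P : Subgroup G) [P.Normal] (hP4 : Nat.card P = 4)
    (h2 : ∀ y ∈ P, y ^ 2 = 1)
    (hC : Subgroup.centralizer (P : Set G) = P ⊔ Subgroup.center G)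
    (hPZ : P ⊓ Subgroup.center G = ⊥) (hZodd : ¬ 2 ∣ Nat.card (Subgroup.center G))
    (hidx : (Subgroup.centralizer (P : Set G)).index = 6) :
    ∃ u : G, u ^ 2 = 1 ∧ u ∉ Subgroup.centralizer (P : Set G) := by
  classical
  have hCn : (Subgroup.centralizer (P : Set G)).Normal := inferInstance
  have hPC : P ≤ Subgroup.centralizer (P : Set G) := by rw [hC]; exact le_sup_left
  have hcardQ : Nat.card (G ⧸ Subgroup.centralizer (P : Set G)) = 6 := by
    rw [← Subgroup.index_eq_card]; exact hidx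
  have hp2 : Fact (Nat.Prime 2) := ⟨Nat.prime_two⟩
  obtain ⟨xb, hxb⟩ := exists_prime_orderOf_dvd_card'
    (G := G ⧸ Subgroup.centralizer (P : Set G)) 2 (by rw [hcardQ]; norm_num)
  obtain ⟨s, rfl⟩ := QuotientGroup.mk_surjective xb
  have hn0 : orderOf s ≠ 0 := (orderOf_pos s).ne'
  obtain ⟨k, m, hm, hn⟩ := Nat.exists_eq_two_pow_mul_odd hn0
  have hs'k : (s ^ m) ^ (2 ^ k) = 1 := by
    rw [← pow_mul, mul_comm, ← hn, pow_orderOf_eq_one]
  have hxb2 : (QuotientGroup.mk s : G ⧸ Subgroup.centralizer (P : Set G)) ^ 2 = 1 := by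
    rw [← hxb, pow_orderOf_eq_one]
  have hmk' : (QuotientGroup.mk (s ^ m) : G ⧸ Subgroup.centralizer (P : Set G)) =
      QuotientGroup.mk s := by
    obtain ⟨j, hj⟩ := hm
    rw [QuotientGroup.mk_pow, hj, pow_succ, pow_mul, hxb2, one_pow, one_mul]
  have hs'C : s ^ m ∉ Subgroup.centralizer (P : Set G) := by
    intro h
    have h1 : (QuotientGroup.mk (s ^ m) : G ⧸ Subgroup.centralizer (P : Set G)) = 1 :=
      (QuotientGroup.eq_one_iff _).mpr h
    rw [hmk'] at h1
    rw [h1, orderOf_one] at hxb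
    norm_num at hxb
  have ha_C : (s ^ m) ^ 2 ∈ Subgroup.centralizer (P : Set G) := by
    rw [← QuotientGroup.eq_one_iff, QuotientGroup.mk_pow, hmk', hxb2]
  have ha_P : (s ^ m) ^ 2 ∈ P := by
    apply S4Ga1.mem_of_two_pow P hPZ hZodd ((s ^ m) ^ 2) (by rw [← hC]; exact ha_C) k
    rw [← pow_mul, mul_comm, pow_mul, hs'k, one_pow]
  generalize s ^ m = t at hs'k hs'C ha_C ha_P
  by_cases ha1 : t ^ 2 = 1
  · exact ⟨t, ha1, hs'C⟩
  have hex : ∃ b ∈ P, b * t ≠ t * b := by
    by_contra hcon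
    push Not at hcon
    exact hs'C (Subgroup.mem_centralizer_iff.mpr fun h hh => hcon h hh)
  obtain ⟨b, hbP, hbt⟩ := hex
  have hcP : t * b * t⁻¹ ∈ P := Subgroup.Normal.conj_mem inferInstance b hbP t
  have hb1 : b ≠ 1 := by
    rintro rfl
    apply hbt
    rw [one_mul, mul_one]
  have hab : t ^ 2 ≠ b := by
    intro h
    apply hbt
    rw [← h, ← pow_succ, ← pow_succ']
  have hcb : t * b * t⁻¹ ≠ b := by
    intro h
    apply hbt
    rw [mul_inv_eq_iff_eq_mul] at h
    exact h.symm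
  have hc1 : t * b * t⁻¹ ≠ 1 := by
    intro h
    apply hb1
    have : b = t⁻¹ * (t * b * t⁻¹) * t := by group
    rw [this, h]; group
  have hca : t * b * t⁻¹ ≠ t ^ 2 := by
    intro h
    apply hab
    have : b = t⁻¹ * (t * b * t⁻¹) * t := by group
    rw [this, h]; group
  -- the four elements of `P`
  have hbb : b * b = 1 := by rw [← pow_two]; exact h2 b hbP
  have haa : t ^ 2 * t ^ 2 = 1 := by rw [← pow_two]; exact h2 _ ha_P
  have hFin : Fintype P := Fintype.ofFinite P
  set pa : P := ⟨t ^ 2, ha_P⟩ with hpa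
  set pb : P := ⟨b, hbP⟩ with hpb
  set pc : P := ⟨t * b * t⁻¹, hcP⟩ with hpc
  have n1 : pb ≠ pa * pb := by
    intro h
    have := congrArg Subtype.val h
    simp only [hpa, hpb, Subgroup.coe_mul] at this
    apply ha1
    exact (mul_eq_right.mp this.symm)
  have n2 : pa ≠ pb := fun h => hab (congrArg Subtype.val h)
  have n3 : pa ≠ pa * pb := by
    intro h
    have := congrArg Subtype.val h
    simp only [hpa, hpb, Subgroup.coe_mul] at this
    apply hb1
    exact (mul_eq_left.mp this.symm)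
  have n4 : (1 : P) ≠ pa := fun h => ha1 (congrArg Subtype.val h).symm
  have n5 : (1 : P) ≠ pb := fun h => hb1 (congrArg Subtype.val h).symm
  have n6 : (1 : P) ≠ pa * pb := by
    intro h
    have := congrArg Subtype.val h
    simp only [hpa, hpb, Subgroup.coe_mul, Subgroup.coe_one] at this
    apply hab
    calc t ^ 2 = t ^ 2 * (b * b) := by rw [hbb, mul_one]
      _ = (t ^ 2 * b) * b := by rw [mul_assoc]
      _ = b := by rw [← this, one_mul]
  have e3 : ({pb, pa * pb} : Finset P).card = 2 := Finset.card_pair n1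
  have e2 : ({pa, pb, pa * pb} : Finset P).card = 3 := by
    rw [Finset.card_insert_of_notMem, e3]
    simp only [Finset.mem_insert, Finset.mem_singleton, not_or]
    exact ⟨n2, n3⟩
  have e1 : ({1, pa, pb, pa * pb} : Finset P).card = 4 := by
    rw [Finset.card_insert_of_notMem, e2]
    simp only [Finset.mem_insert, Finset.mem_singleton, not_or]
    exact ⟨n4, n5, n6⟩
  have hT : ({1, pa, pb, pa * pb} : Finset P) = Finset.univ := by
    apply Finset.eq_univ_of_card
    rw [e1, ← Nat.card_eq_fintype_card, hP4]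
  have hpcT : pc ∈ ({1, pa, pb, pa * pb} : Finset P) := by rw [hT]; exact Finset.mem_univ _
  simp only [Finset.mem_insert, Finset.mem_singleton] at hpcT
  have hcab : t * b * t⁻¹ = t ^ 2 * b := by
    rcases hpcT with h | h | h | h
    · exact absurd (congrArg Subtype.val h) hc1
    · exact absurd (congrArg Subtype.val h) hca
    · exact absurd (congrArg Subtype.val h) hcb
    · have := congrArg Subtype.val h
      simpa only [hpa, hpb, hpc, Subgroup.coe_mul] using this
  refine ⟨t * b, ?_, ?_⟩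
  · have habP : t ^ 2 * b ∈ P := P.mul_mem ha_P hbP
    have h3 := h2 _ habP
    calc (t * b) ^ 2 = (t * b * t⁻¹) * (t ^ 2 * b) := by
          rw [pow_two, pow_two]; group
      _ = (t ^ 2 * b) ^ 2 := by rw [hcab, pow_two (t ^ 2 * b)]
      _ = 1 := h3
  · intro h
    apply hs'C
    have : t = t * b * b⁻¹ := by group
    rw [this]
    exact Subgroup.mul_mem _ h (Subgroup.inv_mem _ (hPC hbP))

end Cfsg.Agent.S4751P
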