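import Mathlib
import Cfsg.Prelude.Def_Characters

/-! S4751 piece S4Ga2: an element of order three, inverted by a given involution, outside the
centralizer of a normal four-group `P` with `|G : C_G(P)| = 6`. -/

set_option autoImplicit false

namespace Cfsg.Agent.S4751P

open scoped ComplexConjugate Pointwise

universe u

variable {G : Type u} [Group G] [Finite G]

namespace S4Ga2

omit [Finite G] in
theorem inv_self_of_sq {x : G} (hx : x ^ 2 = 1) : x⁻¹ = x := by
  rw [inv_eq_iff_mul_eq_one, ← pow_two]; exact hx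

omit [Finite G] in
theorem comm_of_sq (P : Subgroup G) (h2 : ∀ y ∈ P, y ^ 2 = 1) {x y : G} (hx : x ∈ P)
    (hy : y ∈ P) : x * y = y * x := by
  have hxy := h2 _ (P.mul_mem hx hy)
  have hxi : x⁻¹ = x := inv_self_of_sq (h2 x hx)
  have hyi : y⁻¹ = y := inv_self_of_sq (h2 y hy)
  have h : x * y = (x * y)⁻¹ := by rw [eq_inv_iff_mul_eq_one, ← pow_two]; exact hxy
  rw [h, mul_inv_rev, hxi, hyi]

/-- the four elements of an elementary abelian group of order four. -/
theorem four (P : Subgroup G) (hP4 : Nat.card P = 4) (h2 : ∀ y ∈ P, y ^ 2 = 1) {a b : G}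
    (ha : a ∈ P) (hb : b ∈ P) (ha1 : a ≠ 1) (hb1 : b ≠ 1) (hab : a ≠ b) :
    ∀ x ∈ P, x = 1 ∨ x = a ∨ x = b ∨ x = a * b := by
  classical
  intro x hx
  have hbb : b * b = 1 := by rw [← pow_two]; exact h2 b hb
  have hFin : Fintype P := Fintype.ofFinite P
  set pa : P := ⟨a, ha⟩ with hpa
  set pb : P := ⟨b, hb⟩ with hpb
  set px : P := ⟨x, hx⟩ with hpx
  have n1 : pb ≠ pa * pb := by
    intro h
    have := congrArg Subtype.val h
    simp only [hpa, hpb, Subgroup.coe_mul] at this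
    exact ha1 (mul_eq_right.mp this.symm)
  have n2 : pa ≠ pb := fun h => hab (congrArg Subtype.val h)
  have n3 : pa ≠ pa * pb := by
    intro h
    have := congrArg Subtype.val h
    simp only [hpa, hpb, Subgroup.coe_mul] at this
    exact hb1 (mul_eq_left.mp this.symm)
  have n4 : (1 : P) ≠ pa := fun h => ha1 (congrArg Subtype.val h).symm
  have n5 : (1 : P) ≠ pb := fun h => hb1 (congrArg Subtype.val h).symm
  have n6 : (1 : P) ≠ pa * pb := by
    intro h
    have := congrArg Subtype.val h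
    simp only [hpa, hpb, Subgroup.coe_mul, Subgroup.coe_one] at this
    apply hab
    calc a = a * (b * b) := by rw [hbb, mul_one]
      _ = (a * b) * b := by rw [mul_assoc]
      _ = b := by rw [← this, one_mul]
  have e3 : ({pb, pa * pb} : Finset P).card = 2 := Finset.card_pair n1
  have e2 : ({pa, pb, pa * pb} : Finset P).card = 3 := by
    rw [Finset.card_insert_of_notMem, e3]
    simp only [Finset.mem_insert, Finset.mem_singleton, not_or]
    exact ⟨n2, n3⟩
  have e1 : ({1, pa, pb, pa * pb} : Finset P).card = 4 := by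
    rw [Finset.card_insert_of_notMem, e2]
    simp only [Finset.mem_insert, Finset.mem_singleton, not_or]
    exact ⟨n4, n5, n6⟩
  have hT : ({1, pa, pb, pa * pb} : Finset P) = Finset.univ := by
    apply Finset.eq_univ_of_card
    rw [e1, ← Nat.card_eq_fintype_card, hP4]
  have hpxT : px ∈ ({1, pa, pb, pa * pb} : Finset P) := by rw [hT]; exact Finset.mem_univ _
  simp only [Finset.mem_insert, Finset.mem_singleton] at hpxT
  rcases hpxT with h | h | h | h
  · left; exact congrArg Subtype.val h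
  · right; left; exact congrArg Subtype.val h
  · right; right; left; exact congrArg Subtype.val h
  · right; right; right
    have := congrArg Subtype.val h
    simpa only [hpa, hpb, hpx, Subgroup.coe_mul] using this

/-- an involution normalizing `P` fixes a nonidentity element of `P`. -/
theorem exists_fixed (P : Subgroup G) [hN : P.Normal] (hP4 : Nat.card P = 4)
    (h2 : ∀ y ∈ P, y ^ 2 = 1) (u : G) (hu : u ^ 2 = 1) :
    ∃ a ∈ P, a ≠ 1 ∧ u * a * u⁻¹ = a := by
  have hnt : Nontrivial P := by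
    rw [← Finite.one_lt_card_iff_nontrivial, hP4]; norm_num
  obtain ⟨⟨b, hbP⟩, hb⟩ := exists_ne (1 : P)
  have hb1 : b ≠ 1 := fun h => hb (Subtype.ext h)
  by_cases hub : u * b * u⁻¹ = b
  · exact ⟨b, hbP, hb1, hub⟩
  · have hcP : u * b * u⁻¹ ∈ P := hN.conj_mem b hbP u
    refine ⟨b * (u * b * u⁻¹), P.mul_mem hbP hcP, ?_, ?_⟩
    · intro h
      apply hub
      have hbi : b⁻¹ = b := inv_self_of_sq (h2 b hbP)
      have h' := eq_inv_of_mul_eq_one_right h
      rw [h', hbi]
    · have huu : u * u = 1 := by rw [← pow_two]; exact hu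
      have hui : u⁻¹ = u := inv_self_of_sq hu
      calc u * (b * (u * b * u⁻¹)) * u⁻¹ = (u * b * u⁻¹) * ((u * u) * b * (u⁻¹ * u⁻¹)) := by group
        _ = (u * b * u⁻¹) * b := by rw [hui, huu, one_mul, mul_one]
        _ = b * (u * b * u⁻¹) := comm_of_sq P h2 hcP hbP

/-- elements of odd prime-power order `3 ^ j` in `P ⊔ Z(G)` are central. -/
theorem mem_center_of_three_pow (P : Subgroup G) [P.Normal] (h2 : ∀ y ∈ P, y ^ 2 = 1)
    (hPZ : P ⊓ Subgroup.center G = ⊥)
    (c : G) (hc : c ∈ P ⊔ Subgroup.center G) (j : ℕ) (hcj : c ^ (3 ^ j) = 1) :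
    c ∈ Subgroup.center G := by
  have hc' : c ∈ (P : Set G) * (Subgroup.center G : Set G) := by
    rw [← Subgroup.mul_normal]
    exact hc
  obtain ⟨y, hy, z, hz, rfl⟩ := Set.mem_mul.mp hc'
  have hyP : y ∈ P := hy
  have hzZ : z ∈ Subgroup.center G := hz
  have hcomm : Commute y z := (Subgroup.mem_center_iff.mp hzZ) y
  have hpow : y ^ (3 ^ j) * z ^ (3 ^ j) = 1 := by rw [← hcomm.mul_pow]; exact hcj
  have hodd : Odd (3 ^ j) := Odd.pow (by decide)
  obtain ⟨q, hq⟩ := hodd
  have hyq : y ^ (3 ^ j) = y := by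
    rw [hq, pow_succ, pow_mul, h2 y hyP, one_pow, one_mul]
  rw [hyq] at hpow
  have hyZ : y ∈ Subgroup.center G := by
    rw [eq_inv_of_mul_eq_one_left hpow]
    exact Subgroup.inv_mem _ (Subgroup.pow_mem _ hzZ _)
  have : y ∈ P ⊓ Subgroup.center G := ⟨hyP, hyZ⟩
  rw [hPZ, Subgroup.mem_bot] at this
  rw [this, one_mul]
  exact hzZ

end S4Ga2

/-- S4Ga2 -/
theorem exists_three (P : Subgroup G) [P.Normal] (hP4 : Nat.card P = 4)
    (h2 : ∀ y ∈ P, y ^ 2 = 1)
    (hC : Subgroup.centralizer (P : Set G) = P ⊔ Subgroup.center G)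
    (hPZ : P ⊓ Subgroup.center G = ⊥) (hZodd : ¬ 2 ∣ Nat.card (Subgroup.center G))
    (hidx : (Subgroup.centralizer (P : Set G)).index = 6)
    (u : G) (hu : u ^ 2 = 1) (huC : u ∉ Subgroup.centralizer (P : Set G)) :
    ∃ d : G, d ^ 3 = 1 ∧ u * d * u⁻¹ = d⁻¹ ∧ d ∉ Subgroup.centralizer (P : Set G) := by
  classical
  have hN : P.Normal := inferInstance
  have hCn : (Subgroup.centralizer (P : Set G)).Normal := inferInstance
  have memC : ∀ g : G, (∀ x ∈ P, g * x * g⁻¹ = x) → g ∈ Subgroup.centralizer (P : Set G) := by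
    intro g hg
    rw [Subgroup.mem_centralizer_iff]
    intro x hx
    have := hg x hx
    rw [mul_inv_eq_iff_eq_mul] at this
    exact this.symm
  have ofC : ∀ g ∈ Subgroup.centralizer (P : Set G), ∀ x ∈ P, g * x * g⁻¹ = x := by
    intro g hg x hx
    have := Subgroup.mem_centralizer_iff.mp hg x hx
    rw [mul_inv_eq_iff_eq_mul]
    exact this.symm
  have huu : u * u = 1 := by rw [← pow_two]; exact hu
  have hui : u⁻¹ = u := S4Ga2.inv_self_of_sq hu
  -- a fixed point and a moved point of `u`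
  obtain ⟨a, haP, ha1, hua⟩ := S4Ga2.exists_fixed P hP4 h2 u hu
  have hexb : ∃ b ∈ P, u * b * u⁻¹ ≠ b := by
    by_contra hcon
    push Not at hcon
    exact huC (memC u hcon)
  obtain ⟨b, hbP, hub⟩ := hexb
  have hb1 : b ≠ 1 := by
    rintro rfl
    apply hub
    group
  have hab : a ≠ b := by
    rintro rfl
    exact hub hua
  have h4 := S4Ga2.four P hP4 h2 haP hbP ha1 hb1 hab
  have haa : a * a = 1 := by rw [← pow_two]; exact h2 a haP
  have hfix : ∀ x ∈ P, u * x * u⁻¹ = x → x = 1 ∨ x = a := by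
    intro x hx hfx
    rcases h4 x hx with h | h | h | h
    · left; exact h
    · right; exact h
    · exfalso; rw [h] at hfx; exact hub hfx
    · exfalso
      rw [h] at hfx
      apply hub
      have e : u * (a * b) * u⁻¹ = (u * a * u⁻¹) * (u * b * u⁻¹) := by group
      rw [e, hua] at hfx
      exact mul_left_cancel hfx
  have memC2 : ∀ g : G, g * a * g⁻¹ = a → g * b * g⁻¹ = b →
      g ∈ Subgroup.centralizer (P : Set G) := by
    intro g hga hgb
    apply memC
    intro x hx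
    rcases h4 x hx with h | h | h | h
    · rw [h]; group
    · rw [h]; exact hga
    · rw [h]; exact hgb
    · rw [h]
      have e : g * (a * b) * g⁻¹ = (g * a * g⁻¹) * (g * b * g⁻¹) := by group
      rw [e, hga, hgb]
  -- Cauchy in the quotient
  have hcardQ : Nat.card (G ⧸ Subgroup.centralizer (P : Set G)) = 6 := by
    rw [← Subgroup.index_eq_card]; exact hidx
  have hp3 : Fact (Nat.Prime 3) := ⟨Nat.prime_three⟩
  obtain ⟨yb, hyb⟩ := exists_prime_orderOf_dvd_card'
    (G := G ⧸ Subgroup.centralizer (P : Set G)) 3 (by rw [hcardQ]; norm_num)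
  obtain ⟨r, rfl⟩ := QuotientGroup.mk_surjective yb
  have hrC : r ∉ Subgroup.centralizer (P : Set G) := by
    intro h
    have h1 : (QuotientGroup.mk r : G ⧸ Subgroup.centralizer (P : Set G)) = 1 :=
      (QuotientGroup.eq_one_iff _).mpr h
    rw [h1, orderOf_one] at hyb
    norm_num at hyb
  have hr3 : (QuotientGroup.mk r : G ⧸ Subgroup.centralizer (P : Set G)) ^ 3 = 1 := by
    rw [← hyb, pow_orderOf_eq_one]
  -- the commutator
  have hinv0 : u * (r⁻¹ * u * r * u⁻¹) * u⁻¹ = (r⁻¹ * u * r * u⁻¹)⁻¹ := by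
    apply eq_inv_of_mul_eq_one_right
    have e : (r⁻¹ * u * r * u⁻¹) * (u * (r⁻¹ * u * r * u⁻¹) * u⁻¹) =
        r⁻¹ * (u * u) * r * (u⁻¹ * u⁻¹) := by group
    rw [e, hui, huu]
    group
  have hd0C : r⁻¹ * u * r * u⁻¹ ∉ Subgroup.centralizer (P : Set G) := by
    intro hd
    -- `r⁻¹ u r` acts on `P` as `u`
    have hact : ∀ x ∈ P, (r⁻¹ * u * r) * x * (r⁻¹ * u * r)⁻¹ = u * x * u⁻¹ := by
      intro x hx
      have hx' : u * x * u⁻¹ ∈ P := hN.conj_mem x hx u
      have := ofC _ hd _ hx'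
      calc (r⁻¹ * u * r) * x * (r⁻¹ * u * r)⁻¹
          = (r⁻¹ * u * r * u⁻¹) * (u * x * u⁻¹) * (r⁻¹ * u * r * u⁻¹)⁻¹ := by group
        _ = u * x * u⁻¹ := this
    -- `r⁻¹ a r` is fixed by `u`
    have haP' : r⁻¹ * a * r ∈ P := by
      have := hN.conj_mem a haP r⁻¹
      rwa [inv_inv] at this
    have hfa : u * (r⁻¹ * a * r) * u⁻¹ = r⁻¹ * a * r := by
      rw [← hact _ haP']
      calc (r⁻¹ * u * r) * (r⁻¹ * a * r) * (r⁻¹ * u * r)⁻¹ = r⁻¹ * (u * a * u⁻¹) * r := by group
        _ = r⁻¹ * a * r := by rw [hua]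
    have hra : r⁻¹ * a * r = a := by
      rcases hfix _ haP' hfa with h | h
      · exfalso
        apply ha1
        have : a = r * (r⁻¹ * a * r) * r⁻¹ := by group
        rw [this, h]; group
      · exact h
    have hra' : r⁻¹ * a * r⁻¹⁻¹ = a := by rw [inv_inv]; exact hra
    have hbP' : r⁻¹ * b * r ∈ P := by
      have := hN.conj_mem b hbP r⁻¹
      rwa [inv_inv] at this
    have hrb1 : r⁻¹ * b * r ≠ 1 := by
      intro h
      apply hb1
      have : b = r * (r⁻¹ * b * r) * r⁻¹ := by group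
      rw [this, h]; group
    have hrba : r⁻¹ * b * r ≠ a := by
      intro h
      apply hab
      have e1 : b = r * (r⁻¹ * b * r) * r⁻¹ := by group
      have e2 : a = r * (r⁻¹ * a * r) * r⁻¹ := by group
      rw [e1, h]
      conv_lhs => rw [e2, hra]
    rcases h4 _ hbP' with h | h | h | h
    · exact hrb1 h
    · exact hrba h
    · -- `r⁻¹` centralizes `P`
      have hrb' : r⁻¹ * b * r⁻¹⁻¹ = b := by rw [inv_inv]; exact h
      have := memC2 r⁻¹ hra' hrb'
      exact hrC (by simpa using Subgroup.inv_mem _ this)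
    · -- `r⁻²` centralizes `P`
      have e1 : (r⁻¹ * r⁻¹) * a * (r⁻¹ * r⁻¹)⁻¹ = a := by
        calc (r⁻¹ * r⁻¹) * a * (r⁻¹ * r⁻¹)⁻¹ = r⁻¹ * (r⁻¹ * a * r) * r := by
              simp only [mul_inv_rev, inv_inv, mul_assoc]
          _ = a := by rw [hra, hra]
      have e2 : (r⁻¹ * r⁻¹) * b * (r⁻¹ * r⁻¹)⁻¹ = b := by
        calc (r⁻¹ * r⁻¹) * b * (r⁻¹ * r⁻¹)⁻¹ = r⁻¹ * (r⁻¹ * b * r) * r := by
              simp only [mul_inv_rev, inv_inv, mul_assoc]
          _ = r⁻¹ * (a * b) * r := by rw [h]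
          _ = (r⁻¹ * a * r) * (r⁻¹ * b * r) := by
              simp only [mul_assoc, mul_inv_cancel_left]
          _ = a * (a * b) := by rw [hra, h]
          _ = b := by rw [← mul_assoc, haa, one_mul]
      have hr2 := memC2 _ e1 e2
      have hq2 : (QuotientGroup.mk r : G ⧸ Subgroup.centralizer (P : Set G)) ^ 2 = 1 := by
        have h1 : (QuotientGroup.mk (r⁻¹ * r⁻¹) : G ⧸ Subgroup.centralizer (P : Set G)) = 1 :=
          (QuotientGroup.eq_one_iff _).mpr hr2
        rw [QuotientGroup.mk_mul, QuotientGroup.mk_inv, ← mul_inv_rev, inv_eq_one, ← pow_two]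
          at h1
        exact h1
      apply hrC
      rw [← QuotientGroup.eq_one_iff]
      calc (QuotientGroup.mk r : G ⧸ Subgroup.centralizer (P : Set G))
          = (QuotientGroup.mk r) ^ 3 * ((QuotientGroup.mk r) ^ 2)⁻¹ := by group
        _ = 1 := by rw [hr3, hq2]; group
  -- the image of the commutator has order dividing three
  have hd03 : (QuotientGroup.mk (r⁻¹ * u * r * u⁻¹) : G ⧸ Subgroup.centralizer (P : Set G)) ^ 3
      = 1 := by
    set Y := Subgroup.zpowers (QuotientGroup.mk r : G ⧸ Subgroup.centralizer (P : Set G)) with hY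
    have hYc : Nat.card Y = 3 := by rw [hY, Nat.card_zpowers, hyb]
    have hYi : Y.index = 2 := by
      have := Y.card_mul_index
      rw [hYc, hcardQ] at this
      omega
    have hYn : Y.Normal := Subgroup.normal_of_index_eq_two hYi
    have hrY : (QuotientGroup.mk r : G ⧸ Subgroup.centralizer (P : Set G)) ∈ Y :=
      Subgroup.mem_zpowers _
    have hmem : (QuotientGroup.mk (r⁻¹ * u * r * u⁻¹) :
        G ⧸ Subgroup.centralizer (P : Set G)) ∈ Y := by
      have e : (QuotientGroup.mk (r⁻¹ * u * r * u⁻¹) : G ⧸ Subgroup.centralizer (P : Set G)) =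
          (QuotientGroup.mk r)⁻¹ * (QuotientGroup.mk u * QuotientGroup.mk r *
            (QuotientGroup.mk u)⁻¹) := by
        simp only [QuotientGroup.mk_mul, QuotientGroup.mk_inv, mul_assoc]
      rw [e]
      exact Y.mul_mem (Y.inv_mem hrY) (hYn.conj_mem _ hrY _)
    obtain ⟨k, hk⟩ := Subgroup.mem_zpowers_iff.mp hmem
    rw [← hk, ← zpow_natCast, ← zpow_mul, mul_comm, zpow_mul, zpow_natCast, hr3, one_zpow]
  -- pass to a `3`-element
  have hn0 : orderOf (r⁻¹ * u * r * u⁻¹) ≠ 0 := (orderOf_pos _).ne'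
  obtain ⟨j, m, hm3, hn⟩ := Nat.exists_eq_pow_mul_and_not_dvd hn0 3 (by norm_num)
  generalize r⁻¹ * u * r * u⁻¹ = d0 at hinv0 hd0C hd03 hn0 hn
  have hmm : (m * m) % 3 = 1 := by
    have h12 : m % 3 = 1 ∨ m % 3 = 2 := by omega
    rw [Nat.mul_mod]
    rcases h12 with h | h <;> rw [h]
  obtain ⟨q, hq⟩ : ∃ q, m * m = 3 * q + 1 := ⟨m * m / 3, by omega⟩
  have hdj : (d0 ^ (m * m)) ^ (3 ^ j) = 1 := by
    rw [← pow_mul, mul_assoc, mul_comm m (3 ^ j), ← hn, mul_comm, pow_mul, pow_orderOf_eq_one,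
      one_pow]
  have hmk : (QuotientGroup.mk (d0 ^ (m * m)) : G ⧸ Subgroup.centralizer (P : Set G)) =
      QuotientGroup.mk d0 := by
    rw [QuotientGroup.mk_pow, hq, pow_succ, pow_mul, hd03, one_pow, one_mul]
  have hdC : d0 ^ (m * m) ∉ Subgroup.centralizer (P : Set G) := by
    intro h
    apply hd0C
    rw [← QuotientGroup.eq_one_iff, ← hmk]
    exact (QuotientGroup.eq_one_iff _).mpr h
  have hd3C : (d0 ^ (m * m)) ^ 3 ∈ Subgroup.centralizer (P : Set G) := by
    rw [← QuotientGroup.eq_one_iff, QuotientGroup.mk_pow, hmk, hd03]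
  have hinv : u * d0 ^ (m * m) * u⁻¹ = (d0 ^ (m * m))⁻¹ := by
    rw [← conj_pow, hinv0, inv_pow]
  generalize d0 ^ (m * m) = d at hdj hdC hd3C hinv
  -- `d ^ 3` is central
  have hd3Z : d ^ 3 ∈ Subgroup.center G := by
    apply S4Ga2.mem_center_of_three_pow P h2 hPZ (d ^ 3) (by rw [← hC]; exact hd3C) j
    rw [← pow_mul, mul_comm, pow_mul, hdj, one_pow]
  have h6 : d ^ 6 = 1 := by
    have e1 : u * d ^ 3 * u⁻¹ = d ^ 3 := by
      have := (Subgroup.mem_center_iff.mp hd3Z) u
      rw [mul_inv_eq_iff_eq_mul]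
      exact this
    have e2 : u * d ^ 3 * u⁻¹ = (d ^ 3)⁻¹ := by
      rw [← conj_pow, hinv, inv_pow]
    have e3 : d ^ 3 = (d ^ 3)⁻¹ := e1.symm.trans e2
    rw [eq_inv_iff_mul_eq_one, ← pow_add] at e3
    exact e3
  have ho6 : orderOf d ∣ 2 * 3 := orderOf_dvd_of_pow_eq_one h6
  have ho3 : orderOf d ∣ 3 ^ j := orderOf_dvd_of_pow_eq_one hdj
  have hcop : Nat.Coprime (orderOf d) 2 := by
    apply Nat.Coprime.coprime_dvd_left ho3
    exact Nat.Coprime.pow_left j (by decide)
  have hd3 : orderOf d ∣ 3 := by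
    rw [mul_comm] at ho6
    exact hcop.dvd_of_dvd_mul_right ho6
  exact ⟨d, orderOf_dvd_iff_pow_eq_one.mp hd3, hinv, hdC⟩

end Cfsg.Agent.S4751P
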