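import Cfsg.Agent.Helper27.S5634BDefs
import Cfsg.Agent.Helper24.S5634BCMP
import Cfsg.Agent.Helper11.S5634BHMEM

set_option autoImplicit false
set_option linter.unusedSectionVars false
set_option linter.unusedVariables false

/-! # S5634, half `m ≥ 2`, piece B_SWAP: a block swap in `HH D`. -/

namespace Cfsg.Agent.S5634P

open Matrix Cfsg.Agent.Helper28.SLMax
open scoped MatrixGroups

variable {F : Type*} [Field F] {n t m : ℕ} {D : Fin t → Submodule F (Fin n → F)}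

namespace SWAP

/-- the projection onto `D c`, as a map into the subspace -/
noncomputable def prj (hD : Cfsg.Geo.IsMDecomposition m D) (c : Fin t) : (Fin n → F) →ₗ[F] D c :=
  LinearMap.codRestrict (D c) (cmp D c) (CMP.mem hD c)

theorem prj_coe (hD : Cfsg.Geo.IsMDecomposition m D) (c : Fin t) (x : Fin n → F) :
    ((prj hD c x : D c) : Fin n → F) = cmp D c x := rfl

/-- the swap map `x ↦ x - x_a - x_b + φ x_a + φ⁻¹ x_b` -/
noncomputable def swapL (hD : Cfsg.Geo.IsMDecomposition m D) (a b : Fin t) (φ : D a ≃ₗ[F] D b) :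
    (Fin n → F) →ₗ[F] (Fin n → F) :=
  LinearMap.id - cmp D a - cmp D b + (D b).subtype ∘ₗ φ.toLinearMap ∘ₗ prj hD a
    + (D a).subtype ∘ₗ φ.symm.toLinearMap ∘ₗ prj hD b

theorem swapL_apply (hD : Cfsg.Geo.IsMDecomposition m D) (a b : Fin t) (φ : D a ≃ₗ[F] D b)
    (x : Fin n → F) :
    swapL hD a b φ x = x - cmp D a x - cmp D b x + ((φ (prj hD a x) : D b) : Fin n → F)
      + ((φ.symm (prj hD b x) : D a) : Fin n → F) := rfl

theorem swapL_of_mem_a (hD : Cfsg.Geo.IsMDecomposition m D) {a b : Fin t} (hab : a ≠ b)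
    (φ : D a ≃ₗ[F] D b) {x : Fin n → F} (hx : x ∈ D a) :
    swapL hD a b φ x = ((φ ⟨x, hx⟩ : D b) : Fin n → F) := by
  have h1 : prj hD a x = ⟨x, hx⟩ := Subtype.ext (by rw [prj_coe, CMP.of_mem hD hx])
  have h2 : prj hD b x = 0 := Subtype.ext (by
    rw [prj_coe, CMP.of_mem_ne hD hx hab]; rfl)
  rw [swapL_apply, h1, h2, CMP.of_mem hD hx, CMP.of_mem_ne hD hx hab, map_zero]
  simp

theorem swapL_of_mem_b (hD : Cfsg.Geo.IsMDecomposition m D) {a b : Fin t} (hab : a ≠ b)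
    (φ : D a ≃ₗ[F] D b) {x : Fin n → F} (hx : x ∈ D b) :
    swapL hD a b φ x = ((φ.symm ⟨x, hx⟩ : D a) : Fin n → F) := by
  have h1 : prj hD b x = ⟨x, hx⟩ := Subtype.ext (by rw [prj_coe, CMP.of_mem hD hx])
  have h2 : prj hD a x = 0 := Subtype.ext (by
    rw [prj_coe, CMP.of_mem_ne hD hx hab.symm]; rfl)
  rw [swapL_apply, h1, h2, CMP.of_mem hD hx, CMP.of_mem_ne hD hx hab.symm, map_zero]
  simp

theorem swapL_of_mem_other (hD : Cfsg.Geo.IsMDecomposition m D) {a b i : Fin t} (hia : i ≠ a)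
    (hib : i ≠ b) (φ : D a ≃ₗ[F] D b) {x : Fin n → F} (hx : x ∈ D i) :
    swapL hD a b φ x = x := by
  have h1 : prj hD a x = 0 := Subtype.ext (by
    rw [prj_coe, CMP.of_mem_ne hD hx hia]; rfl)
  have h2 : prj hD b x = 0 := Subtype.ext (by
    rw [prj_coe, CMP.of_mem_ne hD hx hib]; rfl)
  rw [swapL_apply, h1, h2, CMP.of_mem_ne hD hx hia, CMP.of_mem_ne hD hx hib, map_zero,
    map_zero]
  simp

/-- on each block the swap map maps into the swapped block and is an involution -/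
theorem swapL_block (hD : Cfsg.Geo.IsMDecomposition m D) {a b : Fin t} (hab : a ≠ b)
    (φ : D a ≃ₗ[F] D b) (i : Fin t) {x : Fin n → F} (hx : x ∈ D i) :
    swapL hD a b φ x ∈ D (Equiv.swap a b i) ∧
      swapL hD a b φ (swapL hD a b φ x) = x := by
  by_cases hia : i = a
  · subst hia
    rw [Equiv.swap_apply_left, swapL_of_mem_a hD hab φ hx]
    refine ⟨(φ ⟨x, hx⟩).2, ?_⟩
    rw [swapL_of_mem_b hD hab φ (φ ⟨x, hx⟩).2]
    simp
  by_cases hib : i = b
  · subst hib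
    rw [Equiv.swap_apply_right, swapL_of_mem_b hD hab φ hx]
    refine ⟨(φ.symm ⟨x, hx⟩).2, ?_⟩
    rw [swapL_of_mem_a hD hab φ (φ.symm ⟨x, hx⟩).2]
    simp
  · rw [Equiv.swap_apply_of_ne_of_ne hia hib, swapL_of_mem_other hD hia hib φ hx]
    exact ⟨hx, swapL_of_mem_other hD hia hib φ hx⟩

theorem swapL_invol (hD : Cfsg.Geo.IsMDecomposition m D) {a b : Fin t} (hab : a ≠ b)
    (φ : D a ≃ₗ[F] D b) (x : Fin n → F) : swapL hD a b φ (swapL hD a b φ x) = x := by
  conv_lhs => rw [← CMP.sum hD x]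
  rw [map_sum, map_sum]
  conv_rhs => rw [← CMP.sum hD x]
  apply Finset.sum_congr rfl
  intro c _
  exact (swapL_block hD hab φ c (CMP.mem hD c x)).2

/-- a non-zero vector of a block is not in the sum of the other blocks -/
theorem not_mem_oth (hD : Cfsg.Geo.IsMDecomposition m D) {c : Fin t} {v : Fin n → F} (hv : v ∈ D c)
    (hv0 : v ≠ 0) : v ∉ Oth D c := by
  intro h
  apply hv0
  have := CMP.of_mem_oth hD h
  rw [CMP.of_mem hD hv] at this
  exact this

end SWAP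

/-- an element of `HH D` swapping the blocks `a`, `b` (linear iso `D a ≃ D b` from the finranks,
`s = 1 - cmp a - cmp b + e ∘ cmp a + e⁻¹ ∘ cmp b` is an involution; correct its determinant by a dilation
`EE v φ`, `v ∈ D a`, `φ ∈ Dl D a`, `1 + φ v = (det s)⁻¹`, using `HMEM.mem_stab_of_perm`, `HMEM.EE_maps`) -/
theorem SWAP.exists (hD : Cfsg.Geo.IsMDecomposition m D) (a b : Fin t) (hab : a ≠ b) :
    ∃ s ∈ HH D, ∀ c, ∀ x ∈ D c, ((s : GL (Fin n) F) : Matrix (Fin n) (Fin n) F) *ᵥ x ∈ D (Equiv.swap a b c) := by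
  classical
  have hfr : Module.finrank F (D a) = Module.finrank F (D b) := by
    rw [hD.finrank_eq a, hD.finrank_eq b]
  let φ : D a ≃ₗ[F] D b := LinearEquiv.ofFinrankEq (D a) (D b) hfr
  set L := SWAP.swapL hD a b φ with hL
  have hMM : LinearMap.toMatrix' L * LinearMap.toMatrix' L = 1 := by
    rw [← LinearMap.toMatrix'_comp, ← LinearMap.toMatrix'_id]
    congr 1
    apply LinearMap.ext
    intro x
    exact SWAP.swapL_invol hD hab φ x
  let s₀ : GL (Fin n) F := ⟨LinearMap.toMatrix' L, LinearMap.toMatrix' L, hMM, hMM⟩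
  have hs₀ : ∀ x, ((s₀ : GL (Fin n) F) : Matrix (Fin n) (Fin n) F) *ᵥ x = L x := by
    intro x
    show LinearMap.toMatrix' L *ᵥ x = L x
    rw [LinearMap.toMatrix'_mulVec]
  have hs₀maps : ∀ c, ∀ x ∈ D c,
      ((s₀ : GL (Fin n) F) : Matrix (Fin n) (Fin n) F) *ᵥ x ∈ D (Equiv.swap a b c) := by
    intro c x hx
    rw [hs₀]
    exact (SWAP.swapL_block hD hab φ c hx).1
  -- the determinant of `s₀`
  set δ : F := ((s₀ : GL (Fin n) F) : Matrix (Fin n) (Fin n) F).det with hδ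
  have hδ0 : δ ≠ 0 := by
    have h1 : δ * δ = 1 := by
      rw [hδ, ← Matrix.det_mul]
      show (LinearMap.toMatrix' L * LinearMap.toMatrix' L).det = 1
      rw [hMM, Matrix.det_one]
    intro h0
    rw [h0, mul_zero] at h1
    exact zero_ne_one h1
  -- a non-zero vector of `D a` and a dual functional
  have hpos : 0 < Module.finrank F (D a) := by rw [hD.finrank_eq a]; exact hD.pos
  obtain ⟨⟨v, hv⟩, hv0'⟩ := Module.finrank_pos_iff_exists_ne_zero.1 hpos
  have hv0 : v ≠ 0 := fun h => hv0' (Subtype.ext h)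
  obtain ⟨χ, hχ0, hχ1⟩ := exists_dual (Oth D a) v (SWAP.not_mem_oth hD hv hv0)
  have hχ : χ ∈ Dl D a := fun x hx => hχ0 x hx
  have hφ' : (δ⁻¹ - 1) • χ ∈ Dl D a := (Dl D a).smul_mem _ hχ
  have hdot : ((δ⁻¹ - 1) • χ) ⬝ᵥ v = δ⁻¹ - 1 := by
    rw [smul_dotProduct, hχ1, smul_eq_mul, mul_one]
  have hne : 1 + ((δ⁻¹ - 1) • χ) ⬝ᵥ v ≠ 0 := by
    rw [hdot, add_sub_cancel]
    exact inv_ne_zero hδ0
  refine ⟨s₀ * EE v ((δ⁻¹ - 1) • χ), ⟨?_, ?_⟩, ?_⟩
  · -- in the stabiliser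
    refine HMEM.mem_stab_of_perm hD (Equiv.swap a b) _ ?_
    intro c x hx
    rw [Units.val_mul, ← Matrix.mulVec_mulVec]
    exact hs₀maps c _ (HMEM.EE_maps hD hv hφ' c x hx)
  · -- determinant one
    show s₀ * EE v ((δ⁻¹ - 1) • χ) ∈ SL n F
    rw [mem_SL_iff, Units.val_mul, Matrix.det_mul, EE_val hne, E_det, hdot, add_sub_cancel, ← hδ]
    exact mul_inv_cancel₀ hδ0
  · intro c x hx
    rw [Units.val_mul, ← Matrix.mulVec_mulVec]
    exact hs₀maps c _ (HMEM.EE_maps hD hv hφ' c x hx)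

end Cfsg.Agent.S5634P
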