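import Mathlib
import Cfsg.Agent.Helper7.S5655.Defs
import Cfsg.Agent.Helper7.S5655.MonoLib
import Cfsg.Agent.Helper7.S5655.Defs2
import Cfsg.Agent.Helper28.S5655QR
import Cfsg.Agent.Helper15.S5655BDefs
import Cfsg.Agent.Helper15.S5655BPLANE
import Cfsg.Agent.Helper5.S5655BPOW
import Cfsg.Agent.Helper5.S5655MU
import Cfsg.Agent.Lead.S5655SUMSET
import Cfsg.Agent.Helper4.S5655BSTABV

/-! # S5655 `k = 1`, chapter (B), piece TRANSV (helper10): `H` contains a non-trivial unitary transvection of the plane. -/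

set_option autoImplicit false

namespace Cfsg.Agent.S5655K1

open Matrix
open Cfsg.Agent.S2644 Cfsg.Agent.Helper2.SUGen Cfsg.Agent.Helper28.SimMax Cfsg.Agent.MonoP

variable {K : Type*} [Field K] {q n : ℕ}

local notation "h" => Cfsg.hermForm n K q
local notation "T" => Cfsg.unitaryTransvection n q

/-- (inlined copy of piece CHREL, so that TRANSV does not wait for it) -/
theorem TRANSV.chrel {D : Frob K q} {e f : Fin n → K} {d ζ : K} (P : PD D e f d ζ) (x y : K)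
    (hx : x ≠ 0) (hy : y ≠ 0) (hrel : ζ * D.σ ζ * (x + x⁻¹) + d * (y + y⁻¹) = 2) :
    (T e (x * y - 1) * T (ζ • e + f) (x * y⁻¹ - 1)) *ᵥ e =
        (x * y * (1 + (x * y⁻¹ - 1) * (ζ * D.σ ζ))) • e + ((x * y⁻¹ - 1) * D.σ ζ) • f ∧
      (T e (x * y - 1) * T (ζ • e + f) (x * y⁻¹ - 1)) *ᵥ
          ((T e (x * y - 1) * T (ζ • e + f) (x * y⁻¹ - 1)) *ᵥ e) =
        (2 * x) • ((T e (x * y - 1) * T (ζ • e + f) (x * y⁻¹ - 1)) *ᵥ e) - (x ^ 2) • e := by
  have hxx : x * x⁻¹ = 1 := mul_inv_cancel₀ hx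
  have hyy : y * y⁻¹ = 1 := mul_inv_cancel₀ hy
  have hn := P.hnorm
  have key : ∀ a b : K, (T e (x * y - 1) * T (ζ • e + f) (x * y⁻¹ - 1)) *ᵥ (a • e + b • f) =
      ((1 + (x * y - 1)) * (a + (x * y⁻¹ - 1) * (a * D.σ ζ + d * b) * ζ)) • e +
        (b + (x * y⁻¹ - 1) * (a * D.σ ζ + d * b)) • f := by
    intro a b
    rw [← Matrix.mulVec_mulVec, P.rw_comb, P.re_comb]
  have hge : (T e (x * y - 1) * T (ζ • e + f) (x * y⁻¹ - 1)) *ᵥ e =
        (x * y * (1 + (x * y⁻¹ - 1) * (ζ * D.σ ζ))) • e + ((x * y⁻¹ - 1) * D.σ ζ) • f := by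
    have := key 1 0
    rw [one_smul, zero_smul, add_zero] at this
    rw [this]
    congr 2 <;> ring
  refine ⟨hge, ?_⟩
  rw [hge, key]
  have htr : x * y * (1 + (x * y⁻¹ - 1) * (ζ * D.σ ζ)) + (1 + (x * y⁻¹ - 1) * d) = 2 * x := by
    linear_combination x * hrel - (1 + x * y) * hn + (x ^ 2 * (ζ * D.σ ζ)) * hyy - (ζ * D.σ ζ) * hxx
  have hdet : x * y * (1 + (x * y⁻¹ - 1) * (ζ * D.σ ζ)) * (1 + (x * y⁻¹ - 1) * d) -
      ((x * y⁻¹ - 1) * D.σ ζ) * ((1 + (x * y - 1)) * ((x * y⁻¹ - 1) * d * ζ)) = x ^ 2 := by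
    linear_combination (x * y * (x * y⁻¹ - 1)) * hn + x ^ 2 * hyy
  have c1 : (1 + (x * y - 1)) * (x * y * (1 + (x * y⁻¹ - 1) * (ζ * D.σ ζ)) +
      (x * y⁻¹ - 1) * (x * y * (1 + (x * y⁻¹ - 1) * (ζ * D.σ ζ)) * D.σ ζ +
        d * ((x * y⁻¹ - 1) * D.σ ζ)) * ζ) =
      2 * x * (x * y * (1 + (x * y⁻¹ - 1) * (ζ * D.σ ζ))) - x ^ 2 := by
    linear_combination (x * y * (1 + (x * y⁻¹ - 1) * (ζ * D.σ ζ))) * htr - hdet
  have c2 : (x * y⁻¹ - 1) * D.σ ζ + (x * y⁻¹ - 1) * (x * y * (1 + (x * y⁻¹ - 1) * (ζ * D.σ ζ)) * D.σ ζ +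
        d * ((x * y⁻¹ - 1) * D.σ ζ)) = 2 * x * ((x * y⁻¹ - 1) * D.σ ζ) := by
    linear_combination ((x * y⁻¹ - 1) * D.σ ζ) * htr
  rw [c1, c2]
  module

/-- `q = 0` in `K` -/
theorem TRANSV.q_cast_zero [Fintype K] (hK : Fintype.card K = q ^ 2) : (q : K) = 0 := by
  have h0 : ((Fintype.card K : ℕ) : K) = 0 := Nat.cast_card_eq_zero K
  rw [hK] at h0
  push_cast at h0
  exact (pow_eq_zero_iff (two_ne_zero)).1 h0

theorem TRANSV.MS_pow {H : Subgroup (Matrix.GeneralLinearGroup (Fin n) K)}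
    {A : Matrix (Fin n) (Fin n) K} (hA : A ∈ MS H) (k : ℕ) : A ^ k ∈ MS H := by
  induction k with
  | zero => rw [pow_zero]; exact one_mem_MS H
  | succ k ih => rw [pow_succ]; exact MS_mul ih hA

theorem TRANSV.pres_pow {A : Matrix (Fin n) (Fin n) K} (hA : Pres (q := q) A) (k : ℕ) :
    Pres (q := q) (A ^ k) := by
  induction k with
  | zero =>
    rw [pow_zero]
    intro x y
    rw [Matrix.one_mulVec, Matrix.one_mulVec]
  | succ k ih => rw [pow_succ]; exact ih.mul hA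

theorem TRANSV.fix_pow {A : Matrix (Fin n) (Fin n) K} {z : Fin n → K} (hA : A *ᵥ z = z) (k : ℕ) :
    (A ^ k) *ᵥ z = z := by
  induction k with
  | zero => rw [pow_zero, Matrix.one_mulVec]
  | succ k ih => rw [pow_succ, ← Matrix.mulVec_mulVec, hA, ih]

open scoped Classical in
/-- the sumset pigeonhole gives `x ≠ 1`, `y` of norm one with `N ζ (x + x⁻¹) + d (y + y⁻¹) = 2` -/
theorem TRANSV.exists_xy (D : Frob K q) [Fintype K] (hK : Fintype.card K = q ^ 2)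
    {e f : Fin n → K} {d ζ : K} (P : PD D e f d ζ) :
    ∃ x y : K, IsU D x ∧ IsU D y ∧ x ≠ 1 ∧ ζ * D.σ ζ * (x + x⁻¹) + d * (y + y⁻¹) = 2 := by
  set μ : Finset K := Finset.univ.filter (fun t : K => IsU D t) with hμ
  have hμc : μ.card = q + 1 := MU.card D hK
  have h1μ : (1 : K) ∈ μ := by
    rw [hμ, Finset.mem_filter]
    exact ⟨Finset.mem_univ _, IsU.one D⟩
  have hS1 : ∀ t ∈ μ.erase 1, IsU D t := by
    intro t ht
    have := Finset.mem_of_mem_erase ht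
    rw [hμ, Finset.mem_filter] at this
    exact this.2
  have hS2 : ∀ t ∈ μ, IsU D t := by
    intro t ht
    rw [hμ, Finset.mem_filter] at ht
    exact ht.2
  have hz1 : ζ * D.σ ζ ≠ 0 := mul_ne_zero P.hζ0 (σ_ne_zero D P.hζ0)
  have hcard : 2 * q + 1 ≤ (μ.erase 1).card + μ.card := by
    rw [Finset.card_erase_of_mem h1μ, hμc]
    omega
  have hc2 : D.σ (2 : K) = 2 := map_ofNat D.σ 2
  obtain ⟨x, hx, y, hy, hxy⟩ :=
    SUMSET.main D hK (μ.erase 1) μ hS1 hS2 (ζ * D.σ ζ) d hz1 P.hd0 hcard 2 hc2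
  have hxU := hS1 x hx
  have hyU := hS2 y hy
  refine ⟨x, y, hxU, hyU, Finset.ne_of_mem_erase hx, ?_⟩
  have hσx := IsU.sigma D hxU
  have hσy := IsU.sigma D hyU
  have hd := PD.dfix P
  rw [map_mul, map_mul, map_mul, D.invol, hσx, hσy, hd] at hxy
  linear_combination hxy

/-- TRANSV (L; uses SUMSET.main, MU.card, CHREL, POW, STABV): `H` contains a non-trivial unitary transvection of the plane.
`SUMSET.main` with `S₁ = μ \ {1}`, `S₂ = μ`, `z₁ = N ζ`, `z₂ = d`, `c = 2` gives `x ≠ 1`, `y`; `g := r_e(xy) r_w(x/y) ∈ MS H`;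
`u := g ^ (q+1)`: `u e = x⁻¹ g e` (`POW`, `(q : K) = 0`, `x ^ q = σ x = x⁻¹`), `v := u e - e = a e + b f`, `b ≠ 0` (`x ≠ y`),
`u v = v` (`u` commutes with `g`), `h v v = 0` (`Pres u`), `STABV` for `s := a / b`, `T_smul`. -/
theorem TRANSV.main (D : Frob K q) [Fintype K] (hK : Fintype.card K = q ^ 2)
    (H : Subgroup (Matrix.GeneralLinearGroup (Fin n) K)) {e f : Fin n → K} {d ζ : K} (P : PD D e f d ζ)
    (hRe : HasR D H e) (hRw : HasR D H (ζ • e + f)) :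
    ∃ s c : K, s * D.σ s = -d ∧ c ≠ 0 ∧ D.σ c = -c ∧ T (s • e + f) c ∈ MS H := by
  obtain ⟨x, y, hxU, hyU, hx1, hrel⟩ := TRANSV.exists_xy D hK P
  have hx0 : x ≠ 0 := IsU.ne_zero D hxU
  have hy0 : y ≠ 0 := IsU.ne_zero D hyU
  have hσζ0 : D.σ ζ ≠ 0 := σ_ne_zero D P.hζ0
  -- `x ≠ y`
  have hxy : x ≠ y := by
    intro hxy
    subst hxy
    apply hx1
    have h1 : (ζ * D.σ ζ + d) * (x + x⁻¹) = 2 := by linear_combination hrel
    rw [P.hnorm, one_mul] at h1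
    have h2 : (x - 1) ^ 2 = 0 := by
      have h3 : x * (x + x⁻¹) = x * 2 := by rw [h1]
      rw [mul_add, mul_inv_cancel₀ hx0] at h3
      linear_combination h3
    have h4 := pow_eq_zero_iff (two_ne_zero) |>.1 h2
    linear_combination h4
  -- the two quasi-reflections
  have hXU : IsU D (1 + (x * y - 1)) := by
    have : 1 + (x * y - 1) = x * y := by ring
    rw [this]
    exact IsU.mul D hxU hyU
  have hYU : IsU D (1 + (x * y⁻¹ - 1)) := by
    have : 1 + (x * y⁻¹ - 1) = x * y⁻¹ := by ring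
    rw [this]
    exact IsU.mul D hxU (IsU.inv D hyU)
  have hY0 : x * y⁻¹ - 1 ≠ 0 := by
    intro h0
    apply hxy
    have : x * y⁻¹ = 1 := by linear_combination h0
    field_simp at this
    exact this
  set g : Matrix (Fin n) (Fin n) K := T e (x * y - 1) * T (ζ • e + f) (x * y⁻¹ - 1) with hg
  have hgH : g ∈ MS H := MS_mul (hRe _ hXU) (hRw _ hYU)
  have hgP : Pres (q := q) g :=
    (PD.pres_unit D e P.hee _ hXU).mul (PD.pres_unit D (ζ • e + f) (PD.hww P) _ hYU)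
  have hgfix : ∀ z, h z e = 0 → h z f = 0 → g *ᵥ z = z := by
    intro z h1 h2
    have e1 : T (ζ • e + f) (x * y⁻¹ - 1) *ᵥ z = z := by
      have := PD.perp_fix P ζ 1 (x * y⁻¹ - 1) z h1 h2
      rwa [one_smul] at this
    have e2 : T e (x * y - 1) *ᵥ z = z := by
      have := PD.perp_fix P 1 0 (x * y - 1) z h1 h2
      rwa [one_smul, zero_smul, add_zero] at this
    rw [hg, ← Matrix.mulVec_mulVec, e1, e2]
  obtain ⟨hge, hgg⟩ := TRANSV.chrel P x y hx0 hy0 hrel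
  rw [← hg] at hge hgg
  -- the power
  set u : Matrix (Fin n) (Fin n) K := g ^ (q + 1) with hu
  have huH : u ∈ MS H := TRANSV.MS_pow hgH _
  have huP : Pres (q := q) u := TRANSV.pres_pow hgP _
  have hufix : ∀ z, h z e = 0 → h z f = 0 → u *ᵥ z = z :=
    fun z h1 h2 => TRANSV.fix_pow (hgfix z h1 h2) _
  have hq0 : (q : K) = 0 := TRANSV.q_cast_zero hK
  have hxq : x ^ q = x⁻¹ := by rw [← D.pow, IsU.sigma D hxU]
  have hue : u *ᵥ e = x⁻¹ • (g *ᵥ e) := by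
    rw [hu, POW.main g e x hgg q, hq0, hxq]
    simp
  have hcomm : u * g = g * u := by
    rw [hu]
    exact (pow_succ g (q + 1)).symm.trans (pow_succ' g (q + 1))
  have hugg : u *ᵥ (g *ᵥ e) = x⁻¹ • (g *ᵥ (g *ᵥ e)) := by
    rw [Matrix.mulVec_mulVec, hcomm, ← Matrix.mulVec_mulVec, hue, Matrix.mulVec_smul]
  set v : Fin n → K := u *ᵥ e - e with hv
  have huv : u *ᵥ v = v := by
    rw [hv, Matrix.mulVec_sub, hue, Matrix.mulVec_smul, hugg, hgg]
    have hxx : x⁻¹ * x = 1 := inv_mul_cancel₀ hx0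
    ext i
    simp only [Pi.sub_apply, Pi.smul_apply, smul_eq_mul]
    have : x⁻¹ * (x⁻¹ * (2 * x * (g *ᵥ e) i - x ^ 2 * e i)) - x⁻¹ * (g *ᵥ e) i -
        (x⁻¹ * (g *ᵥ e) i - e i) =
        (x⁻¹ * x - 1) * (2 * x⁻¹ * (g *ᵥ e) i) - ((x⁻¹ * x) ^ 2 - 1) * e i := by ring
    rw [hxx] at this
    linear_combination this
  have hvv : h v v = 0 := by
    have h1 := huP e v
    rw [huv] at h1
    have h2 : u *ᵥ e = e + v := by rw [hv]; abel
    rw [h2, h_add_left] at h1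
    linear_combination h1
  -- coordinates of `v`
  set a : K := x⁻¹ * (x * y * (1 + (x * y⁻¹ - 1) * (ζ * D.σ ζ))) - 1 with ha
  set b : K := x⁻¹ * ((x * y⁻¹ - 1) * D.σ ζ) with hb
  have hvab : v = a • e + b • f := by
    rw [hv, hue, hge, ha, hb]
    ext i
    simp only [Pi.sub_apply, Pi.add_apply, Pi.smul_apply, smul_eq_mul]
    ring
  have hb0 : b ≠ 0 := mul_ne_zero (inv_ne_zero hx0) (mul_ne_zero hY0 hσζ0)
  have hσb0 : D.σ b ≠ 0 := σ_ne_zero D hb0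
  have hnorm : a * D.σ a + d * (b * D.σ b) = 0 := by
    rw [← PD.h_comb P a b a b, ← hvab]
    exact hvv
  set s : K := a / b with hs
  have hsN : s * D.σ s = -d := by
    rw [hs, map_div₀]
    field_simp
    linear_combination hnorm
  have hsv : s • e + f = b⁻¹ • v := by
    rw [hvab, hs]
    ext i
    simp only [Pi.add_apply, Pi.smul_apply, smul_eq_mul]
    field_simp
  have hus : u *ᵥ (s • e + f) = s • e + f := by
    rw [hsv, Matrix.mulVec_smul, huv]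
  have : Finite K := Finite.of_fintype K
  obtain ⟨c, hcs, huc⟩ := STABV.main P s hsN u huP hufix hus
  refine ⟨s, c, hsN, ?_, hcs, ?_⟩
  · intro hc0
    rw [hc0, Cfsg.Agent.S5658P.T_zero] at huc
    have hv0 : v = 0 := by
      rw [hv, huc, Matrix.one_mulVec, sub_self]
    rw [hvab] at hv0
    exact hb0 (PD.comb_eq_zero P hv0).2
  · rw [← huc]
    exact huH

end Cfsg.Agent.S5655K1
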