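import Mathlib
import Cfsg.Prelude.Def_GeometricClasses
import Cfsg.Agent.Helper2.S5886.Defs
import Cfsg.Agent.Helper2.S5664.Defs

/-! S5664 piece BRIDGE' (helper10): the concrete data `(F, m, K ⊆ M_2m(F))` with `K` self-adjoint
for `sympForm` as an instance of the abstract framework (port of Helper9/S5886BRIDGE.lean + the form `B`). -/

set_option autoImplicit false
set_option linter.unusedSectionVars false
set_option linter.unusedVariables false
set_option linter.style.haveILetI false

namespace Cfsg.Agent.S5664P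

open Cfsg.Agent.S5886P

open Matrix

universe u

namespace BRIDGEP

section abstractForm

variable {F K V : Type*} [Field F] [Field K] [Algebra F K]
  [AddCommGroup V] [Module F V] [Module K V] [IsScalarTower F K V]

/-- the functional `k ↦ f (k • x) y` -/
noncomputable def phi (f : V →ₗ[F] V →ₗ[F] F) (x y : V) : Module.Dual F K where
  toFun k := f (k • x) y
  map_add' k k' := by
    rw [add_smul, map_add, LinearMap.add_apply]
  map_smul' c k := by
    rw [smul_assoc, map_smul, LinearMap.smul_apply, RingHom.id_apply]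

theorem phi_apply (f : V →ₗ[F] V →ₗ[F] F) (x y : V) (k : K) : phi f x y k = f (k • x) y := rfl

/-- existence of the `K`-bilinear form with `Tr ∘ B = f` -/
theorem exists_form [Finite F] [Finite K] (f : V →ₗ[F] V →ₗ[F] F)
    (hsa : ∀ (k : K) (x y : V), f (k • x) y = f x (k • y))
    (halt : ∀ (k : K) (x : V), f (k • x) x = 0)
    (hnd : ∀ x : V, (∀ y, f x y = 0) → x = 0) :
    ∃ B : V →ₗ[K] V →ₗ[K] K, IsAltND B ∧ ∀ x y, trf F B x y = f x y := by
  classical
  haveI : FiniteDimensional F K := Module.Finite.of_finite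
  have hnd' := traceForm_nondegenerate F K
  set D := (Algebra.traceForm F K).toDual hnd' with hD
  -- the defining property
  have hb : ∀ (x y : V) (k : K), Algebra.trace F K (D.symm (phi f x y) * k) = f (k • x) y := by
    intro x y k
    have h := LinearMap.BilinForm.apply_toDual_symm_apply (B := Algebra.traceForm F K)
      (hB := hnd') (phi f x y) k
    rw [Algebra.traceForm_apply] at h
    rw [← hD] at h
    rw [h, phi_apply]
  -- uniqueness
  have huniq : ∀ (a b : K), (∀ k : K, Algebra.trace F K (a * k) = Algebra.trace F K (b * k)) →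
      a = b := by
    intro a b h
    have h0 : ∀ k : K, Algebra.traceForm F K (a - b) k = 0 := by
      intro k
      rw [Algebra.traceForm_apply, sub_mul, map_sub, h k, sub_self]
    have := hnd'.1 _ h0
    exact sub_eq_zero.mp this
  let B : V →ₗ[K] V →ₗ[K] K := LinearMap.mk₂ K (fun x y => D.symm (phi f x y))
    (by
      intro x x' y
      apply huniq
      intro k
      rw [add_mul, map_add, hb, hb, hb, smul_add, map_add, LinearMap.add_apply])
    (by
      intro c x y
      apply huniq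
      intro k
      rw [smul_eq_mul, mul_comm c, mul_assoc, hb, hb, mul_smul, smul_comm c k x]
      )
    (by
      intro x y y'
      apply huniq
      intro k
      rw [add_mul, map_add, hb, hb, hb, map_add])
    (by
      intro c x y
      apply huniq
      intro k
      rw [smul_eq_mul, mul_comm c, mul_assoc, hb, hb, mul_smul, hsa c (k • x) y])
  have hB : ∀ x y, B x y = D.symm (phi f x y) := fun x y => rfl
  refine ⟨B, ⟨?_, ?_⟩, ?_⟩
  · intro x
    rw [hB]
    apply huniq
    intro k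
    rw [hb, halt, zero_mul, map_zero]
  · intro x hx
    apply hnd
    intro y
    have h1 := hb x y 1
    rw [← hB, hx y, zero_mul, map_zero, one_smul] at h1
    exact h1.symm
  · intro x y
    unfold trf
    have h1 := hb x y 1
    rw [mul_one, one_smul] at h1
    rw [hB, h1]

end abstractForm

variable {F : Type u} [Field F] {ι : Type} [Fintype ι] [DecidableEq ι]

theorem isField (r : ℕ) (hr : r.Prime) (K : Subalgebra F (Matrix ι ι F))
    (hK : Cfsg.Geo.IsFieldSubalgebra r K) : IsField ↥K := by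
  refine ⟨⟨0, 1, ?_⟩, ?_, ?_⟩
  · intro h01
    have hsub : Subsingleton ↥K :=
      ⟨fun a b => by rw [← mul_one a, ← mul_one b, ← h01, mul_zero, mul_zero]⟩
    have h := hK.finrank_eq
    rw [Module.finrank_zero_of_subsingleton] at h
    exact hr.ne_zero h.symm
  · intro x y
    exact Subtype.ext (hK.comm x x.2 y y.2)
  · intro a ha
    obtain ⟨y, hy, hxy⟩ := hK.inv a a.2 (fun h0 => ha (Subtype.ext h0))
    exact ⟨⟨y, hy⟩, Subtype.ext hxy⟩

/-- the action of `K` on `F ^ ι` as a ring homomorphism -/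
noncomputable def act (K : Subalgebra F (Matrix ι ι F)) :
    ↥K →+* Module.End F (ι → F) :=
  ((Matrix.toLinAlgEquiv' : Matrix ι ι F ≃ₐ[F] Module.End F (ι → F)) :
    Matrix ι ι F →+* Module.End F (ι → F)).comp K.val.toRingHom

theorem act_apply (K : Subalgebra F (Matrix ι ι F)) (k : ↥K) (x : ι → F) :
    act K k x = (k : Matrix ι ι F) *ᵥ x := by
  unfold act
  simp

/-- the isomorphism `GL_ι(F) ≃* (F ^ ι ≃ₗ F ^ ι)` -/
noncomputable def ee (F : Type u) [Field F] (ι : Type) [Fintype ι] [DecidableEq ι] :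
    Matrix.GeneralLinearGroup ι F ≃* ((ι → F) ≃ₗ[F] (ι → F)) :=
  (Units.mapEquiv (Matrix.toLinAlgEquiv' : Matrix ι ι F ≃ₐ[F] Module.End F (ι → F)).toMulEquiv).trans
    (LinearMap.GeneralLinearGroup.generalLinearEquiv F (ι → F))

theorem ee_apply (g : Matrix.GeneralLinearGroup ι F) (x : ι → F) :
    ee F ι g x = (g : Matrix ι ι F) *ᵥ x := by
  unfold ee
  rw [MulEquiv.trans_apply, LinearMap.GeneralLinearGroup.coeFn_generalLinearEquiv,
    Units.coe_mapEquiv]
  exact Matrix.toLinAlgEquiv'_apply _ x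

theorem inv_mul_val (g : Matrix.GeneralLinearGroup ι F) :
    ((g⁻¹ : Matrix.GeneralLinearGroup ι F) : Matrix ι ι F) *
      (g : Matrix ι ι F) = 1 := by
  rw [← Units.val_mul, inv_mul_cancel, Units.val_one]

theorem mul_inv_val (g : Matrix.GeneralLinearGroup ι F) :
    (g : Matrix ι ι F) *
      ((g⁻¹ : Matrix.GeneralLinearGroup ι F) : Matrix ι ι F) = 1 := by
  rw [← Units.val_mul, mul_inv_cancel, Units.val_one]

/-- conjugation by a normalising element, as an algebra automorphism of `K` -/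
noncomputable def conjEquiv (K : Subalgebra F (Matrix ι ι F))
    (g : Matrix.GeneralLinearGroup ι F) (hg : g ∈ Cfsg.Geo.subalgebraNormalizer K) :
    ↥K ≃ₐ[F] ↥K where
  toFun k := ⟨(g : Matrix ι ι F) * k *
    ((g⁻¹ : Matrix.GeneralLinearGroup ι F) : Matrix ι ι F), (hg k).1 k.2⟩
  invFun k := ⟨((g⁻¹ : Matrix.GeneralLinearGroup ι F) : Matrix ι ι F) * k *
    (g : Matrix ι ι F), by
      apply (hg _).2
      have : (g : Matrix ι ι F) *
          (((g⁻¹ : Matrix.GeneralLinearGroup ι F) : Matrix ι ι F) * k *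
            (g : Matrix ι ι F)) *
          ((g⁻¹ : Matrix.GeneralLinearGroup ι F) : Matrix ι ι F) = k := by
        rw [← mul_assoc, ← mul_assoc, mul_inv_val, one_mul, mul_assoc, mul_inv_val, mul_one]
      rw [this]
      exact k.2⟩
  left_inv k := by
    apply Subtype.ext
    show ((g⁻¹ : Matrix.GeneralLinearGroup ι F) : Matrix ι ι F) *
      ((g : Matrix ι ι F) * k *
        ((g⁻¹ : Matrix.GeneralLinearGroup ι F) : Matrix ι ι F)) *
      (g : Matrix ι ι F) = k
    rw [← mul_assoc, ← mul_assoc, inv_mul_val, one_mul, mul_assoc, inv_mul_val, mul_one]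
  right_inv k := by
    apply Subtype.ext
    show (g : Matrix ι ι F) *
      (((g⁻¹ : Matrix.GeneralLinearGroup ι F) : Matrix ι ι F) * k *
        (g : Matrix ι ι F)) *
      ((g⁻¹ : Matrix.GeneralLinearGroup ι F) : Matrix ι ι F) = k
    rw [← mul_assoc, ← mul_assoc, mul_inv_val, one_mul, mul_assoc, mul_inv_val, mul_one]
  map_mul' k k' := by
    apply Subtype.ext
    show (g : Matrix ι ι F) * ((k : Matrix ι ι F) * k') *
        ((g⁻¹ : Matrix.GeneralLinearGroup ι F) : Matrix ι ι F) =
      ((g : Matrix ι ι F) * k *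
        ((g⁻¹ : Matrix.GeneralLinearGroup ι F) : Matrix ι ι F)) *
      ((g : Matrix ι ι F) * k' *
        ((g⁻¹ : Matrix.GeneralLinearGroup ι F) : Matrix ι ι F))
    have h := inv_mul_val g
    calc (g : Matrix ι ι F) * ((k : Matrix ι ι F) * k') *
        ((g⁻¹ : Matrix.GeneralLinearGroup ι F) : Matrix ι ι F)
        = (g : Matrix ι ι F) * k * 1 * k' *
          ((g⁻¹ : Matrix.GeneralLinearGroup ι F) : Matrix ι ι F) := by
          rw [mul_one]
          simp only [mul_assoc]
      _ = _ := by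
          rw [← h]
          simp only [mul_assoc]
  map_add' k k' := by
    apply Subtype.ext
    show (g : Matrix ι ι F) * ((k : Matrix ι ι F) + k') *
        ((g⁻¹ : Matrix.GeneralLinearGroup ι F) : Matrix ι ι F) =
      ((g : Matrix ι ι F) * k *
        ((g⁻¹ : Matrix.GeneralLinearGroup ι F) : Matrix ι ι F)) +
      ((g : Matrix ι ι F) * k' *
        ((g⁻¹ : Matrix.GeneralLinearGroup ι F) : Matrix ι ι F))
    rw [mul_add, add_mul]
  commutes' a := by
    apply Subtype.ext
    show (g : Matrix ι ι F) * (algebraMap F (Matrix ι ι F) a) *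
        ((g⁻¹ : Matrix.GeneralLinearGroup ι F) : Matrix ι ι F) =
      algebraMap F (Matrix ι ι F) a
    rw [← Algebra.commutes, mul_assoc, mul_inv_val, mul_one]

theorem conjEquiv_mul (K : Subalgebra F (Matrix ι ι F))
    (g : Matrix.GeneralLinearGroup ι F) (hg : g ∈ Cfsg.Geo.subalgebraNormalizer K) (k : ↥K) :
    ((conjEquiv K g hg k : ↥K) : Matrix ι ι F) * (g : Matrix ι ι F) =
      (g : Matrix ι ι F) * k := by
  show (g : Matrix ι ι F) * k *
      ((g⁻¹ : Matrix.GeneralLinearGroup ι F) : Matrix ι ι F) *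
      (g : Matrix ι ι F) = _
  rw [mul_assoc, inv_mul_val, mul_one]

/-- the converse: a surjective "twist" forces `g` into the normaliser -/
theorem mem_normalizer_of_twist (K : Subalgebra F (Matrix ι ι F))
    (g : Matrix.GeneralLinearGroup ι F) (σ : ↥K → ↥K) (hσ : Function.Surjective σ)
    (hg : ∀ k : ↥K, (g : Matrix ι ι F) * k = (σ k : Matrix ι ι F) * g) :
    g ∈ Cfsg.Geo.subalgebraNormalizer K := by
  intro k
  constructor
  · intro hk
    have h1 := hg ⟨k, hk⟩
    have h2 : (g : Matrix ι ι F) * k *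
        ((g⁻¹ : Matrix.GeneralLinearGroup ι F) : Matrix ι ι F) =
        (σ ⟨k, hk⟩ : Matrix ι ι F) := by
      have : (g : Matrix ι ι F) * k = (σ ⟨k, hk⟩ : Matrix ι ι F) * g := h1
      rw [this, mul_assoc, mul_inv_val, mul_one]
    rw [h2]
    exact (σ ⟨k, hk⟩).2
  · intro hk
    obtain ⟨k₀, hk₀⟩ := hσ ⟨_, hk⟩
    have h1 := hg k₀
    rw [hk₀] at h1
    have h2 : (g : Matrix ι ι F) * k₀ = (g : Matrix ι ι F) * k := by
      rw [h1]
      show (g : Matrix ι ι F) * k *
        ((g⁻¹ : Matrix.GeneralLinearGroup ι F) : Matrix ι ι F) *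
        (g : Matrix ι ι F) = _
      rw [mul_assoc, inv_mul_val, mul_one]
    have h3 : (k₀ : Matrix ι ι F) = k := by
      have := congrArg (fun m => ((g⁻¹ : Matrix.GeneralLinearGroup ι F) :
        Matrix ι ι F) * m) h2
      simp only [← mul_assoc, inv_mul_val, one_mul] at this
      exact this
    rw [← h3]
    exact k₀.2

/-- non-degeneracy of the standard symplectic form -/
theorem sympForm_nd {F : Type u} [Field F] (m : ℕ) (x : Fin m ⊕ Fin m → F)
    (hx : ∀ y, Cfsg.sympForm m F x y = 0) : x = 0 := by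
  funext i
  have h := hx ((-Matrix.J (Fin m) F) *ᵥ Pi.single i 1)
  unfold Cfsg.sympForm at h
  rw [Matrix.mulVec_mulVec, Matrix.mul_neg, Matrix.J_squared, neg_neg, Matrix.one_mulVec,
    dotProduct_single, mul_one] at h
  exact h

end BRIDGEP

/-- BRIDGE' -/
theorem BRIDGE' {F : Type u} [Field F] [Fintype F] (m r : ℕ) (hr : r.Prime)
    (K : Subalgebra F (Matrix (Fin m ⊕ Fin m) (Fin m ⊕ Fin m) F))
    (hK : Cfsg.Geo.IsFieldSubalgebra r K)
    (hsa : Cfsg.Geo.IsSelfAdjointFor (Cfsg.sympForm m F) K)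
    (halt : ∀ k ∈ K, ∀ v : (Fin m ⊕ Fin m → F), Cfsg.sympForm m F (Matrix.mulVec k v) v = 0) :
    ∃ (K' : Type u) (_ : Field K') (_ : Algebra F K') (_ : Module K' (Fin m ⊕ Fin m → F))
      (_ : IsScalarTower F K' (Fin m ⊕ Fin m → F)) (_ : Finite K'),
      Module.finrank F K' = r ∧
      ∃ B : (Fin m ⊕ Fin m → F) →ₗ[K'] (Fin m ⊕ Fin m → F) →ₗ[K'] K', IsAltND B ∧
        (∀ x y, trf F B x y = Cfsg.sympForm m F x y) ∧
        ∃ e : Matrix.GeneralLinearGroup (Fin m ⊕ Fin m) F ≃*
            ((Fin m ⊕ Fin m → F) ≃ₗ[F] (Fin m ⊕ Fin m → F)),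
          (∀ (g : Matrix.GeneralLinearGroup (Fin m ⊕ Fin m) F) (x : Fin m ⊕ Fin m → F),
            e g x = Matrix.mulVec (g : Matrix (Fin m ⊕ Fin m) (Fin m ⊕ Fin m) F) x) ∧
          (Cfsg.Geo.subalgebraNormalizer K).map e.toMonoidHom = Nrm F K' (Fin m ⊕ Fin m → F) := by
  letI fld : Field ↥K := (BRIDGEP.isField r hr K hK).toField
  letI alg : Algebra F ↥K := K.algebra
  letI mod : Module ↥K (Fin m ⊕ Fin m → F) := Module.compHom (Fin m ⊕ Fin m → F) (BRIDGEP.act K)
  have hsmul : ∀ (k : ↥K) (x : Fin m ⊕ Fin m → F),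
      k • x = (k : Matrix (Fin m ⊕ Fin m) (Fin m ⊕ Fin m) F) *ᵥ x := by
    intro k x
    exact BRIDGEP.act_apply K k x
  haveI tower : IsScalarTower F ↥K (Fin m ⊕ Fin m → F) := by
    refine ⟨fun a k x => ?_⟩
    rw [hsmul, hsmul]
    show (a • (k : Matrix (Fin m ⊕ Fin m) (Fin m ⊕ Fin m) F)) *ᵥ x =
      a • ((k : Matrix (Fin m ⊕ Fin m) (Fin m ⊕ Fin m) F) *ᵥ x)
    rw [Matrix.smul_mulVec]
  have fin : Finite ↥K := inferInstance
  -- the `F`-bilinear form
  let f : (Fin m ⊕ Fin m → F) →ₗ[F] (Fin m ⊕ Fin m → F) →ₗ[F] F :=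
    Matrix.toLinearMap₂' F (Matrix.J (Fin m) F)
  have hf : ∀ x y, f x y = Cfsg.sympForm m F x y := by
    intro x y
    exact Matrix.toLinearMap₂'_apply' _ x y
  obtain ⟨B, hB, hBf⟩ := @BRIDGEP.exists_form F ↥K (Fin m ⊕ Fin m → F) _ fld alg _ _ mod tower
    (Finite.of_fintype F) fin f
    (by
      intro k x y
      rw [hf, hf]
      have h1 := hsa k k.2 x y
      rw [← hsmul, ← hsmul] at h1
      exact h1)
    (by
      intro k x
      rw [hf]
      have h1 := halt k k.2 x
      rw [← hsmul] at h1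
      exact h1)
    (by
      intro x hx
      apply BRIDGEP.sympForm_nd m x
      intro y
      rw [← hf]
      exact hx y)
  refine ⟨↥K, fld, alg, mod, tower, fin, hK.finrank_eq, B, hB, ?_, BRIDGEP.ee F (Fin m ⊕ Fin m),
    BRIDGEP.ee_apply, ?_⟩
  · intro x y
    rw [hBf, hf]
  · -- the normaliser
    ext φ
    rw [Subgroup.mem_map_equiv]
    obtain ⟨g, rfl⟩ := (BRIDGEP.ee F (Fin m ⊕ Fin m)).surjective φ
    rw [MulEquiv.symm_apply_apply]
    constructor
    · intro hg
      refine ⟨BRIDGEP.conjEquiv K g hg, ?_⟩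
      intro k x
      show BRIDGEP.ee F (Fin m ⊕ Fin m) g (k • x) =
        (BRIDGEP.conjEquiv K g hg k) • (BRIDGEP.ee F (Fin m ⊕ Fin m) g x)
      rw [hsmul, hsmul, BRIDGEP.ee_apply, BRIDGEP.ee_apply, Matrix.mulVec_mulVec,
        Matrix.mulVec_mulVec, BRIDGEP.conjEquiv_mul]
    · rintro ⟨σ, hσ⟩
      apply BRIDGEP.mem_normalizer_of_twist K g (fun k => σ k) σ.surjective
      intro k
      rw [Matrix.ext_iff_mulVec]
      intro x
      have := hσ k x
      have h2 : BRIDGEP.ee F (Fin m ⊕ Fin m) g (k • x) =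
          (σ k) • (BRIDGEP.ee F (Fin m ⊕ Fin m) g x) := this
      rw [hsmul, hsmul, BRIDGEP.ee_apply, BRIDGEP.ee_apply, Matrix.mulVec_mulVec,
        Matrix.mulVec_mulVec] at h2
      exact h2

end Cfsg.Agent.S5664P
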