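import Mathlib
import Cfsg.Prelude.Def_GeometricClasses
import Cfsg.Agent.Helper2.S5886.Defs
import Cfsg.Agent.Helper2.S5664.Defs

/-! # S5664, piece YKILL (helper10): the elements of `yset M (K v)` kill `v^⊥`. -/

set_option autoImplicit false
set_option linter.unusedSectionVars false

namespace Cfsg.Agent.S5664P

open Cfsg.Agent.S5886P

variable {F K V : Type*} [Field F] [Field K] [Algebra F K]
  [AddCommGroup V] [Module F V] [Module K V] [IsScalarTower F K V]

namespace YKILL

theorem B_skew {B : V →ₗ[K] V →ₗ[K] K} (hB : IsAltND B) (x y : V) : B x y = - B y x := by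
  have h := hB.alt (x + y)
  simp only [map_add, LinearMap.add_apply, hB.alt, zero_add, add_zero] at h
  linear_combination h

theorem trf_add_left (B : V →ₗ[K] V →ₗ[K] K) (x x' y : V) :
    trf F B (x + x') y = trf F B x y + trf F B x' y := by
  unfold trf; rw [map_add, LinearMap.add_apply, map_add]

theorem trf_add_right (B : V →ₗ[K] V →ₗ[K] K) (x y y' : V) :
    trf F B x (y + y') = trf F B x y + trf F B x y' := by
  unfold trf; rw [map_add, map_add]

theorem trf_skew {B : V →ₗ[K] V →ₗ[K] K} (hB : IsAltND B) (x y : V) :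
    trf F B x y = - trf F B y x := by
  unfold trf; rw [B_skew hB x y, map_neg]

/-- own copy of TRFND: the trace form `Tr ∘ B` is non-degenerate -/
theorem trfnd [Finite F] [Finite K] (B : V →ₗ[K] V →ₗ[K] K) (hB : IsAltND B) (x : V)
    (hx : ∀ y, trf F B x y = 0) : x = 0 := by
  apply hB.nd
  intro y
  have hnd := traceForm_nondegenerate F K
  have h0 : ∀ k : K, Algebra.traceForm F K (B x y) k = 0 := by
    intro k
    rw [Algebra.traceForm_apply]
    have := hx (k • y)
    unfold trf at this
    rwa [map_smul, smul_eq_mul, mul_comm] at this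
  exact hnd.1 _ h0

end YKILL

open YKILL in
/-- YKILL -/
theorem YKILL [Finite F] [Finite K] (B : V →ₗ[K] V →ₗ[K] K) (hB : IsAltND B)
    (M : Subgroup (V ≃ₗ[F] V)) (hM : M ≤ SpF F B) (v : V) (A : V →ₗ[F] V)
    (hA : A ∈ yset M (Kline (F := F) (K := K) v)) (x : V) (hx : B x v = 0) : A x = 0 := by
  obtain ⟨⟨hA1, hA2⟩, g, hgM, hg⟩ := hA
  have hgS := hM hgM
  -- elements of `K v`
  have hmem : ∀ z : V, z ∈ Kline (F := F) (K := K) v → ∃ c : K, z = c • v := by
    intro z hz
    have hz' : z ∈ Submodule.span K {v} := hz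
    obtain ⟨c, hc⟩ := Submodule.mem_span_singleton.mp hz'
    exact ⟨c, hc.symm⟩
  apply trfnd (F := F) B hB
  intro y
  rw [trf_skew hB]
  -- `trf y (A x) = 0`
  have h := hgS y x
  rw [hg y, hg x, trf_add_left, trf_add_right, trf_add_right] at h
  obtain ⟨c, hc⟩ := hmem (A y) (hA1 y)
  obtain ⟨c', hc'⟩ := hmem (A x) (hA1 x)
  have h1 : trf F B (A y) x = 0 := by
    unfold trf
    rw [hc, map_smul, LinearMap.smul_apply, B_skew hB v x, hx, neg_zero, smul_zero, map_zero]
  have h2 : trf F B (A y) (A x) = 0 := by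
    unfold trf
    rw [hc, hc']
    simp only [map_smul, LinearMap.smul_apply, hB.alt, smul_zero, map_zero]
  rw [h1, h2, add_zero, add_zero] at h
  have h3 : trf F B y (A x) = 0 := by linear_combination h
  rw [h3, neg_zero]

end Cfsg.Agent.S5664P
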