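import Cfsg.Agent.Helper29.S5677.Defs
import Cfsg.Agent.Helper29.S5677.Defs2
import Cfsg.Agent.Helper24.S5677LSUB
import Cfsg.Agent.Helper2.S5677BLK
import Cfsg.Agent.Helper21.S5677SPREAD

set_option autoImplicit false
set_option linter.unusedSectionVars false
set_option linter.unusedVariables false

/-! # S5677, piece LINKS: links from one singular vector; symmetry of links. -/

namespace Cfsg.Agent.S5677P

open Matrix Cfsg.Agent.Helper28.Sg Cfsg.Agent.Helper28.Spin Cfsg.Agent.Helper12.OrthGen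
  Cfsg.Agent.S2614 Cfsg.Agent.S5683P Cfsg.Agent.Helper28.NDM

variable {F : Type*} [Field F] [Fintype F] {m t k : ℕ} {D : Fin t → Submodule F (Idx m → F)}
  {M : Subgroup (OG m F)}

/-- from one singular `u`: `D b ≤ Lsub M u` gives `Link M D b c` (LSUB.swap: `u ∈ Lsub M x` for
every singular `x ∈ D b`; SPREAD.le with the roles of `b`, `c` exchanged) -/
theorem LINKS.of_one (h2 : (2 : F) ≠ 0) (hD : HD k D) (hHM : HS D ≤ M) {c b : Fin t} (hcb : c ≠ b)
    {u : Idx m → F} (hu : u ∈ D c) (hu0 : u ≠ 0) (hQu : QfOdd m F u = 0)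
    (h : D b ≤ Lsub M u hQu) : Link M D b c := by
  intro x hx hx0 hQx
  have hux : u ∈ Lsub M x hQx := LSUB.swap hQu hQx (h hx)
  exact SPREAD.le h2 hD hHM (Ne.symm hcb) hx hQx hu hu0 hQu hux

theorem LINKS.symm (h2 : (2 : F) ≠ 0) (hD : HD k D) (hHM : HS D ≤ M) {c b : Fin t} (hcb : c ≠ b)
    (h : Link M D c b) : Link M D b c := by
  obtain ⟨e, f, he, hf, hp⟩ := BLK.hyp hD c
  have he0 : e ≠ 0 := by
    rintro rfl
    have := hp.Bef
    simp [B] at this
  exact LINKS.of_one h2 hD hHM hcb he he0 hp.Qe (h e he he0 hp.Qe)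

end Cfsg.Agent.S5677P
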