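import Cfsg.Agent.Helper29.S5677.Defs
import Cfsg.Agent.Helper29.S5677.Defs2
import Cfsg.Agent.Helper20.S5677CMP1
import Cfsg.Agent.Helper20.S5677CMP2
import Cfsg.Agent.Helper23.S5677SIEGMEM
import Cfsg.Agent.Helper22.S5677GEOA
import Cfsg.Agent.Helper2.S5677BLK
import Cfsg.Agent.Helper22.S5677SPREAD1
import Cfsg.Agent.Helper21.S5677SPREAD

set_option autoImplicit false
set_option linter.unusedSectionVars false
set_option linter.unusedVariables false

/-! # S5677, piece SEED: from `G1` to one block inside some `Lsub M u`. -/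

namespace Cfsg.Agent.S5677P

open Matrix Cfsg.Agent.Helper28.Sg Cfsg.Agent.Helper28.Spin Cfsg.Agent.Helper12.OrthGen
  Cfsg.Agent.S2614 Cfsg.Agent.S5683P Cfsg.Agent.Helper28.NDM

variable {F : Type*} [Field F] [Fintype F] {m t k : ℕ} {D : Fin t → Submodule F (Idx m → F)}
  {M : Subgroup (OG m F)}

/-- from `G1`: `d' := d - cmp D c d ∈ Rad M u` (as `cmp D c d ∈ Tu D c u`), `d' ≠ 0` has a non-zero
component `d'_b`, `b ≠ c`; GEOA.sing_nonorth gives a singular `e' ∈ D b` with `B(e', d') ≠ 0`;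
SPREAD1.mem, SPREAD.le -/
theorem SEED.exists (h2 : (2 : F) ≠ 0) (hD : HD k D) (hHM : HS D ≤ M) (hG1 : G1 M D) :
    ∃ (c b : Fin t) (u : Idx m → F) (hQu : QfOdd m F u = 0), c ≠ b ∧ u ∈ D c ∧ u ≠ 0 ∧
      D b ≤ Lsub M u hQu := by
  obtain ⟨c, u, hQu, hu, hu0, d, hd, hdc⟩ := hG1
  have hud : B (QfOdd m F) u d = 0 := Rad_perp hd
  -- the `c`-component of `d` lies in `Rad M u`
  have hdc1 : cmp D c d ∈ Tu D c u := by
    rw [mem_Tu]
    exact ⟨CMP1.mem hD c d, by rw [CMP2.B_left hD hu d]; exact hud⟩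
  have hdc2 : cmp D c d ∈ Rad M u hQu := SIEGMEM.Tu_le hD hHM hu hQu hdc1
  have hd' : d - cmp D c d ∈ Rad M u hQu := (Rad M u hQu).sub_mem hd hdc2
  have hd'0 : d - cmp D c d ≠ 0 := by
    intro h0
    apply hdc
    rw [sub_eq_zero] at h0
    rw [h0]
    exact CMP1.mem hD c d
  have hc0 : cmp D c (d - cmp D c d) = 0 := by
    rw [map_sub, CMP1.of_mem hD (CMP1.mem hD c d), sub_self]
  -- a non-zero component in another block
  obtain ⟨b, hb⟩ : ∃ b, cmp D b (d - cmp D c d) ≠ 0 := by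
    by_contra hno
    push Not at hno
    apply hd'0
    apply CMP1.ext hD
    intro b
    rw [hno b, map_zero]
  have hcb : c ≠ b := by
    rintro rfl
    exact hb hc0
  obtain ⟨e', he', hQe', hne⟩ := GEOA.sing_nonorth (D b) (BLK.ndon hD b) (BLK.three hD b)
    (CMP1.mem hD b (d - cmp D c d)) hb
  rw [CMP2.B_left hD he'] at hne
  have he'0 : e' ≠ 0 := by
    rintro rfl
    apply hne
    simp [B]
  have hmem : e' ∈ Lsub M u hQu :=
    SPREAD1.mem h2 hD hHM hcb hu hQu he' he'0 hQe' hd' hne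
  exact ⟨c, b, u, hQu, hcb, hu, hu0, SPREAD.le h2 hD hHM hcb hu hQu he' he'0 hQe' hmem⟩

end Cfsg.Agent.S5677P
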