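import Mathlib
import Cfsg.Agent.Helper26.S5704GENDDefs
import Cfsg.Agent.Helper26.S5704ROOTS

set_option autoImplicit false
set_option linter.unusedSectionVars false
set_option linter.unusedVariables false

/-! # S5704, chapter SEED, sub-chapter GEND, piece SPTRANSV (helper10):
two symplectic transvections move any nonzero vector to any nonzero vector. -/

namespace Cfsg.Agent.S5704P

open Matrix Cfsg.Agent.S5637P Cfsg.Agent.S5704S Cfsg.Agent.Helper28.Sg

variable {F : Type*} [Field F] {n a b : ℕ} (e : Fin n ≃ Fin a × Fin b)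

/-- one transvection moves `z` to `w` when `(z,w) ≠ 0` -/
theorem GEND.SPTRANSV.aux_one {m : ℕ} {G : Matrix (Fin m) (Fin m) F} (hG : IsSymp G) {z w : Fin m → F}
    (h : bf G z w ≠ 0) : tv G (w - z) (bf G z w)⁻¹ z = w := by
  unfold tv
  rw [bf_sub_right, hG.alt z, sub_zero, inv_mul_cancel₀ h, one_smul]
  abel

theorem GEND.SPTRANSV.aux_ex {m : ℕ} {G : Matrix (Fin m) (Fin m) F} (hG : IsSymp G) {z : Fin m → F}
    (hz : z ≠ 0) : ∃ y, bf G z y ≠ 0 := by
  by_contra hcon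
  push Not at hcon
  exact hz (hG.nondeg z hcon)

theorem GEND.SPTRANSV.exists {m : ℕ} {G : Matrix (Fin m) (Fin m) F} (hG : IsSymp G) {z w : Fin m → F}
    (hz : z ≠ 0) (hw : w ≠ 0) :
    ∃ (y1 : Fin m → F) (c1 : F) (y2 : Fin m → F) (c2 : F), tv G y2 c2 (tv G y1 c1 z) = w := by
  by_cases hzw : bf G z w = 0
  · -- an intermediate vector
    have hmid : ∃ t : Fin m → F, bf G z t ≠ 0 ∧ bf G t w ≠ 0 := by
      obtain ⟨m1, hm1⟩ := GEND.SPTRANSV.aux_ex hG hz
      obtain ⟨m2, hm2⟩ := GEND.SPTRANSV.aux_ex hG hw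
      have hm2' : bf G m2 w ≠ 0 := by
        rw [hG.skew]
        exact neg_ne_zero.mpr hm2
      by_cases h1 : bf G m1 w = 0
      · by_cases h2 : bf G z m2 = 0
        · refine ⟨m1 + m2, ?_, ?_⟩
          · rw [bf_add_right, h2, add_zero]
            exact hm1
          · rw [bf_add_left, h1, zero_add]
            exact hm2'
        · exact ⟨m2, h2, hm2'⟩
      · exact ⟨m1, hm1, h1⟩
    obtain ⟨t, ht1, ht2⟩ := hmid
    refine ⟨t - z, (bf G z t)⁻¹, w - t, (bf G t w)⁻¹, ?_⟩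
    rw [GEND.SPTRANSV.aux_one hG ht1, GEND.SPTRANSV.aux_one hG ht2]
  · refine ⟨w - z, (bf G z w)⁻¹, 0, 0, ?_⟩
    rw [GEND.SPTRANSV.aux_one hG hzw]
    unfold tv
    rw [smul_zero, add_zero]

end Cfsg.Agent.S5704P
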