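import Mathlib
import Cfsg.Agent.Helper28.S5704SDefs

set_option autoImplicit false
set_option linter.unusedSectionVars false
set_option linter.unusedVariables false

/-! # S5704, piece KRISO (2f) (helper10): a Kronecker product of similitudes with inverse multipliers is an isometry of `Q`.

Setting of helper24's middle chapters: `P = 1`, `hT : TData Q e 1 GU GW`.  `Q` vanishes on pure tensors and its polar form is
`bf GU ⊗ bf GW` on pure tensors; every vector is a sum of pure tensors. -/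

namespace Cfsg.Agent.S5704S

open Matrix Cfsg.Agent.Helper28.Sg

variable {F : Type*} [Field F] {n a b : ℕ}

/-- `Q` of a finite sum of pure tensors only depends on the products `bf GU u_i u_j * bf GW w_i w_j` -/
theorem KRISO.sum_eq {Q : QuadraticForm F (Fin n → F)} {e : Fin n ≃ Fin a × Fin b}
    {GU : Matrix (Fin a) (Fin a) F} {GW : Matrix (Fin b) (Fin b) F}
    (hT : TData Q e (1 : Matrix (Fin n) (Fin n) F) GU GW) {κ : Type*} (s : Finset κ)
    (u u' : κ → Fin a → F) (w w' : κ → Fin b → F)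
    (h : ∀ i j, bf GU (u' i) (u' j) * bf GW (w' i) (w' j) = bf GU (u i) (u j) * bf GW (w i) (w j)) :
    Q (∑ j ∈ s, pt e (1 : Matrix (Fin n) (Fin n) F) (u' j) (w' j)) =
      Q (∑ j ∈ s, pt e (1 : Matrix (Fin n) (Fin n) F) (u j) (w j)) := by
  classical
  induction s using Finset.induction_on with
  | empty => simp
  | insert j s hj ih =>
    rw [Finset.sum_insert hj, Finset.sum_insert hj, Q_add, Q_add, ih, hT.sing, hT.sing]
    congr 1
    show QuadraticMap.polar ⇑Q _ _ = QuadraticMap.polar ⇑Q _ _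
    rw [← QuadraticMap.polarBilin_apply_apply, ← QuadraticMap.polarBilin_apply_apply, map_sum, map_sum]
    apply Finset.sum_congr rfl
    intro i _
    rw [QuadraticMap.polarBilin_apply_apply, QuadraticMap.polarBilin_apply_apply, hT.pol, hT.pol, h]

/-- KRISO, product form: if `A ⊗ B` preserves the products `bf GU · bf GW`, then `krg e A B` is an isometry of `Q` -/
theorem KRISO.of_prod {Q : QuadraticForm F (Fin n → F)} {e : Fin n ≃ Fin a × Fin b}
    {GU : Matrix (Fin a) (Fin a) F} {GW : Matrix (Fin b) (Fin b) F}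
    (hT : TData Q e (1 : Matrix (Fin n) (Fin n) F) GU GW) (A : GL (Fin a) F) (B : GL (Fin b) F)
    (h : ∀ u u' w w', bf GU ((A : Matrix (Fin a) (Fin a) F) *ᵥ u) ((A : Matrix (Fin a) (Fin a) F) *ᵥ u') *
        bf GW ((B : Matrix (Fin b) (Fin b) F) *ᵥ w) ((B : Matrix (Fin b) (Fin b) F) *ᵥ w') =
      bf GU u u' * bf GW w w') :
    Cfsg.Agent.S5637P.krg e A B ∈ Cfsg.isometryGroup F ⇑Q := by
  classical
  rw [Cfsg.Agent.Helper28.IsoTransport.mem_isometryGroup_iff]
  intro x
  have hpt : ∀ (u : Fin a → F) (w : Fin b → F),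
      pt e (1 : Matrix (Fin n) (Fin n) F) u w = Cfsg.Agent.S5637P.tn e u w := by
    intro u w; unfold pt; rw [Matrix.one_mulVec]
  have hx : x = ∑ j : Fin b, pt e (1 : Matrix (Fin n) (Fin n) F) (Cfsg.Agent.S5637P.col e x j) (Pi.single j 1) := by
    conv_lhs => rw [Cfsg.Agent.S5637P.eq_sum_tn_col e x]
    exact Finset.sum_congr rfl (fun j _ => (hpt _ _).symm)
  have hgx : ((Cfsg.Agent.S5637P.krg e A B : GL (Fin n) F) : Matrix (Fin n) (Fin n) F) *ᵥ x =
      ∑ j : Fin b, pt e (1 : Matrix (Fin n) (Fin n) F)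
        ((A : Matrix (Fin a) (Fin a) F) *ᵥ Cfsg.Agent.S5637P.col e x j)
        ((B : Matrix (Fin b) (Fin b) F) *ᵥ Pi.single j 1) := by
    conv_lhs => rw [hx]
    have := map_sum (Matrix.mulVecLin ((Cfsg.Agent.S5637P.krg e A B : GL (Fin n) F) : Matrix (Fin n) (Fin n) F))
      (fun j : Fin b => pt e (1 : Matrix (Fin n) (Fin n) F) (Cfsg.Agent.S5637P.col e x j) (Pi.single j 1)) Finset.univ
    simp only [Matrix.mulVecLin_apply] at this
    rw [this]
    apply Finset.sum_congr rfl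
    intro j _
    rw [hpt, hpt, Cfsg.Agent.S5637P.krg_mulVec_tn]
  rw [hgx]
  conv_rhs => rw [hx]
  exact KRISO.sum_eq hT Finset.univ _ _ _ _ (fun i j => h _ _ _ _)

/-- KRISO (2f): similitudes with multipliers `μ`, `ν`, `μ ν = 1` -/
theorem KRISO.main {Q : QuadraticForm F (Fin n → F)} {e : Fin n ≃ Fin a × Fin b}
    {GU : Matrix (Fin a) (Fin a) F} {GW : Matrix (Fin b) (Fin b) F}
    (hT : TData Q e (1 : Matrix (Fin n) (Fin n) F) GU GW) (A : GL (Fin a) F) (B : GL (Fin b) F)
    (μ ν : F) (hμν : μ * ν = 1)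
    (hA : ∀ u u', bf GU ((A : Matrix (Fin a) (Fin a) F) *ᵥ u) ((A : Matrix (Fin a) (Fin a) F) *ᵥ u') = μ * bf GU u u')
    (hB : ∀ w w', bf GW ((B : Matrix (Fin b) (Fin b) F) *ᵥ w) ((B : Matrix (Fin b) (Fin b) F) *ᵥ w') = ν * bf GW w w') :
    Cfsg.Agent.S5637P.krg e A B ∈ Cfsg.isometryGroup F ⇑Q := by
  apply KRISO.of_prod hT A B
  intro u u' w w'
  rw [hA, hB]
  linear_combination (bf GU u u' * bf GW w w') * hμν

end Cfsg.Agent.S5704S
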