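import Mathlib
import Cfsg.Agent.Helper28.S5704SDefs

set_option autoImplicit false
set_option linter.unusedSectionVars false
set_option linter.unusedVariables false

/-! # S5704, bridge lemma MEMT (helper10): membership in the frozen `tensorProductSubgroup` in terms of the action on the
pure tensors `pt e P u w`. -/

namespace Cfsg.Agent.S5704S

open Matrix Cfsg.Agent.Helper28.Sg

variable {F : Type*} [Field F] {n a b : ℕ}

/-- two matrices that agree on all pure tensors `tn e u w` are equal -/
theorem MEMT.matrix_ext (e : Fin n ≃ Fin a × Fin b) {X Y : Matrix (Fin n) (Fin n) F}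
    (h : ∀ u w, X *ᵥ Cfsg.Agent.S5637P.tn e u w = Y *ᵥ Cfsg.Agent.S5637P.tn e u w) : X = Y := by
  classical
  ext i k
  have hk := h (Pi.single (e k).1 1) (Pi.single (e k).2 1)
  rw [Cfsg.Agent.S5637P.tn_single, mul_one, Prod.mk.eta, Equiv.symm_apply_apply] at hk
  have := congrFun hk i
  rwa [Matrix.mulVec_single_one, Matrix.mulVec_single_one] at this

/-- MEMT: `g` lies in the tensor product subgroup iff it acts factorwise on the pure tensors `pt e P u w` -/
theorem MEMT.main (e : Fin n ≃ Fin a × Fin b) (P g : GL (Fin n) F) :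
    g ∈ Cfsg.Geo.tensorProductSubgroup a b e P ↔
      ∃ (A : GL (Fin a) F) (B : GL (Fin b) F), ∀ (u : Fin a → F) (w : Fin b → F),
        (g : Matrix (Fin n) (Fin n) F) *ᵥ pt e (P : Matrix (Fin n) (Fin n) F) u w =
          pt e (P : Matrix (Fin n) (Fin n) F) ((A : Matrix (Fin a) (Fin a) F) *ᵥ u)
            ((B : Matrix (Fin b) (Fin b) F) *ᵥ w) := by
  rw [Cfsg.Agent.S5637P.mem_tensor_iff]
  constructor
  · rintro ⟨A, B, hAB⟩
    refine ⟨A, B, fun u w => ?_⟩
    have hg : g = P * Cfsg.Agent.S5637P.krg e A B * P⁻¹ := by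
      rw [← hAB]; group
    unfold pt
    rw [hg, Units.val_mul, Units.val_mul, Matrix.mulVec_mulVec, Matrix.mul_assoc, Matrix.mul_assoc,
      ← Units.val_mul P⁻¹ P, inv_mul_cancel, Units.val_one, Matrix.mul_one, ← Matrix.mulVec_mulVec,
      Cfsg.Agent.S5637P.krg_mulVec_tn]
  · rintro ⟨A, B, h⟩
    refine ⟨A, B, ?_⟩
    apply Units.ext
    apply MEMT.matrix_ext e
    intro u w
    rw [Cfsg.Agent.S5637P.krg_mulVec_tn, Units.val_mul, Units.val_mul, ← Matrix.mulVec_mulVec,
      ← Matrix.mulVec_mulVec]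
    have := h u w
    unfold pt at this
    rw [this, Matrix.mulVec_mulVec, ← Units.val_mul, inv_mul_cancel, Units.val_one, Matrix.one_mulVec]

end Cfsg.Agent.S5704S
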