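import Mathlib
import Cfsg.Agent.Helper28.S5704SDefs
import Cfsg.Agent.Helper28.OrthMax3
import Cfsg.Agent.Helper28.NonMax
import Cfsg.Agent.Helper18.S5704SEXONE
import Cfsg.Agent.Helper10.S5704MEMT

set_option autoImplicit false
set_option linter.unusedSectionVars false
set_option linter.unusedVariables false

/-! # S5704, chapter PROPER, variant with hypothesis `a < b` only (helper10; names `PROPERLT.*`; the canonical `PROPER.*` is `Cfsg.Agent.Lead.S5704PROPER`): an element of `Ω` outside the tensor product subgroup.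

`g = ρ(u₁⊗w₁, u₁⊗w₂)` with `bf GU u₁ u₃ = 1`, `bf GW w₁ w₃ ≠ 0`, `0 ≠ w₂ ⊥ w₁, w₃` maps the pure tensor `u₃⊗w₃` to
`u₃⊗w₃ + λ u₁⊗w₂`, which is not pure (a `2 × 2` minor computed through the polar form does not vanish). -/

namespace Cfsg.Agent.S5704S

open Matrix Cfsg.Agent.Helper28.Sg

variable {F : Type*} [Field F] {n a b : ℕ}

/-- in dimension `≥ 3` there is a non-zero vector orthogonal to two given ones -/
theorem PROPERLT.exists_perp2 {m : ℕ} (G : Matrix (Fin m) (Fin m) F) (hm : 3 ≤ m) (x y : Fin m → F) :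
    ∃ z : Fin m → F, z ≠ 0 ∧ bf G x z = 0 ∧ bf G y z = 0 := by
  classical
  set N : Matrix (Fin 2) (Fin m) F := Matrix.of ![Matrix.vecMul x G, Matrix.vecMul y G] with hN
  have hninj : ¬ Function.Injective (Matrix.mulVecLin N) := by
    intro hinj
    have h := LinearMap.finrank_le_finrank_of_injective hinj
    rw [Module.finrank_fintype_fun_eq_card, Module.finrank_fintype_fun_eq_card, Fintype.card_fin,
      Fintype.card_fin] at h
    omega
  rw [injective_iff_map_eq_zero] at hninj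
  push Not at hninj
  obtain ⟨z, hz, hz0⟩ := hninj
  refine ⟨z, hz0, ?_, ?_⟩
  · have := congrFun hz 0
    rw [Matrix.mulVecLin_apply] at this
    unfold bf
    rw [Matrix.dotProduct_mulVec]
    simpa [hN, Matrix.mulVec] using this
  · have := congrFun hz 1
    rw [Matrix.mulVecLin_apply] at this
    unfold bf
    rw [Matrix.dotProduct_mulVec]
    simpa [hN, Matrix.mulVec] using this

/-- PROPER, general `P`: an element of `Ω` that is not in the tensor product subgroup. -/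
theorem PROPERLT.main [Fintype F] {Q : QuadraticForm F (Fin n → F)}
    (hQ : (QuadraticMap.polarBilin Q).Nondegenerate) (hn : 8 ≤ n)
    {e : Fin n ≃ Fin a × Fin b} (P : GL (Fin n) F)
    {GU : Matrix (Fin a) (Fin a) F} {GW : Matrix (Fin b) (Fin b) F}
    (hT : TData Q e (P : Matrix (Fin n) (Fin n) F) GU GW) (hab : a < b) :
    ∃ g : GL (Fin n) F, g ∈ Cfsg.Geo.omegaGL ⇑Q ∧ g ∉ Cfsg.Geo.tensorProductSubgroup a b e P := by
  classical
  -- dimensions
  have hcard : n = a * b := by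
    have := Fintype.card_congr e
    rwa [Fintype.card_fin, Fintype.card_prod, Fintype.card_fin, Fintype.card_fin] at this
  have ha0 : a ≠ 0 := by
    rintro rfl
    rw [zero_mul] at hcard
    omega
  -- `u₁`, `u₃`
  set u₁ : Fin a → F := Pi.single ⟨0, Nat.pos_of_ne_zero ha0⟩ 1 with hu₁
  have hu₁0 : u₁ ≠ 0 := by
    intro h
    have := congrFun h ⟨0, Nat.pos_of_ne_zero ha0⟩
    rw [hu₁, Pi.single_eq_same, Pi.zero_apply] at this
    exact one_ne_zero this
  obtain ⟨u₃, hu13⟩ := EX.one hT.sympU hu₁0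
  have ha2 : 2 ≤ a := by
    by_contra hlt
    have ha1 : a = 1 := by omega
    subst ha1
    have hu3 : u₃ = (u₃ 0) • u₁ := by
      funext i
      have hi : i = 0 := Subsingleton.elim _ _
      subst hi
      rw [Pi.smul_apply, hu₁, smul_eq_mul]
      have : (⟨0, Nat.pos_of_ne_zero ha0⟩ : Fin 1) = 0 := Subsingleton.elim _ _
      rw [this, Pi.single_eq_same, mul_one]
    rw [hu3, bf_smul_right, hT.sympU.alt, mul_zero] at hu13
    exact zero_ne_one hu13
  have hb3 : 3 ≤ b := by omega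
  -- `w₃`, `w₁`, `w₂`
  set w₃ : Fin b → F := Pi.single ⟨0, by omega⟩ 1 with hw₃
  have hw₃0 : w₃ ≠ 0 := by
    intro h
    have := congrFun h ⟨0, by omega⟩
    rw [hw₃, Pi.single_eq_same, Pi.zero_apply] at this
    exact one_ne_zero this
  obtain ⟨w₁, hw31⟩ := EX.one hT.sympW hw₃0
  have hw13 : bf GW w₁ w₃ = -1 := by rw [hT.sympW.skew, hw31]
  obtain ⟨w₂, hw₂0, hw12, hw32⟩ := PROPERLT.exists_perp2 GW hb3 w₁ w₃
  have hw23 : bf GW w₂ w₃ = 0 := hT.sympW.eq_zero_symm hw32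
  obtain ⟨q', hq'⟩ := EX.one hT.sympW hw₂0
  have hq'2 : bf GW q' w₂ = -1 := by rw [hT.sympW.skew, hq']
  have hu31 : bf GU u₃ u₁ = -1 := by rw [hT.sympU.skew, hu13]
  -- the Siegel element
  set x : Fin n → F := pt e (P : Matrix (Fin n) (Fin n) F) u₁ w₁ with hx
  set v : Fin n → F := pt e (P : Matrix (Fin n) (Fin n) F) u₁ w₂ with hv
  set z : Fin n → F := pt e (P : Matrix (Fin n) (Fin n) F) u₃ w₃ with hz
  have hQx : Q x = 0 := hT.sing u₁ w₁
  have hQv : Q v = 0 := hT.sing u₁ w₂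
  have hxv : B Q x v = 0 := by
    show QuadraticMap.polar ⇑Q x v = 0
    rw [hx, hv, hT.pol, hT.sympU.alt, zero_mul]
  have hxz : B Q x z = -1 := by
    show QuadraticMap.polar ⇑Q x z = -1
    rw [hx, hz, hT.pol, hu13, hw13, one_mul]
  have hvz : B Q v z = 0 := by
    show QuadraticMap.polar ⇑Q v z = 0
    rw [hv, hz, hT.pol, hw23, mul_zero]
  set h : ↥(Cfsg.isometryGroup F ⇑Q) := siegO Q x v hQx hxv with hh
  have hhz : mt Q h *ᵥ z = z - v := by
    rw [hh, siegO_mulVec, hxz, hvz, hQv]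
    simp only [neg_smul, one_smul, zero_smul, zero_mul, sub_zero]
    abel
  have hcardn : 8 ≤ Fintype.card (Fin n) := by rw [Fintype.card_fin]; exact hn
  obtain ⟨fr⟩ := Cfsg.Agent.Helper28.OM.exists_frame3 hQ hcardn
  refine ⟨(h : GL (Fin n) F), ?_, ?_⟩
  · exact (Cfsg.Agent.Helper28.NM.mem_omegaGL_iff Q _).mpr
      ⟨h, S_le_Omega hQ fr (siegO_mem_S Q x v hQx hxv), rfl⟩
  · intro hmem
    obtain ⟨A, Bm, hAB⟩ := (MEMT.main e P (h : GL (Fin n) F)).mp hmem
    have hpure := hAB u₃ w₃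
    set a' := (A : Matrix (Fin a) (Fin a) F) *ᵥ u₃ with ha'
    set b' := (Bm : Matrix (Fin b) (Fin b) F) *ᵥ w₃ with hb'
    have hT' : pt e (P : Matrix (Fin n) (Fin n) F) a' b' = z - v := by
      rw [← hpure]; exact hhz
    -- the polar form against pure tensors
    have key : ∀ p q, bf GU p a' * bf GW q b' =
        bf GU p u₃ * bf GW q w₃ - bf GU p u₁ * bf GW q w₂ := by
      intro p q
      have h1 := hT.pol p q a' b'
      rw [hT', QuadraticMap.polar_sub_right, hz, hv, hT.pol, hT.pol] at h1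
      exact h1.symm
    have k1 := key u₁ w₁
    have k2 := key u₃ q'
    have k3 := key u₁ q'
    have k4 := key u₃ w₁
    rw [hu13, hw13, hT.sympU.alt, zero_mul, sub_zero] at k1
    rw [hT.sympU.alt, zero_mul, zero_sub, hu31, hq'2] at k2
    rw [hu13, hT.sympU.alt, zero_mul, sub_zero, one_mul] at k3
    rw [hT.sympU.alt, zero_mul, zero_sub, hu31, hw12, mul_zero, neg_zero] at k4
    -- k1 : bf GU u₁ a' * bf GW w₁ b' = 1 * -1 ; k2 : bf GU u₃ a' * bf GW q' b' = -(-1 * -1)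
    -- k3 : bf GU u₁ a' * bf GW q' b' = bf GW q' w₃ ; k4 : bf GU u₃ a' * bf GW w₁ b' = 0
    have hprod : (bf GU u₁ a' * bf GW w₁ b') * (bf GU u₃ a' * bf GW q' b') =
        (bf GU u₁ a' * bf GW q' b') * (bf GU u₃ a' * bf GW w₁ b') := by ring
    rw [k1, k2, k4, mul_zero] at hprod
    norm_num at hprod

/-- PROPER in the standard position `P = 1`: an element of `Ω` that is not a Kronecker product. -/
theorem PROPERLT.main_one [Fintype F] {Q : QuadraticForm F (Fin n → F)}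
    (hQ : (QuadraticMap.polarBilin Q).Nondegenerate) (hn : 8 ≤ n)
    {e : Fin n ≃ Fin a × Fin b}
    {GU : Matrix (Fin a) (Fin a) F} {GW : Matrix (Fin b) (Fin b) F}
    (hT : TData Q e (1 : Matrix (Fin n) (Fin n) F) GU GW) (hab : a < b) :
    ∃ g : GL (Fin n) F, g ∈ Cfsg.Geo.omegaGL ⇑Q ∧ g ∉ Cfsg.Agent.S5637P.Kr e := by
  obtain ⟨g, hg, hgK⟩ := PROPERLT.main hQ hn (1 : GL (Fin n) F) (e := e) hT hab
  refine ⟨g, hg, fun hK => hgK ?_⟩
  rw [Cfsg.Agent.S5637P.mem_tensor_iff]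
  simpa using hK

/-- the same under the name announced by lead (`Cfsg.Agent.Lead.S5704PROPER` was removed from main) -/
theorem PROPER.main [Fintype F] {Q : QuadraticForm F (Fin n → F)}
    (hQ : (QuadraticMap.polarBilin Q).Nondegenerate) (hn : 8 ≤ n)
    {e : Fin n ≃ Fin a × Fin b} (P : GL (Fin n) F)
    {GU : Matrix (Fin a) (Fin a) F} {GW : Matrix (Fin b) (Fin b) F}
    (hT : TData Q e (P : Matrix (Fin n) (Fin n) F) GU GW) (hab : a < b) :
    ∃ g : GL (Fin n) F, g ∈ Cfsg.Geo.omegaGL ⇑Q ∧ g ∉ Cfsg.Geo.tensorProductSubgroup a b e P :=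
  PROPERLT.main hQ hn P hT hab

theorem PROPER.main_one [Fintype F] {Q : QuadraticForm F (Fin n → F)}
    (hQ : (QuadraticMap.polarBilin Q).Nondegenerate) (hn : 8 ≤ n)
    {e : Fin n ≃ Fin a × Fin b}
    {GU : Matrix (Fin a) (Fin a) F} {GW : Matrix (Fin b) (Fin b) F}
    (hT : TData Q e (1 : Matrix (Fin n) (Fin n) F) GU GW) (hab : a < b) :
    ∃ g : GL (Fin n) F, g ∈ Cfsg.Geo.omegaGL ⇑Q ∧ g ∉ Cfsg.Agent.S5637P.Kr e :=
  PROPERLT.main_one hQ hn hT hab

end Cfsg.Agent.S5704S
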