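import Mathlib
import Cfsg.Prelude.Def_GeometricClasses
import Cfsg.Agent.Helper24.S5704.Defs
import Cfsg.Agent.Helper17.S5704.STDefs
import Cfsg.Agent.Helper24.S5637TAUMAT

set_option autoImplicit false
set_option linter.unusedSectionVars false
set_option linter.unusedVariables false

/-! # S5704, chapter STAR', piece STTAU (hedge by helper10): port of S5637 TAUMAT with the relation restricted to `K_z`. -/

namespace Cfsg.Agent.S5704P

open Matrix Cfsg.Agent.S5637P Cfsg.Agent.S5704S Cfsg.Agent.S5634P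

variable {F : Type*} [Field F] {n a b : ℕ} (e : Fin n ≃ Fin a × Fin b)

namespace STTAU

/-- the linear relation, restricted to `K_z` -/
def Gam (GW : Matrix (Fin b) (Fin b) F) (z : Fin b → F) (y : GL (Fin n) F) (α : GL (Fin a) F)
    (ψ ψ' : Fin b → F) : Prop :=
  ∀ x : Fin n → F, cps e (psi GW z) x = 0 →
    (α : Matrix (Fin a) (Fin a) F) *ᵥ cps e ψ x = cps e ψ' ((y : Matrix (Fin n) (Fin n) F) *ᵥ x)

variable {GW : Matrix (Fin b) (Fin b) F} {z : Fin b → F} (y : GL (Fin n) F) (α : GL (Fin a) F)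

theorem Gam_zero : Gam e GW z y α 0 0 := by
  intro x _
  rw [cps_zero, cps_zero, Matrix.mulVec_zero]

theorem Gam_add {ψ₁ ψ₁' ψ₂ ψ₂' : Fin b → F}
    (h1 : Gam e GW z y α ψ₁ ψ₁') (h2 : Gam e GW z y α ψ₂ ψ₂') :
    Gam e GW z y α (ψ₁ + ψ₂) (ψ₁' + ψ₂') := by
  intro x hx
  rw [cps_add, cps_add, Matrix.mulVec_add, h1 x hx, h2 x hx]

theorem Gam_smul (c : F) {ψ ψ' : Fin b → F}
    (h : Gam e GW z y α ψ ψ') : Gam e GW z y α (c • ψ) (c • ψ') := by
  intro x hx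
  rw [cps_smul, cps_smul, Matrix.mulVec_smul, h x hx]

theorem Gam_sub {ψ₁ ψ₁' ψ₂ ψ₂' : Fin b → F}
    (h1 : Gam e GW z y α ψ₁ ψ₁') (h2 : Gam e GW z y α ψ₂ ψ₂') :
    Gam e GW z y α (ψ₁ - ψ₂) (ψ₁' - ψ₂') := by
  have := Gam_add e y α h1 (Gam_smul e y α (-1) h2)
  simpa [sub_eq_add_neg] using this

theorem Gam_sum {ι : Type*} (s : Finset ι) (c : ι → F)
    (ψ ψ' : ι → Fin b → F) (h : ∀ i ∈ s, Gam e GW z y α (ψ i) (ψ' i)) :
    Gam e GW z y α (∑ i ∈ s, c i • ψ i) (∑ i ∈ s, c i • ψ' i) := by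
  classical
  induction s using Finset.induction_on with
  | empty => simpa using Gam_zero e y α
  | insert i s hi ih =>
    rw [Finset.sum_insert hi, Finset.sum_insert hi]
    exact Gam_add e y α (Gam_smul e y α (c i) (h i (Finset.mem_insert_self i s)))
      (ih (fun k hk => h k (Finset.mem_insert_of_mem hk)))

theorem Gam_psi_left : Gam e GW z y α (psi GW z) 0 := by
  intro x hx
  rw [hx, cps_zero, Matrix.mulVec_zero]

theorem Gam_psi_right
    (hyK : ∀ x : Fin n → F, cps e (psi GW z) x = 0 →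
      cps e (psi GW z) ((y : Matrix (Fin n) (Fin n) F) *ᵥ x) = 0) :
    Gam e GW z y α 0 (psi GW z) := by
  intro x hx
  rw [cps_zero, Matrix.mulVec_zero, hyK x hx]

theorem psi_ne_zero (hW : IsSymp GW) (hz : z ≠ 0) : psi GW z ≠ 0 := by
  intro h
  apply hz
  apply hW.nondeg
  intro w
  rw [hW.skew, ← psi_dot, h, zero_dotProduct, neg_zero]

/-- a functional vanishing on `K_z`-tensors is a multiple of `ψ_z` -/
theorem eq_smul_psi (hW : IsSymp GW) (ha : 1 ≤ a) (hz : z ≠ 0) (χ : Fin b → F)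
    (h : ∀ x : Fin n → F, cps e (psi GW z) x = 0 → cps e χ x = 0) :
    ∃ t : F, χ = t • psi GW z := by
  classical
  obtain ⟨c, hc⟩ := TAUMAT.exists_dot_eq_one (psi_ne_zero hW hz)
  rw [dotProduct_comm] at hc
  -- `χ` vanishes on the kernel of `ψ_z`
  have hker : ∀ w : Fin b → F, psi GW z ⬝ᵥ w = 0 → χ ⬝ᵥ w = 0 := by
    intro w hw
    have h1 := h (tn e (Pi.single (⟨0, by omega⟩ : Fin a) 1) w) (by rw [cps_tn, hw, zero_smul])
    rw [cps_tn] at h1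
    have h2 := congrFun h1 (⟨0, by omega⟩ : Fin a)
    simpa using h2
  refine ⟨χ ⬝ᵥ c, ?_⟩
  funext j
  have h1 := hker ((Pi.single j 1 : Fin b → F) - (psi GW z j) • c) (by
    rw [dotProduct_sub, dotProduct_single, mul_one, dotProduct_smul, hc, smul_eq_mul, mul_one, sub_self])
  rw [dotProduct_sub, dotProduct_single, mul_one, dotProduct_smul, smul_eq_mul] at h1
  rw [Pi.smul_apply, smul_eq_mul]
  linear_combination h1

theorem Gam_inj_left (hW : IsSymp GW) (ha : 1 ≤ a) (hz : z ≠ 0) {ψ : Fin b → F}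
    (h : Gam e GW z y α ψ 0) : ∃ t : F, ψ = t • psi GW z := by
  apply eq_smul_psi e hW ha hz
  intro x hx
  have h1 := h x hx
  rw [cps_zero] at h1
  have h2 := congrArg (fun v => ((α⁻¹ : GL (Fin a) F) : Matrix (Fin a) (Fin a) F) *ᵥ v) h1
  simpa only [Matrix.mulVec_mulVec, ← Units.val_mul, inv_mul_cancel, Units.val_one,
    Matrix.one_mulVec, Matrix.mulVec_zero] using h2

theorem Gam_inj_right (hW : IsSymp GW) (ha : 1 ≤ a) (hz : z ≠ 0)
    (hyK' : ∀ x : Fin n → F, cps e (psi GW z) x = 0 →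
      cps e (psi GW z) (((y⁻¹ : GL (Fin n) F) : Matrix (Fin n) (Fin n) F) *ᵥ x) = 0)
    {ψ' : Fin b → F} (h : Gam e GW z y α 0 ψ') : ∃ t : F, ψ' = t • psi GW z := by
  apply eq_smul_psi e hW ha hz
  intro x hx
  have h1 := h _ (hyK' x hx)
  rw [cps_zero, Matrix.mulVec_zero, Matrix.mulVec_mulVec, ← Units.val_mul, mul_inv_cancel,
    Units.val_one, Matrix.one_mulVec] at h1
  exact h1.symm

end STTAU

open STTAU TAUMAT in
/-- STTAU -/
theorem STTAU {GW : Matrix (Fin b) (Fin b) F} (hW : IsSymp GW) (ha : 1 ≤ a) {z : Fin b → F}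
    (hz : z ≠ 0) (y : GL (Fin n) F) (α : GL (Fin a) F)
    (hyK : ∀ x : Fin n → F, cps e (psi GW z) x = 0 →
      cps e (psi GW z) ((y : Matrix (Fin n) (Fin n) F) *ᵥ x) = 0)
    (hyK' : ∀ x : Fin n → F, cps e (psi GW z) x = 0 →
      cps e (psi GW z) (((y⁻¹ : GL (Fin n) F) : Matrix (Fin n) (Fin n) F) *ᵥ x) = 0)
    (hR : ∀ ψ : Fin b → F, ψ ⬝ᵥ z = 0 → ∃ ψ' : Fin b → F, ψ' ⬝ᵥ z = 0 ∧
      ∀ x : Fin n → F, cps e (psi GW z) x = 0 →
        (α : Matrix (Fin a) (Fin a) F) *ᵥ cps e ψ x =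
          cps e ψ' ((y : Matrix (Fin n) (Fin n) F) *ᵥ x)) :
    ∃ B : GL (Fin b) F, (B : Matrix (Fin b) (Fin b) F) *ᵥ z = z ∧
      psi GW z ᵥ* (B : Matrix (Fin b) (Fin b) F) = psi GW z ∧
      ∀ φ : Fin b → F, φ ⬝ᵥ z = 0 → ∀ x : Fin n → F, cps e (psi GW z) x = 0 →
        cps e φ ((y : Matrix (Fin n) (Fin n) F) *ᵥ x) =
          (α : Matrix (Fin a) (Fin a) F) *ᵥ cps e (φ ᵥ* (B : Matrix (Fin b) (Fin b) F)) x := by
  classical
  obtain ⟨ψ₀, hψ₀⟩ := exists_dot_eq_one hz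
  obtain ⟨c, hc⟩ := exists_dot_eq_one (psi_ne_zero hW hz)
  rw [dotProduct_comm] at hc
  have hψz : psi GW z ⬝ᵥ z = 0 := psi_dot_self hW z
  -- the projections of the basis vectors to `z^⊥`
  have hπ : ∀ j : Fin b, ((Pi.single j 1 : Fin b → F) - z j • ψ₀) ⬝ᵥ z = 0 := by
    intro j
    rw [sub_dotProduct, single_dotProduct, one_mul, smul_dotProduct, hψ₀, smul_eq_mul, mul_one,
      sub_self]
  choose ψ' hψ'z hψ'G using fun j : Fin b => hR _ (hπ j)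
  have hG : ∀ j : Fin b, Gam e GW z y α ((Pi.single j 1 : Fin b → F) - z j • ψ₀) (ψ' j) := hψ'G
  -- the matrix `T₀`
  let T₀ : Matrix (Fin b) (Fin b) F := Matrix.of (fun j => ψ' j + z j • ψ₀)
  have hT₀ : ∀ φ : Fin b → F, φ ᵥ* T₀ = (∑ j, φ j • ψ' j) + (φ ⬝ᵥ z) • ψ₀ := by
    intro φ
    rw [Matrix.vecMul_eq_sum]
    have : ∀ j : Fin b, φ j • T₀ j = φ j • ψ' j + (φ j * z j) • ψ₀ := by
      intro j
      show φ j • (ψ' j + z j • ψ₀) = _
      rw [smul_add, smul_smul]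
    simp only [this, Finset.sum_add_distrib]
    rw [← Finset.sum_smul]
    rfl
  have hT₀a : ∀ φ : Fin b → F, (φ ᵥ* T₀) ⬝ᵥ z = φ ⬝ᵥ z := by
    intro φ
    rw [hT₀, add_dotProduct, smul_dotProduct, hψ₀, smul_eq_mul, mul_one, sum_dotProduct]
    have : ∀ j ∈ Finset.univ, (φ j • ψ' j) ⬝ᵥ z = 0 := by
      intro j _
      rw [smul_dotProduct, hψ'z, smul_zero]
    rw [Finset.sum_eq_zero this, zero_add]
  have hT₀b : ∀ φ : Fin b → F, φ ⬝ᵥ z = 0 → Gam e GW z y α φ (φ ᵥ* T₀) := by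
    intro φ hφ
    have h1 : φ = ∑ j, φ j • ((Pi.single j 1 : Fin b → F) - z j • ψ₀) := by
      have h2 : ∀ j : Fin b, φ j • ((Pi.single j 1 : Fin b → F) - z j • ψ₀) =
          φ j • (Pi.single j 1 : Fin b → F) - (φ j * z j) • ψ₀ := by
        intro j
        rw [smul_sub, smul_smul]
      simp only [h2, Finset.sum_sub_distrib]
      rw [← Finset.sum_smul]
      have h3 : ∑ j, φ j * z j = φ ⬝ᵥ z := rfl
      rw [h3, hφ, zero_smul, sub_zero]
      funext i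
      simp [Finset.sum_apply, Pi.single_apply]
    have h4 : φ ᵥ* T₀ = ∑ j, φ j • ψ' j := by rw [hT₀, hφ, zero_smul, add_zero]
    rw [h4]
    conv_lhs => rw [h1]
    exact Gam_sum e y α Finset.univ φ _ ψ' (fun j _ => hG j)
  -- `ψ_z ᵥ* T₀ = κ ψ_z`
  obtain ⟨κ, hκ⟩ : ∃ κ : F, psi GW z ᵥ* T₀ = κ • psi GW z := by
    have h1 := hT₀b (psi GW z) hψz
    have h2 := Gam_sub e y α h1 (Gam_psi_left e y α (GW := GW) (z := z))
    rw [sub_self, sub_zero] at h2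
    exact Gam_inj_right e y α hW ha hz hyK' h2
  -- the corrected matrix `T`
  let T : Matrix (Fin b) (Fin b) F := T₀ + (1 - κ) • Matrix.vecMulVec c (psi GW z)
  have hT : ∀ φ : Fin b → F, φ ᵥ* T = φ ᵥ* T₀ + ((1 - κ) * (φ ⬝ᵥ c)) • psi GW z := by
    intro φ
    show φ ᵥ* (T₀ + (1 - κ) • Matrix.vecMulVec c (psi GW z)) = _
    rw [Matrix.vecMul_add, Matrix.vecMul_smul, Matrix.vecMul_vecMulVec, smul_smul]
  have hTa : ∀ φ : Fin b → F, (φ ᵥ* T) ⬝ᵥ z = φ ⬝ᵥ z := by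
    intro φ
    rw [hT, add_dotProduct, hT₀a, smul_dotProduct, hψz, smul_zero, add_zero]
  have hTb : ∀ φ : Fin b → F, φ ⬝ᵥ z = 0 → Gam e GW z y α φ (φ ᵥ* T) := by
    intro φ hφ
    have h1 := Gam_add e y α (hT₀b φ hφ)
      (Gam_smul e y α ((1 - κ) * (φ ⬝ᵥ c)) (Gam_psi_right e y α hyK))
    rw [smul_zero, add_zero] at h1
    rw [hT]
    exact h1
  have hTψ : psi GW z ᵥ* T = psi GW z := by
    rw [hT, hκ, hc, mul_one, ← add_smul]
    have : κ + (1 - κ) = 1 := by ring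
    rw [this, one_smul]
  -- `T` is invertible
  have hinj : Function.Injective T.vecMul := by
    intro φ₁ φ₂ h12
    have h0 : (φ₁ - φ₂) ᵥ* T = 0 := by
      rw [Matrix.sub_vecMul]
      exact sub_eq_zero.mpr h12
    have h1 : (φ₁ - φ₂) ⬝ᵥ z = 0 := by
      rw [← hTa, h0, zero_dotProduct]
    have h2 := hTb _ h1
    rw [h0] at h2
    obtain ⟨t, ht⟩ := Gam_inj_left e y α hW ha hz h2
    rw [ht, Matrix.smul_vecMul, hTψ] at h0
    rcases smul_eq_zero.mp h0 with h3 | h3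
    · rw [h3, zero_smul] at ht
      exact sub_eq_zero.mp ht
    · exact absurd h3 (psi_ne_zero hW hz)
  have hunit : IsUnit T := Matrix.vecMul_injective_iff_isUnit.mp hinj
  let Tu : GL (Fin b) F := hunit.unit
  have hTu : (Tu : Matrix (Fin b) (Fin b) F) = T := hunit.unit_spec
  have hBT : ∀ φ : Fin b → F,
      (φ ᵥ* ((Tu⁻¹ : GL (Fin b) F) : Matrix (Fin b) (Fin b) F)) ᵥ* T = φ := by
    intro φ
    rw [Matrix.vecMul_vecMul, ← hTu, ← Units.val_mul, inv_mul_cancel, Units.val_one,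
      Matrix.vecMul_one]
  have hTB : ∀ φ : Fin b → F,
      (φ ᵥ* T) ᵥ* ((Tu⁻¹ : GL (Fin b) F) : Matrix (Fin b) (Fin b) F) = φ := by
    intro φ
    rw [Matrix.vecMul_vecMul, ← hTu, ← Units.val_mul, mul_inv_cancel, Units.val_one,
      Matrix.vecMul_one]
  refine ⟨Tu⁻¹, ?_, ?_, ?_⟩
  · funext i
    have h1 : (Pi.single i 1 : Fin b → F) ⬝ᵥ
        (((Tu⁻¹ : GL (Fin b) F) : Matrix (Fin b) (Fin b) F) *ᵥ z) =
        (Pi.single i 1 : Fin b → F) ⬝ᵥ z := by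
      rw [Matrix.dotProduct_mulVec, ← hTa, hBT]
    rwa [single_dotProduct, single_dotProduct, one_mul, one_mul] at h1
  · have := hTB (psi GW z)
    rwa [hTψ] at this
  · intro φ hφ x hx
    have h1 : (φ ᵥ* ((Tu⁻¹ : GL (Fin b) F) : Matrix (Fin b) (Fin b) F)) ⬝ᵥ z = 0 := by
      rw [← hTa, hBT, hφ]
    have h2 := hTb _ h1
    rw [hBT] at h2
    exact (h2 x hx).symm

end Cfsg.Agent.S5704P
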