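import Mathlib
import Cfsg.Agent.Helper28.S5704SDefs
import Cfsg.Agent.Helper28.TensDecomp
import Cfsg.Agent.Helper28.NonMax

set_option autoImplicit false
set_option linter.unusedSectionVars false
set_option linter.unusedVariables false

/-! # S5704: bridge from the hypotheses of the frozen statement to `TData` (helper10)

`TDATA.of_frozen`: the hypotheses `hf₁ hf₂ hT hpure` of the frozen S5704 give the tensor data of the SPREAD chapter for
`GU = c • gramMatrix f₁`, `GW = gramMatrix f₂` (`c` the similarity constant), together with the dictionary `bf GU = c * f₁`, `bf GW = f₂`. -/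

namespace Cfsg.Agent.S5704S

open Matrix Cfsg.Agent.Helper28.Sg

variable {F : Type*} [Field F] {n n₁ n₂ : ℕ}

/-- `bf` of a Gram matrix is the form -/
theorem TDATA.bf_gram {m : ℕ} {f : (Fin m → F) → (Fin m → F) → F} (hf : Cfsg.Geo.IsBilinearForm f)
    (x y : Fin m → F) : bf (Cfsg.Geo.gramMatrix f) x y = f x y := by
  rw [Cfsg.Agent.Helper28.TD.bilin_eq_gram hf]
  unfold bf
  simp only [dotProduct, mulVec, Finset.mul_sum]
  apply Finset.sum_congr rfl
  intro a _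
  apply Finset.sum_congr rfl
  intro b _
  ring

theorem TDATA.bf_smul_gram {m : ℕ} {f : (Fin m → F) → (Fin m → F) → F} (hf : Cfsg.Geo.IsBilinearForm f)
    (c : F) (x y : Fin m → F) : bf (c • Cfsg.Geo.gramMatrix f) x y = c * f x y := by
  rw [← TDATA.bf_gram hf]
  unfold bf
  rw [smul_mulVec, dotProduct_smul, smul_eq_mul]

theorem TDATA.isSymp_gram {m : ℕ} {f : (Fin m → F) → (Fin m → F) → F} (hf : Cfsg.Geo.IsSymplecticForm f)
    {c : F} (hc : c ≠ 0) : IsSymp (c • Cfsg.Geo.gramMatrix f) := by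
  constructor
  · intro x
    rw [TDATA.bf_smul_gram hf.bilinear, hf.alternating, mul_zero]
  · intro x hx
    by_contra hx0
    obtain ⟨-, y, hy⟩ := hf.nondegenerate x hx0
    have := hx y
    rw [TDATA.bf_smul_gram hf.bilinear] at this
    rcases mul_eq_zero.mp this with h | h
    · exact hc h
    · exact hy h

theorem TDATA.tn_eq (e : Fin n ≃ Fin n₁ × Fin n₂) (u : Fin n₁ → F) (w : Fin n₂ → F) :
    Cfsg.Agent.S5637P.tn e u w = (Cfsg.Agent.Helper28.TD.ten u w) ∘ e := rfl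

/-- the bridge: frozen hypotheses of S5704 ⟹ `TData` -/
theorem TDATA.of_frozen (Q : (Fin n → F) → F) (hQ : Cfsg.Geo.IsNondegenerateQuadraticForm Q)
    (e : Fin n ≃ Fin n₁ × Fin n₂) (P : Matrix.GeneralLinearGroup (Fin n) F)
    (f₁ : (Fin n₁ → F) → (Fin n₁ → F) → F) (f₂ : (Fin n₂ → F) → (Fin n₂ → F) → F)
    (hf₁ : Cfsg.Geo.IsSymplecticForm f₁) (hf₂ : Cfsg.Geo.IsSymplecticForm f₂)
    (hT : Cfsg.Geo.IsTensorFormStructure id (QuadraticMap.polar Q) f₁ f₂ e P)
    (hpure : ∀ (x₁ : Fin n₁ → F) (x₂ : Fin n₂ → F),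
      Q (Matrix.mulVec (P : Matrix (Fin n) (Fin n) F) ((fun a : Fin n₁ × Fin n₂ => x₁ a.1 * x₂ a.2) ∘ e)) = 0) :
    ∃ c : F, c ≠ 0 ∧
      TData (Cfsg.Agent.Helper28.NM.ofFun Q hQ) e (P : Matrix (Fin n) (Fin n) F)
        (c • Cfsg.Geo.gramMatrix f₁) (Cfsg.Geo.gramMatrix f₂) ∧
      (∀ u u', bf (c • Cfsg.Geo.gramMatrix f₁) u u' = c * f₁ u u') ∧
      (∀ w w', bf (Cfsg.Geo.gramMatrix f₂) w w' = f₂ w w') := by
  obtain ⟨c, hc, hform⟩ := hT
  refine ⟨c, hc, ?_, TDATA.bf_smul_gram hf₁.bilinear c, TDATA.bf_gram hf₂.bilinear⟩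
  refine ⟨?_, TDATA.isSymp_gram hf₁ hc, ?_, ?_, ?_⟩
  · exact ⟨P, rfl⟩
  · have := TDATA.isSymp_gram hf₂ (one_ne_zero (α := F))
    rwa [one_smul] at this
  · intro u w
    exact hpure u w
  · intro u w u' w'
    show QuadraticMap.polar Q (pt e _ u w) (pt e _ u' w') = _
    unfold pt
    rw [TDATA.tn_eq, TDATA.tn_eq, hform, Cfsg.Agent.Helper28.TD.formOfGram_ten hf₁.bilinear hf₂.bilinear,
      TDATA.bf_smul_gram hf₁.bilinear, TDATA.bf_gram hf₂.bilinear]
    ring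

end Cfsg.Agent.S5704S
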