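import Mathlib
import Cfsg.Prelude.Def_GeometricClasses
import Cfsg.Agent.Helper18.S5707.Defs
import Cfsg.Agent.Helper20.S5707TENS
import Cfsg.Agent.Helper19.S5707PERM
import Cfsg.Agent.Helper23.S5707RANK1

/-! S5707 piece SIMIL (helper10): the local factors of an isometry in normal form are similitudes. -/

set_option autoImplicit false

namespace Cfsg.Agent.S5707P

open Matrix

variable {F : Type*} [Field F] {k t : ℕ}

/-- (inlined copy of piece GRAM, so that SIMIL does not wait for it) -/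
theorem SIMIL.gram_aux {G : Matrix (Fin k) (Fin k) F} {c : F} {Q : (X k t → F) → F} (hQ : StdQ G c Q)
    (g : GL (X k t) F) (hg : g ∈ Cfsg.isometryGroup F Q) :
    (g : Matrix (X k t) (X k t) F)ᵀ * (c • tensM (fun _ : Fin t => G)) * (g : Matrix (X k t) (X k t) F) =
      c • tensM (fun _ : Fin t => G) := by
  have hiso : ∀ u, Q ((g : Matrix (X k t) (X k t) F) *ᵥ u) = Q u := fun u => hg u u
  have hpol : ∀ u v, QuadraticMap.polar Q ((g : Matrix (X k t) (X k t) F) *ᵥ u)
      ((g : Matrix (X k t) (X k t) F) *ᵥ v) = QuadraticMap.polar Q u v := by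
    intro u v
    unfold QuadraticMap.polar
    rw [← Matrix.mulVec_add, hiso, hiso, hiso]
  ext x y
  have h := hpol (Pi.single x 1) (Pi.single y 1)
  rw [hQ.polar, hQ.polar] at h
  have hR : ∑ a, ∑ b, (Pi.single x (1 : F) : X k t → F) a * (∏ i, G (a i) (b i)) *
      (Pi.single y (1 : F) : X k t → F) b = ∏ i, G (x i) (y i) := by
    rw [Finset.sum_eq_single x, Finset.sum_eq_single y]
    · simp
    · intro b _ hb
      simp [hb]
    · intro h'; exact absurd (Finset.mem_univ _) h'
    · intro a _ ha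
      apply Finset.sum_eq_zero
      intro b _
      simp [Pi.single_apply, ha]
    · intro h'; exact absurd (Finset.mem_univ _) h'
  rw [hR] at h
  rw [Matrix.mul_apply]
  simp only [Matrix.mul_apply, Matrix.transpose_apply, Matrix.smul_apply, smul_eq_mul, tensM]
  rw [← h]
  simp only [Matrix.mulVec_single_one, Matrix.col_apply, Finset.mul_sum, Finset.sum_mul]
  rw [Finset.sum_comm]
  apply Finset.sum_congr rfl
  intro a _
  apply Finset.sum_congr rfl
  intro b _
  ring

theorem SIMIL.perm_conj_const (G : Matrix (Fin k) (Fin k) F) (σ : Equiv.Perm (Fin t)) :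
    (permM k σ : Matrix (X k t) (X k t) F) * tensM (fun _ : Fin t => G) * permM k σ⁻¹ =
      tensM (fun _ : Fin t => G) := by
  rw [PERM.permM_mul_tensM, Matrix.mul_assoc, PERM.permM_mul, mul_inv_cancel, PERM.permM_one,
    Matrix.mul_one]

theorem SIMIL.perm_cancel (σ : Equiv.Perm (Fin t)) :
    (permM k σ : Matrix (X k t) (X k t) F) * permM k σ⁻¹ = 1 := by
  rw [PERM.permM_mul, mul_inv_cancel, PERM.permM_one]

theorem SIMIL.perm_cancel' (σ : Equiv.Perm (Fin t)) :
    (permM k σ⁻¹ : Matrix (X k t) (X k t) F) * permM k σ = 1 := by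
  rw [PERM.permM_mul, inv_mul_cancel, PERM.permM_one]

theorem SIMIL.simil {G : Matrix (Fin k) (Fin k) F} {c : F} {Q : (X k t → F) → F} (hQ : StdQ G c Q)
    (hc : c ≠ 0) (hG : G ≠ 0) (g : GL (X k t) F) (hg : g ∈ Cfsg.isometryGroup F Q)
    (gs : Fin t → GL (Fin k) F) (σ : Equiv.Perm (Fin t))
    (hnf : (g : Matrix (X k t) (X k t) F) =
      tensM (fun i => ((gs i : GL (Fin k) F) : Matrix (Fin k) (Fin k) F)) * permM k σ) :
    ∀ i, ∃ lam : F, ((gs i : GL (Fin k) F) : Matrix (Fin k) (Fin k) F)ᵀ * G *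
      ((gs i : GL (Fin k) F) : Matrix (Fin k) (Fin k) F) = lam • G := by
  have h := SIMIL.gram_aux hQ g hg
  rw [hnf, Matrix.transpose_mul, TENS.tensM_transpose, PERM.permM_transpose] at h
  -- h : (permM σ⁻¹ * tensM gsᵀ) * (c • T_G) * (tensM gs * permM σ) = c • T_G
  set TG : Matrix (X k t) (X k t) F := tensM (fun _ : Fin t => G) with hTG
  set Tg : Matrix (X k t) (X k t) F :=
    tensM (fun i => ((gs i : GL (Fin k) F) : Matrix (Fin k) (Fin k) F)) with hTg
  set Tgt : Matrix (X k t) (X k t) F :=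
    tensM (fun i => ((gs i : GL (Fin k) F) : Matrix (Fin k) (Fin k) F)ᵀ) with hTgt
  set Pm : Matrix (X k t) (X k t) F := permM k σ with hPm
  set Pi' : Matrix (X k t) (X k t) F := permM k σ⁻¹ with hPi
  have h1 : Pm * Pi' = 1 := SIMIL.perm_cancel σ
  have h2 : Pi' * Pm = 1 := SIMIL.perm_cancel' σ
  have h3 : Pm * TG * Pi' = TG := SIMIL.perm_conj_const G σ
  have h4 : Tgt * (c • TG) * Tg = c • TG := by
    have e1 : Tgt * (c • TG) * Tg = Pm * (Pi' * Tgt * (c • TG) * (Tg * Pm)) * Pi' := by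
      calc Tgt * (c • TG) * Tg = (Pm * Pi') * (Tgt * (c • TG) * Tg) * (Pm * Pi') := by
            rw [h1, Matrix.one_mul, Matrix.mul_one]
        _ = Pm * (Pi' * Tgt * (c • TG) * (Tg * Pm)) * Pi' := by
            simp only [Matrix.mul_assoc]
    rw [e1, h, Matrix.mul_smul, Matrix.smul_mul, h3]
  have h5 : Tgt * TG * Tg =
      tensM (fun i => ((gs i : GL (Fin k) F) : Matrix (Fin k) (Fin k) F)ᵀ * G *
        ((gs i : GL (Fin k) F) : Matrix (Fin k) (Fin k) F)) := by
    rw [hTgt, hTG, hTg, TENS.tensM_mul, TENS.tensM_mul]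
  have h6 : tensM (fun i => ((gs i : GL (Fin k) F) : Matrix (Fin k) (Fin k) F)ᵀ * G *
        ((gs i : GL (Fin k) F) : Matrix (Fin k) (Fin k) F)) = tensM (fun _ : Fin t => G) := by
    rw [← h5]
    rw [Matrix.mul_smul, Matrix.smul_mul] at h4
    exact smul_right_injective _ hc h4
  exact RANK1.unique _ _ h6 (fun _ => hG)

end Cfsg.Agent.S5707P
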