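import Mathlib
import Cfsg.Agent.Helper21.S5950Defs
import Cfsg.Agent.Helper15.S5950KDIM

set_option autoImplicit false

/-! S5950 piece J-TYPE: elementary properties of the Jordan type `JT.jtype` (multiset of block
sizes of a nilpotent endomorphism read off from kernel dimensions). -/

namespace Cfsg.Agent.S5949P

namespace JT

variable {F V V' V₁ V₂ : Type*} [Field F] [AddCommGroup V] [Module F V]
  [AddCommGroup V'] [Module F V'] [AddCommGroup V₁] [Module F V₁] [AddCommGroup V₂] [Module F V₂]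

namespace JTypeAux

theorem cnum_succ_le [FiniteDimensional F V] (N : Module.End F V) {k : ℕ} (hk : 1 ≤ k) :
    cnum N (k + 1) ≤ cnum N k := by
  obtain ⟨j, rfl⟩ : ∃ j, k = j + 1 := ⟨k - 1, by omega⟩
  have h1 := kdim_concave N j
  have h2 := kdim_mono N (show j ≤ j + 1 by omega)
  have h3 := kdim_mono N (show j + 1 ≤ j + 2 by omega)
  unfold cnum
  simp only [Nat.add_sub_cancel]
  have : j + 1 + 1 = j + 2 := rfl
  rw [this]
  omega

theorem cnum_add_kdim [FiniteDimensional F V] (N : Module.End F V) (k : ℕ) :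
    cnum N (k + 1) + kdim N k = kdim N (k + 1) := by
  have h2 := kdim_mono N (show k ≤ k + 1 by omega)
  unfold cnum
  simp only [Nat.add_sub_cancel]
  omega

theorem cnum_prodMap [FiniteDimensional F V₁] [FiniteDimensional F V₂] (N₁ : Module.End F V₁)
    (N₂ : Module.End F V₂) (k : ℕ) :
    cnum (N₁.prodMap N₂) k = cnum N₁ k + cnum N₂ k := by
  have h1 := kdim_mono N₁ (show k - 1 ≤ k by omega)
  have h2 := kdim_mono N₂ (show k - 1 ≤ k by omega)
  unfold cnum
  rw [kdim_prodMap, kdim_prodMap]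
  omega

theorem jmult_prodMap [FiniteDimensional F V₁] [FiniteDimensional F V₂] (N₁ : Module.End F V₁)
    (N₂ : Module.End F V₂) {k : ℕ} (hk : 1 ≤ k) :
    jmult (N₁.prodMap N₂) k = jmult N₁ k + jmult N₂ k := by
  have h1 := cnum_succ_le N₁ hk
  have h2 := cnum_succ_le N₂ hk
  unfold jmult
  rw [cnum_prodMap, cnum_prodMap]
  omega

theorem jtype_succ (B : ℕ) (N : Module.End F V) :
    jtype (B + 1) N = jtype B N + Multiset.replicate (jmult N (B + 1)) (B + 1) := by
  unfold jtype
  rw [Finset.sum_Icc_succ_top (by omega)]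

theorem jtype_zero (N : Module.End F V) : jtype 0 N = 0 := by
  unfold jtype
  simp

theorem mem_jtype {B : ℕ} {N : Module.End F V} {a : ℕ} :
    a ∈ jtype B N ↔ 1 ≤ a ∧ a ≤ B ∧ jmult N a ≠ 0 := by
  unfold jtype
  rw [Multiset.mem_sum]
  constructor
  · rintro ⟨k, hk, hak⟩
    rw [Multiset.mem_replicate] at hak
    obtain ⟨h0, rfl⟩ := hak
    rw [Finset.mem_Icc] at hk
    exact ⟨hk.1, hk.2, h0⟩
  · rintro ⟨h1, h2, h3⟩
    exact ⟨a, Finset.mem_Icc.mpr ⟨h1, h2⟩, Multiset.mem_replicate.mpr ⟨h3, rfl⟩⟩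

theorem jtype_sum_aux [FiniteDimensional F V] (N : Module.End F V) (m : ℕ) :
    (jtype m N).sum + m * cnum N (m + 1) = kdim N m := by
  induction m with
  | zero => simp [jtype_zero, kdim_zero]
  | succ m ih =>
    rw [jtype_succ, Multiset.sum_add, Multiset.sum_replicate, smul_eq_mul]
    have h1 := cnum_succ_le N (show 1 ≤ m + 1 by omega)
    have h2 := cnum_add_kdim N m
    have hj : cnum N (m + 1) = jmult N (m + 1) + cnum N (m + 1 + 1) := by
      unfold jmult
      omega
    set j := jmult N (m + 1)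
    set c1 := cnum N (m + 1)
    set c2 := cnum N (m + 1 + 1)
    set S := (jtype m N).sum
    rw [hj] at ih h2
    have e1 : m * (j + c2) = m * j + m * c2 := by ring
    have e2 : j * (m + 1) = m * j + j := by ring
    have e3 : (m + 1) * c2 = m * c2 + c2 := by ring
    rw [e1] at ih
    rw [e2, e3]
    omega

theorem pow_eq_zero_of_le (N : Module.End F V) {a B : ℕ} (h : a ≤ B) (hN : N ^ a = 0) :
    N ^ B = 0 := by
  obtain ⟨c, rfl⟩ := Nat.exists_eq_add_of_le h
  rw [pow_add, hN, zero_mul]

end JTypeAux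

open JTypeAux

/-- J-TYPE (7 lemmas; uses J-KDIM) -/
theorem jtype_conj (B : ℕ) (e : V ≃ₗ[F] V') (N : Module.End F V) (N' : Module.End F V')
    (h : ∀ v, e (N v) = N' (e v)) : jtype B N' = jtype B N := by
  unfold jtype jmult cnum
  simp only [kdim_conj e N N' h]

theorem jtype_prodMap [FiniteDimensional F V₁] [FiniteDimensional F V₂] (B : ℕ)
    (N₁ : Module.End F V₁) (N₂ : Module.End F V₂) :
    jtype B (N₁.prodMap N₂) = jtype B N₁ + jtype B N₂ := by
  unfold jtype
  rw [← Finset.sum_add_distrib]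
  refine Finset.sum_congr rfl ?_
  intro k hk
  rw [Finset.mem_Icc] at hk
  rw [jmult_prodMap N₁ N₂ hk.1, Multiset.replicate_add]

theorem jtype_isCompl [FiniteDimensional F V] (B : ℕ) (N : Module.End F V) (U W : Submodule F V)
    (h : IsCompl U W) (hU : ∀ v ∈ U, N v ∈ U) (hW : ∀ v ∈ W, N v ∈ W) :
    jtype B N = jtype B (N.restrict hU) + jtype B (N.restrict hW) := by
  rw [← jtype_prodMap]
  refine jtype_conj B (Submodule.prodEquivOfIsCompl U W h) _ N ?_
  rintro ⟨u, w⟩
  rw [Submodule.coe_prodEquivOfIsCompl', Submodule.coe_prodEquivOfIsCompl']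
  simp [LinearMap.restrict_apply]

theorem jtype_sum [FiniteDimensional F V] (B : ℕ) (N : Module.End F V) (hN : N ^ B = 0) :
    (jtype B N).sum = Module.finrank F V := by
  have h := jtype_sum_aux N B
  have h1 : cnum N (B + 1) = 0 := by
    unfold cnum
    rw [kdim_of_pow_eq_zero N hN (show B ≤ B + 1 by omega), Nat.add_sub_cancel,
      kdim_of_pow_eq_zero N hN le_rfl, Nat.sub_self]
  rw [h1, mul_zero, add_zero, kdim_of_pow_eq_zero N hN le_rfl] at h
  exact h

theorem jtype_block [FiniteDimensional F V] (B : ℕ) (N : Module.End F V) (a : ℕ)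
    (ha : Module.finrank F V = a) (ha1 : 1 ≤ a) (haB : a ≤ B) (hN : N ^ a = 0)
    (hN' : N ^ (a - 1) ≠ 0) : jtype B N = {a} := by
  have hNB : N ^ B = 0 := pow_eq_zero_of_le N haB hN
  have hsum := jtype_sum B N hNB
  rw [ha] at hsum
  -- `a` is a member
  have hmem : a ∈ jtype B N := by
    rw [mem_jtype]
    refine ⟨ha1, haB, ?_⟩
    have hlt : kdim N (a - 1) < a := by
      have hlt' : Module.finrank F (LinearMap.ker (N ^ (a - 1))) < Module.finrank F V := by
        apply Submodule.finrank_lt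
        intro htop
        apply hN'
        exact LinearMap.ker_eq_top.mp htop
      rw [ha] at hlt'
      exact hlt'
    have hda : kdim N a = a := by rw [kdim_of_pow_eq_zero N hN le_rfl, ha]
    have hda1 : kdim N (a + 1) = a := by
      rw [kdim_of_pow_eq_zero N hN (show a ≤ a + 1 by omega), ha]
    unfold jmult cnum
    rw [hda, hda1, Nat.add_sub_cancel, hda]
    omega
  obtain ⟨t, ht⟩ := Multiset.exists_cons_of_mem hmem
  have hpos : ∀ b ∈ t, 1 ≤ b := by
    intro b hb
    have : b ∈ jtype B N := by rw [ht]; exact Multiset.mem_cons_of_mem hb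
    exact (mem_jtype.mp this).1
  rw [ht, Multiset.sum_cons] at hsum
  have hts : t.sum = 0 := by omega
  have ht0 : t = 0 := by
    apply Multiset.eq_zero_of_forall_notMem
    intro b hb
    have h1 := hpos b hb
    have h2 := Multiset.le_sum_of_mem hb
    omega
  rw [ht, ht0]
  rfl

theorem jtype_eq_zero_of_subsingleton [Subsingleton V] (B : ℕ) (N : Module.End F V) :
    jtype B N = 0 := by
  have hk : ∀ k, kdim N k = 0 := by
    intro k
    unfold kdim
    exact Module.finrank_zero_of_subsingleton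
  unfold jtype jmult cnum
  simp [hk]

theorem ne_zero_of_mem_jtype [FiniteDimensional F V] (B : ℕ) (N : Module.End F V) (a : ℕ)
    (ha : a ∈ jtype B N) (h2 : 2 ≤ a) : N ≠ 0 := by
  intro h0
  have hN1 : N ^ 1 = 0 := by rw [pow_one, h0]
  have hk : ∀ k, 1 ≤ k → kdim N k = Module.finrank F V := fun k hk =>
    kdim_of_pow_eq_zero N hN1 hk
  obtain ⟨-, -, hj⟩ := mem_jtype.mp ha
  apply hj
  unfold jmult cnum
  rw [hk a (by omega), hk (a - 1) (by omega)]
  omega

end JT

end Cfsg.Agent.S5949P
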