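import Mathlib
import Cfsg.Agent.Helper21.S5950Defs
import Cfsg.Agent.Helper10.S5950JTYPE

set_option autoImplicit false

/-! S5950 piece J-MODEL: a unipotent element of `SL_n(q)` of order `p` with a prescribed Jordan
type (parts at most `p`). -/

namespace Cfsg.Agent.S5949P

namespace JT

open Polynomial

namespace JModelAux

universe u

variable {F : Type u} [Field F]

/-- one Jordan block of size `a`: multiplication by `X` on `F[X] / (X ^ a)` -/
theorem exists_block (B a : ℕ) (ha1 : 1 ≤ a) (haB : a ≤ B) :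
    ∃ (V : Type u) (_ : AddCommGroup V) (_ : Module F V) (_ : FiniteDimensional F V)
      (N : Module.End F V), Module.finrank F V = a ∧ N ^ B = 0 ∧ jtype B N = {a} := by
  have hmon : (X ^ a : F[X]).Monic := monic_X_pow a
  have hdeg : (X ^ a : F[X]).natDegree = a := natDegree_X_pow a
  have : Module.Finite F (AdjoinRoot (X ^ a : F[X])) := hmon.finite_adjoinRoot
  let N : Module.End F (AdjoinRoot (X ^ a : F[X])) :=
    LinearMap.mulLeft F (AdjoinRoot.root (X ^ a : F[X]))
  have hfr : Module.finrank F (AdjoinRoot (X ^ a : F[X])) = a := by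
    rw [(AdjoinRoot.powerBasis' hmon).finrank, AdjoinRoot.powerBasis'_dim, hdeg]
  have hpow : ∀ k, N ^ k = LinearMap.mulLeft F ((AdjoinRoot.root (X ^ a : F[X])) ^ k) :=
    fun k => LinearMap.pow_mulLeft F _ _ k
  have hroot : ∀ k, (AdjoinRoot.root (X ^ a : F[X])) ^ k = AdjoinRoot.mk (X ^ a : F[X]) (X ^ k) := by
    intro k
    rw [map_pow, AdjoinRoot.mk_X]
  have hNa : N ^ a = 0 := by
    rw [hpow, hroot, AdjoinRoot.mk_self]
    ext x
    simp
  have hNa' : N ^ (a - 1) ≠ 0 := by
    intro h0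
    have h1 : (N ^ (a - 1)) 1 = 0 := by rw [h0]; rfl
    rw [hpow, hroot, LinearMap.mulLeft_apply, mul_one] at h1
    refine AdjoinRoot.mk_ne_zero_of_natDegree_lt hmon (g := X ^ (a - 1)) ?_ ?_ h1
    · exact pow_ne_zero _ X_ne_zero
    · rw [natDegree_X_pow, natDegree_X_pow]
      omega
  refine ⟨AdjoinRoot (X ^ a : F[X]), inferInstance, inferInstance, inferInstance, N, hfr,
    JTypeAux.pow_eq_zero_of_le N haB hNa, jtype_block B N a hfr ha1 haB hNa hNa'⟩

theorem prodMap_pow {V₁ V₂ : Type*} [AddCommGroup V₁] [Module F V₁] [AddCommGroup V₂]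
    [Module F V₂] (N₁ : Module.End F V₁) (N₂ : Module.End F V₂) (k : ℕ) :
    (N₁.prodMap N₂) ^ k = (N₁ ^ k).prodMap (N₂ ^ k) := by
  induction k with
  | zero => simp
  | succ k ih => rw [pow_succ, pow_succ, pow_succ, ih, LinearMap.prodMap_mul]

/-- a nilpotent endomorphism with a prescribed Jordan type -/
theorem exists_model (B : ℕ) (μ : Multiset ℕ) (hμ : ∀ a ∈ μ, 0 < a ∧ a ≤ B) :
    ∃ (V : Type u) (_ : AddCommGroup V) (_ : Module F V) (_ : FiniteDimensional F V)
      (N : Module.End F V), Module.finrank F V = μ.sum ∧ N ^ B = 0 ∧ jtype B N = μ := by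
  induction μ using Multiset.induction with
  | empty =>
    refine ⟨PUnit, inferInstance, inferInstance, inferInstance, 0, ?_, ?_, ?_⟩
    · rw [Multiset.sum_zero]
      exact Module.finrank_zero_of_subsingleton
    · exact Subsingleton.elim _ _
    · exact jtype_eq_zero_of_subsingleton B _
  | cons a μ ih =>
    obtain ⟨V, i1, i2, i3, N, hfr, hN, hj⟩ := ih (fun b hb => hμ b (Multiset.mem_cons_of_mem hb))
    obtain ⟨h1, h2⟩ := hμ a (Multiset.mem_cons_self a μ)
    obtain ⟨W, j1, j2, j3, M, hfrW, hM, hjW⟩ := exists_block (F := F) B a h1 h2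
    refine ⟨W × V, inferInstance, inferInstance, inferInstance, M.prodMap N, ?_, ?_, ?_⟩
    · rw [Module.finrank_prod, hfrW, hfr, Multiset.sum_cons]
    · rw [prodMap_pow, hM, hN, LinearMap.prodMap_zero]
    · rw [jtype_prodMap, hjW, hj, Multiset.singleton_add]

end JModelAux

open JModelAux in
/-- J-MODEL (uses J-TYPE) -/
theorem model_unipotent {F : Type*} [Field F] [Fintype F] {p : ℕ} [Fact p.Prime] [CharP F p]
    (n : ℕ) (μ : Multiset ℕ) (hμ : ∀ a ∈ μ, 0 < a ∧ a ≤ p) (hsum : μ.sum = n)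
    (h2 : ∃ a ∈ μ, 2 ≤ a) :
    ∃ x : Matrix.SpecialLinearGroup (Fin n) F,
      (x : Matrix (Fin n) (Fin n) F) ^ p = 1 ∧
      (∀ c : F, (x : Matrix (Fin n) (Fin n) F) ≠ c • (1 : Matrix (Fin n) (Fin n) F)) ∧
      jtype p (Matrix.toLin' (x : Matrix (Fin n) (Fin n) F) - 1) = μ := by
  obtain ⟨V, i1, i2, i3, N, hfr, hN, hj⟩ := exists_model (F := F) p μ hμ
  have hfin : Module.finrank F V = Module.finrank F (Fin n → F) := by
    rw [hfr, hsum, Module.finrank_fin_fun]
  let e : V ≃ₗ[F] (Fin n → F) := LinearEquiv.ofFinrankEq V (Fin n → F) hfin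
  let φ : Module.End F (Fin n → F) := e.conjRingEquiv N
  have hφv : ∀ v, φ v = e (N (e.symm v)) := fun v => rfl
  have hφ : φ ^ p = 0 := by
    show (e.conjRingEquiv N) ^ p = 0
    rw [← map_pow, hN, map_zero]
  have hjφ : jtype p φ = μ := by
    rw [← hj]
    refine jtype_conj p e N φ ?_
    intro v
    rw [hφv, e.symm_apply_apply]
  -- `(1 + φ) ^ p = 1`
  have hone : (1 + φ) ^ p = 1 := by
    have key : ((1 : F[X]) + X) ^ p = 1 + X ^ p := by rw [add_pow_char, one_pow]
    have h1 := congrArg (Polynomial.aeval φ) key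
    simp only [map_pow, map_add, map_one, aeval_X] at h1
    rw [h1, hφ, add_zero]
  let x0 : Matrix (Fin n) (Fin n) F := LinearMap.toMatrixAlgEquiv' (1 + φ)
  have hx0 : x0 ^ p = 1 := by
    show (LinearMap.toMatrixAlgEquiv' (1 + φ)) ^ p = 1
    rw [← map_pow, hone, map_one]
  have htl : Matrix.toLin' x0 = 1 + φ := Matrix.toLin'_toMatrix' (1 + φ)
  have htl' : Matrix.toLin' x0 - 1 = φ := by rw [htl, add_sub_cancel_left]
  have hδ : ∀ δ : F, δ ^ p = 1 → δ = 1 := by
    intro δ h
    have h3 : (δ - 1) ^ p = 0 := by rw [sub_pow_char, h, one_pow, sub_self]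
    have h4 := pow_eq_zero_iff (Fact.out : p.Prime).ne_zero |>.mp h3
    exact sub_eq_zero.mp h4
  have hdet : x0.det = 1 := by
    apply hδ
    rw [← Matrix.det_pow, hx0, Matrix.det_one]
  refine ⟨⟨x0, hdet⟩, hx0, ?_, ?_⟩
  · intro c hc
    have hc' : x0 = c • (1 : Matrix (Fin n) (Fin n) F) := hc
    obtain ⟨a, haμ, ha2⟩ := h2
    have hne : φ ≠ 0 := ne_zero_of_mem_jtype p φ a (by rw [hjφ]; exact haμ) ha2
    apply hne
    have hφc : φ = (c - 1) • (1 : Module.End F (Fin n → F)) := by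
      rw [← htl', hc', map_smul, Matrix.toLin'_one, sub_smul (M := Module.End F (Fin n → F)), one_smul]
      rfl
    by_cases hc1 : c - 1 = 0
    · rw [hφc, hc1, zero_smul]
    · have h5 : ((c - 1) ^ p) • (1 : Module.End F (Fin n → F)) = 0 := by
        rw [← hφ, hφc, _root_.smul_pow, one_pow]
      have h6 : (1 : Module.End F (Fin n → F)) = 0 := by
        have h7 := (smul_eq_zero.mp h5).resolve_left (pow_ne_zero _ hc1)
        exact h7
      rw [← mul_one φ, h6, mul_zero]
  · show jtype p (Matrix.toLin' x0 - 1) = μ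
    rw [htl', hjφ]

end JT

end Cfsg.Agent.S5949P
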