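import Mathlib
import Cfsg.Prelude.Def_Classical
import Cfsg.Agent.Helper23.S5953Defs

set_option autoImplicit false
open scoped MatrixGroups Matrix

/-! # S5953 piece CYCBASIS: a matrix with `x ^ r = z`, `X ^ r - z` irreducible, is conjugate to the
block shift matrix `shiftZ n r z`. -/

namespace Cfsg.Agent.S5953P

open Polynomial

/-- a vector space over a field extension with a power basis has a basis of the form
`gen ^ a • c t` over the small field -/
theorem cycbasis_abstract {F K V : Type*} [Field F] [Field K] [Algebra F K] [AddCommGroup V]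
    [Module F V] [Module K V] [IsScalarTower F K V] [FiniteDimensional F V]
    (pb : PowerBasis F K) (r : ℕ) (hdim : pb.dim = r) :
    ∃ (k : ℕ) (c : Fin k → V) (B : Module.Basis (Fin k × Fin r) F V),
      ∀ (t : Fin k) (a : Fin r), B (t, a) = pb.gen ^ (a : ℕ) • c t := by
  haveI : Module.Finite K V := Module.Finite.of_restrictScalars_finite F K V
  refine ⟨Module.finrank K V, Module.finBasis K V,
    (pb.basis.reindex (finCongr hdim)).smulTower' (Module.finBasis K V), ?_⟩
  intro t a
  rw [Module.Basis.smulTower'_apply, Module.Basis.reindex_apply, PowerBasis.basis_eq_pow]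
  simp

/-- the cyclic basis of an endomorphism with `f ^ r = z`, `X ^ r - z` irreducible -/
theorem cycbasis_end {F V : Type*} [Field F] [AddCommGroup V] [Module F V]
    [FiniteDimensional F V] (r : ℕ) (hr : 0 < r) (z : F)
    (hirr : Irreducible (X ^ r - C z : F[X])) (f : Module.End F V) (hf : f ^ r = z • 1) :
    ∃ (k : ℕ) (B : Module.Basis (Fin k × Fin r) F V), ∀ (t : Fin k) (a : Fin r),
      f (B (t, a)) = if h : (a : ℕ) + 1 < r then B (t, ⟨(a : ℕ) + 1, h⟩) else z • B (t, ⟨0, hr⟩) := by
  classical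
  haveI : Fact (Irreducible (X ^ r - C z : F[X])) := ⟨hirr⟩
  have hg0 : (X ^ r - C z : F[X]) ≠ 0 := hirr.ne_zero
  have hdeg : (X ^ r - C z : F[X]).natDegree = r := natDegree_X_pow_sub_C
  have hfg : Polynomial.aeval f (X ^ r - C z : F[X]) = 0 := by
    rw [map_sub, map_pow, aeval_X, aeval_C, hf, Algebra.algebraMap_eq_smul_one, sub_self]
  have hI : ∀ a : F[X], a ∈ Ideal.span {(X ^ r - C z : F[X])} → Polynomial.aeval f a = 0 := by
    intro a ha
    obtain ⟨b, rfl⟩ := Ideal.mem_span_singleton'.mp ha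
    rw [map_mul, hfg, mul_zero]
  let φ : AdjoinRoot (X ^ r - C z : F[X]) →ₐ[F] Module.End F V :=
    Ideal.Quotient.liftₐ (Ideal.span {(X ^ r - C z : F[X])}) (Polynomial.aeval f) hI
  have hφroot : φ (AdjoinRoot.root (X ^ r - C z : F[X])) = f := by
    show Ideal.Quotient.liftₐ (Ideal.span {(X ^ r - C z : F[X])}) (Polynomial.aeval f) hI
      (Ideal.Quotient.mk _ X) = f
    rw [Ideal.Quotient.liftₐ_apply]
    exact (Ideal.Quotient.lift_mk _ _ _).trans (aeval_X f)
  letI : Module (AdjoinRoot (X ^ r - C z : F[X])) V :=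
    Module.compHom V (φ : AdjoinRoot (X ^ r - C z : F[X]) →+* Module.End F V)
  have hsmul : ∀ (κ : AdjoinRoot (X ^ r - C z : F[X])) (v : V), κ • v = φ κ v := fun _ _ => rfl
  haveI : IsScalarTower F (AdjoinRoot (X ^ r - C z : F[X])) V := by
    refine ⟨fun a κ v => ?_⟩
    rw [hsmul, hsmul, map_smul]
    rfl
  obtain ⟨k, c, B, hB⟩ := cycbasis_abstract (K := AdjoinRoot (X ^ r - C z : F[X])) (V := V)
    (AdjoinRoot.powerBasis hg0) r (by rw [AdjoinRoot.powerBasis_dim, hdeg])
  refine ⟨k, B, ?_⟩
  intro t a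
  have hroot : ∀ v : V, f v = (AdjoinRoot.root (X ^ r - C z : F[X])) • v := by
    intro v
    rw [hsmul, hφroot]
  rw [hB, hroot, AdjoinRoot.powerBasis_gen, smul_smul, ← pow_succ']
  split_ifs with h
  · rw [hB, AdjoinRoot.powerBasis_gen]
  · have har : (a : ℕ) + 1 = r := by have := a.2; omega
    rw [har, hB, AdjoinRoot.powerBasis_gen]
    simp only [pow_zero, one_smul]
    have hz : (AdjoinRoot.root (X ^ r - C z : F[X])) ^ r =
        algebraMap F (AdjoinRoot (X ^ r - C z : F[X])) z := by
      have h0 := AdjoinRoot.eval₂_root (X ^ r - C z : F[X])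
      rw [eval₂_sub, eval₂_pow, eval₂_X, eval₂_C] at h0
      exact sub_eq_zero.mp h0
    rw [hz, algebraMap_smul]

/-- CYCBASIS -/
theorem exists_conj_shiftZ {F : Type*} [Field F] (n r : ℕ) (hr : 0 < r) (z : F)
    (hirr : Irreducible (X ^ r - C z : F[X])) (x : Matrix (Fin n) (Fin n) F)
    (hx : x ^ r = z • 1) :
    ∃ k : ℕ, n = r * k ∧ ∃ g ginv : Matrix (Fin n) (Fin n) F, g * ginv = 1 ∧ ginv * g = 1 ∧
      g * x = shiftZ n r z * g := by
  classical
  have hf : (Matrix.toLinAlgEquiv' x : Module.End F (Fin n → F)) ^ r = z • 1 := by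
    rw [← map_pow, hx, map_smul, map_one]
  obtain ⟨k, B, hB⟩ := cycbasis_end r hr z hirr (Matrix.toLinAlgEquiv' x) hf
  have hn : n = k * r := by
    have h1 := Module.finrank_eq_card_basis B
    rw [Module.finrank_fin_fun, Fintype.card_prod, Fintype.card_fin, Fintype.card_fin] at h1
    exact h1
  refine ⟨k, by rw [hn, mul_comm], ?_⟩
  -- the reindexed basis
  let e : Fin k × Fin r ≃ Fin n := finProdFinEquiv.trans (finCongr hn.symm)
  have he : ∀ (t : Fin k) (a : Fin r), ((e (t, a) : Fin n) : ℕ) = (a : ℕ) + r * (t : ℕ) :=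
    fun t a => rfl
  let B' : Module.Basis (Fin n) F (Fin n → F) := B.reindex e
  have hB' : ∀ (t : Fin k) (a : Fin r), B' (e (t, a)) = B (t, a) := by
    intro t a
    simp [B']
  let P : Matrix (Fin n) (Fin n) F := (Pi.basisFun F (Fin n)).toMatrix B'
  let Pinv : Matrix (Fin n) (Fin n) F := B'.toMatrix (Pi.basisFun F (Fin n))
  have hP1 : P * Pinv = 1 := Module.Basis.toMatrix_mul_toMatrix_flip _ _
  have hP2 : Pinv * P = 1 := Module.Basis.toMatrix_mul_toMatrix_flip _ _
  have hPapp : ∀ i j, P i j = B' j i := fun i j => by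
    simp [P, Module.Basis.toMatrix_apply]
  have key : x * P = P * shiftZ n r z := by
    ext i j
    obtain ⟨⟨t, a⟩, rfl⟩ := e.surjective j
    rw [Matrix.mul_apply, Matrix.mul_apply]
    have h1 : ∑ l, x i l * P l (e (t, a)) = (Matrix.toLinAlgEquiv' x (B (t, a))) i := by
      rw [Matrix.toLinAlgEquiv'_apply, Matrix.mulVec, dotProduct]
      apply Finset.sum_congr rfl
      intro l _
      rw [hPapp, hB']
    have hmod : ((e (t, a) : Fin n) : ℕ) % r = a := by
      rw [he, Nat.add_mul_mod_self_left, Nat.mod_eq_of_lt a.2]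
    rw [h1, hB]
    split_ifs with h
    · rw [Finset.sum_eq_single (e (t, ⟨(a : ℕ) + 1, h⟩))]
      · rw [shiftZ_apply, hmod, if_pos h, if_pos (by rw [he, he]; ring), mul_one, hPapp, hB']
      · intro j' _ hj'
        rw [shiftZ_apply, hmod, if_pos h, if_neg, mul_zero]
        intro hv
        apply hj'
        apply Fin.ext
        rw [hv, he, he]
        ring
      · intro h'; exact absurd (Finset.mem_univ _) h'
    · have har : (a : ℕ) + 1 = r := by have := a.2; omega
      rw [Finset.sum_eq_single (e (t, ⟨0, hr⟩))]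
      · rw [shiftZ_apply, hmod, if_neg h, if_pos (by rw [he, he]; simp only []; omega), hPapp, hB',
          Pi.smul_apply, smul_eq_mul, mul_comm]
      · intro j' _ hj'
        rw [shiftZ_apply, hmod, if_neg h, if_neg, mul_zero]
        intro hv
        apply hj'
        apply Fin.ext
        rw [he] at hv ⊢
        simp only []
        omega
      · intro h'; exact absurd (Finset.mem_univ _) h'
  refine ⟨Pinv, P, hP2, hP1, ?_⟩
  calc Pinv * x = Pinv * x * (P * Pinv) := by rw [hP1, mul_one]
    _ = Pinv * (x * P) * Pinv := by simp only [mul_assoc]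
    _ = Pinv * (P * shiftZ n r z) * Pinv := by rw [key]
    _ = (Pinv * P) * shiftZ n r z * Pinv := by simp only [mul_assoc]
    _ = shiftZ n r z * Pinv := by rw [hP2, one_mul]

end Cfsg.Agent.S5953P
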