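import Mathlib
import Cfsg.Prelude.Def_Classical
import Cfsg.Agent.Helper23.S5953Defs
import Cfsg.Agent.Helper7.S5953GUYU
import Cfsg.Agent.Helper3.S5953NOROOT
import Cfsg.Agent.Helper28.S5953SHIFTZ1
import Cfsg.Agent.Helper28.S5953SHIFTZ2
import Cfsg.Agent.Helper10.S5953CYCBASIS
import Cfsg.Agent.Helper21.NS3
import Cfsg.Agent.Helper28.GU
import Cfsg.Agent.Helper28.Herm

set_option autoImplicit false
open scoped MatrixGroups Matrix

/-! # S5953 piece SUFFI2: the case `r ∣ q + 1`, `x ^ r = z` with `z` not an `r`-th power of a norm one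
element: `x` is conjugate to the block shift matrix, which has invariant totally isotropic
subspaces of every dimension `r j₀`, `2 j₀ ≤ k`. -/

namespace Cfsg.Agent.S5953P

open Polynomial

theorem suffi2_isUn_one {F : Type*} [Field F] {q n : ℕ} :
    IsUn q (1 : Matrix (Fin n) (Fin n) F) := by
  intro u v
  rw [Matrix.one_mulVec, Matrix.one_mulVec]

theorem suffi2_isUn_mul {F : Type*} [Field F] {q n : ℕ} {A B : Matrix (Fin n) (Fin n) F}
    (hA : IsUn q A) (hB : IsUn q B) : IsUn q (A * B) := by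
  intro u v
  rw [← Matrix.mulVec_mulVec, ← Matrix.mulVec_mulVec, hA, hB]

theorem suffi2_isUn_pow {F : Type*} [Field F] {q n : ℕ} {A : Matrix (Fin n) (Fin n) F}
    (hA : IsUn q A) (j : ℕ) : IsUn q (A ^ j) := by
  induction j with
  | zero => rw [pow_zero]; exact suffi2_isUn_one
  | succ j ih => rw [pow_succ]; exact suffi2_isUn_mul ih hA

/-- SUFFI2 -/
theorem exists_ti_of_no_root {F : Type*} [Field F] [Fintype F] {p : ℕ} [Fact p.Prime]
    [CharP F p] {q : ℕ} (hF : Fintype.card F = q ^ 2) (r : ℕ) [Fact r.Prime] (hr2 : r ≠ 2)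
    (hrp : r ≠ p) (hrq : r ∣ q + 1) (n m : ℕ) (hm : 1 ≤ m) (hmn : 2 * m ≤ n)
    (hcond : r ∣ m ∨ padicValNat r n ≤ padicValNat r (q + 1))
    (x : Matrix.SpecialLinearGroup (Fin n) F) (hx : x ∈ Cfsg.SU n F q) (z : F)
    (hxz : (x : Matrix (Fin n) (Fin n) F) ^ r = z • 1)
    (hno : ¬ ∃ μ : F, μ ^ (q + 1) = 1 ∧ μ ^ r * z = 1) :
    ∃ W : Submodule F (Fin n → F), Module.finrank F ↥W = m ∧
      (∀ u ∈ W, ∀ v ∈ W, Cfsg.hermForm n F q u v = 0) ∧
      W.map (Matrix.toLin' (x : Matrix (Fin n) (Fin n) F)) ≤ W := by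
  classical
  have hr : r.Prime := Fact.out
  have hn0 : 0 < n := by omega
  have hxun : IsUn q (x : Matrix (Fin n) (Fin n) F) := hx
  have hzun : IsUn q (z • (1 : Matrix (Fin n) (Fin n) F)) := by
    rw [← hxz]
    exact suffi2_isUn_pow hxun r
  have hz1 : z ^ (q + 1) = 1 := norm_one_of_isUn_scalar hn0 z hzun
  obtain ⟨hirr, hord⟩ := irreducible_of_no_root hF r hr2 hrq z hz1 hno
  obtain ⟨k, hnk, g, ginv, hg1, hg2, hconj⟩ :=
    exists_conj_shiftZ n r hr.pos z hirr (x : Matrix (Fin n) (Fin n) F) hxz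
  subst hnk
  have hodd : Odd r := hr.odd_of_ne_two hr2
  obtain ⟨hSun, -, hSdet, -⟩ := shiftZ_facts (q := q) r k hr.two_le z hz1
  have hdet : z ^ k = 1 := by
    rw [← hSdet hodd]
    have h1 : shiftZ (r * k) r z = g * (x : Matrix (Fin (r * k)) (Fin (r * k)) F) * ginv := by
      rw [hconj, mul_assoc, hg1, mul_one]
    have h2 : g.det * ginv.det = 1 := by rw [← Matrix.det_mul, hg1, Matrix.det_one]
    rw [h1, Matrix.det_mul, Matrix.det_mul, x.2, mul_one, h2]
  have hdvd := hord k hdet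
  have hk0 : k ≠ 0 := by
    rintro rfl
    omega
  have hrm : r ∣ m := by
    rcases hcond with h | h
    · exact h
    · exfalso
      have h1 : padicValNat r (r * k) = padicValNat r k + 1 := by
        rw [padicValNat.mul hr.ne_zero hk0, padicValNat_self]
        ring
      have h2 : padicValNat r (q + 1) ≤ padicValNat r k :=
        (padicValNat_dvd_iff_le hk0).mp hdvd
      omega
  obtain ⟨j₀, rfl⟩ := hrm
  have hj : 2 * j₀ ≤ k := by
    have h1 : r * (2 * j₀) ≤ r * k := by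
      calc r * (2 * j₀) = 2 * (r * j₀) := by ring
        _ ≤ r * k := hmn
    exact Nat.le_of_mul_le_mul_left h1 hr.pos
  obtain ⟨W₀, hW₀d, hW₀ti, hW₀inv⟩ := shiftZ_ti hF r k hr.two_le z j₀ hj
  obtain ⟨σ, hσ, hσ2⟩ := Cfsg.Agent.Helper28.exists_frob hF
  have hA := (Cfsg.Agent.Helper28.GUlib.preserves_iff σ hσ _).mp hxun
  have hB := (Cfsg.Agent.Helper28.GUlib.preserves_iff σ hσ _).mp hSun
  obtain ⟨X, hXu, hXc⟩ := Cfsg.Agent.Helper21.NS.exists_unitary_conj hF σ hσ hσ2 _ _ g ginv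
    hA hB hg1 hg2 hconj
  have hXpres := (Cfsg.Agent.Helper28.GUlib.preserves_iff σ hσ X).mpr hXu
  have hXdet : IsUnit X.det := by
    have h1 := congrArg Matrix.det hXu
    rw [Matrix.det_mul, Matrix.det_transpose, Matrix.det_one] at h1
    exact IsUnit.of_mul_eq_one _ h1
  have hX1 : X⁻¹ * X = 1 := Matrix.nonsing_inv_mul X hXdet
  have hX2 : X * X⁻¹ = 1 := Matrix.mul_nonsing_inv X hXdet
  let e : (Fin (r * k) → F) ≃ₗ[F] (Fin (r * k) → F) := Matrix.toLin'OfInv hX1 hX2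
  have he : (e : (Fin (r * k) → F) →ₗ[F] (Fin (r * k) → F)) = Matrix.toLin' X := rfl
  refine ⟨W₀.comap (Matrix.toLin' X), ?_, ?_, ?_⟩
  · rw [← he, Submodule.comap_equiv_eq_map_symm, LinearEquiv.finrank_map_eq, hW₀d]
  · intro u hu v hv
    rw [← hXpres u v]
    have hu' : X *ᵥ u ∈ W₀ := by
      have := hu
      rwa [Submodule.mem_comap, Matrix.toLin'_apply] at this
    have hv' : X *ᵥ v ∈ W₀ := by
      have := hv
      rwa [Submodule.mem_comap, Matrix.toLin'_apply] at this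
    exact hW₀ti _ hu' _ hv'
  · rintro _ ⟨u, hu, rfl⟩
    rw [Submodule.mem_comap, Matrix.toLin'_apply, Matrix.toLin'_apply, Matrix.mulVec_mulVec, hXc,
      ← Matrix.mulVec_mulVec]
    have hu' : X *ᵥ u ∈ W₀ := by
      have := hu
      rwa [SetLike.mem_coe, Submodule.mem_comap, Matrix.toLin'_apply] at this
    exact hW₀inv ⟨X *ᵥ u, hu', Matrix.toLin'_apply _ _⟩

end Cfsg.Agent.S5953P
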