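import Mathlib
import Cfsg.Prelude.Def_GeometricClasses
import Cfsg.Prelude.Def_ClassicalGeometry
import Cfsg.Agent.Helper23.S5961Defs
import Cfsg.Agent.Helper18.S5961ARITH
import Cfsg.Agent.Helper18.S5961NDSUB
import Cfsg.Agent.Helper10.S5961FIXSPLIT
import Cfsg.Agent.Helper10.S5961ORTHC
import Cfsg.Agent.Helper23.S5961STRUCT

set_option autoImplicit false

/-! S5961 piece SUBCOMPL: an invariant nondegenerate subspace with prescribed fixed part and number
of blocks, together with its (invariant, nondegenerate) orthogonal complement. -/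

namespace Cfsg.Agent.S5961P

open Polynomial Cfsg.Agent.Helper2.SympInvol Cfsg.Agent.Helper2.SympUnits

namespace SUBCOMPL

variable {F V : Type*} [Field F] [AddCommGroup V] [Module F V]

/-- orthogonal sum of two nondegenerate subspaces is nondegenerate -/
theorem nondeg_sup (B : LinearMap.BilinForm F V) (halt : ∀ v, B v v = 0)
    (U₀ U₁ : Submodule F V) (h0 : Nondeg B U₀) (h1 : Nondeg B U₁) (ho : Orth B U₀ U₁) :
    Nondeg B (U₀ ⊔ U₁) := by
  have ho' : Orth B U₁ U₀ := fun u hu v hv => by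
    rw [ORTHC.skew' B halt, ho v hv u hu, neg_zero]
  intro m hm hm0
  obtain ⟨u0, hu0, u1, hu1, rfl⟩ := Submodule.mem_sup.mp hm
  by_cases h00 : u0 = 0
  · have h10 : u1 ≠ 0 := by
      intro h; apply hm0; rw [h00, h, add_zero]
    obtain ⟨v, hv, hne⟩ := h1 u1 hu1 h10
    refine ⟨v, Submodule.mem_sup_right hv, ?_⟩
    rw [map_add, LinearMap.add_apply, ho u0 hu0 v hv, zero_add]
    exact hne
  · obtain ⟨v, hv, hne⟩ := h0 u0 hu0 h00
    refine ⟨v, Submodule.mem_sup_left hv, ?_⟩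
    rw [map_add, LinearMap.add_apply, ho' u1 hu1 v hv, add_zero]
    exact hne

theorem biSup_map_le (y : Module.End F V) {ι : Type*} (E : ι → Submodule F V) (s : Finset ι)
    (h : ∀ j, (E j).map y ≤ E j) : (⨆ j ∈ s, E j).map y ≤ ⨆ j ∈ s, E j := by
  rw [Submodule.map_iSup]
  refine iSup_le fun j => ?_
  rw [Submodule.map_iSup]
  refine iSup_le fun hj => ?_
  exact le_trans (h j) (le_iSup₂_of_le j hj le_rfl)

end SUBCOMPL

open SUBCOMPL in
/-- SUBCOMPL (uses STRUCT, FIXSPLIT, NDSUB, ORTHC) -/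
theorem sub_compl_sp {F V : Type*} [Field F] [Fintype F] [AddCommGroup V] [Module F V]
    [FiniteDimensional F V] {p : ℕ} [Fact p.Prime] [CharP F p] (r : ℕ) [Fact r.Prime]
    (hr2 : r ≠ 2) (hrp : r ≠ p) (B : LinearMap.BilinForm F V) (halt : ∀ v, B v v = 0)
    (hnd : Nondeg B ⊤) (y : Module.End F V) (hyB : ∀ u v, B (y u) (y v) = B u v)
    (hy : y ^ r = 1) (a' b' : ℕ) (ha'e : Even a')
    (ha' : a' ≤ Module.finrank F (LinearMap.ker (y - 1)))
    (hb' : Module.finrank F (LinearMap.ker (y - 1)) + cc F r * b' ≤ Module.finrank F V) :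
    ∃ U W : Submodule F V, IsCompl U W ∧ Orth B U W ∧ U.map y ≤ U ∧ W.map y ≤ W ∧
      Nondeg B U ∧ Nondeg B W ∧ Module.finrank F U = a' + cc F r * b' ∧
      Module.finrank F ↥(W ⊓ LinearMap.ker (y - 1)) + a' =
        Module.finrank F (LinearMap.ker (y - 1)) := by
  classical
  obtain ⟨hCN, hoCN, hoNC, hNy, hCy⟩ := fix_split (p := p) r hrp B y hyB hy
  set C := LinearMap.ker (y - 1) with hCdef
  set N := LinearMap.range (y - 1) with hNdef
  have hker : ∀ v, v ∈ C ↔ y v = v := by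
    intro v
    rw [hCdef, LinearMap.mem_ker, LinearMap.sub_apply, Module.End.one_apply, sub_eq_zero]
  -- `C` is nondegenerate
  have hCnd : Nondeg B C := ORTHC.nondeg_of_isCompl B halt N C hCN.symm hoNC hnd
  obtain ⟨-, hsub⟩ := exists_nondeg_sub B halt C hCnd
  obtain ⟨U₀, hU₀C, hU₀nd, hU₀fr⟩ := hsub a' ha'e ha'
  -- blocks
  obtain ⟨m, E, hEy, hEnd, hEfr, hEo, hEind, hEsup⟩ :=
    exists_blocks_sp (p := p) r hr2 hrp B halt hnd y hyB hy
  have hEsup' : (⨆ j, E j) = N := hEsup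
  have hccpos : 0 < cc F r := (cc_arith (F := F) (p := p) r hr2 hrp).2.1
  have hNfr : Module.finrank F N = m * cc F r := by
    have h1 := finrank_biSup E hEind Finset.univ
    have h0 : (⨆ i ∈ (Finset.univ : Finset (Fin m)), E i) = N := by
      rw [← hEsup']
      simp
    rw [h0] at h1
    rw [h1, Finset.sum_congr rfl (fun j _ => hEfr j), Finset.sum_const, Finset.card_univ,
      Fintype.card_fin, smul_eq_mul]
  have hdim : Module.finrank F C + Module.finrank F N = Module.finrank F V := by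
    have h1 := Submodule.finrank_sup_add_finrank_inf_eq C N
    rw [hCN.sup_eq_top, hCN.inf_eq_bot, finrank_top, finrank_bot, add_zero] at h1
    exact h1.symm
  have hb'm : b' ≤ m := by
    have h1 : cc F r * b' ≤ m * cc F r := by omega
    rw [mul_comm m] at h1
    exact Nat.le_of_mul_le_mul_left h1 hccpos
  let s : Finset (Fin m) := Finset.univ.filter (fun j => j.val < b')
  have hscard : s.card = b' := by
    have h1 : s = Finset.univ.filter (fun j : Fin m => (j : ℕ) < b') := rfl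
    rw [h1, Fin.card_filter_val_lt, min_eq_right hb'm]
  set U₁ : Submodule F V := ⨆ j ∈ s, E j with hU₁def
  have hU₁nd : Nondeg B U₁ :=
    nondeg_biSup E s (fun j _ => hEnd j) (fun j _ k _ hjk => hEo j k hjk)
  have hU₁fr : Module.finrank F U₁ = cc F r * b' := by
    rw [hU₁def, finrank_biSup E hEind s, Finset.sum_congr rfl (fun j _ => hEfr j),
      Finset.sum_const, hscard, smul_eq_mul, mul_comm]
  have hU₁y : U₁.map y ≤ U₁ := biSup_map_le y E s hEy
  have hU₁N : U₁ ≤ N := by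
    rw [← hEsup']
    exact iSup₂_le fun j _ => le_iSup E j
  have ho01 : Orth B U₀ U₁ := fun u hu v hv => hoCN u (hU₀C hu) v (hU₁N hv)
  have hU₀y : U₀.map y ≤ U₀ := by
    rintro _ ⟨u, hu, rfl⟩
    rw [(hker u).mp (hU₀C hu)]
    exact hu
  -- `U`
  set U : Submodule F V := U₀ ⊔ U₁ with hUdef
  have hUnd : Nondeg B U := nondeg_sup B halt U₀ U₁ hU₀nd hU₁nd ho01
  have hUy : U.map y ≤ U := by
    rw [hUdef, Submodule.map_sup]
    exact sup_le_sup hU₀y hU₁y
  have hd01 : U₀ ⊓ U₁ = ⊥ := by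
    rw [eq_bot_iff, ← hCN.inf_eq_bot]
    exact inf_le_inf hU₀C hU₁N
  have hUfr : Module.finrank F U = a' + cc F r * b' := by
    have h1 := Submodule.finrank_sup_add_finrank_inf_eq U₀ U₁
    rw [hd01, finrank_bot, add_zero, hU₀fr, hU₁fr] at h1
    exact h1
  obtain ⟨hUW, hoUW, hoWU, hWnd, hWinv, -⟩ := orth_compl B halt U hUnd
  have hyinj : Function.Injective y := by
    intro v w hvw
    have h1 : ∀ x, (y ^ (r - 1)) (y x) = x := by
      intro x
      rw [← Module.End.mul_apply, ← pow_succ, Nat.sub_add_cancel (Fact.out : r.Prime).one_le, hy,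
        Module.End.one_apply]
    rw [← h1 v, ← h1 w, hvw]
  refine ⟨U, B.orthogonal U, hUW, hoUW, hUy, hWinv y hyB hyinj hUy, hUnd, hWnd hnd, hUfr, ?_⟩
  -- the fixed part of `W`
  obtain ⟨hU₀X, -, -, -, -, -⟩ := orth_compl B halt U₀ hU₀nd
  have hWC : B.orthogonal U ⊓ C = B.orthogonal U₀ ⊓ C := by
    ext c
    simp only [Submodule.mem_inf, LinearMap.BilinForm.mem_orthogonal_iff]
    constructor
    · rintro ⟨h1, h2⟩
      exact ⟨fun n hn => h1 n (Submodule.mem_sup_left hn), h2⟩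
    · rintro ⟨h1, h2⟩
      refine ⟨fun n hn => ?_, h2⟩
      obtain ⟨u0, hu0, u1, hu1, rfl⟩ := Submodule.mem_sup.mp hn
      rw [map_add, LinearMap.add_apply, h1 u0 hu0, hoNC u1 (hU₁N hu1) c h2, add_zero]
  rw [hWC]
  have hsup : U₀ ⊔ (B.orthogonal U₀ ⊓ C) = C := by
    have h1 : U₀ ⊔ (B.orthogonal U₀ ⊓ C) = (U₀ ⊔ B.orthogonal U₀) ⊓ C :=
      (sup_inf_assoc_of_le (B.orthogonal U₀) hU₀C).symm
    rw [h1, hU₀X.sup_eq_top, top_inf_eq]
  have hinf : U₀ ⊓ (B.orthogonal U₀ ⊓ C) = ⊥ := by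
    rw [← inf_assoc, hU₀X.inf_eq_bot, bot_inf_eq]
  have h2 := Submodule.finrank_sup_add_finrank_inf_eq U₀ (B.orthogonal U₀ ⊓ C)
  rw [hsup, hinf, finrank_bot, add_zero, hU₀fr] at h2
  omega

end Cfsg.Agent.S5961P
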