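import Mathlib
import Cfsg.Prelude.Def_GeometricClasses
import Cfsg.Prelude.Def_ClassicalGeometry
import Cfsg.Agent.Helper23.S5961Defs
import Cfsg.Agent.Helper23.S5961RESTR
import Cfsg.Agent.Helper18.S5961ARITH
import Cfsg.Agent.Helper18.S5961NDSUB
import Cfsg.Agent.Helper10.S5961FIXSPLIT
import Cfsg.Agent.Helper10.S5961ORTHC
import Cfsg.Agent.Helper10.S5961SUBCOMPL
import Cfsg.Agent.Helper23.S5961STRUCT

set_option autoImplicit false

/-! S5961 piece INDUCT: `t` invariant, nondegenerate, pairwise orthogonal summands of dimension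
`a` by induction on `t` (the two auxiliary lemmas `map_eq_of_pow_eq_one`, `cons_decomp` are those of
helper26's S5958 piece INDUCT). -/

namespace Cfsg.Agent.S5961P

open Polynomial Cfsg.Agent.Helper2.SympInvol Cfsg.Agent.Helper2.SympUnits

namespace INDUCT

variable {F V : Type*} [Field F] [AddCommGroup V] [Module F V]

/-- powers of `y` preserve an invariant subspace -/
theorem map_pow_le (y : Module.End F V) (U : Submodule F V) (hU : U.map y ≤ U) (k : ℕ) :
    U.map (y ^ k) ≤ U := by
  induction k with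
  | zero =>
    rw [pow_zero]
    rintro _ ⟨v, hv, rfl⟩
    exact hv
  | succ k ih =>
    rw [pow_succ, Module.End.mul_eq_comp, Submodule.map_comp]
    exact (Submodule.map_mono hU).trans ih

/-- an invariant subspace of an endomorphism of finite order is mapped onto itself -/
theorem map_eq_of_pow_eq_one (y : Module.End F V) (r : ℕ) (hr : 1 ≤ r) (hy : y ^ r = 1)
    (U : Submodule F V) (hU : U.map y ≤ U) : U.map y = U := by
  apply le_antisymm hU
  obtain ⟨k, rfl⟩ : ∃ k, r = k + 1 := ⟨r - 1, by omega⟩
  intro v hv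
  have h1 : v ∈ U.map (y ^ (k + 1)) := by
    rw [hy]
    exact ⟨v, hv, rfl⟩
  rw [pow_succ', Module.End.mul_eq_comp, Submodule.map_comp] at h1
  exact Submodule.map_mono (map_pow_le y U hU k) h1

/-- the decomposition `U, D' 0, …, D' (t-1)` of `V = U ⊕ W` from a decomposition of `W` -/
theorem cons_decomp {t : ℕ} (U W : Submodule F V) (hUW : IsCompl U W)
    (D' : Fin t → Submodule F W) (hind : iSupIndep D') (hsup : iSup D' = ⊤) :
    iSupIndep (Fin.cons U (fun j => (D' j).map W.subtype) : Fin (t + 1) → Submodule F V) ∧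
    iSup (Fin.cons U (fun j => (D' j).map W.subtype) : Fin (t + 1) → Submodule F V) = ⊤ := by
  have hmapW : ∀ j, (D' j).map W.subtype ≤ W := by
    intro j
    rintro _ ⟨w, _, rfl⟩
    exact w.2
  constructor
  · intro j
    refine Fin.cases ?_ (fun j' => ?_) j
    · -- `U` against the rest
      have hle : (⨆ k, ⨆ (_ : k ≠ 0),
          (Fin.cons U (fun j => (D' j).map W.subtype) : Fin (t + 1) → Submodule F V) k) ≤ W := by
        refine iSup₂_le fun k hk => ?_
        obtain ⟨k', rfl⟩ := Fin.exists_succ_eq.mpr hk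
        rw [Fin.cons_succ]
        exact hmapW k'
      rw [Fin.cons_zero]
      exact hUW.disjoint.mono_right hle
    · have hle : (⨆ k, ⨆ (_ : k ≠ Fin.succ j'),
          (Fin.cons U (fun j => (D' j).map W.subtype) : Fin (t + 1) → Submodule F V) k) ≤
          U ⊔ (⨆ k', ⨆ (_ : k' ≠ j'), D' k').map W.subtype := by
        refine iSup_le fun k => ?_
        refine Fin.cases ?_ (fun k' => ?_) k
        · refine iSup_le fun _ => ?_
          rw [Fin.cons_zero]
          exact le_sup_left
        · refine iSup_le fun hk => ?_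
          rw [Fin.cons_succ]
          have hk' : k' ≠ j' := fun h => hk (by rw [h])
          exact le_sup_of_le_right (Submodule.map_mono (le_iSup₂_of_le k' hk' le_rfl))
      rw [Fin.cons_succ]
      refine Disjoint.mono_right hle ?_
      rw [Submodule.disjoint_def]
      intro v hv1 hv2
      obtain ⟨u, hu, w, hw, huw⟩ := Submodule.mem_sup.mp hv2
      have hwW : w ∈ W := by
        obtain ⟨w', _, rfl⟩ := hw
        exact w'.2
      have hvW : v ∈ W := hmapW j' hv1
      have hu0 : u ∈ U ⊓ W := by
        refine ⟨hu, ?_⟩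
        have : u = v - w := by rw [← huw]; abel
        rw [this]
        exact W.sub_mem hvW hwW
      rw [hUW.disjoint.eq_bot, Submodule.mem_bot] at hu0
      rw [hu0, zero_add] at huw
      -- now `v = w` lies in the image of `D' j' ⊓ ⨆ …`
      obtain ⟨v', hv', rfl⟩ := hv1
      obtain ⟨w', hw', hw'e⟩ := hw
      have hvw : v' = w' := by
        apply Subtype.ext
        exact (huw.symm.trans hw'e.symm : W.subtype v' = W.subtype w')
      have hmem : v' ∈ D' j' ⊓ ⨆ k', ⨆ (_ : k' ≠ j'), D' k' := ⟨hv', by rw [hvw]; exact hw'⟩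
      rw [(hind j').eq_bot, Submodule.mem_bot] at hmem
      rw [hmem]
      simp
  · rw [eq_top_iff]
    intro v _
    have htop : v ∈ U ⊔ W := by rw [hUW.sup_eq_top]; exact Submodule.mem_top
    obtain ⟨u, hu, w, hw, rfl⟩ := Submodule.mem_sup.mp htop
    refine Submodule.add_mem _ ?_ ?_
    · have := le_iSup (Fin.cons U (fun j => (D' j).map W.subtype) :
        Fin (t + 1) → Submodule F V) 0
      rw [Fin.cons_zero] at this
      exact this hu
    · have hw' : w ∈ (iSup D').map W.subtype := by
        rw [hsup]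
        exact ⟨⟨w, hw⟩, Submodule.mem_top, rfl⟩
      rw [Submodule.map_iSup] at hw'
      refine (iSup_le fun j => ?_ : (⨆ j, (D' j).map W.subtype) ≤ _) hw'
      have := le_iSup (Fin.cons U (fun j => (D' j).map W.subtype) :
        Fin (t + 1) → Submodule F V) (Fin.succ j)
      rw [Fin.cons_succ] at this
      exact this

end INDUCT

open INDUCT in
/-- INDUCT (uses SUBCOMPL, SPDIV, NDSUB.1, RESTR, ARITH) -/
theorem decomp_invariant_sp {F : Type*} [Field F] [Fintype F] {p : ℕ} [Fact p.Prime] [CharP F p]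
    (r : ℕ) [Fact r.Prime] (hr2 : r ≠ 2) (hrp : r ≠ p) (a t : ℕ) (hae : Even a)
    {V : Type*} [AddCommGroup V] [Module F V] [FiniteDimensional F V]
    (B : LinearMap.BilinForm F V) (halt : ∀ v, B v v = 0) (hnd : Nondeg B ⊤)
    (y : Module.End F V) (hyB : ∀ u v, B (y u) (y v) = B u v) (hy : y ^ r = 1)
    (hV : Module.finrank F V = a * t)
    (hfix : t * (a % cc F r) ≤ Module.finrank F (LinearMap.ker (y - 1))) :
    ∃ D : Fin t → Submodule F V, (∀ j, Module.finrank F (D j) = a) ∧ iSupIndep D ∧
      iSup D = ⊤ ∧ (∀ j, Nondeg B (D j)) ∧ (∀ j j', j ≠ j' → Orth B (D j) (D j')) ∧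
      ∀ j, (D j).map y = D j := by
  have hr1 : 1 ≤ r := (Fact.out : r.Prime).one_lt.le
  obtain ⟨-, hcpos', hceven', -, -, -, -, -⟩ := cc_arith (F := F) (p := p) r hr2 hrp
  obtain ⟨c, hc⟩ : ∃ c : ℕ, c = cc F r := ⟨_, rfl⟩
  have hcpos : 0 < c := by rw [hc]; exact hcpos'
  have hceven : Even c := by rw [hc]; exact hceven'
  rw [← hc] at hfix
  induction t generalizing V with
  | zero =>
    refine ⟨Fin.elim0, fun j => j.elim0, ?_, ?_, fun j => j.elim0, fun j => j.elim0,
      fun j => j.elim0⟩
    · intro j; exact j.elim0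
    · rw [mul_zero] at hV
      have : Subsingleton V := Module.finrank_zero_iff.mp hV
      exact Subsingleton.elim _ _
  | succ t ih =>
    obtain ⟨a0, ha0⟩ : ∃ a0, a0 = Module.finrank F (LinearMap.ker (y - 1)) := ⟨_, rfl⟩
    obtain ⟨l, hl⟩ : ∃ l, l = a % c := ⟨_, rfl⟩
    obtain ⟨k, hk⟩ : ∃ k, k = a / c := ⟨_, rfl⟩
    have hak : a = c * k + l := by rw [hk, hl]; exact (Nat.div_add_mod a c).symm
    have hleven : Even l := by rw [hl]; exact Even.mod_even hae hceven
    obtain ⟨T, hT⟩ : ∃ T, T = t * l := ⟨_, rfl⟩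
    have hTeven : Even T := by rw [hT]; exact Even.mul_left hleven t
    rw [← ha0, ← hl] at hfix
    have hfix' : T + l ≤ a0 := by rw [hT]; linarith [hfix, Nat.succ_mul t l]
    have hla : l ≤ a := by omega
    have hVk : Module.finrank F V = c * (k * t) + T + a := by
      rw [hV, hT]
      have : a * (t + 1) = a * t + a := by ring
      rw [this]
      congr 1
      rw [hak]
      ring
    have ha0V : a0 ≤ Module.finrank F V := by
      rw [ha0]
      exact Submodule.finrank_le _
    -- `finrank V = a0 + c * m` (SPDIV on `⊤`)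
    have htopnd : Nondeg B ⊤ := hnd
    have hdvd := sp_dvd (p := p) r hr2 hrp B halt y hyB hy ⊤ le_top htopnd
    rw [top_inf_eq, finrank_top, ← ha0, ← hc] at hdvd
    obtain ⟨m, hm'⟩ := hdvd
    have hm : Module.finrank F V = a0 + c * m := by omega
    -- `a0` is even
    obtain ⟨hCN, hoCN, hoNC, -, -⟩ := fix_split (p := p) r hrp B y hyB hy
    have hCnd : Nondeg B (LinearMap.ker (y - 1)) :=
      ORTHC.nondeg_of_isCompl B halt _ _ hCN.symm hoNC hnd
    have ha0even : Even a0 := by
      rw [ha0]
      exact (exists_nondeg_sub B halt _ hCnd).1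
    -- the parameters for SUBCOMPL
    have hpar : ∃ a' b' : ℕ, Even a' ∧ a' ≤ a0 ∧ a0 + c * b' ≤ Module.finrank F V ∧
        a' + c * b' = a ∧ T + a' ≤ a0 := by
      by_cases hs : a0 - T ≤ a
      · refine ⟨a0 - T, m - k * t, ?_, by omega, ?_, ?_, by omega⟩
        · exact (Nat.even_sub (by omega)).mpr ⟨fun _ => hTeven, fun _ => ha0even⟩
        · rw [Nat.mul_sub]
          omega
        · rw [Nat.mul_sub]
          omega
      · exact ⟨a, 0, hae, by omega, by omega, by omega, by omega⟩
    obtain ⟨a', b', h0, h1, h2, h3, h4⟩ := hpar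
    rw [ha0] at h1
    rw [ha0, hc] at h2
    obtain ⟨U, W, hUW, hoUW, hUinv, hWinv, hUnd, hWnd, hUdim, hWfix⟩ :=
      sub_compl_sp (p := p) r hr2 hrp B halt hnd y hyB hy a' b' h0 h1 h2
    rw [← hc, h3] at hUdim
    rw [← ha0] at hWfix
    have hWdim : Module.finrank F W = a * t := by
      have := Submodule.finrank_add_eq_of_isCompl hUW
      rw [hUdim, hV] at this
      have e : a * (t + 1) = a * t + a := by ring
      omega
    -- the restriction of `y` to `W`
    have hW' : ∀ v ∈ W, y v ∈ W := fun v hv => hWinv ⟨v, hv, rfl⟩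
    obtain ⟨hRpow, hRalt, hRiso, hRnd, hRfix, -, -, hRsub⟩ := restr_transport B y W hW'
    have hyW : (y.restrict hW') ^ r = 1 := hRpow r hy
    have hfixW : t * l ≤ Module.finrank F (LinearMap.ker (y.restrict hW' - 1)) := by
      rw [hRfix, ← hT]
      omega
    obtain ⟨D', hD'dim, hD'ind, hD'sup, hD'nd, hD'orth, hD'inv⟩ :=
      ih (B.restrict W) (hRalt halt) (hRnd.mpr hWnd) (y.restrict hW') (hRiso hyB) hyW hWdim
        (by rw [← hl]; exact hfixW)
    have hoWU : Orth B W U := fun w hw u hu => by
      rw [ORTHC.skew' B halt, hoUW u hu w hw, neg_zero]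
    have hmapW : ∀ j, (D' j).map W.subtype ≤ W := fun j => (hRsub (D' j)).1
    refine ⟨Fin.cons U (fun j => (D' j).map W.subtype), ?_, ?_, ?_, ?_, ?_, ?_⟩
    · intro j
      refine Fin.cases ?_ (fun j' => ?_) j
      · rw [Fin.cons_zero]; exact hUdim
      · rw [Fin.cons_succ, Submodule.finrank_map_subtype_eq]; exact hD'dim j'
    · exact (INDUCT.cons_decomp U W hUW D' hD'ind hD'sup).1
    · exact (INDUCT.cons_decomp U W hUW D' hD'ind hD'sup).2
    · intro j
      refine Fin.cases ?_ (fun j' => ?_) j
      · rw [Fin.cons_zero]; exact hUnd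
      · rw [Fin.cons_succ]
        exact (hRsub (D' j')).2.2.1.mp (hD'nd j')
    · intro j j'
      refine Fin.cases ?_ (fun k => ?_) j
      · refine Fin.cases ?_ (fun k' => ?_) j'
        · intro h; exact absurd rfl h
        · intro _
          rw [Fin.cons_zero, Fin.cons_succ]
          exact fun u hu v hv => hoUW u hu v (hmapW k' hv)
      · refine Fin.cases ?_ (fun k' => ?_) j'
        · intro _
          rw [Fin.cons_zero, Fin.cons_succ]
          exact fun u hu v hv => hoWU u (hmapW k hu) v hv
        · intro h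
          rw [Fin.cons_succ, Fin.cons_succ]
          have hkk : k ≠ k' := fun e => h (by rw [e])
          exact ((hRsub (D' k)).2.2.2.2 (D' k')).mp (hD'orth k k' hkk)
    · intro j
      refine Fin.cases ?_ (fun j' => ?_) j
      · rw [Fin.cons_zero]
        exact INDUCT.map_eq_of_pow_eq_one y r hr1 hy U hUinv
      · rw [Fin.cons_succ]
        have e1 : ((D' j').map W.subtype).map y = ((D' j').map (y.restrict hW')).map W.subtype := by
          rw [← Submodule.map_comp, ← Submodule.map_comp]
          rfl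
        rw [e1, hD'inv j']

end Cfsg.Agent.S5961P
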