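import Mathlib

set_option autoImplicit false

/-! # S5972 piece COUNT, generic part: counting totally singular subspaces of a quadratic space over a
finite field from the number of singular vectors orthogonal to a singular frame. -/

namespace Cfsg.Agent.S5972P

namespace COUNT

open Module Submodule

variable {F V : Type*} [Field F] [AddCommGroup V] [Module F V]

/-- singular frames: linearly independent `k`-tuples of pairwise orthogonal singular vectors -/
def Fr (Q : QuadraticForm F V) (k : ℕ) :=
  {x : Fin k → V // LinearIndependent F x ∧ (∀ i, Q (x i) = 0) ∧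
    ∀ i j, QuadraticMap.polar Q (x i) (x j) = 0}

theorem polar_span_right (Q : QuadraticForm F V) {k : ℕ} (x : Fin k → V) (u : V)
    (hu : ∀ i, QuadraticMap.polar Q u (x i) = 0) :
    ∀ v ∈ span F (Set.range x), QuadraticMap.polar Q u v = 0 := by
  intro v hv
  induction hv using Submodule.span_induction with
  | mem v hv =>
    obtain ⟨i, rfl⟩ := hv
    exact hu i
  | zero => exact QuadraticMap.polar_zero_right Q u
  | add a b _ _ ha hb => rw [QuadraticMap.polar_add_right, ha, hb, add_zero]
  | smul c a _ ha => rw [QuadraticMap.polar_smul_right, ha, smul_zero]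

theorem span_orth (Q : QuadraticForm F V) {k : ℕ} (x : Fr Q k) :
    ∀ u ∈ span F (Set.range x.1), ∀ v ∈ span F (Set.range x.1), QuadraticMap.polar Q u v = 0 := by
  intro u hu v hv
  rw [QuadraticMap.polar_comm]
  refine polar_span_right Q x.1 v ?_ u hu
  intro i
  rw [QuadraticMap.polar_comm]
  exact polar_span_right Q x.1 (x.1 i) (fun j => x.2.2.2 i j) v hv

theorem span_sing (Q : QuadraticForm F V) {k : ℕ} (x : Fr Q k) :
    ∀ u ∈ span F (Set.range x.1), Q u = 0 := by
  intro u hu
  have key : ∀ u ∈ span F (Set.range x.1), u ∈ span F (Set.range x.1) ∧ Q u = 0 := by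
    intro u hu
    induction hu using Submodule.span_induction with
    | mem v hv =>
      refine ⟨Submodule.subset_span hv, ?_⟩
      obtain ⟨i, rfl⟩ := hv
      exact x.2.2.1 i
    | zero => exact ⟨Submodule.zero_mem _, QuadraticMap.map_zero Q⟩
    | add a b _ _ ha hb =>
      refine ⟨Submodule.add_mem _ ha.1 hb.1, ?_⟩
      rw [QuadraticMap.map_add Q a b, ha.2, hb.2, span_orth Q x a ha.1 b hb.1]
      simp
    | smul c a _ ha =>
      refine ⟨Submodule.smul_mem _ c ha.1, ?_⟩
      rw [QuadraticMap.map_smul Q c a, ha.2, smul_zero]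
  exact (key u hu).2

/-- the singular vectors orthogonal to a frame -/
def Perp (Q : QuadraticForm F V) {k : ℕ} (x : Fin k → V) : Set V :=
  {v | Q v = 0 ∧ ∀ i, QuadraticMap.polar Q (x i) v = 0}

theorem span_subset_Perp (Q : QuadraticForm F V) {k : ℕ} (x : Fr Q k) :
    (span F (Set.range x.1) : Set V) ⊆ Perp Q x.1 := by
  intro v hv
  exact ⟨span_sing Q x v hv, fun i => span_orth Q x _ (Submodule.subset_span ⟨i, rfl⟩) v hv⟩

/-- the fibre of `Fr (k+1) → Fr k` -/
abbrev Fib (Q : QuadraticForm F V) {k : ℕ} (x : Fr Q k) :=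
  {v : V // v ∈ Perp Q x.1 ∧ v ∉ span F (Set.range x.1)}

/-- Splitting off the first vector of a frame. -/
def frEquiv (Q : QuadraticForm F V) (k : ℕ) : Fr Q (k + 1) ≃ Σ x : Fr Q k, Fib Q x where
  toFun s := ⟨⟨Fin.tail s.1, (linearIndependent_finSucc.mp s.2.1).1, fun i => s.2.2.1 i.succ,
      fun i j => s.2.2.2 i.succ j.succ⟩,
    ⟨s.1 0, ⟨s.2.2.1 0, fun i => s.2.2.2 i.succ 0⟩, (linearIndependent_finSucc.mp s.2.1).2⟩⟩
  invFun p := ⟨Fin.cons p.2.1 p.1.1, linearIndependent_finCons.mpr ⟨p.1.2.1, p.2.2.2⟩, by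
      intro i
      refine Fin.cases ?_ (fun i' => ?_) i
      · simp only [Fin.cons_zero]
        exact p.2.2.1.1
      · simp only [Fin.cons_succ]
        exact p.1.2.2.1 i', by
      have hp := p.2.2.1.2
      intro i j
      refine Fin.cases ?_ (fun i' => ?_) i <;> refine Fin.cases ?_ (fun j' => ?_) j
      · simp only [Fin.cons_zero]
        rw [QuadraticMap.polar_self, p.2.2.1.1, smul_zero]
      · simp only [Fin.cons_zero, Fin.cons_succ]
        rw [QuadraticMap.polar_comm]
        exact hp j'
      · simp only [Fin.cons_zero, Fin.cons_succ]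
        exact hp i'
      · simp only [Fin.cons_succ]
        exact p.1.2.2.2 i' j'⟩
  left_inv s := by
    apply Subtype.ext
    simp only [Fin.cons_self_tail]
  right_inv := fun ⟨⟨x, hx⟩, ⟨v, hv⟩⟩ => by
    apply Sigma.subtype_ext
    · apply Subtype.ext
      show Fin.tail (Fin.cons v x : Fin (k + 1) → V) = x
      exact Fin.tail_cons _ _
    · show (Fin.cons v x : Fin (k + 1) → V) 0 = v
      exact Fin.cons_zero _ _

variable [Fintype F] [Finite V]

instance (Q : QuadraticForm F V) (k : ℕ) : Finite (Fr Q k) := Subtype.finite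

instance (Q : QuadraticForm F V) {k : ℕ} (x : Fr Q k) : Finite (Fib Q x) := Subtype.finite

theorem card_Fib (Q : QuadraticForm F V) {k N : ℕ} (x : Fr Q k)
    (hperp : Nat.card {v : V // Q v = 0 ∧ ∀ i, QuadraticMap.polar Q (x.1 i) v = 0} = N) :
    Nat.card (Fib Q x) = N - Fintype.card F ^ k := by
  classical
  haveI : Module.Finite F V := Module.Finite.of_finite
  set S := span F (Set.range x.1) with hS
  have hfS : finrank F S = k := by
    rw [hS, finrank_span_eq_card x.2.1, Fintype.card_fin]
  have hcS : Nat.card S = Fintype.card F ^ k := by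
    rw [Module.natCard_eq_pow_finrank (K := F), hfS, Nat.card_eq_fintype_card]
  have h1 : Nat.card (Fib Q x) = ((Perp Q x.1) \ (S : Set V)).ncard := by
    rw [← Nat.card_coe_set_eq]
    rfl
  have h2 : (Perp Q x.1).ncard = N := by
    rw [← Nat.card_coe_set_eq, ← hperp]
    rfl
  have h3 : (S : Set V).ncard = Fintype.card F ^ k := by
    rw [← Nat.card_coe_set_eq, ← hcS]
    rfl
  rw [h1, Set.ncard_sdiff (span_subset_Perp Q x) (Set.toFinite _), h2, h3]

theorem card_Fr (Q : QuadraticForm F V) (d : ℕ)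
    (hperp : ∀ k, k ≤ d → ∀ x : Fr Q k,
      Nat.card {v : V // Q v = 0 ∧ ∀ i, QuadraticMap.polar Q (x.1 i) v = 0} =
        Fintype.card F ^ (2 * d - k)) (k : ℕ) (hk : k ≤ d) :
    Nat.card (Fr Q k) =
      ∏ i ∈ Finset.range k, (Fintype.card F ^ (2 * d - i) - Fintype.card F ^ i) := by
  classical
  induction k with
  | zero =>
    rw [Finset.range_zero, Finset.prod_empty]
    haveI : Subsingleton (Fr Q 0) := ⟨fun a b => Subtype.ext (Subsingleton.elim _ _)⟩
    haveI : Nonempty (Fr Q 0) := ⟨⟨fun i => i.elim0, linearIndependent_empty_type,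
      fun i => i.elim0, fun i => i.elim0⟩⟩
    exact Nat.card_unique
  | succ k ih =>
    haveI : Fintype (Fr Q k) := Fintype.ofFinite _
    rw [Nat.card_congr (frEquiv Q k), Nat.card_sigma, Finset.prod_range_succ, ← ih (by omega)]
    simp only [card_Fib Q _ (hperp k (by omega) _), Finset.sum_const, Finset.card_univ,
      smul_eq_mul, Nat.card_eq_fintype_card]

/-- the totally singular `m`-spaces -/
abbrev Om (Q : QuadraticForm F V) (m : ℕ) :=
  {W : Submodule F V // finrank F ↥W = m ∧ ∀ w ∈ W, Q w = 0}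

/-- the span of a singular frame -/
def spanMap (Q : QuadraticForm F V) (m : ℕ) (x : Fr Q m) : Om Q m :=
  ⟨span F (Set.range x.1), by
    rw [finrank_span_eq_card x.2.1, Fintype.card_fin], span_sing Q x⟩

theorem span_eq_of_mem (Q : QuadraticForm F V) {k : ℕ} (W : Submodule F V)
    (hWk : finrank F W = k) (y : Fr Q k) (hy : ∀ i, y.1 i ∈ W) :
    span F (Set.range y.1) = W := by
  haveI : Module.Finite F V := Module.Finite.of_finite
  apply Submodule.eq_of_le_of_finrank_eq
  · rw [Submodule.span_le]
    rintro _ ⟨i, rfl⟩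
    exact hy i
  · rw [finrank_span_eq_card y.2.1, Fintype.card_fin, hWk]

theorem spanMap_eq_iff (Q : QuadraticForm F V) (m : ℕ) (x : Fr Q m) (W : Om Q m) :
    spanMap Q m x = W ↔ ∀ i, x.1 i ∈ W.1 := by
  constructor
  · intro h i
    rw [← h]
    exact Submodule.subset_span ⟨i, rfl⟩
  · intro h
    apply Subtype.ext
    exact span_eq_of_mem Q W.1 W.2.1 x h

/-- frames inside a totally singular `W` correspond to linearly independent tuples of `W` -/
def frameEquiv (Q : QuadraticForm F V) {k : ℕ} (W : Submodule F V) (hW : ∀ w ∈ W, Q w = 0) :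
    {y : Fr Q k // ∀ i, y.1 i ∈ W} ≃ {s : Fin k → W // LinearIndependent F s} where
  toFun y := ⟨fun i => ⟨y.1.1 i, y.2 i⟩, by
    apply LinearIndependent.of_comp W.subtype
    exact y.1.2.1⟩
  invFun s := ⟨⟨fun i => (s.1 i : V), s.2.map' W.subtype (Submodule.ker_subtype W),
    fun i => hW _ (s.1 i).2, fun i j => by
      unfold QuadraticMap.polar
      rw [hW _ (W.add_mem (s.1 i).2 (s.1 j).2), hW _ (s.1 i).2, hW _ (s.1 j).2]
      simp⟩, fun i => (s.1 i).2⟩
  left_inv y := by
    apply Subtype.ext
    apply Subtype.ext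
    rfl
  right_inv s := by
    apply Subtype.ext
    rfl

/-- the number of totally singular `m`-spaces, generic version -/
theorem card_ts_mul_gen (Q : QuadraticForm F V) (d m : ℕ) (hmd : m ≤ d)
    (hperp : ∀ k, k ≤ d → ∀ x : Fr Q k,
      Nat.card {v : V // Q v = 0 ∧ ∀ i, QuadraticMap.polar Q (x.1 i) v = 0} =
        Fintype.card F ^ (2 * d - k)) :
    Nat.card {W : Submodule F V // finrank F ↥W = m ∧ ∀ w ∈ W, Q w = 0} *
      ∏ i ∈ Finset.range m, (Fintype.card F ^ m - Fintype.card F ^ i) =
    ∏ i ∈ Finset.range m, (Fintype.card F ^ (2 * d - i) - Fintype.card F ^ i) := by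
  classical
  haveI : Module.Finite F V := Module.Finite.of_finite
  rw [← card_Fr Q d hperp m hmd]
  have : Fintype (Om Q m) := Fintype.ofFinite _
  rw [← Nat.card_congr (Equiv.sigmaFiberEquiv (spanMap Q m)), Nat.card_sigma]
  have hfib : ∀ W : Om Q m,
      Nat.card {x : Fr Q m // spanMap Q m x = W} =
        ∏ i ∈ Finset.range m, (Fintype.card F ^ m - Fintype.card F ^ i) := by
    intro W
    rw [Nat.card_congr (Equiv.subtypeEquivRight (fun x => spanMap_eq_iff Q m x W)),
      Nat.card_congr (frameEquiv Q W.1 W.2.2)]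
    have := card_linearIndependent (K := F) (V := W.1) (k := m) (by rw [W.2.1])
    rw [W.2.1] at this
    rw [this, Finset.prod_range]
  rw [Finset.sum_congr rfl (fun W _ => hfib W), Finset.sum_const, Finset.card_univ,
    smul_eq_mul, Nat.card_eq_fintype_card]

end COUNT

end Cfsg.Agent.S5972P
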