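import Mathlib
import Cfsg.Prelude.Def_ClassicalGeometry
import Cfsg.Prelude.Def_GeometricClasses
import Cfsg.Agent.Helper16.S5972Defs
import Cfsg.Agent.Helper10.S5972COUNTa
import Cfsg.Agent.Helper19.S5972COUNTPERP

set_option autoImplicit false
open scoped MatrixGroups

/-! # S5972 piece COUNT: the number of totally singular `m`-spaces of the standard quadratic space of
dimension `2d + 1`. -/

namespace Cfsg.Agent.S5972P

/-- COUNT: the number of totally singular `m`-spaces -/
theorem card_ts_mul {F : Type*} [Field F] [Fintype F] (h2 : (2 : F) ≠ 0) (d m : ℕ)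
    (hmd : m ≤ d) :
    Nat.card {W : Submodule F (Unit ⊕ (Fin d ⊕ Fin d) → F) // Module.finrank F ↥W = m ∧
      (∀ w ∈ W, Cfsg.quadFormOdd d F w = 0)} *
      ∏ i ∈ Finset.range m, (Fintype.card F ^ m - Fintype.card F ^ i) =
    ∏ i ∈ Finset.range m, (Fintype.card F ^ (2 * d - i) - Fintype.card F ^ i) := by
  have hco : ⇑(Cfsg.Agent.S2614.QfOdd d F) = Cfsg.quadFormOdd d F := Cfsg.Agent.S2614.QfOdd_coe d
  have key := COUNT.card_ts_mul_gen (Cfsg.Agent.S2614.QfOdd d F) d m hmd ?_
  · rw [hco] at key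
    exact key
  · intro k hk x
    have h := card_sing_perp h2 d k hk x.1 x.2.1 (by rw [← hco]; exact x.2.2.1)
      (by rw [← hco]; exact x.2.2.2)
    rw [← hco] at h
    exact h

end Cfsg.Agent.S5972P
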