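import Mathlib

set_option autoImplicit false

/-! # S5972 piece PLUSDISC, generic part: an orthogonal family of `2k` anisotropic vectors whose
norms have a square product spans a space containing a totally isotropic `k`-space, when `-1` is a
square in the finite field `F`. -/

namespace Cfsg.Agent.S5972P

namespace PLUSDISC

open Module Submodule

variable {F V : Type*} [Field F] [Fintype F] [AddCommGroup V] [Module F V]

/-- in a family with an odd number of further members and a square total product, some further
member has a square product with the first one -/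
theorem exists_sq_pair {κ : Type*} [DecidableEq κ] (a : κ → F) (ha : ∀ i, a i ≠ 0) (s : Finset κ)
    (k : ℕ) (hs : s.card = 2 * k + 2) (hsq : IsSquare (∏ i ∈ s, a i)) (i : κ) (hi : i ∈ s) :
    ∃ j ∈ s.erase i, IsSquare (a i * a j) := by
  classical
  by_contra hcon
  push Not at hcon
  have hcard : (s.erase i).card = 2 * k + 1 := by
    rw [Finset.card_erase_of_mem hi, hs]
    rfl
  have h1 : ∏ j ∈ s.erase i, quadraticChar F (a i * a j) = -1 := by
    rw [Finset.prod_congr rfl (fun j hj => quadraticChar_neg_one_iff_not_isSquare.mpr (hcon j hj)),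
      Finset.prod_const, hcard]
    rw [pow_succ, pow_mul]
    norm_num
  have h2 : ∏ j ∈ s.erase i, quadraticChar F (a i * a j) = 1 := by
    rw [← map_prod, Finset.prod_mul_distrib, Finset.prod_const, hcard, pow_succ, mul_assoc,
      Finset.mul_prod_erase s a hi, map_mul, map_pow, pow_mul, quadraticChar_sq_one (ha i), one_pow,
      one_mul]
    rw [quadraticChar_one_iff_isSquare]
    · exact hsq
    · exact Finset.prod_ne_zero_iff.mpr (fun j _ => ha j)
  rw [h2] at h1
  norm_num at h1

/-- the inductive statement over finite subfamilies -/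
theorem exists_ti_finset [FiniteDimensional F V] (hq : Fintype.card F % 4 = 1)
    (B : LinearMap.BilinForm F V) (hsymm : ∀ u v, B u v = B v u) {κ : Type*} [DecidableEq κ]
    (w : κ → V) (horth : ∀ i j, i ≠ j → B (w i) (w j) = 0) (hw : ∀ i, B (w i) (w i) ≠ 0) :
    ∀ (k : ℕ) (s : Finset κ), s.card = 2 * k → IsSquare (∏ i ∈ s, B (w i) (w i)) →
      ∃ U : Submodule F V, U ≤ span F (w '' (s : Set κ)) ∧ (∀ u ∈ U, ∀ v ∈ U, B u v = 0) ∧
        finrank F U = k := by
  classical
  have hneg : IsSquare (-1 : F) := by
    rw [FiniteField.isSquare_neg_one_iff]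
    omega
  intro k
  induction k with
  | zero =>
    intro s _ _
    refine ⟨⊥, bot_le, ?_, finrank_bot F V⟩
    intro u hu v _
    rw [(Submodule.mem_bot F).mp hu, map_zero, LinearMap.zero_apply]
  | succ k ih =>
    intro s hs hsq
    have hne : s.Nonempty := by
      rw [← Finset.card_pos, hs]
      omega
    obtain ⟨i, hi⟩ := hne
    obtain ⟨j, hj, hij⟩ := exists_sq_pair (fun l => B (w l) (w l)) hw s k (by rw [hs]; ring)
      hsq i hi
    have hji : j ≠ i := Finset.ne_of_mem_erase hj
    have hjs : j ∈ s := Finset.mem_of_mem_erase hj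
    set s' := (s.erase i).erase j with hs'
    have hcard' : s'.card = 2 * k := by
      rw [hs', Finset.card_erase_of_mem hj, Finset.card_erase_of_mem hi, hs]
      omega
    have hprod : (∏ l ∈ s, B (w l) (w l)) =
        (B (w i) (w i) * B (w j) (w j)) * ∏ l ∈ s', B (w l) (w l) := by
      rw [← Finset.mul_prod_erase s _ hi, ← Finset.mul_prod_erase (s.erase i) _ hj, mul_assoc]
    have hsq' : IsSquare (∏ l ∈ s', B (w l) (w l)) := by
      obtain ⟨b, hb⟩ := hsq
      obtain ⟨c, hc⟩ := hij
      have hc0 : c ≠ 0 := by
        intro h0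
        rw [h0, mul_zero] at hc
        exact mul_ne_zero (hw i) (hw j) hc
      refine ⟨b / c, ?_⟩
      have : (∏ l ∈ s', B (w l) (w l)) = (b * b) / (c * c) := by
        rw [← hb, hprod, hc]
        field_simp
      rw [this]
      field_simp
    obtain ⟨U', hU'le, hU'ti, hU'd⟩ := ih s' hcard' hsq'
    -- the isotropic vector of the plane spanned by `w i`, `w j`
    obtain ⟨t, ht⟩ : ∃ t : F, t * t * B (w j) (w j) = - B (w i) (w i) := by
      obtain ⟨c, hc⟩ := hij
      obtain ⟨e, he⟩ := hneg
      refine ⟨e * c / B (w j) (w j), ?_⟩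
      have hj0 := hw j
      field_simp
      calc e ^ 2 * c ^ 2 = (e * e) * (c * c) := by ring
        _ = -1 * (B (w i) (w i) * B (w j) (w j)) := by rw [← he, ← hc]
        _ = -(B (w j) (w j) * B (w i) (w i)) := by ring
    set u : V := w i + t • w j with hu
    have huu : B u u = 0 := by
      rw [hu]
      simp only [map_add, map_smul, LinearMap.add_apply, LinearMap.smul_apply, smul_eq_mul]
      rw [horth i j (Ne.symm hji), horth j i hji]
      linear_combination ht
    -- `w i` and `w j` are orthogonal to the span of the others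
    have hperp : ∀ (l : κ), (∀ l' ∈ s', l ≠ l') → ∀ v ∈ span F (w '' (s' : Set κ)),
        B (w l) v = 0 := by
      intro l hl v hv
      induction hv using Submodule.span_induction with
      | mem v hv =>
        obtain ⟨l', hl', rfl⟩ := hv
        exact horth l l' (hl l' hl')
      | zero => rw [map_zero]
      | add a b _ _ ha hb => rw [map_add, ha, hb, add_zero]
      | smul c a _ ha => rw [map_smul, ha, smul_zero]
    have hi' : ∀ l' ∈ s', i ≠ l' := by
      intro l' hl'
      rw [hs'] at hl'
      exact (Finset.ne_of_mem_erase (Finset.mem_of_mem_erase hl')).symm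
    have hj' : ∀ l' ∈ s', j ≠ l' := by
      intro l' hl'
      rw [hs'] at hl'
      exact (Finset.ne_of_mem_erase hl').symm
    have huperp : ∀ v ∈ span F (w '' (s' : Set κ)), B u v = 0 := by
      intro v hv
      rw [hu, map_add, map_smul, LinearMap.add_apply, LinearMap.smul_apply, hperp i hi' v hv,
        hperp j hj' v hv, smul_zero, add_zero]
    have hunot : u ∉ U' := by
      intro hmem
      have h1 := hperp i hi' u (hU'le hmem)
      rw [hu, map_add, map_smul, horth i j (Ne.symm hji), smul_zero, add_zero] at h1
      exact hw i h1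
    have hu0 : u ≠ 0 := by
      intro h0
      apply hunot
      rw [h0]
      exact U'.zero_mem
    have hsub : (s' : Set κ) ⊆ (s : Set κ) := by
      intro l hl
      have hl' : l ∈ s' := hl
      rw [hs'] at hl'
      exact Finset.mem_of_mem_erase (Finset.mem_of_mem_erase hl')
    refine ⟨U' ⊔ span F {u}, ?_, ?_, ?_⟩
    · apply sup_le
      · exact hU'le.trans (Submodule.span_mono (Set.image_mono hsub))
      · rw [Submodule.span_le, Set.singleton_subset_iff]
        apply Submodule.add_mem
        · exact Submodule.subset_span ⟨i, hi, rfl⟩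
        · exact Submodule.smul_mem _ _ (Submodule.subset_span ⟨j, hjs, rfl⟩)
    · intro x hx y hy
      obtain ⟨x', hx', x'', hx'', rfl⟩ := Submodule.mem_sup.mp hx
      obtain ⟨y', hy', y'', hy'', rfl⟩ := Submodule.mem_sup.mp hy
      obtain ⟨c, rfl⟩ := Submodule.mem_span_singleton.mp hx''
      obtain ⟨e, rfl⟩ := Submodule.mem_span_singleton.mp hy''
      simp only [map_add, map_smul, LinearMap.add_apply, LinearMap.smul_apply, smul_eq_mul]
      rw [hU'ti x' hx' y' hy', huu, huperp y' (hU'le hy'), hsymm x' u, huperp x' (hU'le hx')]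
      ring
    · have hdisj : U' ⊓ span F {u} = ⊥ := by
        rw [eq_bot_iff]
        intro x hx
        obtain ⟨hx1, hx2⟩ := Submodule.mem_inf.mp hx
        obtain ⟨c, rfl⟩ := Submodule.mem_span_singleton.mp hx2
        by_cases hc : c = 0
        · rw [hc, zero_smul]
          exact Submodule.zero_mem _
        · exfalso
          apply hunot
          have := U'.smul_mem c⁻¹ hx1
          rwa [smul_smul, inv_mul_cancel₀ hc, one_smul] at this
      have h1 := Submodule.finrank_sup_add_finrank_inf_eq U' (span F {u})
      rw [hdisj, finrank_bot, add_zero, hU'd, finrank_span_singleton hu0] at h1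
      exact h1

end PLUSDISC

end Cfsg.Agent.S5972P
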