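import Mathlib
import Cfsg.Agent.Helper2.SympUnits
import Cfsg.Agent.Helper10.S5972PLUSDISCa

set_option autoImplicit false
open scoped MatrixGroups

/-! # S5972 piece PLUSDISC -/

universe u

namespace Cfsg.Agent.S5972P

open Polynomial Cfsg.Agent.Helper2.SympInvol Cfsg.Agent.Helper2.SympUnits

/-- PLUSDISC: an orthogonal family of `2 k` vectors whose norms have a square product spans a
space of Witt index `k` (when `-1` is a square) -/
theorem exists_ts_half_of_sq {F V : Type*} [Field F] [Fintype F] [AddCommGroup V] [Module F V]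
    [FiniteDimensional F V] (hq : Fintype.card F % 4 = 1) (B : LinearMap.BilinForm F V)
    (hsymm : ∀ u v, B u v = B v u) {κ : Type*} [Fintype κ] (w : κ → V) (k : ℕ)
    (hκ : Fintype.card κ = 2 * k)
    (horth : ∀ i j, i ≠ j → B (w i) (w j) = 0) (hw : ∀ i, B (w i) (w i) ≠ 0)
    (hsq : IsSquare (∏ i, B (w i) (w i))) :
    ∃ U : Submodule F V, U ≤ Submodule.span F (Set.range w) ∧ Orth B U U ∧
      Module.finrank F U = k := by
  classical
  obtain ⟨U, hU1, hU2, hU3⟩ := PLUSDISC.exists_ti_finset hq B hsymm w horth hw k Finset.univ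
    (by rw [Finset.card_univ, hκ]) hsq
  refine ⟨U, ?_, hU2, hU3⟩
  rw [Finset.coe_univ, Set.image_univ] at hU1
  exact hU1

end Cfsg.Agent.S5972P
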