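import Mathlib
import Cfsg.Agent.Helper10.S5972COUNTa

set_option autoImplicit false

/-! # S5973 piece COUNT, generic part: counting totally singular subspaces from the numbers `N k` of
singular vectors orthogonal to a singular `k`-frame (generalises `S5972P.COUNT.card_ts_mul_gen`). -/

namespace Cfsg.Agent.S5973P

namespace COUNT

open Module Submodule Cfsg.Agent.S5972P.COUNT

variable {F V : Type*} [Field F] [AddCommGroup V] [Module F V] [Fintype F] [Finite V]

theorem card_Fr_gen (Q : QuadraticForm F V) (N : ℕ → ℕ) (m : ℕ)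
    (hperp : ∀ k, k < m → ∀ x : Fr Q k,
      Nat.card {v : V // Q v = 0 ∧ ∀ i, QuadraticMap.polar Q (x.1 i) v = 0} = N k) :
    Nat.card (Fr Q m) = ∏ i ∈ Finset.range m, (N i - Fintype.card F ^ i) := by
  classical
  induction m with
  | zero =>
    rw [Finset.range_zero, Finset.prod_empty]
    haveI : Subsingleton (Fr Q 0) := ⟨fun a b => Subtype.ext (Subsingleton.elim _ _)⟩
    haveI : Nonempty (Fr Q 0) := ⟨⟨fun i => i.elim0, linearIndependent_empty_type,
      fun i => i.elim0, fun i => i.elim0⟩⟩
    exact Nat.card_unique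
  | succ k ih =>
    haveI : Fintype (Fr Q k) := Fintype.ofFinite _
    rw [Nat.card_congr (frEquiv Q k), Nat.card_sigma, Finset.prod_range_succ,
      ← ih (fun j hj x => hperp j (by omega) x)]
    simp only [card_Fib Q _ (hperp k (by omega) _), Finset.sum_const, Finset.card_univ,
      smul_eq_mul, Nat.card_eq_fintype_card]

/-- the number of totally singular `m`-spaces from the numbers of singular vectors orthogonal to
singular frames -/
theorem card_ts_mul_gen' (Q : QuadraticForm F V) (N : ℕ → ℕ) (m : ℕ)
    (hperp : ∀ k, k < m → ∀ x : Fr Q k,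
      Nat.card {v : V // Q v = 0 ∧ ∀ i, QuadraticMap.polar Q (x.1 i) v = 0} = N k) :
    Nat.card {W : Submodule F V // finrank F ↥W = m ∧ ∀ w ∈ W, Q w = 0} *
      ∏ i ∈ Finset.range m, (Fintype.card F ^ m - Fintype.card F ^ i) =
    ∏ i ∈ Finset.range m, (N i - Fintype.card F ^ i) := by
  classical
  haveI : Module.Finite F V := Module.Finite.of_finite
  rw [← card_Fr_gen Q N m hperp]
  have : Fintype (Om Q m) := Fintype.ofFinite _
  rw [← Nat.card_congr (Equiv.sigmaFiberEquiv (spanMap Q m)), Nat.card_sigma]
  have hfib : ∀ W : Om Q m,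
      Nat.card {x : Fr Q m // spanMap Q m x = W} =
        ∏ i ∈ Finset.range m, (Fintype.card F ^ m - Fintype.card F ^ i) := by
    intro W
    rw [Nat.card_congr (Equiv.subtypeEquivRight (fun x => spanMap_eq_iff Q m x W)),
      Nat.card_congr (frameEquiv Q W.1 W.2.2)]
    have := card_linearIndependent (K := F) (V := W.1) (k := m) (by rw [W.2.1])
    rw [W.2.1] at this
    rw [this, Finset.prod_range]
  rw [Finset.sum_congr rfl (fun W _ => hfib W), Finset.sum_const, Finset.card_univ,
    smul_eq_mul, Nat.card_eq_fintype_card]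

end COUNT

end Cfsg.Agent.S5973P
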