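import Mathlib
import Cfsg.Prelude.Def_Classical
import Cfsg.Prelude.Def_GeometricClasses
import Cfsg.Agent.Helper5.S5973Defs
import Cfsg.Agent.Helper13.QuadWitt
import Cfsg.Agent.Helper13.S5973NDRES
import Cfsg.Agent.Helper10.S5973COUNTa

set_option autoImplicit false

/-! # S5973 piece COUNT: the number of singular vectors orthogonal to a singular frame, by splitting
off hyperbolic planes. -/

universe u

namespace Cfsg.Agent.S5973P

namespace COUNT

open Module Submodule

section Plane

variable {F : Type*} [Field F] {V : Type*} [AddCommGroup V] [Module F V]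

/-- the orthogonal complement of the plane spanned by `e`, `f` -/
def perp2 (Q : QuadraticForm F V) (e f : V) : Submodule F V :=
  LinearMap.ker (QuadraticMap.polarBilin Q e) ⊓ LinearMap.ker (QuadraticMap.polarBilin Q f)

theorem mem_perp2 (Q : QuadraticForm F V) (e f v : V) :
    v ∈ perp2 Q e f ↔ QuadraticMap.polar Q e v = 0 ∧ QuadraticMap.polar Q f v = 0 := by
  unfold perp2
  rw [Submodule.mem_inf, LinearMap.mem_ker, LinearMap.mem_ker]
  rfl

variable (Q : QuadraticForm F V) {e f : V} (he : Q e = 0) (hf : Q f = 0)
  (hef : QuadraticMap.polar Q e f = 1)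

include he in
theorem polar_ee : QuadraticMap.polar Q e e = 0 := by
  rw [Cfsg.Agent.Helper13.polar_self', he, mul_zero]

include hef in
theorem polar_fe : QuadraticMap.polar Q f e = 1 := by
  rw [QuadraticMap.polar_comm, hef]

include he hf hef in
theorem polar_e_comb (a b : F) (n : V) (hn : n ∈ perp2 Q e f) :
    QuadraticMap.polar Q e (a • e + b • f + n) = b := by
  rw [QuadraticMap.polar_add_right, QuadraticMap.polar_add_right, QuadraticMap.polar_smul_right,
    QuadraticMap.polar_smul_right, polar_ee Q he, hef, ((mem_perp2 Q e f n).mp hn).1]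
  simp

include he hf hef in
theorem polar_f_comb (a b : F) (n : V) (hn : n ∈ perp2 Q e f) :
    QuadraticMap.polar Q f (a • e + b • f + n) = a := by
  rw [QuadraticMap.polar_add_right, QuadraticMap.polar_add_right, QuadraticMap.polar_smul_right,
    QuadraticMap.polar_smul_right, polar_ee Q hf, polar_fe Q hef, ((mem_perp2 Q e f n).mp hn).2]
  simp

include he hf hef in
theorem isCompl_plane : IsCompl (span F {e, f}) (perp2 Q e f) := by
  refine IsCompl.of_eq ?_ ?_
  · rw [eq_bot_iff]
    intro v hv
    obtain ⟨hv1, hv2⟩ := Submodule.mem_inf.mp hv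
    obtain ⟨a, b, rfl⟩ := Submodule.mem_span_pair.mp hv1
    have h1 := polar_e_comb Q he hf hef a b 0 (Submodule.zero_mem _)
    have h2 := polar_f_comb Q he hf hef a b 0 (Submodule.zero_mem _)
    rw [add_zero] at h1 h2
    rw [((mem_perp2 Q e f _).mp hv2).1] at h1
    rw [((mem_perp2 Q e f _).mp hv2).2] at h2
    rw [← h1, ← h2, zero_smul, zero_smul, add_zero]
    exact Submodule.zero_mem _
  · rw [eq_top_iff]
    intro v _
    have hn : v - (QuadraticMap.polar Q f v • e + QuadraticMap.polar Q e v • f) ∈ perp2 Q e f := by
      rw [mem_perp2]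
      constructor
      · rw [QuadraticMap.polar_sub_right, QuadraticMap.polar_add_right,
          QuadraticMap.polar_smul_right, QuadraticMap.polar_smul_right, polar_ee Q he, hef]
        simp
      · rw [QuadraticMap.polar_sub_right, QuadraticMap.polar_add_right,
          QuadraticMap.polar_smul_right, QuadraticMap.polar_smul_right, polar_ee Q hf,
          polar_fe Q hef]
        simp
    have hv : v = (QuadraticMap.polar Q f v • e + QuadraticMap.polar Q e v • f) +
        (v - (QuadraticMap.polar Q f v • e + QuadraticMap.polar Q e v • f)) := by abel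
    rw [hv]
    exact Submodule.add_mem_sup (Submodule.mem_span_pair.mpr ⟨_, _, rfl⟩) hn

theorem porth_plane : POrth Q (span F {e, f}) (perp2 Q e f) := by
  intro h hh n hn
  obtain ⟨a, b, rfl⟩ := Submodule.mem_span_pair.mp hh
  rw [QuadraticMap.polar_add_left, QuadraticMap.polar_smul_left, QuadraticMap.polar_smul_left,
    ((mem_perp2 Q e f n).mp hn).1, ((mem_perp2 Q e f n).mp hn).2]
  simp

include he hf hef in
theorem finrank_plane : finrank F (span F {e, f}) = 2 := by
  have hli : LinearIndependent F ![e, f] := by
    rw [LinearIndependent.pair_iff]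
    intro s t hst
    have h1 := polar_e_comb Q he hf hef s t 0 (Submodule.zero_mem _)
    have h2 := polar_f_comb Q he hf hef s t 0 (Submodule.zero_mem _)
    rw [add_zero, hst, QuadraticMap.polar_zero_right] at h1 h2
    exact ⟨h2.symm, h1.symm⟩
  have hr : Set.range ![e, f] = {e, f} := by
    ext v
    simp only [Set.mem_range, Fin.exists_fin_two, Matrix.cons_val_zero, Matrix.cons_val_one,
      Set.mem_insert_iff, Set.mem_singleton_iff]
    constructor
    · rintro (h | h)
      · exact Or.inl h.symm
      · exact Or.inr h.symm
    · rintro (h | h)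
      · exact Or.inl h.symm
      · exact Or.inr h.symm
  rw [← hr, finrank_span_eq_card hli]
  simp

include he hf hef in
theorem isHyp_plane : IsHyp (resQ Q (span F {e, f})) := by
  have heH : e ∈ span F {e, f} := Submodule.subset_span (by simp)
  have he0 : e ≠ 0 := by
    intro h0
    rw [h0, QuadraticMap.polar_zero_left] at hef
    exact zero_ne_one hef
  refine ⟨span F {(⟨e, heH⟩ : ↥(span F {e, f}))}, ?_, ?_⟩
  · intro w hw
    obtain ⟨c, rfl⟩ := Submodule.mem_span_singleton.mp hw
    rw [resQ_apply]
    show Q (c • e) = 0
    rw [QuadraticMap.map_smul, he, smul_zero]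
  · rw [finrank_span_singleton (fun h0 => he0 (congrArg Subtype.val h0)),
      finrank_plane Q he hf hef]

end Plane

section Perp

variable {F : Type*} [Field F] [Fintype F]

/-- the number of singular vectors orthogonal to a singular `k`-frame (HYPSUM and COUNTSING as
hypotheses `HS`, `CS`) -/
theorem card_perp
    (HS : ∀ (V : Type u) [AddCommGroup V] [Module F V] [FiniteDimensional F V]
      (Q : QuadraticForm F V), ND Q → ∀ C N : Submodule F V, IsCompl C N → POrth Q C N →
      Even (finrank F C) → Even (finrank F N) →
      (IsHyp Q ↔ (IsHyp (resQ Q C) ↔ IsHyp (resQ Q N))))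
    (CS : ∀ (V : Type u) [AddCommGroup V] [Module F V] [FiniteDimensional F V]
      (Q : QuadraticForm F V), ND Q → ∀ e : ℕ, finrank F V = 2 * e → ∀ hyp : Bool,
      (IsHyp Q ↔ hyp = true) →
      Nat.card {v : V // v ≠ 0 ∧ Q v = 0} = nsing hyp (Fintype.card F) e)
    (hyp : Bool) (k : ℕ) :
    ∀ (V : Type u) [AddCommGroup V] [Module F V] [FiniteDimensional F V] (Q : QuadraticForm F V),
      ND Q → ∀ d : ℕ, finrank F V = 2 * d → (IsHyp Q ↔ hyp = true) →
      ∀ x : Fin k → V, LinearIndependent F x → (∀ i, Q (x i) = 0) →
        (∀ i j, QuadraticMap.polar Q (x i) (x j) = 0) →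
        Nat.card {v : V // Q v = 0 ∧ ∀ i, QuadraticMap.polar Q (x i) v = 0} =
          Fintype.card F ^ k * (nsing hyp (Fintype.card F) (d - k) + 1) := by
  classical
  induction k with
  | zero =>
    intro V _ _ _ Q hQ d hd hhyp x _ _ _
    haveI : Finite V := Module.finite_of_finite F
    rw [pow_zero, one_mul, Nat.sub_zero, ← CS V Q hQ d hd hyp hhyp]
    have hS : {v : V | Q v = 0 ∧ ∀ i : Fin 0, QuadraticMap.polar Q (x i) v = 0} =
        insert 0 {v : V | v ≠ 0 ∧ Q v = 0} := by
      ext v
      simp only [Set.mem_setOf_eq, Set.mem_insert_iff]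
      constructor
      · rintro ⟨h1, -⟩
        by_cases hv : v = 0
        · exact Or.inl hv
        · exact Or.inr ⟨hv, h1⟩
      · rintro (h | h)
        · rw [h]
          exact ⟨QuadraticMap.map_zero Q, fun i => i.elim0⟩
        · exact ⟨h.2, fun i => i.elim0⟩
    show Nat.card ↥{v : V | Q v = 0 ∧ ∀ i : Fin 0, QuadraticMap.polar Q (x i) v = 0} =
      Nat.card ↥{v : V | v ≠ 0 ∧ Q v = 0} + 1
    rw [Nat.card_coe_set_eq, Nat.card_coe_set_eq, hS,
      Set.ncard_insert_of_notMem (by simp) (Set.toFinite _)]
  | succ k ih =>
    intro V _ _ _ Q hQ d hd hhyp x hli hs ho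
    haveI : Finite V := Module.finite_of_finite F
    -- the first vector and its hyperbolic partner
    have he0 : x 0 ≠ 0 := hli.ne_zero 0
    have hQ' : ∀ v : V, (∀ w : V, QuadraticMap.polar Q v w = 0) → v = 0 := by
      intro v hv
      apply hQ.1
      intro w
      exact hv w
    obtain ⟨f, hf, hef⟩ := Cfsg.Agent.Helper13.exists_hyperbolic_partner Q hQ' (x 0) he0 (hs 0)
    set e := x 0 with hedef
    have he : Q e = 0 := hs 0
    set H := span F {e, f} with hH
    set N := perp2 Q e f with hN
    have hcompl : IsCompl H N := isCompl_plane Q he hf hef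
    have horth : POrth Q H N := porth_plane Q
    have hfH : finrank F H = 2 := finrank_plane Q he hf hef
    have hfN : finrank F N = 2 * (d - 1) := by
      have := Submodule.finrank_add_eq_of_isCompl hcompl
      rw [hfH, hd] at this
      omega
    have hd1 : 1 ≤ d := by
      have := Submodule.finrank_add_eq_of_isCompl hcompl
      rw [hfH, hd] at this
      omega
    have hNDN : ND (resQ Q N) := (nd_res_of_orth Q hQ H N hcompl horth).2
    have htypeN : IsHyp (resQ Q N) ↔ hyp = true := by
      have h1 := HS V Q hQ H N hcompl horth (by rw [hfH]; exact ⟨1, rfl⟩)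
        (by rw [hfN]; exact ⟨d - 1, by ring⟩)
      have h2 : IsHyp (resQ Q H) := isHyp_plane Q he hf hef
      rw [← hhyp, h1]
      exact ⟨fun h => ⟨fun _ => h, fun _ => h2⟩, fun h => h.1 h2⟩
    -- the adjusted frame inside `N`
    set c : Fin k → F := fun i => QuadraticMap.polar Q f (x i.succ) with hc
    have hxe : ∀ i : Fin k, QuadraticMap.polar Q (x i.succ) e = 0 := fun i => ho i.succ 0
    have hex : ∀ i : Fin k, QuadraticMap.polar Q e (x i.succ) = 0 := fun i => ho 0 i.succ
    have hee : QuadraticMap.polar Q e e = 0 := polar_ee Q he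
    have hfe : QuadraticMap.polar Q f e = 1 := polar_fe Q hef
    have hyN : ∀ i : Fin k, x i.succ - c i • e ∈ N := by
      intro i
      rw [hN, mem_perp2]
      constructor
      · rw [QuadraticMap.polar_sub_right, QuadraticMap.polar_smul_right, hex i, hee]
        simp
      · rw [QuadraticMap.polar_sub_right, QuadraticMap.polar_smul_right, hfe]
        simp [hc]
    set y : Fin k → ↥N := fun i => ⟨x i.succ - c i • e, hyN i⟩ with hy
    have hpolN : ∀ a b : ↥N, QuadraticMap.polar (resQ Q N) a b = QuadraticMap.polar Q (a : V) (b : V) :=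
      fun a b => rfl
    have hys : ∀ i, resQ Q N (y i) = 0 := by
      intro i
      rw [resQ_apply]
      show Q (x i.succ - c i • e) = 0
      have h1 : x i.succ - c i • e = (1 : F) • x i.succ + (-c i) • e := by
        rw [one_smul, neg_smul, sub_eq_add_neg]
      rw [h1, Cfsg.Agent.Helper13.map_smul_add_smul, hs i.succ, he, hxe i]
      ring
    have hyo : ∀ i j, QuadraticMap.polar (resQ Q N) (y i) (y j) = 0 := by
      intro i j
      rw [hpolN]
      show QuadraticMap.polar Q (x i.succ - c i • e) (x j.succ - c j • e) = 0
      rw [QuadraticMap.polar_sub_left, QuadraticMap.polar_sub_right, QuadraticMap.polar_sub_right,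
        QuadraticMap.polar_smul_left, QuadraticMap.polar_smul_left, QuadraticMap.polar_smul_right,
        QuadraticMap.polar_smul_right, ho i.succ j.succ, hxe i, hex j, hee]
      simp
    have hyli : LinearIndependent F y := by
      rw [Fintype.linearIndependent_iff]
      intro g hg i
      have hg' := congrArg (Subtype.val) hg
      rw [Submodule.coe_sum, Submodule.coe_zero] at hg'
      simp only [Submodule.coe_smul, hy] at hg'
      have hx := Fintype.linearIndependent_iff.mp hli
        (Fin.cons (-(∑ j, g j * c j)) g)
      have hsum : ∑ j : Fin (k + 1), (Fin.cons (-(∑ j, g j * c j)) g : Fin (k + 1) → F) j • x j = 0 := by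
        rw [Fin.sum_univ_succ]
        simp only [Fin.cons_zero, Fin.cons_succ]
        rw [← hg']
        simp only [smul_sub, Finset.sum_sub_distrib, smul_smul, neg_smul, Finset.sum_smul]
        abel
      have := hx hsum i.succ
      simpa using this
    have ihN := ih ↥N (resQ Q N) hNDN (d - 1) hfN htypeN y hyli hys hyo
    -- the bijection
    have hequiv : {v : V // Q v = 0 ∧ ∀ i, QuadraticMap.polar Q (x i) v = 0} ≃
        F × {n : ↥N // resQ Q N n = 0 ∧ ∀ i, QuadraticMap.polar (resQ Q N) (y i) n = 0} := by
      refine
        { toFun := fun v => (QuadraticMap.polar Q f v.1,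
            ⟨⟨v.1 - QuadraticMap.polar Q f v.1 • e, ?_⟩, ?_, ?_⟩)
          invFun := fun p => ⟨p.1 • e + (p.2.1 : V), ?_, ?_⟩
          left_inv := ?_
          right_inv := ?_ }
      · -- membership in `N`
        rw [hN, mem_perp2]
        constructor
        · rw [QuadraticMap.polar_sub_right, QuadraticMap.polar_smul_right, hee]
          have := v.2.2 0
          rw [← hedef] at this
          rw [this]
          simp
        · rw [QuadraticMap.polar_sub_right, QuadraticMap.polar_smul_right, hfe]
          simp
      · -- singular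
        rw [resQ_apply]
        show Q (v.1 - QuadraticMap.polar Q f v.1 • e) = 0
        have h1 : v.1 - QuadraticMap.polar Q f v.1 • e =
            (1 : F) • v.1 + (-QuadraticMap.polar Q f v.1) • e := by
          rw [one_smul, neg_smul, sub_eq_add_neg]
        have h2 : QuadraticMap.polar Q v.1 e = 0 := by
          rw [QuadraticMap.polar_comm]
          have := v.2.2 0
          rw [← hedef] at this
          exact this
        rw [h1, Cfsg.Agent.Helper13.map_smul_add_smul, v.2.1, he, h2]
        ring
      · -- orthogonal to the adjusted frame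
        intro i
        rw [hpolN]
        show QuadraticMap.polar Q (x i.succ - c i • e) (v.1 - QuadraticMap.polar Q f v.1 • e) = 0
        have h2 : QuadraticMap.polar Q e v.1 = 0 := by
          have := v.2.2 0
          rw [← hedef] at this
          exact this
        rw [QuadraticMap.polar_sub_left, QuadraticMap.polar_sub_right, QuadraticMap.polar_sub_right,
          QuadraticMap.polar_smul_left, QuadraticMap.polar_smul_left,
          QuadraticMap.polar_smul_right, QuadraticMap.polar_smul_right, v.2.2 i.succ, hxe i, h2, hee]
        simp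
      · -- inverse: singular
        have hn := (mem_perp2 Q e f _).mp p.2.1.2
        have h1 : p.1 • e + (p.2.1 : V) = p.1 • e + (1 : F) • (p.2.1 : V) := by rw [one_smul]
        rw [h1, Cfsg.Agent.Helper13.map_smul_add_smul, he, hn.1]
        have := p.2.2.1
        rw [resQ_apply] at this
        rw [this]
        ring
      · -- inverse: orthogonal to the frame
        have hn := (mem_perp2 Q e f _).mp p.2.1.2
        intro i
        refine Fin.cases ?_ (fun j => ?_) i
        · rw [← hedef, QuadraticMap.polar_add_right, QuadraticMap.polar_smul_right, hee, hn.1]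
          simp
        · have h3 := p.2.2.2 j
          rw [hpolN] at h3
          have h4 : QuadraticMap.polar Q (x j.succ - c j • e) (p.2.1 : V) = 0 := h3
          rw [QuadraticMap.polar_sub_left, QuadraticMap.polar_smul_left, hn.1] at h4
          rw [QuadraticMap.polar_add_right, QuadraticMap.polar_smul_right, hxe j]
          simp only [smul_eq_mul, mul_zero, sub_zero, zero_add] at h4 ⊢
          exact h4
      · intro v
        apply Subtype.ext
        show QuadraticMap.polar Q f v.1 • e + (v.1 - QuadraticMap.polar Q f v.1 • e) = v.1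
        abel
      · intro p
        have hn := (mem_perp2 Q e f _).mp p.2.1.2
        have h5 : QuadraticMap.polar Q f (p.1 • e + (p.2.1 : V)) = p.1 := by
          rw [QuadraticMap.polar_add_right, QuadraticMap.polar_smul_right, hfe, hn.2]
          simp
        apply Prod.ext
        · exact h5
        · apply Subtype.ext
          apply Subtype.ext
          show p.1 • e + (p.2.1 : V) - QuadraticMap.polar Q f (p.1 • e + (p.2.1 : V)) • e = (p.2.1 : V)
          rw [h5]
          abel
    rw [Nat.card_congr hequiv, Nat.card_prod, ihN, Nat.card_eq_fintype_card, pow_succ,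
      Nat.sub_sub, add_comm 1 k]
    ring

end Perp

end COUNT

end Cfsg.Agent.S5973P
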