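import Mathlib
import Cfsg.Prelude.Def_Classical
import Cfsg.Prelude.Def_GeometricClasses
import Cfsg.Agent.Helper5.S5973Defs
import Cfsg.Agent.Helper10.S5973COUNTa
import Cfsg.Agent.Helper10.S5973COUNTb
import Cfsg.Agent.Helper13.S5973HYPSUM
import Cfsg.Agent.Helper1.S5973STD

set_option autoImplicit false

/-! # S5973 + S5987 piece COUNT: the number of totally singular `m`-spaces. -/

universe u

namespace Cfsg.Agent.S5973P

open Module Cfsg.Agent.S5955P

section Count

variable {F : Type*} [Field F] [Fintype F] {V : Type*} [AddCommGroup V] [Module F V]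
  [FiniteDimensional F V]

/-- COUNT: the number of totally singular `m`-spaces -/
theorem card_ts_mul (Q : QuadraticForm F V) (hQ : ND Q) (d : ℕ) (hd : finrank F V = 2 * d)
    (hyp : Bool) (hhyp : IsHyp Q ↔ hyp = true) (m : ℕ) (hm : m ≤ d) :
    Nat.card {W : Submodule F V // finrank F W = m ∧ IsTS Q W} *
        ∏ j ∈ Finset.range m, (Fintype.card F ^ m - Fintype.card F ^ j) =
      ∏ j ∈ Finset.range m, (Fintype.card F ^ j * nsing hyp (Fintype.card F) (d - j)) := by
  haveI : Finite V := Module.finite_of_finite F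
  have key := COUNT.card_ts_mul_gen' Q
    (fun k => Fintype.card F ^ k * (nsing hyp (Fintype.card F) (d - k) + 1)) m
    (fun k _ x => COUNT.card_perp
      (fun V _ _ _ Q hQ C N hCN ho hC hN => isHyp_iff_of_orth Q hQ C N hCN ho hC hN)
      (fun V _ _ _ Q hQ e he hyp hh => card_singular Q hQ e he hyp hh) hyp k V Q hQ d hd hhyp x.1 x.2.1 x.2.2.1 x.2.2.2)
  have hprod : ∏ j ∈ Finset.range m,
      (Fintype.card F ^ j * (nsing hyp (Fintype.card F) (d - j) + 1) - Fintype.card F ^ j) =
      ∏ j ∈ Finset.range m, (Fintype.card F ^ j * nsing hyp (Fintype.card F) (d - j)) :=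
    Finset.prod_congr rfl (fun j _ => by rw [mul_add, mul_one, Nat.add_sub_cancel])
  rw [← hprod]
  exact key

end Count

end Cfsg.Agent.S5973P
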