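import Mathlib
import Cfsg.Prelude.Def_GeometricClasses
import Cfsg.Prelude.Def_ClassicalGeometry
import Cfsg.Agent.Helper4.S6002Defs
import Cfsg.Agent.Helper10.S6002LI

set_option autoImplicit false
open scoped MatrixGroups Matrix

/-! # S6002 piece SPAN: the matrices of `R` span the full matrix algebra (16 coset representatives
are linearly independent). -/

namespace Cfsg.Agent.S6002P

/-- SPAN -/
theorem span_eq_top {F : Type*} [Field F] {R : Subgroup (GL I4 F)} (h : HypR0 R) :
    Submodule.span F (Cfsg.Geo.matrixSet R) = ⊤ := by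
  classical
  haveI : Finite ↥R := Nat.finite_of_card_ne_zero (by rw [h.card]; norm_num)
  set z : ↥R := ⟨-1, h.neg_mem⟩ with hz
  have hz1 : z ≠ 1 := by
    intro e
    exact neg_one_ne_one h.two_ne (congrArg Subtype.val e)
  have hz2 : z ^ 2 = 1 := by
    apply Subtype.ext
    show (-1 : GL I4 F) ^ 2 = 1
    exact neg_one_sq
  have hord : orderOf z = 2 := orderOf_eq_prime hz2 hz1
  set Z : Subgroup ↥R := Subgroup.zpowers z with hZ
  have hZcard : Nat.card Z = 2 := by rw [hZ, Nat.card_zpowers, hord]
  have hQcard : Nat.card (↥R ⧸ Z) = 16 := by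
    have := Subgroup.card_eq_card_quotient_mul_card_subgroup Z
    rw [h.card, hZcard] at this
    omega
  haveI : Fintype (↥R ⧸ Z) := Fintype.ofFinite _
  -- membership in `Z`
  have hZmem : ∀ x : ↥R, x ∈ Z → x = 1 ∨ x = z := by
    intro x hx
    rw [hZ, Subgroup.mem_zpowers_iff] at hx
    obtain ⟨k, rfl⟩ := hx
    rcases Int.emod_two_eq_zero_or_one k with hk | hk
    · left
      have : k = 2 * (k / 2) := by omega
      rw [this, zpow_mul, zpow_ofNat, hz2, one_zpow]
    · right
      have : k = 2 * (k / 2) + 1 := by omega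
      rw [this, zpow_add, zpow_mul, zpow_ofNat, hz2, one_zpow, one_mul, zpow_one]
  set b : ↥R ⧸ Z → GL I4 F := fun q => ((Quotient.out q : ↥R) : GL I4 F) with hb
  have hbR : ∀ q, b q ∈ R := fun q => (Quotient.out q : ↥R).2
  have hne : ∀ q q' : ↥R ⧸ Z, q ≠ q' → b q ≠ b q' ∧ b q ≠ -(b q') := by
    intro q q' hqq'
    constructor
    · intro e
      apply hqq'
      have : (Quotient.out q : ↥R) = Quotient.out q' := Subtype.ext e
      rw [← Quotient.out_eq q, ← Quotient.out_eq q', this]
    · intro e
      apply hqq'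
      have h1 : ((Quotient.out q' : ↥R))⁻¹ * (Quotient.out q : ↥R) = z := by
        apply Subtype.ext
        show ((Quotient.out q' : ↥R) : GL I4 F)⁻¹ * ((Quotient.out q : ↥R) : GL I4 F) = -1
        have e' : ((Quotient.out q : ↥R) : GL I4 F) = -((Quotient.out q' : ↥R) : GL I4 F) := e
        rw [e', mul_neg, inv_mul_cancel]
      have h2 : (QuotientGroup.mk (Quotient.out q') : ↥R ⧸ Z) = QuotientGroup.mk (Quotient.out q) := by
        rw [QuotientGroup.eq, h1, hZ]
        exact Subgroup.mem_zpowers z
      have h3 : (QuotientGroup.mk (Quotient.out q') : ↥R ⧸ Z) = q' := Quotient.out_eq q'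
      have h4 : (QuotientGroup.mk (Quotient.out q) : ↥R ⧸ Z) = q := Quotient.out_eq q
      rw [← h3, ← h4, h2]
  have hli := linearIndependent_of_cosets h b hbR hne
  have hfr : Fintype.card (↥R ⧸ Z) = Module.finrank F (M4 F) := by
    rw [← Nat.card_eq_fintype_card, hQcard, Module.finrank_matrix, Module.finrank_self]
    simp [I4]
  have htop := hli.span_eq_top_of_card_eq_finrank' hfr
  rw [eq_top_iff, ← htop]
  apply Submodule.span_mono
  rintro _ ⟨q, rfl⟩
  exact ⟨b q, hbR q, rfl⟩

end Cfsg.Agent.S6002P
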