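import Mathlib
import Cfsg.Agent.Helper16.S64Defs
set_option autoImplicit false
open scoped commutatorElement
open Cfsg.Agent.Helper16.S64

/-! Piece E of the S3157 drive (driver helper16): two non-commuting involutions. -/

namespace Cfsg.Agent.Helper10.S64E

section

variable {T : Type*} [Group T] {ρ x : MulAut T}

theorem comm_mem_center (hc : Cl2Facts ρ) (s t : T) : ⁅s, t⁆ ∈ Subgroup.center T := by
  rw [Subgroup.mem_center_iff]
  intro g
  exact (hc.central s t g).symm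

theorem sq_mem_center (hc : Cl2Facts ρ) (t : T) : t * t ∈ Subgroup.center T := by
  rw [Subgroup.mem_center_iff]
  intro g
  exact (hc.sq_central t g).symm

theorem rho_mem_center (ρ : MulAut T) (z : T) (hz : z ∈ Subgroup.center T) :
    ρ z ∈ Subgroup.center T := by
  rw [Subgroup.mem_center_iff] at hz ⊢
  intro g
  have h1 := hz (ρ.symm g)
  have h2 := congrArg ρ h1
  simpa using h2

theorem step1 (h : Fpf3Facts ρ) (hc : Cl2Facts ρ) {z0 : T} (hz : ZData x z0)
    (c1 c2 : T) (h1 : x c1 = c1) (h2 : x c2 = c2) (h12 : ⁅c1, c2⁆ ≠ 1) :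
    ∃ t1 s : T, t1 * t1 = 1 ∧ ⁅t1, s⁆ ≠ 1 := by
  have hfix : ∀ a b : T, x a = a → x b = b → x (a * b) = a * b := by
    intro a b ha hb; rw [map_mul, ha, hb]
  have hcomm : ⁅c1, c2⁆ = z0 := by
    have hx : x ⁅c1, c2⁆ = ⁅c1, c2⁆ := by rw [map_commutatorElement, h1, h2]
    rcases hz.only _ (comm_mem_center hc c1 c2) hx with h | h
    · exact absurd h h12
    · exact h
  have hz0sq : z0 * z0 = 1 := hc.center_sq z0 hz.mem
  have hcomm' : ⁅c2, c1⁆ = z0 := by
    rw [← hc.inv_swap, hcomm]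
    exact inv_eq_of_mul_eq_one_left hz0sq
  have hq : ∀ c : T, x c = c → c * c = 1 ∨ c * c = z0 := fun c hcx =>
    hz.only _ (sq_mem_center hc c) (hfix c c hcx hcx)
  rcases hq c1 h1 with q1 | q1
  · exact ⟨c1, c2, q1, h12⟩
  rcases hq c2 h2 with q2 | q2
  · exact ⟨c2, c1, q2, by rw [hcomm']; exact hz.ne_one⟩
  rcases hq (c1 * c2) (hfix c1 c2 h1 h2) with q3 | q3
  · refine ⟨c1 * c2, c1, q3, ?_⟩
    rw [hc.mul_left, commutatorElement_self, one_mul, hcomm']
    exact hz.ne_one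
  · refine ⟨ρ c1 * c2, c1, ?_, ?_⟩
    · rw [hc.sq_mul, ← map_mul, q1, q2, hc.rho_right, hcomm']
      have hp := h.prod z0
      have hcen : ρ z0 * z0 = z0 * ρ z0 := Subgroup.mem_center_iff.mp hz.mem (ρ z0)
      rw [hcen]; exact hp
    · rw [hc.mul_left, hcomm']
      have : ⁅ρ c1, c1⁆ = 1 := by
        rw [commutatorElement_eq_one_iff_mul_comm]
        exact (h.comm c1).symm
      rw [this, one_mul]
      exact hz.ne_one

theorem step2 [Finite T] (h : Fpf3Facts ρ) (hc : Cl2Facts ρ) (hZ : Nat.card (Subgroup.center T) = 4)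
    (t1 s : T) (ht : t1 * t1 = 1) (hts : ⁅t1, s⁆ ≠ 1) :
    ∃ t2 : T, t2 * t2 = 1 ∧ ⁅t1, t2⁆ ≠ 1 := by
  classical
  suffices hkey : s * s = 1 ∨ ∃ a : T, a * a = 1 ∧ ⁅t1, a⁆ = 1 ∧ ⁅a, s⁆ = s * s by
    rcases hkey with hs | ⟨a, ha, hta, has⟩
    · exact ⟨s, hs, hts⟩
    · refine ⟨s * a, ?_, ?_⟩
      · rw [hc.sq_mul, ha, mul_one, has]
        exact hc.center_sq _ (sq_mem_center hc s)
      · rw [hc.mul_right, hta, mul_one]; exact hts
  obtain ⟨c, hcdef⟩ : ∃ c, c = ⁅t1, s⁆ := ⟨_, rfl⟩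
  have hc1 : c ≠ 1 := by rw [hcdef]; exact hts
  have hcz : c ∈ Subgroup.center T := by rw [hcdef]; exact comm_mem_center hc t1 s
  have hρc : ρ c ≠ c := fun e => hc1 (h.fpf c e)
  have hρρc : ρ (ρ c) ≠ c := by
    intro e
    apply hρc
    have := congrArg ρ e
    rw [h.cube] at this
    exact this.symm
  have e1 : ρ c ≠ 1 := fun e => hc1 ((map_eq_one_iff ρ ρ.injective).mp e)
  have e2 : ρ (ρ c) ≠ 1 := fun e => e1 ((map_eq_one_iff ρ ρ.injective).mp e)
  have e3 : ρ (ρ c) ≠ ρ c := fun e => hρc (ρ.injective e)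
  have hcard : ({1, c, ρ c, ρ (ρ c)} : Finset T).card = 4 := by
    rw [Finset.card_insert_of_notMem, Finset.card_insert_of_notMem,
      Finset.card_insert_of_notMem, Finset.card_singleton]
    · simp only [Finset.mem_singleton]; exact e3.symm
    · simp only [Finset.mem_insert, Finset.mem_singleton, not_or]; exact ⟨hρc.symm, hρρc.symm⟩
    · simp only [Finset.mem_insert, Finset.mem_singleton, not_or]
      exact ⟨hc1.symm, e1.symm, e2.symm⟩
  have hsub : (({1, c, ρ c, ρ (ρ c)} : Finset T) : Set T) ⊆ (Subgroup.center T : Set T) := by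
    intro z hz
    simp only [Finset.coe_insert, Finset.coe_singleton, Set.mem_insert_iff,
      Set.mem_singleton_iff] at hz
    rcases hz with rfl | rfl | rfl | rfl
    · exact one_mem _
    · exact hcz
    · exact rho_mem_center ρ c hcz
    · exact rho_mem_center ρ _ (rho_mem_center ρ c hcz)
  have hZ' : (Subgroup.center T : Set T).ncard = 4 := by
    rw [← hZ]; exact (_root_.Nat.card_coe_set_eq _).symm
  have heq := Set.eq_of_subset_of_ncard_le hsub
    (by rw [Set.ncard_coe_finset, hcard, hZ']) (Set.toFinite _)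
  have hss : s * s ∈ (Subgroup.center T : Set T) := sq_mem_center hc s
  rw [← heq] at hss
  simp only [Finset.coe_insert, Finset.coe_singleton, Set.mem_insert_iff,
    Set.mem_singleton_iff] at hss
  have hρ1 : ρ (1 : T) = 1 := map_one ρ
  rcases hss with hs | hs | hs | hs
  · exact Or.inl hs
  · refine Or.inr ⟨t1, ht, commutatorElement_self t1, ?_⟩
    rw [hs, hcdef]
  · refine Or.inr ⟨ρ (ρ t1), ?_, ?_, ?_⟩
    · rw [← map_mul, ← map_mul, ht, hρ1, hρ1]
    · rw [commutatorElement_eq_one_iff_mul_comm]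
      have := h.comm (ρ (ρ t1))
      rw [h.cube] at this
      exact this.symm
    · rw [hc.rho_left, hc.rho_left, ← hcdef, h.cube, hs]
  · refine Or.inr ⟨ρ t1, ?_, ?_, ?_⟩
    · rw [← map_mul, ht, hρ1]
    · rw [commutatorElement_eq_one_iff_mul_comm]
      exact h.comm t1
    · rw [hc.rho_left, ← hcdef, hs]

end

theorem exists_invols {T : Type*} [Group T] [Finite T] {ρ x : MulAut T}
    (h : Fpf3Facts ρ) (hx : XData ρ x) (hc : Cl2Facts ρ)
    (hZ : Nat.card (Subgroup.center T) = 4) {z0 : T} (hz : ZData x z0)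
    (c1 c2 : T) (h1 : x c1 = c1) (h2 : x c2 = c2) (h12 : ⁅c1, c2⁆ ≠ 1) :
    ∃ t1 t2 : T, t1 * t1 = 1 ∧ t2 * t2 = 1 ∧ ⁅t1, t2⁆ ≠ 1 := by
  have _ := hx
  obtain ⟨t1, s, ht, hts⟩ := step1 h hc hz c1 c2 h1 h2 h12
  obtain ⟨t2, ht2, h12'⟩ := step2 h hc hZ t1 s ht hts
  exact ⟨t1, t2, ht, ht2, h12'⟩


end Cfsg.Agent.Helper10.S64E
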