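import Mathlib
import Cfsg.Prelude.Def_Local
import Cfsg.Agent.Helper23.HallHigman
import Cfsg.Agent.Helper14.PCore
import Cfsg.Agent.Helper19.Cores
import Cfsg.Agent.Lead.ThompsonPQ
import Cfsg.Agent.Helper10.CosetFixed
import Cfsg.Agent.Helper10.SolvPSolv
import Cfsg.Agent.Helper10.PTerminal
import Cfsg.Agent.Helper17.Basic

set_option autoImplicit false
set_option linter.unusedSectionVars false
set_option linter.unusedVariables false

/-! # Balance in `p`-solvable groups: `O_{p'}(C_X(y)) ≤ O_{p'}(X)` -/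

namespace Cfsg.Agent.Helper10

open Subgroup Cfsg
open Cfsg.Agent.Helper19 (pPrimeCore_coprime)

universe u

/-- In a `p`-solvable group `X`, a `p'`-subgroup `D` of `C_X(y)` normalized by `C_X(y)`, `y` of
order `p`, lies in `O_{p'}(X)`. -/
theorem le_pPrimeCore_of_normalized_by_centralizer {X : Type u} [Group X] [Finite X] {p : ℕ}
    [hp : Fact p.Prime] (hsolv : IsPSolvable p X) {y : X} (hy : orderOf y = p) {D : Subgroup X}
    (hDy : D ≤ centralizer ({y} : Set X))
    (hnorm : centralizer ({y} : Set X) ≤ normalizer (D : Set X))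
    (hD : (Nat.card D).Coprime p) : D ≤ pPrimeCore p X := by
  obtain ⟨O, hO⟩ : ∃ O : Subgroup X, O = pPrimeCore p X := ⟨_, rfl⟩
  have hOn : O.Normal := hO ▸ pPrimeCore_normal p X
  rw [← hO]
  obtain ⟨π, hπ⟩ : ∃ π : X →* X ⧸ O, π = QuotientGroup.mk' O := ⟨_, rfl⟩
  have hπker : π.ker = O := by rw [hπ]; exact QuotientGroup.ker_mk' O
  have hπsurj : Function.Surjective π := by rw [hπ]; exact QuotientGroup.mk'_surjective O
  obtain ⟨Q, hQdef⟩ : ∃ Q : Subgroup (X ⧸ O), Q = pCore p (X ⧸ O) := ⟨_, rfl⟩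
  have hHH : centralizer (Q : Set (X ⧸ O)) ≤ Q := by
    subst hO hQdef
    exact Cfsg.Agent.Helper23.centralizer_pCore_quotient_le_of_isPSolvable hsolv
  have hQn : Q.Normal := hQdef ▸ Cfsg.Agent.Helper14.pCore_normal p
  have hQp : IsPGroup p Q := hQdef ▸ Cfsg.Agent.Helper14.pCore_isPGroup p
  obtain ⟨Pb, hPb⟩ : ∃ Pb : Subgroup (X ⧸ O), Pb = (zpowers y).map π := ⟨_, rfl⟩
  obtain ⟨Db, hDb⟩ : ∃ Db : Subgroup (X ⧸ O), Db = D.map π := ⟨_, rfl⟩
  have hcardA : Nat.card (zpowers y) = p := by rw [Nat.card_zpowers, hy]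
  have hAp : IsPGroup p (zpowers y) := IsPGroup.of_card (n := 1) (by rw [hcardA, pow_one])
  have hPp : IsPGroup p Pb := hPb ▸ hAp.map π
  have hDbcop : (Nat.card Db).Coprime p :=
    Nat.Coprime.coprime_dvd_left (hDb ▸ Subgroup.card_map_dvd D π) hD
  have hycomm : ∀ a ∈ zpowers y, ∀ d ∈ centralizer ({y} : Set X), d * a = a * d := by
    intro a ha d hd
    obtain ⟨i, rfl⟩ := mem_zpowers_iff.1 ha
    have h1 : Commute y d := mem_centralizer_iff.1 hd y (Set.mem_singleton y)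
    exact (h1.zpow_left i).eq.symm
  have hPD : Pb ≤ centralizer (Db : Set (X ⧸ O)) := by
    rw [hPb, hDb]
    rintro _ ⟨a, ha, rfl⟩
    rw [mem_centralizer_iff]
    rintro _ ⟨d, hd, rfl⟩
    rw [← map_mul, ← map_mul, hycomm a ha d (hDy hd)]
  have hPQ : Pb ≤ normalizer (Q : Set (X ⧸ O)) := by rw [normalizer_eq_top]; exact le_top
  have hDQ : Db ≤ normalizer (Q : Set (X ⧸ O)) := by rw [normalizer_eq_top]; exact le_top
  have hQD : Q ⊓ Db = ⊥ := by
    apply Disjoint.eq_bot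
    apply Subgroup.disjoint_of_coprime_natCard
    obtain ⟨n, hn⟩ := IsPGroup.iff_card.1 hQp
    rw [hn]
    exact (Nat.Coprime.pow_right n hDbcop).symm
  have hcopAO : (Nat.card (zpowers y)).Coprime (Nat.card O) := by
    rw [hcardA, hO]; exact (pPrimeCore_coprime p).symm
  have hC : Q ⊓ centralizer (Pb : Set (X ⧸ O)) ≤ centralizer (Db : Set (X ⧸ O)) := by
    intro qb hqb
    obtain ⟨hqQ, hqP⟩ := mem_inf.1 hqb
    obtain ⟨q, rfl⟩ := hπsurj qb
    obtain ⟨Kc, hKc⟩ : ∃ Kc : Subgroup X, Kc = (centralizer (Pb : Set (X ⧸ O))).comap π :=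
      ⟨_, rfl⟩
    have hqK : q ∈ Kc := by rw [hKc]; exact hqP
    have hOK : O ≤ Kc := by
      intro o ho
      rw [hKc, mem_comap]
      have : π o = 1 := by rw [← MonoidHom.mem_ker, hπker]; exact ho
      rw [this]; exact one_mem _
    have hKN : Kc ≤ normalizer (O : Set X) := by rw [normalizer_eq_top]; exact le_top
    have hAN : zpowers y ≤ normalizer (O : Set X) := by rw [normalizer_eq_top]; exact le_top
    have hfix : ∀ a ∈ zpowers y, ∀ k ∈ Kc, a * k * a⁻¹ * k⁻¹ ∈ O := by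
      intro a ha k hk
      rw [← hπker, MonoidHom.mem_ker]
      simp only [map_mul, map_inv]
      rw [hKc, mem_comap, mem_centralizer_iff] at hk
      have h1 := hk (π a) (hPb ▸ mem_map_of_mem π ha)
      rw [h1]; group
    obtain ⟨c, hc, hqc⟩ := exists_centralizing_in_coset hOK hKN hAN hcopAO (Or.inl inferInstance)
      hfix hqK
    have hcy : c ∈ centralizer ({y} : Set X) := by
      rw [mem_centralizer_iff]
      intro h hh
      rw [Set.mem_singleton_iff] at hh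
      rw [hh]
      exact mem_centralizer_iff.1 hc.2 y (mem_zpowers y)
    have hπc : π c = π q := by
      have h1 : π (q⁻¹ * c) = 1 := by rw [← MonoidHom.mem_ker, hπker]; exact hqc
      rw [map_mul, map_inv, inv_mul_eq_one] at h1
      exact h1.symm
    rw [mem_centralizer_iff]
    rintro db hdb
    rw [hDb] at hdb
    obtain ⟨d, hd, rfl⟩ := hdb
    have he : c * d * c⁻¹ * d⁻¹ ∈ D :=
      D.mul_mem ((mem_normalizer_iff.1 (hnorm hcy) d).1 hd) (D.inv_mem hd)
    have h1 : π (c * d * c⁻¹ * d⁻¹) ∈ Q ⊓ Db := by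
      refine mem_inf.2 ⟨?_, hDb ▸ mem_map_of_mem π he⟩
      simp only [map_mul, map_inv]
      rw [hπc]
      have h2 : π d * (π q)⁻¹ * (π d)⁻¹ ∈ Q := hQn.conj_mem _ (Q.inv_mem hqQ) _
      have h3 : π q * π d * (π q)⁻¹ * (π d)⁻¹ = π q * (π d * (π q)⁻¹ * (π d)⁻¹) := by group
      rw [h3]
      exact Q.mul_mem hqQ h2
    rw [hQD, mem_bot] at h1
    simp only [map_mul, map_inv] at h1
    rw [hπc] at h1
    have h4 : π d * π q = (π q * π d * (π q)⁻¹ * (π d)⁻¹)⁻¹ * (π q * π d) := by group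
    rw [h4, h1, inv_one, one_mul]
  have h1 := Cfsg.Agent.Lead.thompson_PQ p Pb Db Q hPp hDbcop hQp hPD hPQ hDQ hC
  have h2 : Db ≤ Q ⊓ Db := le_inf (h1.trans hHH) le_rfl
  rw [hQD, le_bot_iff, hDb, Subgroup.map_eq_bot_iff, hπker] at h2
  exact h2

/-- Half of solvable balance: `O_{p'}(C_G(y)) ∩ C_G(x) ≤ O_{p'}(C_G(x))` for commuting `x`, `y`
with `y` of order `p` and `C_G(x)` `p`-solvable. -/
theorem centralizerPPrimeCore_inf_le {G : Type u} [Group G] [Finite G] {p : ℕ}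
    [hp : Fact p.Prime] {x y : G} (hy : orderOf y = p) (hxy : x * y = y * x)
    (hCx : IsPSolvable p ↥(centralizer ({x} : Set G))) :
    centralizerPPrimeCore p y ⊓ centralizer ({x} : Set G) ≤ centralizerPPrimeCore p x := by
  obtain ⟨Cx, hCxdef⟩ : ∃ Cx : Subgroup G, Cx = centralizer ({x} : Set G) := ⟨_, rfl⟩
  obtain ⟨Cy, hCydef⟩ : ∃ Cy : Subgroup G, Cy = centralizer ({y} : Set G) := ⟨_, rfl⟩
  have hOy : centralizerPPrimeCore p y = (pPrimeCore p ↥Cy).map Cy.subtype := by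
    rw [hCydef]; rfl
  have hOx : centralizerPPrimeCore p x = (pPrimeCore p ↥Cx).map Cx.subtype := by
    rw [hCxdef]; rfl
  rw [hOy, hOx, ← hCxdef]
  rw [← hCxdef] at hCx
  obtain ⟨DG, hDG⟩ : ∃ DG : Subgroup G, DG = (pPrimeCore p ↥Cy).map Cy.subtype ⊓ Cx := ⟨_, rfl⟩
  rw [← hDG]
  have hDGx : DG ≤ Cx := hDG ▸ inf_le_right
  have hDGy : DG ≤ Cy := hDG ▸ (inf_le_left.trans (map_subtype_le _))
  have hyCx : y ∈ Cx := by
    rw [hCxdef, mem_centralizer_iff]
    intro h hh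
    rw [Set.mem_singleton_iff] at hh
    rw [hh, hxy]
  have hy' : orderOf (⟨y, hyCx⟩ : ↥Cx) = p := by
    rw [← hy]
    exact (Subgroup.orderOf_coe (⟨y, hyCx⟩ : ↥Cx)).symm
  have hDy : DG.subgroupOf Cx ≤ centralizer ({(⟨y, hyCx⟩ : ↥Cx)} : Set ↥Cx) := by
    intro d hd
    rw [mem_subgroupOf] at hd
    have h1 : (d : G) ∈ Cy := hDGy hd
    rw [hCydef, mem_centralizer_iff] at h1
    rw [mem_centralizer_iff]
    intro h hh
    rw [Set.mem_singleton_iff] at hh
    rw [hh]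
    apply Subtype.ext
    exact h1 y (Set.mem_singleton y)
  have hnorm : centralizer ({(⟨y, hyCx⟩ : ↥Cx)} : Set ↥Cx) ≤
      normalizer ((DG.subgroupOf Cx : Subgroup ↥Cx) : Set ↥Cx) := by
    intro c hc
    have hcy : (c : G) ∈ Cy := by
      rw [hCydef, mem_centralizer_iff]
      intro h hh
      rw [Set.mem_singleton_iff] at hh
      rw [hh]
      have := mem_centralizer_iff.1 hc ⟨y, hyCx⟩ (Set.mem_singleton _)
      exact congrArg Subtype.val this
    have hcN : (c : G) ∈ normalizer (DG : Set G) := by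
      rw [hDG]
      exact le_normalizer_inf_of_le (Q := Cy ⊓ Cx)
        (inf_le_left.trans (le_normalizer_map_subtype_pPrimeCore Cy))
        (inf_le_right.trans le_normalizer) (mem_inf.2 ⟨hcy, c.2⟩)
    rw [mem_normalizer_iff]
    intro d
    rw [mem_subgroupOf, mem_subgroupOf]
    exact mem_normalizer_iff.1 hcN (d : G)
  have hD : (Nat.card (DG.subgroupOf Cx)).Coprime p := by
    rw [Cfsg.Agent.Helper17.card_subgroupOf_of_le hDGx]
    have h1 : Nat.card DG ∣ Nat.card ((pPrimeCore p ↥Cy).map Cy.subtype : Subgroup G) :=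
      card_dvd_of_le (hDG ▸ inf_le_left)
    rw [← Nat.card_congr ((pPrimeCore p ↥Cy).equivMapOfInjective _
      (subtype_injective Cy)).toEquiv] at h1
    exact Nat.Coprime.coprime_dvd_left h1 (pPrimeCore_coprime p)
  have hmain := le_pPrimeCore_of_normalized_by_centralizer hCx hy' hDy hnorm hD
  intro g hg
  exact ⟨⟨g, hDGx hg⟩, hmain (mem_subgroupOf.2 hg), rfl⟩

end Cfsg.Agent.Helper10
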