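import Mathlib
import Cfsg.Prelude.Def_TwoFusion
import Cfsg.Agent.Helper10.AG
import Cfsg.Agent.Helper14.Stability

set_option autoImplicit false
set_option linter.unusedSectionVars false
set_option linter.unusedVariables false

/-! # A strongly closed abelian subgroup `A` of a Sylow subgroup: `N_G(A)` controls strong fusion -/

namespace Cfsg.Agent.Helper10

open Subgroup Cfsg.Agent.Helper14
open scoped Pointwise

variable {G : Type*} [Group G]

/-- elements of `N_G(T)` centralizing `A ⊓ T` and acting trivially on `T / (A ⊓ T)` -/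
def chainStab (A T : Subgroup G) : Subgroup G where
  carrier := {n | n ∈ normalizer (T : Set G) ∧ n ∈ centralizer ((A ⊓ T : Subgroup G) : Set G) ∧
    ∀ t ∈ T, n * t * n⁻¹ * t⁻¹ ∈ A ⊓ T}
  one_mem' := by
    refine ⟨one_mem _, one_mem _, ?_⟩
    intro t _
    have : (1 : G) * t * 1⁻¹ * t⁻¹ = 1 := by group
    rw [this]; exact one_mem _
  mul_mem' := by
    rintro n m ⟨hn1, hn2, hn3⟩ ⟨hm1, hm2, hm3⟩
    refine ⟨mul_mem hn1 hm1, mul_mem hn2 hm2, ?_⟩
    intro t ht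
    have h1 := hm3 t ht
    have h2 := hn3 t ht
    have h3 : n * (m * t * m⁻¹ * t⁻¹) * n⁻¹ = m * t * m⁻¹ * t⁻¹ := by
      have := mem_centralizer_iff.1 hn2 _ h1
      rw [← this]; group
    have e : n * m * t * (n * m)⁻¹ * t⁻¹ =
        n * (m * t * m⁻¹ * t⁻¹) * n⁻¹ * (n * t * n⁻¹ * t⁻¹) := by group
    rw [e, h3]
    exact mul_mem h1 h2
  inv_mem' := by
    rintro n ⟨hn1, hn2, hn3⟩
    refine ⟨inv_mem hn1, inv_mem hn2, ?_⟩
    intro t ht
    have h2 := hn3 t ht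
    have h3 : n⁻¹ * (n * t * n⁻¹ * t⁻¹) * n = n * t * n⁻¹ * t⁻¹ := by
      have := mem_centralizer_iff.1 (inv_mem hn2) _ h2
      have e : n⁻¹ * (n * t * n⁻¹ * t⁻¹) * n = n⁻¹ * (n * t * n⁻¹ * t⁻¹) * n⁻¹⁻¹ := by group
      rw [e, ← this]; group
    have e : n⁻¹ * t * n⁻¹⁻¹ * t⁻¹ = (n⁻¹ * (n * t * n⁻¹ * t⁻¹) * n)⁻¹ := by group
    rw [e, h3]
    exact inv_mem h2

theorem mem_chainStab {A T : Subgroup G} {n : G} :
    n ∈ chainStab A T ↔ n ∈ normalizer (T : Set G) ∧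
      n ∈ centralizer ((A ⊓ T : Subgroup G) : Set G) ∧ ∀ t ∈ T, n * t * n⁻¹ * t⁻¹ ∈ A ⊓ T :=
  Iff.rfl

section

variable [Finite G] {p : ℕ} [hp : Fact p.Prime] (S : Sylow p G) (A : Subgroup G)

theorem conj_mem_inf_of_stronglyClosed (hsc : Cfsg.IsStronglyClosed A (S : Subgroup G))
    {T : Subgroup G} (hTS : T ≤ (S : Subgroup G)) {g a : G} (hg : g ∈ normalizer (T : Set G))
    (ha : a ∈ A ⊓ T) : g * a * g⁻¹ ∈ A ⊓ T := by
  have h1 : g * a * g⁻¹ ∈ T := (mem_normalizer_iff.1 hg a).1 ha.2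
  exact ⟨hsc.2 a ha.1 g (hTS h1), h1⟩

theorem normalizer_le_normalizer_chainStab (hsc : Cfsg.IsStronglyClosed A (S : Subgroup G))
    {T : Subgroup G} (hTS : T ≤ (S : Subgroup G)) :
    normalizer (T : Set G) ≤ normalizer ((chainStab A T : Subgroup G) : Set G) := by
  apply le_normalizer_of_map_cj_le
  intro g hg x hx
  rw [mem_map_cj] at hx
  obtain ⟨hx1, hx2, hx3⟩ := hx
  have hg' : g⁻¹ ∈ normalizer (T : Set G) := inv_mem hg
  have hx1' : x ∈ normalizer (T : Set G) := by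
    have := mul_mem (mul_mem hg hx1) hg'
    have e : g * (g⁻¹ * x * g) * g⁻¹ = x := by group
    rwa [e] at this
  refine ⟨hx1', ?_, ?_⟩
  · rw [mem_centralizer_iff]
    intro a ha
    have ha' : g⁻¹ * a * g⁻¹⁻¹ ∈ A ⊓ T := conj_mem_inf_of_stronglyClosed S A hsc hTS hg' ha
    have h1 := mem_centralizer_iff.1 hx2 _ ha'
    have e1 : a * x = g * ((g⁻¹ * a * g⁻¹⁻¹) * (g⁻¹ * x * g)) * g⁻¹ := by group
    have e2 : x * a = g * ((g⁻¹ * x * g) * (g⁻¹ * a * g⁻¹⁻¹)) * g⁻¹ := by group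
    rw [e1, e2, h1]
  · intro t ht
    have ht' : g⁻¹ * t * g⁻¹⁻¹ ∈ T := (mem_normalizer_iff.1 hg' t).1 ht
    have h1 := hx3 _ ht'
    have h2 := conj_mem_inf_of_stronglyClosed S A hsc hTS hg h1
    have e : x * t * x⁻¹ * t⁻¹ =
        g * (g⁻¹ * x * g * (g⁻¹ * t * g⁻¹⁻¹) * (g⁻¹ * x * g)⁻¹ * (g⁻¹ * t * g⁻¹⁻¹)⁻¹) * g⁻¹ := by
      group
    rw [e]; exact h2

theorem chainStab_pow_mem_centralizer {T : Subgroup G} (hTS : T ≤ (S : Subgroup G)) :
    ∀ k ∈ chainStab A T, ∃ j : ℕ, k ^ (p ^ j) ∈ centralizer (T : Set G) := by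
  intro k hk
  obtain ⟨hk1, hk2, hk3⟩ := hk
  have hATp : IsPGroup p ↥(A ⊓ T : Subgroup G) := S.2.to_le (inf_le_right.trans hTS)
  obtain ⟨j, hj⟩ := hATp.exists_card_eq
  refine ⟨j, ?_⟩
  rw [mem_centralizer_iff]
  intro t ht
  -- `c = t k t⁻¹ k⁻¹ ∈ A ⊓ T`
  have hc : t * k * t⁻¹ * k⁻¹ ∈ A ⊓ T := by
    have := inv_mem (hk3 t ht)
    have e : (k * t * k⁻¹ * t⁻¹)⁻¹ = t * k * t⁻¹ * k⁻¹ := by group
    rwa [e] at this
  have hbc : Commute k (t * k * t⁻¹ * k⁻¹) := (mem_centralizer_iff.1 hk2 _ hc).symm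
  have h1 := conj_pow_of_commutator_commute t k _ rfl hbc (p ^ j)
  have hcp : (t * k * t⁻¹ * k⁻¹) ^ (p ^ j) = 1 := by
    have := pow_card_eq_one' (G := ↥(A ⊓ T : Subgroup G)) (x := ⟨_, hc⟩)
    rw [hj] at this
    have h2 := congrArg Subtype.val this
    simpa using h2
  rw [hcp, inv_one, one_mul] at h1
  calc t * k ^ p ^ j = (k ^ p ^ j * t * (k ^ p ^ j)⁻¹) * k ^ p ^ j := by rw [h1]
    _ = k ^ p ^ j * t := by group

/-- `A ≤ T` for every member `T` of the refined family. -/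
theorem le_of_mem_agFam (hA : IsMulCommutative ↥A) (hsc : Cfsg.IsStronglyClosed A (S : Subgroup G))
    {T : Subgroup G} (hT : T ∈ agFam p S (fun _ : Unit => chainStab A)) : A ≤ T := by
  obtain ⟨hT1, hT2⟩ := hT
  have hTS : T ≤ (S : Subgroup G) := tameFam_le hT1
  have hAS : A ≤ (S : Subgroup G) := hsc.1
  -- `N_A(T) ≤ T`
  have hNA : A ⊓ normalizer (T : Set G) ≤ T := by
    intro a ha
    apply hT2 ()
    refine ⟨hAS ha.1, ha.2, ?_, ?_⟩
    · rw [mem_centralizer_iff]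
      intro b hb
      have := hA.is_comm.comm (⟨b, hb.1⟩ : ↥A) ⟨a, ha.1⟩
      exact congrArg Subtype.val this
    · intro t ht
      have h1 : a * t * a⁻¹ * t⁻¹ ∈ T :=
        mul_mem ((mem_normalizer_iff.1 ha.2 t).1 ht) (inv_mem ht)
      have h2 : t * a⁻¹ * t⁻¹ ∈ A :=
        hsc.2 a⁻¹ (inv_mem ha.1) t (mul_mem (mul_mem (hTS ht) (hAS (inv_mem ha.1))) (inv_mem (hTS ht)))
      have e : a * t * a⁻¹ * t⁻¹ = a * (t * a⁻¹ * t⁻¹) := by group
      exact ⟨by rw [e]; exact mul_mem ha.1 h2, h1⟩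
  -- `A` is normal in `S`
  have hSA : (S : Subgroup G) ≤ normalizer (A : Set G) := by
    apply le_normalizer_of_map_cj_le
    intro g hg x hx
    obtain ⟨a, ha, rfl⟩ := hx
    exact hsc.2 a ha g (mul_mem (mul_mem hg (hAS ha)) (inv_mem hg))
  by_contra hAT
  have hlt : T < A ⊔ T := by
    refine lt_of_le_of_ne le_sup_right ?_
    intro heq
    apply hAT
    rw [heq]; exact le_sup_left
  have hATp : IsPGroup p ↥(A ⊔ T : Subgroup G) := S.2.to_le (sup_le hAS hTS)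
  have hlt2 := Cfsg.Agent.Helper11.lt_inf_normalizer (A ⊔ T) T hATp hlt
  obtain ⟨y, hy, hyT⟩ := SetLike.exists_of_lt hlt2
  have hy1 : y ∈ ((A : Subgroup G) : Set G) * ((T : Subgroup G) : Set G) := by
    rw [← coe_mul_of_right_le_normalizer_left A T (hTS.trans hSA)]; exact hy.1
  obtain ⟨a, ha, t, ht, hat⟩ := Set.mem_mul.1 hy1
  apply hyT
  rw [← hat]
  have haN : a ∈ normalizer (T : Set G) := by
    have : a = y * t⁻¹ := by rw [← hat]; group
    rw [this]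
    exact mul_mem hy.2 (inv_mem (le_normalizer ht))
  exact mul_mem (hNA ⟨ha, haN⟩) ht

/-- **`N_G(A)` controls strong fusion in `S`** for `A` abelian and strongly closed. -/
theorem stronglyClosed_abelian_controls (hA : IsMulCommutative ↥A)
    (hsc : Cfsg.IsStronglyClosed A (S : Subgroup G)) (B : Set G)
    (hB : B ⊆ ((S : Subgroup G) : Set G)) (g : G)
    (hBg : (fun a => g * a * g⁻¹) '' B ⊆ ((S : Subgroup G) : Set G)) :
    ∃ x ∈ normalizer (A : Set G), ∀ a ∈ B, g * a * g⁻¹ = x * a * x⁻¹ := by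
  have hAg : rc g⁻¹ B ⊆ ((S : Subgroup G) : Set G) := by
    rintro _ ⟨a, ha, rfl⟩
    have := hBg ⟨a, ha, rfl⟩
    simpa using this
  obtain ⟨c, hc, l, hl, hg⟩ := ag_set S (fun _ : Unit => chainStab A)
    (fun _ T _ => fun n hn => hn.1)
    (fun _ T hT => normalizer_le_normalizer_chainStab S A hsc (tameFam_le hT))
    (fun _ T hT => chainStab_pow_mem_centralizer S A (tameFam_le hT)) B g⁻¹ hB hAg
  have hmem : lprod l ∈ normalizer (A : Set G) := by
    apply Dec.lprod_mem (𝓕 := agFam p S (fun _ : Unit => chainStab A)) _ hl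
    intro T hT
    have hAT := le_of_mem_agFam S A hA hsc hT
    have hTS : T ≤ (S : Subgroup G) := tameFam_le hT.1
    apply le_normalizer_of_map_cj_le
    intro u hu x hx
    obtain ⟨a, ha, rfl⟩ := hx
    exact hsc.2 a ha u (hTS ((mem_normalizer_iff.1 hu a).1 (hAT ha)))
  refine ⟨(lprod l)⁻¹, inv_mem hmem, ?_⟩
  intro a ha
  have hca : c * a = a * c := (mem_centralizer_iff.1 hc a ha).symm
  have hg' : g = (lprod l)⁻¹ * c⁻¹ := by
    have : g = (g⁻¹)⁻¹ := by group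
    rw [this, hg]; group
  have e1 : c⁻¹ * a * c = a := by
    calc c⁻¹ * a * c = c⁻¹ * (a * c) := by group
      _ = c⁻¹ * (c * a) := by rw [hca]
      _ = a := by group
  rw [hg']
  calc (lprod l)⁻¹ * c⁻¹ * a * ((lprod l)⁻¹ * c⁻¹)⁻¹ = (lprod l)⁻¹ * (c⁻¹ * a * c) * (lprod l)⁻¹⁻¹ := by
        group
    _ = (lprod l)⁻¹ * a * (lprod l)⁻¹⁻¹ := by rw [e1]

end

end Cfsg.Agent.Helper10
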