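import Mathlib

/-!
# S3211 (two commuting `SL₂`'s swapped by an element `n` with `n² = j`): shared definitions

`Cfg L₁ L₂ j n` is the abstract configuration extracted from the hypotheses of S3211.
Everything in this file is Mathlib-only group theory.
-/

set_option autoImplicit false

namespace Cfsg.Agent.Helper10.Sw

variable {G : Type*} [Group G]

/-- The abstract configuration of S3211: `L₁, L₂` commute elementwise and meet in `{1, j}`;
`M = L₁ ⊔ L₂` has the two cosets `M, M n` in `C(j)`; `n² = j`; conjugation by `n` swaps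
`L₁` and `L₂`; each `Lᵢ` has `j` as its only involution, one class of elements of square `j`,
and abelian centralizers of elements of square `j`. -/
structure Cfg (L₁ L₂ : Subgroup G) (j n : G) : Prop where
  j_ne : j ≠ 1
  j_sq : j * j = 1
  comm : ∀ x ∈ L₁, ∀ y ∈ L₂, x * y = y * x
  inter : ∀ x, x ∈ L₁ → x ∈ L₂ → x = 1 ∨ x = j
  j_mem₁ : j ∈ L₁
  j_mem₂ : j ∈ L₂
  le_cent : ∀ x ∈ L₁ ⊔ L₂, x * j = j * x
  cover : ∀ g : G, g * j = j * g → g ∈ L₁ ⊔ L₂ ∨ g * n⁻¹ ∈ L₁ ⊔ L₂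
  n_comm : n * j = j * n
  n_sq : n * n = j
  n_not : n ∉ L₁ ⊔ L₂
  swap₁ : ∀ x ∈ L₁, n * x * n⁻¹ ∈ L₂
  swap₂ : ∀ y ∈ L₂, n * y * n⁻¹ ∈ L₁
  inv₁ : ∀ x ∈ L₁, x * x = 1 → x = 1 ∨ x = j
  inv₂ : ∀ y ∈ L₂, y * y = 1 → y = 1 ∨ y = j
  conj₁ : ∀ a ∈ L₁, ∀ a' ∈ L₁, a * a = j → a' * a' = j → ∃ x ∈ L₁, x * a * x⁻¹ = a'
  ab₁ : ∀ a ∈ L₁, a * a = j → ∀ c ∈ L₁, ∀ c' ∈ L₁, c * a = a * c → c' * a = a * c' →
    c * c' = c' * c
  ab₂ : ∀ b ∈ L₂, b * b = j → ∀ c ∈ L₂, ∀ c' ∈ L₂, c * b = b * c → c' * b = b * c' →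
    c * c' = c' * c

namespace Cfg

variable {L₁ L₂ : Subgroup G} {j n : G}

/-- Elements of `L₁ ⊔ L₂` are products `x * y`. -/
theorem mem_sup (h : Cfg L₁ L₂ j n) {g : G} :
    g ∈ L₁ ⊔ L₂ ↔ ∃ x ∈ L₁, ∃ y ∈ L₂, g = x * y := by
  constructor
  · intro hg
    let M' : Subgroup G :=
      { carrier := {g | ∃ x ∈ L₁, ∃ y ∈ L₂, g = x * y}
        one_mem' := ⟨1, L₁.one_mem, 1, L₂.one_mem, by simp⟩
        mul_mem' := by
          rintro u v ⟨x, hx, y, hy, rfl⟩ ⟨x', hx', y', hy', rfl⟩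
          refine ⟨x * x', L₁.mul_mem hx hx', y * y', L₂.mul_mem hy hy', ?_⟩
          have := h.comm x' hx' y hy
          calc x * y * (x' * y') = x * (y * x') * y' := by group
            _ = x * (x' * y) * y' := by rw [this]
            _ = x * x' * (y * y') := by group
        inv_mem' := by
          rintro u ⟨x, hx, y, hy, rfl⟩
          refine ⟨x⁻¹, L₁.inv_mem hx, y⁻¹, L₂.inv_mem hy, ?_⟩
          have := h.comm x⁻¹ (L₁.inv_mem hx) y⁻¹ (L₂.inv_mem hy)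
          rw [mul_inv_rev, this] }
    have hle : L₁ ⊔ L₂ ≤ M' := by
      apply sup_le
      · intro x hx; exact ⟨x, hx, 1, L₂.one_mem, by simp⟩
      · intro y hy; exact ⟨1, L₁.one_mem, y, hy, by simp⟩
    exact hle hg
  · rintro ⟨x, hx, y, hy, rfl⟩
    exact Subgroup.mul_mem _ (Subgroup.mem_sup_left hx) (Subgroup.mem_sup_right hy)

theorem j_inv (h : Cfg L₁ L₂ j n) : j⁻¹ = j := by
  rw [inv_eq_iff_mul_eq_one]; exact h.j_sq

/-- `j` commutes with every element of `L₁`. -/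
theorem j_comm₁ (h : Cfg L₁ L₂ j n) {x : G} (hx : x ∈ L₁) : x * j = j * x :=
  h.comm x hx j h.j_mem₂

/-- `j` commutes with every element of `L₂`. -/
theorem j_comm₂ (h : Cfg L₁ L₂ j n) {y : G} (hy : y ∈ L₂) : y * j = j * y :=
  (h.comm j h.j_mem₁ y hy).symm

/-- Conjugating twice by `n` is trivial on `C(j)`. -/
theorem tau_tau (h : Cfg L₁ L₂ j n) {x : G} (hx : x * j = j * x) :
    n * (n * x * n⁻¹) * n⁻¹ = x := by
  have h1 : n * (n * x * n⁻¹) * n⁻¹ = (n * n) * x * (n * n)⁻¹ := by group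
  rw [h1, h.n_sq, h.j_inv, ← hx, mul_assoc, h.j_sq, mul_one]

/-- `n j n⁻¹ = j`. -/
theorem tau_j (h : Cfg L₁ L₂ j n) : n * j * n⁻¹ = j := by
  rw [h.n_comm, mul_assoc, mul_inv_cancel, mul_one]

/-- Uniqueness of the decomposition `x * y` up to `(x j, y j)`. -/
theorem split (h : Cfg L₁ L₂ j n) {x a y b : G} (hx : x ∈ L₁) (ha : a ∈ L₁) (hy : y ∈ L₂)
    (hb : b ∈ L₂) (he : x * y = a * b) :
    (x = a ∧ y = b) ∨ (x = a * j ∧ y = j * b) := by
  have hz : a⁻¹ * x = b * y⁻¹ := by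
    have : a⁻¹ * (x * y) * y⁻¹ = a⁻¹ * (a * b) * y⁻¹ := by rw [he]
    simpa [mul_assoc] using this
  have hz1 : a⁻¹ * x ∈ L₁ := L₁.mul_mem (L₁.inv_mem ha) hx
  have hz2 : a⁻¹ * x ∈ L₂ := by rw [hz]; exact L₂.mul_mem hb (L₂.inv_mem hy)
  rcases h.inter _ hz1 hz2 with h1 | h1
  · left
    have hxa : x = a := by
      have := congrArg (fun t => a * t) h1
      simpa using this
    refine ⟨hxa, ?_⟩
    rw [hxa] at he
    exact mul_left_cancel he
  · right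
    have hxa : x = a * j := by
      have := congrArg (fun t => a * t) h1
      simpa using this
    refine ⟨hxa, ?_⟩
    rw [hxa, mul_assoc] at he
    have h2 : j * y = b := mul_left_cancel he
    rw [← h2, ← mul_assoc, h.j_sq, one_mul]

end Cfg

end Cfsg.Agent.Helper10.Sw
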