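import Mathlib
import Cfsg.Agent.Helper10.SwDefs

/-!
# S3211 pieces CINV and LBM
-/

set_option autoImplicit false

namespace Cfsg.Agent.Helper10.Sw

variable {G : Type*} [Group G] {L₁ L₂ : Subgroup G} {j n : G}

/-- CINV: the centralizers in `L₁` of two elements of square `j` have the same size. -/
theorem cinv [Finite G] (h : Cfg L₁ L₂ j n) {a a' : G} (ha : a ∈ L₁) (ha' : a' ∈ L₁)
    (ha2 : a * a = j) (ha2' : a' * a' = j) :
    ({x : G | x ∈ L₁ ∧ x * a = a * x}).ncard = ({x : G | x ∈ L₁ ∧ x * a' = a' * x}).ncard := by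
  obtain ⟨y, hy, hya⟩ := h.conj₁ a ha a' ha' ha2 ha2'
  have hinj : Function.Injective (fun x : G => y * x * y⁻¹) := by
    intro x x' hxx'
    simpa using hxx'
  have himg : (fun x : G => y * x * y⁻¹) '' {x : G | x ∈ L₁ ∧ x * a = a * x} =
      {x : G | x ∈ L₁ ∧ x * a' = a' * x} := by
    ext z
    constructor
    · rintro ⟨x, ⟨hx1, hx2⟩, rfl⟩
      refine ⟨L₁.mul_mem (L₁.mul_mem hy hx1) (L₁.inv_mem hy), ?_⟩
      rw [← hya]
      have e1 : y * x * y⁻¹ * (y * a * y⁻¹) = y * (x * a) * y⁻¹ := by group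
      have e2 : y * a * y⁻¹ * (y * x * y⁻¹) = y * (a * x) * y⁻¹ := by group
      rw [e1, e2, hx2]
    · rintro ⟨hz1, hz2⟩
      refine ⟨y⁻¹ * z * y, ⟨L₁.mul_mem (L₁.mul_mem (L₁.inv_mem hy) hz1) hy, ?_⟩, by group⟩
      rw [← hya] at hz2
      have e1 : y⁻¹ * z * y * a = y⁻¹ * (z * (y * a * y⁻¹)) * y := by group
      have e2 : a * (y⁻¹ * z * y) = y⁻¹ * ((y * a * y⁻¹) * z) * y := by group
      rw [e1, e2, hz2]
  rw [← himg, Set.ncard_image_of_injective _ hinj]

/-- LBM: `a, a⁻¹, b, b⁻¹` are four elements of `M ∩ C(ab)` of square `j`. -/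
theorem lbm [Finite G] (h : Cfg L₁ L₂ j n) {a b : G} (ha : a ∈ L₁) (hb : b ∈ L₂)
    (ha2 : a * a = j) (hb2 : b * b = j) :
    4 ≤ ({m : G | m ∈ L₁ ⊔ L₂ ∧ m * (a * b) = (a * b) * m ∧ m * m = j}).ncard := by
  classical
  have hab : a * b = b * a := h.comm a ha b hb
  have hjinv : j⁻¹ = j := h.j_inv
  have hainv2 : a⁻¹ * a⁻¹ = j := by
    rw [← mul_inv_rev, ha2, hjinv]
  have hbinv2 : b⁻¹ * b⁻¹ = j := by
    rw [← mul_inv_rev, hb2, hjinv]
  have hjj1 : j * j = 1 := h.j_sq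
  -- no element of square `j` lies in `L₁ ∩ L₂`
  have hno : ∀ c, c ∈ L₁ → c ∈ L₂ → c * c = j → False := by
    intro c hc1 hc2 hcc
    rcases h.inter c hc1 hc2 with h1 | h1
    · rw [h1, one_mul] at hcc; exact h.j_ne hcc.symm
    · rw [h1, hjj1] at hcc; exact h.j_ne hcc.symm
  have hne1 : a ≠ a⁻¹ := by
    intro he
    have : a * a = 1 := by
      calc a * a = a * a⁻¹ := by rw [← he]
        _ = 1 := mul_inv_cancel a
    rw [ha2] at this; exact h.j_ne this
  have hne2 : b ≠ b⁻¹ := by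
    intro he
    have : b * b = 1 := by
      calc b * b = b * b⁻¹ := by rw [← he]
        _ = 1 := mul_inv_cancel b
    rw [hb2] at this; exact h.j_ne this
  have hne3 : a ≠ b := fun he => hno a ha (he ▸ hb) ha2
  have hne4 : a ≠ b⁻¹ := fun he => hno a ha (he ▸ L₂.inv_mem hb) ha2
  have hne5 : a⁻¹ ≠ b := fun he => hno b (he ▸ L₁.inv_mem ha) hb hb2
  have hne6 : a⁻¹ ≠ b⁻¹ := fun he => hno a⁻¹ (L₁.inv_mem ha) (he ▸ L₂.inv_mem hb) hainv2
  have hsub : (({a, a⁻¹, b, b⁻¹} : Finset G) : Set G) ⊆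
      {m : G | m ∈ L₁ ⊔ L₂ ∧ m * (a * b) = (a * b) * m ∧ m * m = j} := by
    intro m hm
    simp only [Finset.coe_insert, Finset.coe_singleton, Set.mem_insert_iff,
      Set.mem_singleton_iff] at hm
    rcases hm with hm | hm | hm | hm <;> rw [hm]
    · refine ⟨Subgroup.mem_sup_left ha, ?_, ha2⟩
      rw [← mul_assoc, mul_assoc a b a, ← hab, ← mul_assoc]
    · refine ⟨Subgroup.mem_sup_left (L₁.inv_mem ha), ?_, hainv2⟩
      have := h.comm a⁻¹ (L₁.inv_mem ha) b hb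
      calc a⁻¹ * (a * b) = b := by group
        _ = a * (a⁻¹ * b) := by group
        _ = a * (b * a⁻¹) := by rw [this]
        _ = a * b * a⁻¹ := by group
    · refine ⟨Subgroup.mem_sup_right hb, ?_, hb2⟩
      rw [← mul_assoc, ← hab, mul_assoc]
    · refine ⟨Subgroup.mem_sup_right (L₂.inv_mem hb), ?_, hbinv2⟩
      calc b⁻¹ * (a * b) = b⁻¹ * (b * a) := by rw [hab]
        _ = a := by group
        _ = a * b * b⁻¹ := by group
  have hcard : ({a, a⁻¹, b, b⁻¹} : Finset G).card = 4 := by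
    rw [Finset.card_insert_of_notMem, Finset.card_insert_of_notMem, Finset.card_insert_of_notMem,
      Finset.card_singleton]
    · simpa using hne2
    · simp only [Finset.mem_insert, Finset.mem_singleton, not_or]
      exact ⟨hne5, hne6⟩
    · simp only [Finset.mem_insert, Finset.mem_singleton, not_or]
      exact ⟨hne1, hne3, hne4⟩
  calc 4 = (({a, a⁻¹, b, b⁻¹} : Finset G) : Set G).ncard := by
        rw [Set.ncard_coe_finset, hcard]
    _ ≤ _ := Set.ncard_le_ncard hsub (Set.toFinite _)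

end Cfsg.Agent.Helper10.Sw
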