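import Mathlib
import Cfsg.Prelude
import Cfsg.Agent.Helper10.SwDefs
import Cfsg.Agent.Helper10.SwCINV
import Cfsg.Agent.Helper25.SwINV
import Cfsg.Agent.Helper25.SwUBM
import Cfsg.Agent.Helper28.SwUBN
import Cfsg.Agent.Helper28.SwLBN

/-!
# S3211: the central involution `j` of the configuration `Cfg` is isolated
-/

set_option autoImplicit false

namespace Cfsg.Agent.Helper10.Sw


variable {G : Type*} [Group G] {L₁ L₂ : Subgroup G} {j n : G}

/-- In the configuration `Cfg`, the involution `j` is isolated. -/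
theorem isolated [Finite G] (h : Cfg L₁ L₂ j n) (hj : orderOf j = 2) :
    Cfsg.IsIsolatedInvolution j := by
  refine ⟨hj, fun g hcomm => ?_⟩
  by_contra hne
  have hjinv : j⁻¹ = j := h.j_inv
  -- s = g j g⁻¹
  have hss : (g * j * g⁻¹) * (g * j * g⁻¹) = 1 := by
    have : (g * j * g⁻¹) * (g * j * g⁻¹) = g * (j * j) * g⁻¹ := by group
    rw [this, h.j_sq, mul_one, mul_inv_cancel]
  have hsj : (g * j * g⁻¹) * j = j * (g * j * g⁻¹) := hcomm.eq.symm
  have hs1 : g * j * g⁻¹ ≠ 1 := by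
    intro h1
    apply h.j_ne
    have : j = g⁻¹ * (g * j * g⁻¹) * g := by group
    rw [this, h1]; group
  -- s' = g⁻¹ j g
  have hss' : (g⁻¹ * j * g) * (g⁻¹ * j * g) = 1 := by
    have : (g⁻¹ * j * g) * (g⁻¹ * j * g) = g⁻¹ * (j * j) * g := by group
    rw [this, h.j_sq, mul_one, inv_mul_cancel]
  have hsj' : (g⁻¹ * j * g) * j = j * (g⁻¹ * j * g) := by
    have e1 : (g⁻¹ * j * g) * j = g⁻¹ * (j * (g * j * g⁻¹)) * g := by group
    have e2 : j * (g⁻¹ * j * g) = g⁻¹ * ((g * j * g⁻¹) * j) * g := by group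
    rw [e1, e2, hsj]
  have hs1' : g⁻¹ * j * g ≠ 1 := by
    intro h1
    apply h.j_ne
    have : j = g * (g⁻¹ * j * g) * g⁻¹ := by group
    rw [this, h1]; group
  have hne' : g⁻¹ * j * g ≠ j := by
    intro h1
    apply hne
    have h2 : j = g * (g⁻¹ * j * g) * g⁻¹ := by group
    rw [h1] at h2
    exact h2.symm
  obtain ⟨a, ha, b, hb, ha2, hb2, hsab⟩ : ∃ a ∈ L₁, ∃ b ∈ L₂, a * a = j ∧ b * b = j ∧
      g * j * g⁻¹ = a * b := by
    rcases Cfsg.Agent.Helper25.Sw.invol h hsj hss with h1 | h1 | h1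
    · exact absurd h1 hs1
    · exact absurd h1 hne
    · exact h1
  obtain ⟨a', ha', b', hb', ha2', hb2', hsab'⟩ : ∃ a ∈ L₁, ∃ b ∈ L₂, a * a = j ∧ b * b = j ∧
      g⁻¹ * j * g = a * b := by
    rcases Cfsg.Agent.Helper25.Sw.invol h hsj' hss' with h1 | h1 | h1
    · exact absurd h1 hs1'
    · exact absurd h1 hne'
    · exact h1
  -- the sets
  set A : Set G := {m | m * j = j * m ∧ m * m = a * b} with hA
  set B : Set G := {m | m * (a' * b') = (a' * b') * m ∧ m * m = j} with hB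
  set K : Set G := {x | x ∈ L₁ ∧ x * a = a * x} with hK
  set K' : Set G := {x | x ∈ L₁ ∧ x * a' = a' * x} with hK'
  have hKK' : K.ncard = K'.ncard := cinv h ha ha' ha2 ha2'
  have hKpos : 1 ≤ K.ncard := by
    have : 0 < K.ncard := by
      rw [Set.ncard_pos (Set.toFinite K)]
      exact ⟨1, L₁.one_mem, by simp⟩
    omega
  -- B injects into A
  have hBA : B.ncard ≤ A.ncard := by
    have himg : (fun m => g * m * g⁻¹) '' B ⊆ A := by
      rintro _ ⟨m, ⟨hm1, hm2⟩, rfl⟩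
      constructor
      · -- m commutes with s' = g⁻¹ j g
        rw [← hsab'] at hm1
        have e1 : g * m * g⁻¹ * j = g * (m * (g⁻¹ * j * g)) * g⁻¹ := by group
        have e2 : j * (g * m * g⁻¹) = g * ((g⁻¹ * j * g) * m) * g⁻¹ := by group
        rw [e1, e2, hm1]
      · rw [← hsab]
        have e1 : g * m * g⁻¹ * (g * m * g⁻¹) = g * (m * m) * g⁻¹ := by group
        rw [e1, hm2]
    have hinj : Function.Injective (fun m : G => g * m * g⁻¹) := by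
      intro x y hxy
      simpa using hxy
    calc B.ncard = ((fun m => g * m * g⁻¹) '' B).ncard := (Set.ncard_image_of_injective B hinj).symm
      _ ≤ A.ncard := Set.ncard_le_ncard himg (Set.toFinite A)
  -- upper bound for A
  have hAub : A.ncard ≤ 4 + K.ncard := by
    have hsub : A ⊆ {m : G | m ∈ L₁ ⊔ L₂ ∧ m * m = a * b} ∪
        {m : G | m * n⁻¹ ∈ L₁ ⊔ L₂ ∧ m * m = a * b} := by
      rintro m ⟨hm1, hm2⟩
      rcases h.cover m hm1 with h1 | h1
      · exact Or.inl ⟨h1, hm2⟩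
      · exact Or.inr ⟨h1, hm2⟩
    calc A.ncard ≤ ({m : G | m ∈ L₁ ⊔ L₂ ∧ m * m = a * b} ∪
          {m : G | m * n⁻¹ ∈ L₁ ⊔ L₂ ∧ m * m = a * b}).ncard :=
          Set.ncard_le_ncard hsub (Set.toFinite _)
      _ ≤ ({m : G | m ∈ L₁ ⊔ L₂ ∧ m * m = a * b}).ncard +
          ({m : G | m * n⁻¹ ∈ L₁ ⊔ L₂ ∧ m * m = a * b}).ncard := Set.ncard_union_le _ _
      _ ≤ 4 + K.ncard := Nat.add_le_add (Cfsg.Agent.Helper25.Sw.ubm h ha hb ha2 hb2) (Cfsg.Agent.Helper28.Sw.ubn h ha hb ha2 hb2)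
  -- lower bound for B
  have hBlb : 4 + 2 * K'.ncard ≤ B.ncard := by
    have hsub : {m : G | m ∈ L₁ ⊔ L₂ ∧ m * (a' * b') = (a' * b') * m ∧ m * m = j} ∪
        {m : G | m * n⁻¹ ∈ L₁ ⊔ L₂ ∧ m * (a' * b') = (a' * b') * m ∧ m * m = j} ⊆ B := by
      rintro m (⟨_, hm1, hm2⟩ | ⟨_, hm1, hm2⟩)
      · exact ⟨hm1, hm2⟩
      · exact ⟨hm1, hm2⟩
    have hdisj : Disjoint {m : G | m ∈ L₁ ⊔ L₂ ∧ m * (a' * b') = (a' * b') * m ∧ m * m = j}
        {m : G | m * n⁻¹ ∈ L₁ ⊔ L₂ ∧ m * (a' * b') = (a' * b') * m ∧ m * m = j} := by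
      rw [Set.disjoint_left]
      rintro m ⟨hm, -⟩ ⟨hmn, -⟩
      apply h.n_not
      have : n = (m * n⁻¹)⁻¹ * m := by group
      rw [this]
      exact Subgroup.mul_mem _ (Subgroup.inv_mem _ hmn) hm
    calc 4 + 2 * K'.ncard
        ≤ ({m : G | m ∈ L₁ ⊔ L₂ ∧ m * (a' * b') = (a' * b') * m ∧ m * m = j}).ncard +
          ({m : G | m * n⁻¹ ∈ L₁ ⊔ L₂ ∧ m * (a' * b') = (a' * b') * m ∧ m * m = j}).ncard :=
          Nat.add_le_add (lbm h ha' hb' ha2' hb2') (Cfsg.Agent.Helper28.Sw.lbn h ha' hb' ha2' hb2')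
      _ = ({m : G | m ∈ L₁ ⊔ L₂ ∧ m * (a' * b') = (a' * b') * m ∧ m * m = j} ∪
          {m : G | m * n⁻¹ ∈ L₁ ⊔ L₂ ∧ m * (a' * b') = (a' * b') * m ∧ m * m = j}).ncard :=
          (Set.ncard_union_eq hdisj (Set.toFinite _) (Set.toFinite _)).symm
      _ ≤ B.ncard := Set.ncard_le_ncard hsub (Set.toFinite B)
  omega

end Cfsg.Agent.Helper10.Sw
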