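import Mathlib
import Cfsg.Prelude
import Cfsg.Agent.Helper23.PSeries

/-!
# S3211 piece ZFIN: `InZStar 2 j` for an involution `j` gives `G = C(j) O(G)`
-/

set_option autoImplicit false

namespace Cfsg.Agent.Helper10.Sw

/-- If the involution `j` is central modulo `O(G)` then `G = C(j) O(G)`. -/
theorem zfin {G : Type*} [Group G] [Finite G] (j : G) (hj : orderOf j = 2) (hz : Cfsg.InZStar 2 j) :
    Subgroup.centralizer ({j} : Set G) ⊔ Cfsg.oddCore G = ⊤ := by
  have : Fact (Nat.Prime 2) := ⟨Nat.prime_two⟩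
  rw [eq_top_iff]
  intro g _
  have hjj : j * j = 1 := by
    have := pow_orderOf_eq_one j
    rwa [hj, pow_two] at this
  have hjinv : j⁻¹ = j := by rw [inv_eq_iff_mul_eq_one]; exact hjj
  set w : G := g * j * g⁻¹ * j⁻¹ with hw
  have hwO : w ∈ Cfsg.pPrimeCore 2 G := hz g
  -- `w` has odd order
  have hodd : Odd (orderOf w) := by
    have h1 : orderOf w ∣ Nat.card (Cfsg.pPrimeCore 2 G) := by
      have := orderOf_dvd_natCard (⟨w, hwO⟩ : Cfsg.pPrimeCore 2 G)
      rwa [Subgroup.orderOf_mk] at this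
    have h2 := Cfsg.Agent.Helper23.pPrimeCore_card_coprime 2 G
    have h3 : (orderOf w).Coprime 2 := Nat.Coprime.coprime_dvd_left h1 h2
    exact Nat.Coprime.odd_of_right h3
  obtain ⟨k, hk⟩ := hodd
  -- `j` inverts `w`
  have hinv : j * w * j⁻¹ = w⁻¹ := by
    rw [eq_comm, inv_eq_iff_mul_eq_one, hw, hjinv]
    have : g * j * g⁻¹ * j * (j * (g * j * g⁻¹ * j) * j) =
        g * j * g⁻¹ * (j * j) * g * j * g⁻¹ * (j * j) := by group
    rw [this, hjj]
    have : g * j * g⁻¹ * 1 * g * j * g⁻¹ * 1 = g * (j * j) * g⁻¹ := by group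
    rw [this, hjj]; group
  -- `u = w ^ (k+1)` is a square root of `w` inverted by `j`
  set u : G := w ^ (k + 1) with hu
  have huu : u * u = w := by
    rw [hu, ← pow_add]
    have : k + 1 + (k + 1) = orderOf w + 1 := by omega
    rw [this, pow_add, pow_orderOf_eq_one, one_mul, pow_one]
  have huinv : j * u * j⁻¹ = u⁻¹ := by
    have : j * u * j⁻¹ = (j * w * j⁻¹) ^ (k + 1) := by
      rw [hu]
      exact (conj_pow (a := j) (b := w) (i := k + 1)).symm
    rw [this, hinv, inv_pow]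
  have huO : u ∈ Cfsg.pPrimeCore 2 G := Subgroup.pow_mem _ hwO _
  -- `u j u⁻¹ j⁻¹ = w`
  have hkey : u * j * u⁻¹ * j⁻¹ = w := by
    have h1 : j * u⁻¹ * j⁻¹ = u := by
      have := congrArg (fun t => t⁻¹) huinv
      simp only [mul_inv_rev, inv_inv] at this
      rw [← mul_assoc] at this
      exact this
    calc u * j * u⁻¹ * j⁻¹ = u * (j * u⁻¹ * j⁻¹) := by group
      _ = u * u := by rw [h1]
      _ = w := huu
  -- hence `u⁻¹ g` centralizes `j`
  have hcent : u⁻¹ * g ∈ Subgroup.centralizer ({j} : Set G) := by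
    rw [Subgroup.mem_centralizer_singleton_iff]
    have h1 : u * j * u⁻¹ = g * j * g⁻¹ := by
      have : u * j * u⁻¹ * j⁻¹ = g * j * g⁻¹ * j⁻¹ := hkey.trans hw
      exact mul_right_cancel this
    calc u⁻¹ * g * j = u⁻¹ * (g * j * g⁻¹) * g := by group
      _ = u⁻¹ * (u * j * u⁻¹) * g := by rw [h1]
      _ = j * (u⁻¹ * g) := by group
  have hg : g = (u⁻¹ * g) * ((u⁻¹ * g)⁻¹ * u * (u⁻¹ * g)) := by group
  rw [hg]
  refine Subgroup.mul_mem _ (Subgroup.mem_sup_left hcent) (Subgroup.mem_sup_right ?_)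
  have hn : (Cfsg.pPrimeCore 2 G).Normal := by
    unfold Cfsg.pPrimeCore
    refine ⟨fun x hx y => ?_⟩
    have hle : sSup {N : Subgroup G | N.Normal ∧ (Nat.card N).Coprime 2} ≤
        (sSup {N : Subgroup G | N.Normal ∧ (Nat.card N).Coprime 2}).comap
          (MulAut.conj y).toMonoidHom := by
      apply sSup_le
      intro N hN z hz
      rw [Subgroup.mem_comap]
      have : N ≤ sSup {N : Subgroup G | N.Normal ∧ (Nat.card N).Coprime 2} := le_sSup hN
      apply this
      exact hN.1.conj_mem z hz y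
    exact hle hx
  have := hn.conj_mem u huO (u⁻¹ * g)⁻¹
  simpa using this
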