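import Cfsg.Agent.Helper10.SylInt

set_option autoImplicit false

/-!
# Regularity for a normalizer functor and factorizations `G = G₁G₂`
-/

namespace Cfsg.Agent.Helper10

open Cfsg Cfsg.Agent.Helper14 Cfsg.Agent.Helper15

variable {G : Type*} [Group G] {p : ℕ}

/-- if `G = G₁G₂` with `S ≤ G₁ ∩ G₂` a Sylow subgroup and `D ≤ S ∩ S^g`, then `g = ab` with
`a ∈ G₁`, `b ∈ G₂` and `a⁻¹Da ≤ S` -/
theorem exists_factor_keeping [Finite G] [Fact p.Prime] (S : Sylow p G) (G₁ G₂ : Subgroup G)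
    (h₁ : (S : Subgroup G) ≤ G₁) (h₂ : (S : Subgroup G) ≤ G₂)
    (hprod : ∀ g : G, ∃ g₁ ∈ G₁, ∃ g₂ ∈ G₂, g = g₁ * g₂) (g : G) (D : Subgroup G)
    (hDS : D ≤ (S : Subgroup G)) (hDT : D ≤ (S : Subgroup G).map (cj g)) :
    ∃ a ∈ G₁, ∃ b ∈ G₂, g = a * b ∧ D.map (cj a⁻¹) ≤ (S : Subgroup G) := by
  obtain ⟨a, ha, b, hb, hgab⟩ := hprod g
  have hSH : IsSylowIn p (S : Subgroup G) (G₁ ⊓ G₂) :=
    isSylowIn_of_le (isSylowIn_top_coe S) (le_inf h₁ h₂) le_top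
  have hQ1 : D.map (cj a⁻¹) ≤ G₁ := by
    rintro _ ⟨d, hd, rfl⟩
    exact G₁.mul_mem (G₁.mul_mem (G₁.inv_mem ha) (h₁ (hDS hd))) (G₁.inv_mem (G₁.inv_mem ha))
  have hQ2 : D.map (cj a⁻¹) ≤ (S : Subgroup G).map (cj b) := by
    rw [map_cj_le_iff, inv_inv, map_cj_mul, ← hgab]
    exact hDT
  have hSb : (S : Subgroup G).map (cj b) ≤ G₂ := by
    rintro _ ⟨s, hs, rfl⟩
    exact G₂.mul_mem (G₂.mul_mem hb (h₂ hs)) (G₂.inv_mem hb)
  have hQp : IsPGroup p ↥(D.map (cj a⁻¹)) := (S.isPGroup'.to_le hDS).map _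
  obtain ⟨U, hU, hQU⟩ := exists_isSylowIn_ge (p := p) (le_inf hQ1 (hQ2.trans hSb)) hQp
  obtain ⟨h, hh, rfl⟩ := hSH.exists_conj hU
  refine ⟨a * h, G₁.mul_mem ha hh.1, h⁻¹ * b, G₂.mul_mem (G₂.inv_mem hh.2) hb, ?_, ?_⟩
  · rw [hgab]; group
  · rw [mul_inv_rev, ← map_cj_mul, map_cj_le_iff, inv_inv]
    exact hQU

theorem lk_top_of_factorization [Finite G] [Fact p.Prime] {f : Subgroup G → Set (Subgroup G)}
    (hf : IsNormalizerFunctor p f) (S : Sylow p G) (G₁ G₂ : Subgroup G)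
    (h₁ : (S : Subgroup G) ≤ G₁) (h₂ : (S : Subgroup G) ≤ G₂)
    (hprod : ∀ g : G, ∃ g₁ ∈ G₁, ∃ g₂ ∈ G₂, g = g₁ * g₂)
    (hr₁ : IsFunctorRegular p f G₁) (hr₂ : IsFunctorRegular p f G₂)
    (T : Subgroup G) (hT : IsSylowIn p T ⊤) (hbot : (S : Subgroup G) ⊓ T ≠ ⊥) :
    Lk p (functorFamily p f (⊤ : Subgroup G)) ((S : Subgroup G) ⊓ T) (S : Subgroup G) T := by
  rw [isFunctorRegular_iff] at hr₁ hr₂
  obtain ⟨g, -, hg⟩ := (isSylowIn_top_coe S).exists_conj hT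
  obtain ⟨a, ha, b, hb, hgab, hDa⟩ := exists_factor_keeping S G₁ G₂ h₁ h₂ hprod g
    ((S : Subgroup G) ⊓ T) inf_le_left (by rw [← hg]; exact inf_le_right)
  have hS1 : IsSylowIn p (S : Subgroup G) G₁ := isSylowIn_of_le (isSylowIn_top_coe S) h₁ le_top
  have hS2 : IsSylowIn p (S : Subgroup G) G₂ := isSylowIn_of_le (isSylowIn_top_coe S) h₂ le_top
  have hS₁ : IsSylowIn p ((S : Subgroup G).map (cj a)) G₁ := isSylowIn_map_cj_of_mem hS1 ha
  have hS₂ : IsSylowIn p ((S : Subgroup G).map (cj b)) G₂ := isSylowIn_map_cj_of_mem hS2 hb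
  have hDS₁ : (S : Subgroup G) ⊓ T ≤ (S : Subgroup G).map (cj a) := by
    have := (map_cj_le_iff _ _ _).1 hDa
    rwa [inv_inv] at this
  have hTeq : T = ((S : Subgroup G).map (cj b)).map (cj a) := by
    rw [map_cj_mul, ← hgab, hg]
  -- first chain
  have c1 : Lk p (functorFamily p f (⊤ : Subgroup G)) ((S : Subgroup G) ⊓ T) (S : Subgroup G)
      ((S : Subgroup G).map (cj a)) := by
    by_cases he : (S : Subgroup G) = (S : Subgroup G).map (cj a)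
    · rw [← he]; exact Lk.refl
    · have hb1 : (S : Subgroup G) ⊓ (S : Subgroup G).map (cj a) ≠ ⊥ :=
        ne_bot_of_le_ne_bot hbot (le_inf inf_le_left hDS₁)
      have := ((hr₁ _ _ hS1 hS₁ he hb1).functorFamily_top hf S h₁ hS1).2
      exact this.mono (le_inf inf_le_left hDS₁)
  -- second chain
  have hD₂S : ((S : Subgroup G) ⊓ T).map (cj a⁻¹) ≤ (S : Subgroup G) := hDa
  have hD₂S₂ : ((S : Subgroup G) ⊓ T).map (cj a⁻¹) ≤ (S : Subgroup G).map (cj b) := by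
    rw [map_cj_le_iff, inv_inv, ← hTeq]
    exact inf_le_right
  have c2 : Lk p (functorFamily p f (⊤ : Subgroup G)) ((S : Subgroup G) ⊓ T)
      ((S : Subgroup G).map (cj a)) T := by
    by_cases he : (S : Subgroup G) = (S : Subgroup G).map (cj b)
    · rw [hTeq, ← he]; exact Lk.refl
    · have hb2 : (S : Subgroup G) ⊓ (S : Subgroup G).map (cj b) ≠ ⊥ := by
        refine ne_bot_of_le_ne_bot ?_ (le_inf hD₂S hD₂S₂)
        intro e
        apply hbot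
        have := congrArg (Subgroup.map (cj a)) e
        rwa [map_cj_inv_map_cj, Subgroup.map_bot] at this
      have h1 := ((hr₂ _ _ hS2 hS₂ he hb2).functorFamily_top hf S h₂ hS2).2
      have h2 := (h1.mono (le_inf hD₂S hD₂S₂)).map_cj (isNormalSet_functorFamily_top hf) a
      rwa [map_cj_inv_map_cj, ← hTeq] at h2
  exact c1.trans c2

/-- S2957 -/
theorem functorRegular_top_of_factorization [Finite G] [Fact p.Prime]
    {f : Subgroup G → Set (Subgroup G)}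
    (hf : IsNormalizerFunctor p f) (S : Sylow p G) (G₁ G₂ : Subgroup G)
    (h₁ : (S : Subgroup G) ≤ G₁) (h₂ : (S : Subgroup G) ≤ G₂)
    (hprod : ∀ g : G, ∃ g₁ ∈ G₁, ∃ g₂ ∈ G₂, g = g₁ * g₂)
    (hr₁ : IsFunctorRegular p f G₁) (hr₂ : IsFunctorRegular p f G₂) :
    IsFunctorRegular p f (⊤ : Subgroup G) := by
  rw [isFunctorRegular_iff]
  intro S' T' hS' hT' hne hbot
  obtain ⟨u, -, hu⟩ := (isSylowIn_top_coe S).exists_conj hS'
  have hT'' : IsSylowIn p (T'.map (cj u⁻¹)) ⊤ :=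
    isSylowIn_map_cj_of_mem hT' (Subgroup.mem_top _)
  have hinf : S' ⊓ T' = ((S : Subgroup G) ⊓ T'.map (cj u⁻¹)).map (cj u) := by
    rw [map_cj_inf, ← hu, map_cj_inv_map_cj]
  have hbot' : (S : Subgroup G) ⊓ T'.map (cj u⁻¹) ≠ ⊥ := by
    intro e
    apply hbot
    rw [hinf, e, Subgroup.map_bot]
  have := (lk_top_of_factorization hf S G₁ G₂ h₁ h₂ hprod hr₁ hr₂ _ hT'' hbot').map_cj
    (isNormalSet_functorFamily_top hf) u
  rwa [← hinf, ← hu, map_cj_inv_map_cj] at this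

end Cfsg.Agent.Helper10
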