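import Cfsg.Agent.Helper10.SylInt

set_option autoImplicit false

/-!
# Control of Sylow intersections versus strong control of fusion (for a normal family)
-/

namespace Cfsg.Agent.Helper10

open Cfsg Cfsg.Agent.Helper14 Cfsg.Agent.Helper15

variable {G : Type*} [Group G] {p : ℕ}

theorem conjRight_subset_iff {g : G} {A : Set G} {K : Subgroup G} :
    conjRight g A ⊆ (K : Set G) ↔ A ⊆ ((K.map (cj g) : Subgroup G) : Set G) := by
  constructor
  · intro h a ha
    rw [SetLike.mem_coe, mem_map_cj]
    exact h ⟨a, ha, rfl⟩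
  · rintro h _ ⟨a, ha, rfl⟩
    exact (mem_map_cj g a).1 (h ha)

/-- a list of (member, element) pairs is a fusion chain for `A` in `S` -/
def FDl (p : ℕ) (𝓕 : Set (Subgroup G)) (S : Subgroup G) (A : Set G)
    (l : List (Subgroup G × G)) : Prop :=
  ∀ (i : ℕ) (hi : i < l.length), (l[i]).1 ∈ sylowMembers p 𝓕 S ∧ (l[i]).2 ∈ (l[i]).1 ∧
    conjRight (((l.map Prod.snd).take (i + 1)).prod) A ⊆ (S : Set G) ∩ ((l[i]).1 : Set G)

theorem fdl_nil {𝓕 : Set (Subgroup G)} {S : Subgroup G} {A : Set G} : FDl p 𝓕 S A [] := by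
  intro i hi
  exact absurd hi (by simp)

theorem fdl_append_singleton_iff {𝓕 : Set (Subgroup G)} {S : Subgroup G} {A : Set G}
    {l : List (Subgroup G × G)} {Y : Subgroup G} {y : G} :
    FDl p 𝓕 S A (l ++ [(Y, y)]) ↔ FDl p 𝓕 S A l ∧ Y ∈ sylowMembers p 𝓕 S ∧ y ∈ Y ∧
      conjRight ((l.map Prod.snd).prod * y) A ⊆ (S : Set G) ∩ (Y : Set G) := by
  constructor
  · intro h
    refine ⟨?_, ?_⟩
    · intro i hi
      have hi' : i < (l ++ [(Y, y)]).length := by
        rw [List.length_append]; omega
      have := h i hi'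
      rw [List.getElem_append_left hi] at this
      rw [List.map_append, List.take_append_of_le_length (by rw [List.length_map]; omega)] at this
      exact this
    · have hi' : l.length < (l ++ [(Y, y)]).length := by
        rw [List.length_append, List.length_singleton]; omega
      have := h l.length hi'
      rw [List.getElem_append_right (le_refl _)] at this
      simp only [Nat.sub_self, List.getElem_cons_zero] at this
      have e : ((l ++ [(Y, y)]).map Prod.snd).take (l.length + 1) = l.map Prod.snd ++ [y] := by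
        rw [List.map_append, List.take_of_length_le]
        · rfl
        · simp
      rw [e, List.prod_append, List.prod_singleton] at this
      exact this
  · rintro ⟨h1, h2, h3, h4⟩ i hi
    rw [List.length_append, List.length_singleton] at hi
    by_cases hil : i < l.length
    · rw [List.getElem_append_left hil]
      rw [List.map_append, List.take_append_of_le_length (by rw [List.length_map]; omega)]
      exact h1 i hil
    · have hie : i = l.length := by omega
      subst hie
      rw [List.getElem_append_right (le_refl _)]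
      simp only [Nat.sub_self, List.getElem_cons_zero]
      have e : ((l ++ [(Y, y)]).map Prod.snd).take (l.length + 1) = l.map Prod.snd ++ [y] := by
        rw [List.map_append, List.take_of_length_le]
        · rfl
        · simp
      rw [e, List.prod_append, List.prod_singleton]
      exact ⟨h2, h3, h4⟩

theorem familyStronglyControlsFusion_iff {𝓕 : Set (Subgroup G)} :
    FamilyStronglyControlsFusion p 𝓕 ↔
      ∀ (S : Sylow p G) (A : Set G) (g : G), A ⊆ (S : Set G) → (∃ a ∈ A, a ≠ 1) →
        conjRight g A ⊆ (S : Set G) →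
        ∃ (l : List (Subgroup G × G)) (y₀ : G), FDl p 𝓕 (S : Subgroup G) A l ∧
          y₀ ∈ Subgroup.normalizer ((S : Subgroup G) : Set G) ∧
          g = (l.map Prod.snd).prod * y₀ := by
  constructor
  · intro h S A g hA hne hg
    obtain ⟨n, Y, y, y₀, hy₀, hY, hgy, hc⟩ := h S A g hA hne hg
    have hmap : (List.ofFn (fun i => (Y i, y i))).map Prod.snd = List.ofFn y := by
      rw [List.map_ofFn]; rfl
    refine ⟨List.ofFn (fun i => (Y i, y i)), y₀, ?_, hy₀, ?_⟩
    · intro i hi
      have hi' : i < n := by simpa using hi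
      rw [List.getElem_ofFn, hmap]
      exact ⟨(hY ⟨i, hi'⟩).1, (hY ⟨i, hi'⟩).2, hc ⟨i, hi'⟩⟩
    · rw [hmap]; exact hgy
  · intro h S A g hA hne hg
    obtain ⟨l, y₀, hl, hy₀, hgy⟩ := h S A g hA hne hg
    have hx : List.ofFn (fun i : Fin l.length => (l[(i : ℕ)]).2) = l.map Prod.snd :=
      List.ofFn_getElem_eq_map l Prod.snd
    refine ⟨l.length, fun i => (l[(i : ℕ)]).1, fun i => (l[(i : ℕ)]).2, y₀, hy₀, ?_, ?_, ?_⟩
    · intro i
      exact ⟨(hl i i.2).1, (hl i i.2).2.1⟩
    · rw [hx]; exact hgy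
    · intro i
      rw [hx]
      exact (hl i i.2).2.2

theorem fd_of_lk {𝓕 : Set (Subgroup G)} (h𝓕 : IsNormalSet 𝓕) {S D U : Subgroup G} {A : Set G}
    (hA : A ⊆ (D : Set G)) (h : Lk p 𝓕 D S U) :
    ∃ l : List (Subgroup G × G), FDl p 𝓕 S A l ∧ U.map (cj ((l.map Prod.snd).prod)⁻¹) = S := by
  induction h with
  | refl =>
    refine ⟨[], fdl_nil, ?_⟩
    simp only [List.map_nil, List.prod_nil, inv_one]
    exact map_cj_one S
  | @step T U X x _ hX1 hX2 hx hc hD1 hD2 ih =>
    obtain ⟨l, hl, hv⟩ := ih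
    have hY : X.map (cj ((l.map Prod.snd).prod)⁻¹) ∈ sylowMembers p 𝓕 S := by
      have := sylowMembers_map_cj h𝓕 hX1 ((l.map Prod.snd).prod)⁻¹
      rwa [hv] at this
    have hT : S.map (cj (l.map Prod.snd).prod) = T := by
      rw [← hv, map_cj_inv_map_cj]
    have hprod : (l.map Prod.snd).prod * (((l.map Prod.snd).prod)⁻¹ * x * (l.map Prod.snd).prod) =
        x * (l.map Prod.snd).prod := by group
    refine ⟨l ++ [(X.map (cj ((l.map Prod.snd).prod)⁻¹),
      ((l.map Prod.snd).prod)⁻¹ * x * (l.map Prod.snd).prod)], ?_, ?_⟩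
    · rw [fdl_append_singleton_iff]
      refine ⟨hl, hY, ?_, ?_⟩
      · rw [mem_map_cj]
        have e : ((l.map Prod.snd).prod)⁻¹⁻¹ * (((l.map Prod.snd).prod)⁻¹ * x * (l.map Prod.snd).prod) *
            ((l.map Prod.snd).prod)⁻¹ = x := by group
        rw [e]; exact hx
      · rw [hprod]
        have : (S : Set G) ∩ ((X.map (cj ((l.map Prod.snd).prod)⁻¹) : Subgroup G) : Set G) =
            ((S ⊓ X.map (cj ((l.map Prod.snd).prod)⁻¹) : Subgroup G) : Set G) := rfl
        rw [this, conjRight_subset_iff, map_cj_inf, ← map_cj_mul, ← map_cj_mul, hT,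
          map_cj_inv_map_cj, map_cj_eq_self_of_mem hx]
        have hU : T.map (cj x) = U := by rw [← hc, map_cj_inv_map_cj]
        rw [hU]
        exact hA.trans (le_inf hD1 hD2)
    · rw [List.map_append, List.prod_append]
      simp only [List.map_cons, List.map_nil, List.prod_singleton]
      rw [hprod, mul_inv_rev, ← map_cj_mul, hc, hv]

theorem lk_of_fd {𝓕 : Set (Subgroup G)} (h𝓕 : IsNormalSet 𝓕) {S D : Subgroup G}
    (l : List (Subgroup G × G)) (h : FDl p 𝓕 S (D : Set G) l) :
    Lk p 𝓕 D S (S.map (cj (l.map Prod.snd).prod)) := by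
  induction l using List.reverseRecOn with
  | nil =>
    simp only [List.map_nil, List.prod_nil]
    rw [map_cj_one]
    exact Lk.refl
  | append_singleton l e ih =>
    obtain ⟨Y, y⟩ := e
    rw [fdl_append_singleton_iff] at h
    obtain ⟨h1, hY, hy, hc⟩ := h
    have ih := ih h1
    rw [List.map_append, List.prod_append]
    simp only [List.map_cons, List.map_nil, List.prod_singleton]
    have hXe : Y.map (cj ((l.map Prod.snd).prod * y)) = Y.map (cj (l.map Prod.snd).prod) := by
      rw [← map_cj_mul, map_cj_eq_self_of_mem hy]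
    have hsub : (D : Set G) ⊆ ((S.map (cj ((l.map Prod.snd).prod * y)) ⊓
        Y.map (cj (l.map Prod.snd).prod) : Subgroup G) : Set G) := by
      have : (S : Set G) ∩ (Y : Set G) = ((S ⊓ Y : Subgroup G) : Set G) := rfl
      rw [this, conjRight_subset_iff, map_cj_inf, hXe] at hc
      exact hc
    refine Lk.step (Y.map (cj (l.map Prod.snd).prod))
      ((l.map Prod.snd).prod * y * ((l.map Prod.snd).prod)⁻¹) ih
      (sylowMembers_map_cj h𝓕 hY _) ?_ ⟨y, hy, rfl⟩ ?_ ?_ ?_
    · have := sylowMembers_map_cj h𝓕 hY ((l.map Prod.snd).prod * y)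
      rwa [hXe] at this
    · rw [map_cj_mul]
      congr 2
      group
    · exact fun d hd => (hsub hd).1
    · exact fun d hd => (hsub hd).2

/-- S2939 -/
theorem controls_iff_stronglyControlsFusion [Finite G] [Fact p.Prime] {𝓕 : Set (Subgroup G)}
    (h𝓕 : IsNormalSet 𝓕) :
    ControlsSylowIntersections p 𝓕 ↔ FamilyStronglyControlsFusion p 𝓕 := by
  rw [controls_iff_lk, familyStronglyControlsFusion_iff]
  constructor
  · intro h S A g hA hne hg
    have hAT : A ⊆ (((g • S : Sylow p G) : Subgroup G) : Set G) := by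
      rw [sylow_smul_coe]
      exact conjRight_subset_iff.1 hg
    by_cases hST : S = g • S
    · refine ⟨[], g, fdl_nil, ?_, ?_⟩
      · exact Sylow.smul_eq_iff_mem_normalizer.1 hST.symm
      · simp
    · have hbot : (S : Subgroup G) ⊓ ((g • S : Sylow p G) : Subgroup G) ≠ ⊥ := by
        obtain ⟨a, ha, ha1⟩ := hne
        rw [inf_ne_bot_iff]
        exact ⟨a, hA ha, hAT ha, ha1⟩
      have hlk := h S (g • S) hST hbot
      have hAD : A ⊆ (((S : Subgroup G) ⊓ ((g • S : Sylow p G) : Subgroup G) : Subgroup G) : Set G) :=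
        fun a ha => ⟨hA ha, hAT ha⟩
      obtain ⟨l, hl, hv⟩ := fd_of_lk h𝓕 hAD hlk
      refine ⟨l, ((l.map Prod.snd).prod)⁻¹ * g, hl, ?_, by group⟩
      rw [mem_normalizer_iff_map_cj, ← map_cj_mul, ← sylow_smul_coe]
      exact hv
  · intro h S T hne hbot
    obtain ⟨g, hg⟩ := MulAction.exists_smul_eq G S T
    have hT : (T : Subgroup G) = (S : Subgroup G).map (cj g) := by
      rw [← hg, sylow_smul_coe]
    obtain ⟨a, haS, haT, ha1⟩ := inf_ne_bot_iff.1 hbot
    have hA : (((S : Subgroup G) ⊓ (T : Subgroup G) : Subgroup G) : Set G) ⊆ (S : Set G) :=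
      fun x hx => hx.1
    have hgA : conjRight g (((S : Subgroup G) ⊓ (T : Subgroup G) : Subgroup G) : Set G) ⊆
        (S : Set G) := by
      change conjRight g _ ⊆ (((S : Subgroup G) : Subgroup G) : Set G)
      rw [conjRight_subset_iff, ← hT]
      exact fun x hx => hx.2
    obtain ⟨l, y₀, hl, hy₀, hgy⟩ := h S _ g hA ⟨a, ⟨haS, haT⟩, ha1⟩ hgA
    have := lk_of_fd h𝓕 l hl
    have e : (S : Subgroup G).map (cj (l.map Prod.snd).prod) = (T : Subgroup G) := by
      rw [hT, hgy, ← map_cj_mul, mem_normalizer_iff_map_cj.1 hy₀]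
    rwa [e] at this

end Cfsg.Agent.Helper10
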