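import Cfsg.Agent.Helper10.SylInt
import Cfsg.Agent.Helper11.SylowInter

set_option autoImplicit false

/-!
# Normalizers of functor members and singular maximal locals control Sylow intersections
-/

namespace Cfsg.Agent.Helper10

open Cfsg Cfsg.Agent.Helper14 Cfsg.Agent.Helper15

variable {G : Type*} [Group G] {p : ℕ}

theorem exists_isMaximalPLocal_ge [Finite G] {N : Subgroup G} (hN : IsPLocal p N) :
    ∃ M, IsMaximalPLocal p M ∧ N ≤ M := by
  obtain ⟨M, hNM, hmax⟩ := Finite.exists_le_maximal (p := fun L : Subgroup G => IsPLocal p L ∧ N ≤ L)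
    (a := N) ⟨hN, le_rfl⟩
  refine ⟨M, ⟨hmax.prop.1, ?_⟩, hNM⟩
  intro L hL hML
  have : L ≤ M := hmax.le_of_ge ⟨hL, hNM.trans hML⟩ hML
  exact le_antisymm this hML

theorem inf_eq_of_isSylowIn {Q M U : Subgroup G} (hQ : IsSylowIn p Q M) (hU : IsPGroup p ↥U)
    (hQU : Q ≤ U) : U ⊓ M = Q :=
  hQ.2.2 (U ⊓ M) inf_le_right (hU.to_le inf_le_left) (le_inf hQU hQ.1)

theorem mem_sylowMembers_of_isSylowIn {𝓗 : Set (Subgroup G)} {Q M U : Subgroup G} (hM : M ∈ 𝓗)
    (hQ : IsSylowIn p Q M) (hU : IsPGroup p ↥U) (hQU : Q ≤ U) : M ∈ sylowMembers p 𝓗 U := by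
  rw [mem_sylowMembers_iff, inf_eq_of_isSylowIn hQ hU hQU]
  exact ⟨hM, hQ⟩

theorem card_lt_of_lt_sil [Finite G] {H K : Subgroup G} (h : H < K) : Nat.card ↥H < Nat.card ↥K := by
  refine lt_of_le_of_ne (Subgroup.card_le_of_le h.le) ?_
  intro e
  exact h.ne (Subgroup.eq_of_le_of_card_ge h.le e.ge)

/-- the family of S2956 -/
def famH (p : ℕ) (f : Subgroup G → Set (Subgroup G)) : Set (Subgroup G) :=
  functorFamily p f (⊤ : Subgroup G) ∪ {M | IsMaximalPLocal p M ∧ ¬ IsFunctorRegular p f M}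

theorem lemmaA [Finite G] [Fact p.Prime] {f : Subgroup G → Set (Subgroup G)}
    (hf : IsNormalizerFunctor p f)
    (hf1 : ∀ P : Subgroup G, IsPGroup p ↥P → P ≠ ⊥ → ∀ F ∈ f P, F ≠ ⊥)
    {D : Subgroup G} (hD : D ≠ ⊥)
    (IH : ∀ U V Qc : Subgroup G, IsSylowIn p U ⊤ → IsSylowIn p V ⊤ → Qc ≤ U → Qc ≤ V → D ≤ Qc →
      Nat.card ↥D < Nat.card ↥Qc → Lk p (famH p f) D U V)
    (s : ℕ) (hs : ∀ U : Subgroup G, IsSylowIn p U ⊤ → Nat.card ↥U = s) :
    ∀ (m : ℕ) (M Q Q₂ U V : Subgroup G), IsMaximalPLocal p M → IsSylowIn p Q M →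
      IsSylowIn p Q₂ M → s - Nat.card ↥Q = m → D ≤ Q → D ≤ Q₂ → Nat.card ↥D < Nat.card ↥Q →
      IsSylowIn p U ⊤ → IsSylowIn p V ⊤ → Q ≤ U → Q₂ ≤ V → Lk p (famH p f) D U V := by
  intro m
  induction m using Nat.strong_induction_on with
  | _ m ihm =>
  intro M Q Q₂ U V hM hQ hQ₂ hm hDQ hDQ₂ hcard hU hV hQU hQ₂V
  have hcardQ₂ : Nat.card ↥Q₂ = Nat.card ↥Q := (isSylowIn_card_eq hQ hQ₂).symm
  by_cases hreg : IsFunctorRegular p f M
  · -- regular case
    rw [isFunctorRegular_iff] at hreg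
    by_cases hQQ : Q = Q₂
    · subst hQQ
      exact IH U V Q hU hV hQU hQ₂V hDQ hcard
    · have hbot : Q ⊓ Q₂ ≠ ⊥ := ne_bot_of_le_ne_bot hD (le_inf hDQ hDQ₂)
      have hchain := hreg Q Q₂ hQ hQ₂ hQQ hbot
      have claim : ∀ P : Subgroup G, Lk p (functorFamily p f M) (Q ⊓ Q₂) Q P →
          IsSylowIn p P M ∧ D ≤ P ∧ ∀ W : Subgroup G, IsSylowIn p W ⊤ → P ≤ W →
            Lk p (famH p f) D U W := by
        intro P hP
        induction hP with
        | refl => exact ⟨hQ, hDQ, fun W hW hQW => IH U W Q hU hW hQU hQW hDQ hcard⟩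
        | @step P' P X x _ hX1 hX2 hx hc hD1 hD2 ih =>
          obtain ⟨hP's, hDP', ihW⟩ := ih
          obtain ⟨F, hF, rfl⟩ := (mem_sylowMembers_functorFamily hf hP's).1 hX1
          have hxM : x ∈ M := hx.1
          have hxN : x ∈ Subgroup.normalizer (F : Set G) := hx.2
          have hP : P = P'.map (cj x) := by rw [← hc, map_cj_inv_map_cj]
          have hPs : IsSylowIn p P M := by
            rw [hP]; exact isSylowIn_map_cj_of_mem hP's hxM
          have hFP : F ∈ f P := by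
            rw [hP, (hf P' hP's.2.1).2 x]
            exact ⟨F, hF, mem_normalizer_iff_map_cj.1 hxN⟩
          have hDP : D ≤ P := (le_inf hDQ hDQ₂).trans hD1
          refine ⟨hPs, hDP, ?_⟩
          intro W hW hPW
          have hW' : IsSylowIn p (W.map (cj x⁻¹)) ⊤ :=
            isSylowIn_map_cj_of_mem hW (Subgroup.mem_top _)
          have hP'W' : P' ≤ W.map (cj x⁻¹) := by
            rw [← hc]; exact Subgroup.map_mono hPW
          have h1 : Lk p (famH p f) D U (W.map (cj x⁻¹)) := ihW _ hW' hP'W'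
          refine h1.trans ?_
          have hDN : D ≤ Subgroup.normalizer (F : Set G) :=
            ((le_inf hDQ hDQ₂).trans hD2).trans inf_le_right
          by_cases hPWe : P = W
          · subst hPWe
            have hP'top : IsSylowIn p P' ⊤ := by rw [← hc]; exact hW'
            rw [hc]
            refine Lk.single (⊤ ⊓ Subgroup.normalizer (F : Set G)) x ?_ ?_
              ⟨Subgroup.mem_top _, hxN⟩ hc hDP (le_inf le_top hDN)
            · exact sylowMembers_mono Set.subset_union_left _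
                ((mem_sylowMembers_functorFamily hf hP'top).2 ⟨F, hF, rfl⟩)
            · exact sylowMembers_mono Set.subset_union_left _
                ((mem_sylowMembers_functorFamily hf hW).2 ⟨F, hFP, rfl⟩)
          · have hlt : P < W := lt_of_le_of_ne hPW hPWe
            have hgrow : P < W ⊓ Subgroup.normalizer (P : Set G) :=
              Cfsg.Agent.Helper11.lt_inf_normalizer W P hW.2.1 hlt
            have hPne : P ≠ ⊥ := ne_bot_of_le_ne_bot hD hDP
            have hFne : F ≠ ⊥ := hf1 P hPs.2.1 hPne F hFP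
            have hFle : F ≤ P := ((hf P hPs.2.1).1 F hFP).1
            have hNPF : Subgroup.normalizer (P : Set G) ≤ Subgroup.normalizer (F : Set G) :=
              ((hf P hPs.2.1).1 F hFP).2
            have hloc : IsPLocal p (Subgroup.normalizer (F : Set G)) :=
              ⟨F, hPs.2.1.to_le hFle, hFne, rfl⟩
            obtain ⟨M', hM', hLM'⟩ := exists_isMaximalPLocal_ge hloc
            have hxM' : x ∈ M' := hLM' hxN
            obtain ⟨Q', hQ', hRQ'⟩ := exists_isSylowIn_ge (p := p)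
              (inf_le_right : W ⊓ M' ≤ M') (hW.2.1.to_le inf_le_left)
            obtain ⟨W₂, hW₂, hQ'W₂⟩ := exists_isSylowIn_ge (p := p) (le_top : Q' ≤ ⊤) hQ'.2.1
            have hNcR : W ⊓ Subgroup.normalizer (P : Set G) ≤ W ⊓ M' :=
              inf_le_inf_left W (hNPF.trans hLM')
            have hNcQ' : W ⊓ Subgroup.normalizer (P : Set G) ≤ Q' := hNcR.trans hRQ'
            have hcP : Nat.card ↥P = Nat.card ↥Q := (isSylowIn_card_eq hQ hPs).symm
            have hcNc : Nat.card ↥P < Nat.card ↥(W ⊓ Subgroup.normalizer (P : Set G) : Subgroup G) :=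
              card_lt_of_lt_sil hgrow
            have hcQ' : Nat.card ↥(W ⊓ Subgroup.normalizer (P : Set G) : Subgroup G) ≤ Nat.card ↥Q' :=
              Subgroup.card_le_of_le hNcQ'
            have hcW₂ : Nat.card ↥Q' ≤ s := by
              rw [← hs W₂ hW₂]; exact Subgroup.card_le_of_le hQ'W₂
            have hW₂' : IsSylowIn p (W₂.map (cj x⁻¹)) ⊤ :=
              isSylowIn_map_cj_of_mem hW₂ (Subgroup.mem_top _)
            have hDP'' : D ≤ P.map (cj x⁻¹) := by rw [hc]; exact hDP'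
            -- step a
            have ca : Lk p (famH p f) D (W.map (cj x⁻¹)) (W₂.map (cj x⁻¹)) := by
              refine IH _ _ ((W ⊓ Subgroup.normalizer (P : Set G)).map (cj x⁻¹)) hW' hW₂'
                (Subgroup.map_mono inf_le_left) (Subgroup.map_mono (hNcQ'.trans hQ'W₂))
                (hDP''.trans (Subgroup.map_mono hgrow.le)) ?_
              rw [card_map_cj']
              omega
            -- step b
            have cb : Lk p (famH p f) D (W₂.map (cj x⁻¹)) W₂ := by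
              refine ihm (s - Nat.card ↥Q') (by omega) M' (Q'.map (cj x⁻¹)) Q' _ _ hM'
                (isSylowIn_map_cj_of_mem hQ' (M'.inv_mem hxM')) hQ' ?_
                (hDP''.trans (Subgroup.map_mono (hgrow.le.trans hNcQ')))
                (hDP.trans (hgrow.le.trans hNcQ')) ?_ hW₂' hW₂ (Subgroup.map_mono hQ'W₂) hQ'W₂
              · rw [card_map_cj']
              · rw [card_map_cj']
                omega
            -- step c
            have cc : Lk p (famH p f) D W₂ W := by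
              refine IH _ _ (W ⊓ Subgroup.normalizer (P : Set G)) hW₂ hW
                (hNcQ'.trans hQ'W₂) inf_le_left (hDP.trans hgrow.le) ?_
              omega
            exact ca.trans (cb.trans cc)
      exact (claim Q₂ hchain).2.2 V hV hQ₂V
  · -- singular case
    have hM𝓗 : M ∈ famH p f := Or.inr ⟨hM, hreg⟩
    obtain ⟨y, hyM, rfl⟩ := hQ.exists_conj hQ₂
    have hU' : IsSylowIn p (U.map (cj y)) ⊤ := isSylowIn_map_cj_of_mem hU (Subgroup.mem_top _)
    have hQ₂U' : Q.map (cj y) ≤ U.map (cj y) := Subgroup.map_mono hQU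
    have c1 : Lk p (famH p f) D U (U.map (cj y)) := by
      refine Lk.single M y (mem_sylowMembers_of_isSylowIn hM𝓗 hQ hU.2.1 hQU)
        (mem_sylowMembers_of_isSylowIn hM𝓗 hQ₂ hU'.2.1 hQ₂U') hyM (map_cj_map_cj_inv U y)
        (hDQ₂.trans hQ₂U') (hDQ.trans hQ.1)
    have c2 : Lk p (famH p f) D (U.map (cj y)) V :=
      IH _ _ (Q.map (cj y)) hU' hV hQ₂U' hQ₂V hDQ₂ (by rw [hcardQ₂]; exact hcard)
    exact c1.trans c2

/-- S2956 -/
theorem controls_famH [Finite G] [Fact p.Prime] {f : Subgroup G → Set (Subgroup G)}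
    (hf : IsNormalizerFunctor p f)
    (hf1 : ∀ P : Subgroup G, IsPGroup p ↥P → P ≠ ⊥ → ∀ F ∈ f P, F ≠ ⊥) :
    ControlsSylowIntersections p (famH p f) := by
  rw [controls_iff_lk]
  have main : ∀ (n : ℕ) (S T : Subgroup G), IsSylowIn p S ⊤ → IsSylowIn p T ⊤ →
      Nat.card ↥S - Nat.card ↥(S ⊓ T : Subgroup G) = n → S ⊓ T ≠ ⊥ →
      Lk p (famH p f) (S ⊓ T) S T := by
    intro n
    induction n using Nat.strong_induction_on with
    | _ n ih =>
    intro S T hS hT hn hbot
    by_cases hST : S = T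
    · subst hST; exact Lk.refl
    have hDS : S ⊓ T < S := by
      refine lt_of_le_of_ne inf_le_left ?_
      intro e
      exact hST (hS.2.2 T le_top hT.2.1 (inf_eq_left.1 e)).symm
    have hDT : S ⊓ T < T := by
      refine lt_of_le_of_ne inf_le_right ?_
      intro e
      exact hST (hT.2.2 S le_top hS.2.1 (inf_eq_right.1 e))
    have hcS : ∀ U : Subgroup G, IsSylowIn p U ⊤ → Nat.card ↥U = Nat.card ↥S :=
      fun U hU => isSylowIn_card_eq hU hS
    have hcDS : Nat.card ↥(S ⊓ T : Subgroup G) < Nat.card ↥S := card_lt_of_lt_sil hDS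
    have IH' : ∀ U V Qc : Subgroup G, IsSylowIn p U ⊤ → IsSylowIn p V ⊤ → Qc ≤ U → Qc ≤ V →
        S ⊓ T ≤ Qc → Nat.card ↥(S ⊓ T : Subgroup G) < Nat.card ↥Qc →
        Lk p (famH p f) (S ⊓ T) U V := by
      intro U V Qc hU hV hQU hQV hDQ hcard
      by_cases hUV : U = V
      · subst hUV; exact Lk.refl
      have h1 : Qc ≤ U ⊓ V := le_inf hQU hQV
      have hbot' : U ⊓ V ≠ ⊥ := ne_bot_of_le_ne_bot hbot (hDQ.trans h1)
      have hc1 : Nat.card ↥Qc ≤ Nat.card ↥(U ⊓ V : Subgroup G) := Subgroup.card_le_of_le h1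
      have hc2 : Nat.card ↥(U ⊓ V : Subgroup G) ≤ Nat.card ↥U :=
        Subgroup.card_le_of_le inf_le_left
      have hc3 := hcS U hU
      have hlt : Nat.card ↥U - Nat.card ↥(U ⊓ V : Subgroup G) < n := by omega
      exact (ih _ hlt U V hU hV rfl hbot').mono (hDQ.trans h1)
    have hDp : IsPGroup p ↥(S ⊓ T : Subgroup G) := hS.2.1.to_le inf_le_left
    have hloc : IsPLocal p (Subgroup.normalizer ((S ⊓ T : Subgroup G) : Set G)) :=
      ⟨S ⊓ T, hDp, hbot, rfl⟩
    obtain ⟨M, hM, hNM⟩ := exists_isMaximalPLocal_ge hloc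
    have hgS := Cfsg.Agent.Helper11.lt_inf_normalizer S (S ⊓ T) hS.2.1 hDS
    have hgT := Cfsg.Agent.Helper11.lt_inf_normalizer T (S ⊓ T) hT.2.1 hDT
    obtain ⟨Q, hQ, hNSQ⟩ := exists_isSylowIn_ge (p := p)
      ((inf_le_right : S ⊓ Subgroup.normalizer ((S ⊓ T : Subgroup G) : Set G) ≤ _).trans hNM)
      (hS.2.1.to_le inf_le_left)
    obtain ⟨Q₂, hQ₂, hNTQ₂⟩ := exists_isSylowIn_ge (p := p)
      ((inf_le_right : T ⊓ Subgroup.normalizer ((S ⊓ T : Subgroup G) : Set G) ≤ _).trans hNM)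
      (hT.2.1.to_le inf_le_left)
    obtain ⟨U, hU, hQU⟩ := exists_isSylowIn_ge (p := p) (le_top : Q ≤ ⊤) hQ.2.1
    obtain ⟨V, hV, hQ₂V⟩ := exists_isSylowIn_ge (p := p) (le_top : Q₂ ≤ ⊤) hQ₂.2.1
    have hcNS := card_lt_of_lt_sil hgS
    have hcNT := card_lt_of_lt_sil hgT
    have hcQ := Subgroup.card_le_of_le hNSQ
    have c1 : Lk p (famH p f) (S ⊓ T) S U :=
      IH' S U _ hS hU inf_le_left (hNSQ.trans hQU) hgS.le hcNS
    have c2 : Lk p (famH p f) (S ⊓ T) U V :=
      lemmaA hf hf1 hbot IH' (Nat.card ↥S) hcS _ M Q Q₂ U V hM hQ hQ₂ rfl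
        (hgS.le.trans hNSQ) (hgT.le.trans hNTQ₂) (by omega) hU hV hQU hQ₂V
    have c3 : Lk p (famH p f) (S ⊓ T) V T :=
      IH' V T _ hV hT (hNTQ₂.trans hQ₂V) inf_le_left hgT.le hcNT
    exact c1.trans (c2.trans c3)
  intro S T hne hbot
  exact main _ S T (isSylowIn_top_coe S) (isSylowIn_top_coe T) rfl hbot

end Cfsg.Agent.Helper10
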