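import Mathlib
import Cfsg.Agent.Helper26.FrattiniFusion
import Cfsg.Agent.Helper25.FusionLift
import Cfsg.Agent.Helper1.PGroup

set_option autoImplicit false

/-! Piece FOC of Tate's theorem for fusion systems: if the normalizer system of `S` is inner and
`Φ(S)` is strongly closed, the focal subgroup lies in `Φ(S)`. -/

namespace Cfsg.Agent.Helper10.TT

open Cfsg Cfsg.FusionSystem Cfsg.Agent.Helper25 Cfsg.Agent.Helper26.MasterRed
open scoped commutatorElement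

universe u

variable {Ω : Type u} [Group Ω] {S : Subgroup Ω}

theorem focal_le_frattini [Finite S] (p : ℕ) [Fact p.Prime] (hS : IsPGroup p S)
    (F : FusionSystem S) (hF : F.IsSaturated p) (hN : NInner F S)
    (hsc : F.StronglyClosed ((frattini ↥S).map S.subtype)) :
    F.focalSubgroup ≤ (frattini ↥S).map S.subtype := by
  obtain ⟨Q, hQe⟩ : ∃ Q : Subgroup Ω, Q = (frattini ↥S).map S.subtype := ⟨_, rfl⟩
  rw [← hQe] at hsc ⊢
  have hQS : Q ≤ S := hsc.1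
  have h1 : (commutator ↥S).map S.subtype ≤ Q := by
    rw [hQe]
    exact Subgroup.map_mono (Cfsg.Agent.Helper1.IsPGroup.commutator_le_frattini hS)
  rw [Subgroup.map_subtype_commutator] at h1
  have hcomm : ∀ x ∈ S, ∀ y ∈ S, x * y * x⁻¹ * y⁻¹ ∈ Q := fun x hx y hy =>
    h1 (Subgroup.commutator_mem_commutator hx hy)
  have key : ∀ g ∈ S, ∀ x ∈ Q, g * x * g⁻¹ ∈ Q := by
    intro g hg x hx
    have := Q.mul_mem (hcomm g hg x (hQS hx)) hx
    have e : g * x * g⁻¹ * x⁻¹ * x = g * x * g⁻¹ := by group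
    rwa [e] at this
  have hSNQ : S ≤ Subgroup.normalizer (Q : Set Ω) := by
    intro g hg
    rw [Subgroup.mem_normalizer_iff]
    intro x
    constructor
    · exact key g hg x
    · intro hx
      have := key g⁻¹ (S.inv_mem hg) _ hx
      have e : g⁻¹ * (g * x * g⁻¹) * g⁻¹⁻¹ = x := by group
      rwa [e] at this
  have hQnorm : (Q.subgroupOf S).Normal := Subgroup.normal_subgroupOf_of_le_normalizer hSNQ
  have hker : ∀ s : S, QuotientGroup.mk' (Q.subgroupOf S) s = 1 ↔ (s : Ω) ∈ Q := by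
    intro s
    rw [QuotientGroup.mk'_apply, QuotientGroup.eq_one_iff]
    rfl
  have hrange : (QuotientGroup.mk' (Q.subgroupOf S)).range = ⊤ :=
    MonoidHom.range_eq_top.mpr (QuotientGroup.mk'_surjective _)
  have hfs := factorSystem_isFactorSystem F hsc (QuotientGroup.mk' (Q.subgroupOf S)) hker hrange
  obtain ⟨E', hE'e⟩ : ∃ E' : FusionSystem (⊤ : Subgroup (↥S ⧸ Q.subgroupOf S)),
      E' = factorSystem F hsc (QuotientGroup.mk' (Q.subgroupOf S)) hker hrange := ⟨_, rfl⟩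
  rw [← hE'e] at hfs
  have hiff := hfs.2.2.2
  have hS' : IsPGroup p ↥(⊤ : Subgroup (↥S ⧸ Q.subgroupOf S)) :=
    (hS.to_quotient (Q.subgroupOf S)).to_subgroup ⊤
  have hE'sat : E'.IsSaturated p :=
    factor_isSaturated F hsc (QuotientGroup.mk' (Q.subgroupOf S)) hker hrange E' hiff p hS hF
  have hab' : ∀ x ∈ (⊤ : Subgroup (↥S ⧸ Q.subgroupOf S)),
      ∀ y ∈ (⊤ : Subgroup (↥S ⧸ Q.subgroupOf S)), x * y = y * x := by
    intro x _ y _
    obtain ⟨a, rfl⟩ := QuotientGroup.mk'_surjective (Q.subgroupOf S) x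
    obtain ⟨b, rfl⟩ := QuotientGroup.mk'_surjective (Q.subgroupOf S) y
    rw [← map_mul, ← map_mul, QuotientGroup.mk'_apply, QuotientGroup.mk'_apply, QuotientGroup.eq]
    show (((a * b)⁻¹ * (b * a) : S) : Ω) ∈ Q
    have h3 := hcomm _ (S.inv_mem b.2) _ (S.inv_mem a.2)
    have e : (((a * b)⁻¹ * (b * a) : S) : Ω) = (b : Ω)⁻¹ * (a : Ω)⁻¹ * (b : Ω)⁻¹⁻¹ * (a : Ω)⁻¹⁻¹ := by
      simp [mul_assoc]
    rw [e]
    exact h3
  have hpre : preimageAlong (QuotientGroup.mk' (Q.subgroupOf S))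
      (⊤ : Subgroup (↥S ⧸ Q.subgroupOf S)) = S := by
    apply le_antisymm (preimageAlong_le _ _)
    intro x hx
    exact (mem_preimageAlong _ _ _).mpr ⟨hx, Subgroup.mem_top _⟩
  have hNE' : NInner E' (⊤ : Subgroup (↥S ⧸ Q.subgroupOf S)) := by
    apply ninner_factor F (QuotientGroup.mk' (Q.subgroupOf S)) hrange E' hiff
    · exact le_top.trans (Subgroup.le_normalizer)
    · rw [hpre]
      exact hN
  have hinner' : Inner E' := inner_of_abelian_ninner p hS' E' hE'sat hab' hNE'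
  have hmod : InnerMod F Q :=
    innerMod_of_factor_inner F hsc (QuotientGroup.mk' (Q.subgroupOf S)) hker hrange E' hiff hinner'
  have hlift := le_liftSystem p hS F hF hsc
  -- the generators
  unfold FusionSystem.focalSubgroup
  rw [Subgroup.closure_le]
  rintro y ⟨P, φ, x, hφ, rfl⟩
  have hPS : P ≤ S := (F.le_of_mem hφ).1
  obtain ⟨-, ψ, hψ, hl⟩ := hlift P hφ
  obtain ⟨s, hs, hsx⟩ := hmod (P ⊔ Q) le_sup_right ψ hψ
  have hxS : (x : Ω) ∈ S := hPS x.2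
  have a1 := hl x
  have a2 := hsx (Subgroup.inclusion le_sup_left x)
  have a3 : ((Subgroup.inclusion (le_sup_left : P ≤ P ⊔ Q) x : ↥(P ⊔ Q)) : Ω) = (x : Ω) := rfl
  rw [a3] at a2
  set z := ψ (Subgroup.inclusion le_sup_left x) with hz
  -- `x⁻¹ φ x = (x⁻¹ t₁ x) (x⁻¹ s x s⁻¹) t₂`
  have b1 : ((φ x)⁻¹ * z)⁻¹ ∈ Q := Q.inv_mem a1
  have b2 : (x : Ω)⁻¹ * (z * (s * (x : Ω) * s⁻¹)⁻¹) * (x : Ω)⁻¹⁻¹ ∈ Q :=
    key _ (S.inv_mem hxS) _ a2
  have b3 : (x : Ω)⁻¹ * s * (x : Ω)⁻¹⁻¹ * s⁻¹ ∈ Q := hcomm _ (S.inv_mem hxS) _ hs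
  have e : (x : Ω)⁻¹ * φ x = ((x : Ω)⁻¹ * (z * (s * (x : Ω) * s⁻¹)⁻¹) * (x : Ω)⁻¹⁻¹) *
      ((x : Ω)⁻¹ * s * (x : Ω)⁻¹⁻¹ * s⁻¹) * ((φ x)⁻¹ * z)⁻¹ := by group
  rw [e]
  exact Q.mul_mem (Q.mul_mem b2 b3) b1

end Cfsg.Agent.Helper10.TT
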