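import Mathlib
import Cfsg.Prelude.Def_Amalgam
import Cfsg.Agent.Helper14.PCore
import Cfsg.Agent.Helper7.Layer

/-!
Basic lemmas for the Thompson–Wielandt theorem (S5752): relative cores, normalizers of subgroups
of core-free maximal subgroups, `p'`-elements of `Y ⊔ Q`.
-/

set_option autoImplicit false

namespace Cfsg.Agent.Helper10.TW

open Subgroup Cfsg

variable {G : Type*} [Group G]

/-- Membership in the core of `X` relative to `M`. -/
theorem mem_coreIn {X M : Subgroup G} {x : G} :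
    x ∈ ((X.subgroupOf M).normalCore).map M.subtype ↔ x ∈ M ∧ ∀ m ∈ M, m * x * m⁻¹ ∈ X := by
  constructor
  · rintro ⟨y, hy, rfl⟩
    refine ⟨y.2, fun m hm => ?_⟩
    have := hy ⟨m, hm⟩
    rw [mem_subgroupOf] at this
    simpa using this
  · rintro ⟨hxM, h⟩
    refine ⟨⟨x, hxM⟩, ?_, rfl⟩
    intro b
    rw [mem_subgroupOf]
    simpa using h b b.2

/-- (M1) In a core-free maximal subgroup `M`, the normalizer of a non-trivial subgroup normalized
by `M` is `M`. -/
theorem normalizer_eq_of_coatom {M N : Subgroup G} (hM : IsCoatom M) (hcore : M.normalCore = ⊥)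
    (hN : N ≠ ⊥) (hNM : N ≤ M) (hnorm : M ≤ normalizer (N : Set G)) :
    normalizer (N : Set G) = M := by
  rcases hM.le_iff.1 hnorm with h | h
  · exfalso
    have hNn : N.Normal := normalizer_eq_top_iff.1 h
    have : N ≤ M.normalCore := normal_le_normalCore.2 hNM
    rw [hcore] at this
    exact hN (le_bot_iff.1 this)
  · exact h

/-- The core of a conjugate. -/
theorem normalCore_map_conj_eq_bot {M : Subgroup G} (g : G) (hcore : M.normalCore = ⊥) :
    (M.map (MulAut.conj g).toMonoidHom).normalCore = ⊥ := by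
  rw [eq_bot_iff]
  intro x hx
  have hx' : x ∈ M.normalCore := by
    intro b
    obtain ⟨y, hy, hyx⟩ := hx (g * b)
    simp only [MulEquiv.coe_toMonoidHom, MulAut.conj_apply] at hyx
    have : b * x * b⁻¹ = y := by
      have h2 : y = g⁻¹ * (g * y * g⁻¹) * g := by group
      rw [h2, hyx]; group
    rw [this]; exact hy
  rw [hcore] at hx'
  exact hx'

theorem isCoatom_map_conj {M : Subgroup G} (g : G) (hM : IsCoatom M) :
    IsCoatom (M.map (MulAut.conj g).toMonoidHom) := by
  have := (MulEquiv.mapSubgroup (MulAut.conj g)).isCoatom_iff (a := M)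
  exact this.2 hM

/-- `y * q` to a power is in `Y * q ^ n` when `q` normalizes `Y`. -/
theorem mul_pow_mem_of_normalizes {Y : Subgroup G} {y q : G} (hy : y ∈ Y)
    (hq : q ∈ normalizer (Y : Set G)) (n : ℕ) : (y * q) ^ n * (q ^ n)⁻¹ ∈ Y := by
  induction n with
  | zero => simp
  | succ n ih =>
    have hqn : q ^ n ∈ normalizer (Y : Set G) := pow_mem hq n
    have h1 : q ^ n * y * (q ^ n)⁻¹ ∈ Y := (mem_normalizer_iff.1 hqn y).1 hy
    have : (y * q) ^ (n + 1) * (q ^ (n + 1))⁻¹ =
        ((y * q) ^ n * (q ^ n)⁻¹) * (q ^ n * y * (q ^ n)⁻¹) := by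
      rw [pow_succ, pow_succ]; group
    rw [this]
    exact Y.mul_mem ih h1

/-- A `p'`-element of `Y ⊔ Q`, with `Q` a `p`-group normalizing `Y`, lies in `Y`. -/
theorem mem_of_mem_sup_of_coprime {p : ℕ} {Y Q : Subgroup G} (hQ : IsPGroup p Q)
    (hnorm : Q ≤ normalizer (Y : Set G)) {x : G} (hx : x ∈ Y ⊔ Q)
    (hcop : (orderOf x).Coprime p) : x ∈ Y := by
  obtain ⟨y, hy, q, hq, rfl⟩ := (Cfsg.Agent.Helper7.mem_sup_of_le_normalizer hnorm).1 hx
  obtain ⟨k, hk⟩ := hQ ⟨q, hq⟩
  have hk' : q ^ p ^ k = 1 := by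
    have := congrArg Subtype.val hk
    simpa using this
  have h1 := mul_pow_mem_of_normalizes hy (hnorm hq) (p ^ k)
  rw [hk', inv_one, mul_one] at h1
  have hc : (p ^ k).Coprime (orderOf (y * q)) := (Nat.Coprime.pow_right k hcop).symm
  obtain ⟨m, hm⟩ := exists_pow_eq_self_of_coprime hc
  rw [← hm]
  exact pow_mem h1 m

/-- If `H` normalizes `N` then `H` normalizes `O_p(N)`. -/
theorem le_normalizer_pCoreOf_of_le_normalizer (p : ℕ) {H N : Subgroup G}
    (h : H ≤ normalizer (N : Set G)) : H ≤ normalizer (pCoreOf p N : Set G) := by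
  intro x hx
  have hN : N.map (MulAut.conj x).toMonoidHom = N := by
    ext z
    constructor
    · rintro ⟨w, hw, rfl⟩
      exact (mem_normalizer_iff.1 (h hx) w).1 hw
    · intro hz
      refine ⟨x⁻¹ * z * x, ?_, by simp [mul_assoc]⟩
      have := (mem_normalizer_iff.1 (h hx) (x⁻¹ * z * x)).2
      apply this
      have e : x * (x⁻¹ * z * x) * x⁻¹ = z := by group
      rw [e]; exact hz
  have hP := Cfsg.Agent.Helper14.pCoreOf_map_conj p N x
  rw [hN] at hP
  rw [mem_normalizer_iff]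
  intro z
  constructor
  · intro hz
    rw [hP]
    exact ⟨z, hz, rfl⟩
  · intro hz
    rw [hP] at hz
    obtain ⟨w, hw, hwz⟩ := hz
    simp only [MulEquiv.coe_toMonoidHom, MulAut.conj_apply] at hwz
    have : w = z := by
      have h1 : w = x⁻¹ * (x * w * x⁻¹) * x := by group
      rw [h1, hwz]; group
    rw [← this]; exact hw

/-- `O_p` of a subgroup normal in `M` lies in `O_p(M)`. -/
theorem pCoreOf_le_pCoreOf (p : ℕ) {N M : Subgroup G} (hNM : N ≤ M)
    (h : M ≤ normalizer (N : Set G)) : pCoreOf p N ≤ pCoreOf p M :=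
  Cfsg.Agent.Helper14.le_pCoreOf p ((Cfsg.Agent.Helper14.pCoreOf_le p N).trans hNM)
    (le_normalizer_pCoreOf_of_le_normalizer p h) (Cfsg.Agent.Helper14.pCoreOf_isPGroup p N)

/-- A normal `p`-subgroup of `M` inside `N ⊴ M`... : `P ⊓ N ≤ O_p(N)` when `N` normalizes `P`. -/
theorem inf_le_pCoreOf (p : ℕ) {P N : Subgroup G} (hP : IsPGroup p P)
    (h : N ≤ normalizer (P : Set G)) : P ⊓ N ≤ pCoreOf p N := by
  apply Cfsg.Agent.Helper14.le_pCoreOf p inf_le_right
  · intro n hn
    rw [mem_normalizer_iff]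
    intro z
    have h1 := mem_normalizer_iff.1 (h hn) z
    constructor
    · rintro ⟨hz1, hz2⟩
      exact ⟨h1.1 hz1, N.mul_mem (N.mul_mem hn hz2) (N.inv_mem hn)⟩
    · rintro ⟨hz1, hz2⟩
      refine ⟨h1.2 hz1, ?_⟩
      have : z = n⁻¹ * (n * z * n⁻¹) * n := by group
      rw [this]
      exact N.mul_mem (N.mul_mem (N.inv_mem hn) hz2) hn
  · exact hP.to_le inf_le_left

theorem card_pCoreOf_map_conj (p : ℕ) (M : Subgroup G) (g : G) :
    Nat.card (pCoreOf p (M.map (MulAut.conj g).toMonoidHom)) = Nat.card (pCoreOf p M) := by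
  rw [Cfsg.Agent.Helper14.pCoreOf_map_conj]
  exact card_map_of_injective (MulAut.conj g).injective

end Cfsg.Agent.Helper10.TW
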