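import Mathlib
import Cfsg.Agent.Helper10.TWBasic
import Cfsg.Agent.Helper10.CharP

/-!
Thompson–Wielandt (S5752): the symmetric setup, Step 0 (`C_{M₁}(A₁) ≤ A₁`) and the key lemma
(`A₂` is a `p`-group as soon as `O_p(M₁) ≠ 1`).
-/

set_option autoImplicit false

namespace Cfsg.Agent.Helper10.TW

open Subgroup Cfsg

variable {G : Type*} [Group G]

/-- A subgroup cut out of `M` by an `M`-conjugation-invariant condition is normalized by `M`. -/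
theorem le_normalizer_of_mem_iff {M C : Subgroup G} {P : G → Prop}
    (hC : ∀ x, x ∈ C ↔ x ∈ M ∧ ∀ m ∈ M, P (m * x * m⁻¹)) : M ≤ normalizer (C : Set G) := by
  intro n hn
  rw [mem_normalizer_iff]
  intro x
  rw [hC, hC]
  constructor
  · rintro ⟨hx, h⟩
    refine ⟨M.mul_mem (M.mul_mem hn hx) (M.inv_mem hn), fun m hm => ?_⟩
    have := h (m * n) (M.mul_mem hm hn)
    have e : m * (n * x * n⁻¹) * m⁻¹ = m * n * x * (m * n)⁻¹ := by group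
    rw [e]; exact this
  · rintro ⟨hx, h⟩
    refine ⟨?_, fun m hm => ?_⟩
    · have : x = n⁻¹ * (n * x * n⁻¹) * n := by group
      rw [this]; exact M.mul_mem (M.mul_mem (M.inv_mem hn) hx) hn
    · have := h (m * n⁻¹) (M.mul_mem hm (M.inv_mem hn))
      have e : m * n⁻¹ * (n * x * n⁻¹) * (m * n⁻¹)⁻¹ = m * x * m⁻¹ := by group
      rw [e] at this; exact this

/-- The symmetric Thompson–Wielandt setup. -/
structure Setup (M₁ M₂ A₁ B₁ A₂ B₂ : Subgroup G) : Prop where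
  co₁ : IsCoatom M₁
  co₂ : IsCoatom M₂
  core₁ : M₁.normalCore = ⊥
  core₂ : M₂.normalCore = ⊥
  ne : M₁ ≠ M₂
  card : ∀ p : ℕ, Nat.card (pCoreOf p M₁) = Nat.card (pCoreOf p M₂)
  memA₁ : ∀ x, x ∈ A₁ ↔ x ∈ M₁ ∧ ∀ m ∈ M₁, m * x * m⁻¹ ∈ M₂
  memB₁ : ∀ x, x ∈ B₁ ↔ x ∈ M₂ ∧ ∀ m ∈ M₂, m * x * m⁻¹ ∈ M₁
  memA₂ : ∀ x, x ∈ A₂ ↔ x ∈ M₁ ∧ ∀ m ∈ M₁, m * x * m⁻¹ ∈ A₁ ∧ m * x * m⁻¹ ∈ B₁
  memB₂ : ∀ x, x ∈ B₂ ↔ x ∈ M₂ ∧ ∀ m ∈ M₂, m * x * m⁻¹ ∈ B₁ ∧ m * x * m⁻¹ ∈ A₁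
  neA₂ : A₂ ≠ ⊥
  neB₂ : B₂ ≠ ⊥

namespace Setup

variable {M₁ M₂ A₁ B₁ A₂ B₂ : Subgroup G}

theorem symm (h : Setup M₁ M₂ A₁ B₁ A₂ B₂) : Setup M₂ M₁ B₁ A₁ B₂ A₂ :=
  ⟨h.co₂, h.co₁, h.core₂, h.core₁, h.ne.symm, fun p => (h.card p).symm, h.memB₁, h.memA₁,
    h.memB₂, h.memA₂, h.neB₂, h.neA₂⟩

theorem A₁_le_M₁ (h : Setup M₁ M₂ A₁ B₁ A₂ B₂) : A₁ ≤ M₁ := fun x hx => ((h.memA₁ x).1 hx).1

theorem A₁_le_M₂ (h : Setup M₁ M₂ A₁ B₁ A₂ B₂) : A₁ ≤ M₂ := fun x hx => by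
  simpa using ((h.memA₁ x).1 hx).2 1 M₁.one_mem

theorem M₁_le_normalizer_A₁ (h : Setup M₁ M₂ A₁ B₁ A₂ B₂) : M₁ ≤ normalizer (A₁ : Set G) :=
  le_normalizer_of_mem_iff (P := fun y => y ∈ M₂) h.memA₁

theorem A₂_le_A₁ (h : Setup M₁ M₂ A₁ B₁ A₂ B₂) : A₂ ≤ A₁ := fun x hx => by
  simpa using (((h.memA₂ x).1 hx).2 1 M₁.one_mem).1

theorem A₂_le_B₁ (h : Setup M₁ M₂ A₁ B₁ A₂ B₂) : A₂ ≤ B₁ := fun x hx => by
  simpa using (((h.memA₂ x).1 hx).2 1 M₁.one_mem).2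

theorem M₁_le_normalizer_A₂ (h : Setup M₁ M₂ A₁ B₁ A₂ B₂) : M₁ ≤ normalizer (A₂ : Set G) :=
  le_normalizer_of_mem_iff (P := fun y => y ∈ A₁ ∧ y ∈ B₁) h.memA₂

theorem A₂_le_M₁ (h : Setup M₁ M₂ A₁ B₁ A₂ B₂) : A₂ ≤ M₁ := h.A₂_le_A₁.trans h.A₁_le_M₁

theorem A₂_le_M₂ (h : Setup M₁ M₂ A₁ B₁ A₂ B₂) : A₂ ≤ M₂ := h.A₂_le_A₁.trans h.A₁_le_M₂

theorem normalizer_A₂ (h : Setup M₁ M₂ A₁ B₁ A₂ B₂) : normalizer (A₂ : Set G) = M₁ :=
  normalizer_eq_of_coatom h.co₁ h.core₁ h.neA₂ h.A₂_le_M₁ h.M₁_le_normalizer_A₂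

/-- Step 0: `C_{M₁}(A₁) ≤ A₁`. -/
theorem mem_A₁_of_commute (h : Setup M₁ M₂ A₁ B₁ A₂ B₂) {x : G} (hx : x ∈ M₁)
    (hc : ∀ a ∈ A₁, x * a = a * x) : x ∈ A₁ := by
  rw [h.memA₁]
  refine ⟨hx, fun m hm => ?_⟩
  rw [← h.symm.normalizer_A₂]
  apply centralizer_le_normalizer
  rw [mem_centralizer_iff]
  intro b hb
  have hbA : b ∈ A₁ := h.symm.A₂_le_B₁ hb
  have h1 : m⁻¹ * b * m ∈ A₁ := by
    have := (mem_normalizer_iff.1 (h.M₁_le_normalizer_A₁ (M₁.inv_mem hm)) b).1 hbA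
    simpa using this
  have h2 := hc _ h1
  calc b * (m * x * m⁻¹) = m * ((m⁻¹ * b * m) * x) * m⁻¹ := by group
    _ = m * (x * (m⁻¹ * b * m)) * m⁻¹ := by rw [h2]
    _ = m * x * m⁻¹ * b := by group

end Setup

/-! ### The subgroup generated by the `p'`-elements -/

/-- The subgroup generated by the `p'`-elements of `A`. -/
def Yp (p : ℕ) (A : Subgroup G) : Subgroup G := closure {y | y ∈ A ∧ (orderOf y).Coprime p}

theorem Yp_le (p : ℕ) (A : Subgroup G) : Yp p A ≤ A := (closure_le _).2 (fun _ hy => hy.1)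

theorem conj_mem_of_closure {S : Set G} {u : G} {Y : Subgroup G}
    (hS : ∀ z ∈ S, u * z * u⁻¹ ∈ Y) : ∀ z ∈ closure S, u * z * u⁻¹ ∈ Y := by
  have : closure S ≤ Y.comap (MulAut.conj u).toMonoidHom := by
    rw [closure_le]
    intro z hz
    simpa using hS z hz
  intro z hz
  simpa using this hz

theorem mem_normalizer_closure [Finite G] {S : Set G} {u : G}
    (hS : ∀ z ∈ S, u * z * u⁻¹ ∈ closure S) : u ∈ normalizer ((closure S : Subgroup G) : Set G) :=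
  mem_normalizer_fintype (conj_mem_of_closure hS)

theorem orderOf_conj_eq (u z : G) : orderOf (u * z * u⁻¹) = orderOf z :=
  (MulAut.conj u).orderOf_eq z

theorem le_normalizer_Yp [Finite G] (p : ℕ) {H A : Subgroup G}
    (hH : H ≤ normalizer (A : Set G)) : H ≤ normalizer (Yp p A : Set G) := by
  intro n hn
  apply mem_normalizer_closure
  rintro z ⟨hz, hcop⟩
  apply Subgroup.subset_closure
  exact ⟨(mem_normalizer_iff.1 (hH hn) z).1 hz, by rw [orderOf_conj_eq]; exact hcop⟩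

/-- Lemma N: an element acting on `A` modulo a `p`-group `Q` normalizing `Y = O^p(A)` normalizes
`Y`. -/
theorem mem_normalizer_Yp_of [Finite G] {p : ℕ} {A Q : Subgroup G} (hQ : IsPGroup p Q)
    (hQn : Q ≤ normalizer (Yp p A : Set G)) {u : G} (hu : ∀ z ∈ A, u * z * u⁻¹ * z⁻¹ ∈ Q) :
    u ∈ normalizer (Yp p A : Set G) := by
  apply mem_normalizer_closure
  rintro z ⟨hz, hcop⟩
  have hzY : z ∈ Yp p A := Subgroup.subset_closure ⟨hz, hcop⟩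
  have hx : u * z * u⁻¹ ∈ Yp p A ⊔ Q := by
    have e : u * z * u⁻¹ = (u * z * u⁻¹ * z⁻¹) * z := by group
    rw [e]
    exact mul_mem (mem_sup_right (hu z hz)) (mem_sup_left hzY)
  exact mem_of_mem_sup_of_coprime hQ hQn hx (by rw [orderOf_conj_eq]; exact hcop)

theorem isPGroup_of_Yp_eq_bot [Finite G] {p : ℕ} [Fact p.Prime] {A : Subgroup G}
    (h : Yp p A = ⊥) : IsPGroup p A := by
  apply Cfsg.Agent.Helper10.isPGroup_of_forall_coprime_eq_one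
  intro x hx
  have : (x : G) ∈ Yp p A := Subgroup.subset_closure ⟨x.2, by rw [orderOf_coe]; exact hx⟩
  rw [h, mem_bot] at this
  exact Subtype.ext this

end Cfsg.Agent.Helper10.TW
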