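import Mathlib
import Cfsg.Agent.Helper10.TWCore
import Cfsg.Agent.Helper1.SubnIn
import Cfsg.Agent.Helper7.Components

/-!
Thompson–Wielandt (S5752): in the symmetric setup the maximal subgroups `M₁`, `M₂` (hence also
`A₁`, `B₁`) have no components.
-/

set_option autoImplicit false

namespace Cfsg.Agent.Helper10.TW

open Subgroup Cfsg Pointwise
open Cfsg.Agent.Helper1 (SubnIn)
open Cfsg.Agent.Helper7 (isQuasisimple_of_mulEquiv)

universe u

variable {G : Type u} [Group G]

/-- `K` is a component of `M` (both subgroups of `G`). -/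
def CompIn (K M : Subgroup G) : Prop := SubnIn K M ∧ IsQuasisimple ↥K

namespace CompIn

variable {K M N D : Subgroup G}

theorem le (h : CompIn K M) : K ≤ M := h.1.1

theorem ne_bot (h : CompIn K M) : K ≠ ⊥ := by
  have := Cfsg.Agent.Helper7.IsQuasisimple.nontrivial h.2
  exact (nontrivial_iff_ne_bot K).1 this

theorem isComponent (h : CompIn K M) : IsComponent (K.subgroupOf M) :=
  ⟨h.1.2, isQuasisimple_of_mulEquiv (subgroupOfEquivOfLe h.1.1).symm h.2⟩

theorem le_or_commutator_eq_bot [Finite G] (h : CompIn K M) (hNM : N ≤ M)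
    (hn : M ≤ normalizer (N : Set G)) : K ≤ N ∨ ⁅K, N⁆ = ⊥ := by
  have hN : (N.subgroupOf M).Normal := (normal_subgroupOf_iff_le_normalizer hNM).2 hn
  rcases Cfsg.Agent.Helper7.component_le_or_commutator_eq_bot h.isComponent hN.isSubnormal
    with h1 | h1
  · left; exact (Cfsg.Agent.Helper7.subgroupOf_le_subgroupOf_iff h.le).1 h1
  · right; exact (Cfsg.Agent.Helper7.commutator_subgroupOf_eq_bot_iff h.le hNM).1 h1

theorem mono (h : CompIn K M) (hKD : K ≤ D) (hDM : D ≤ M) : CompIn K D :=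
  ⟨h.1.mono hKD hDM, h.2⟩

theorem of_normal (h : CompIn K N) (hNM : N ≤ M) (hn : M ≤ normalizer (N : Set G)) :
    CompIn K M :=
  ⟨h.1.trans (SubnIn.of_normal hNM hn), h.2⟩

theorem conj (h : CompIn K M) (x : G) : CompIn (MulAut.conj x • K) (MulAut.conj x • M) :=
  ⟨h.1.conj x, isQuasisimple_of_mulEquiv (Subgroup.equivSMul (MulAut.conj x) K) h.2⟩

theorem conj_of_mem (h : CompIn K M) {x : G} (hx : x ∈ M) : CompIn (MulAut.conj x • K) M := by
  have := h.conj x
  rwa [conj_smul_eq_self_of_mem hx] at this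

end CompIn

theorem compIn_of_isComponent {M : Subgroup G} {K : Subgroup M} (hK : IsComponent K) :
    CompIn (K.map M.subtype) M := by
  refine ⟨⟨map_subtype_le K, ?_⟩,
    isQuasisimple_of_mulEquiv (K.equivMapOfInjective _ (subtype_injective M)) hK.2⟩
  rw [← comap_subtype, comap_map_eq_self_of_injective (subtype_injective M)]
  exact hK.1

namespace Setup

variable {M₁ M₂ A₁ B₁ A₂ B₂ : Subgroup G}

theorem compIn_le_A₁ [Finite G] (h : Setup M₁ M₂ A₁ B₁ A₂ B₂) {K M : Subgroup G}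
    (hK : CompIn K M) (hA₁M : A₁ ≤ M) (hMM₁ : M ≤ M₁) : K ≤ A₁ := by
  rcases hK.le_or_commutator_eq_bot hA₁M (hMM₁.trans h.M₁_le_normalizer_A₁) with h1 | h1
  · exact h1
  · intro x hx
    apply h.mem_A₁_of_commute (hMM₁ (hK.le hx))
    intro a ha
    exact Cfsg.Agent.Helper7.commutator_eq_bot_iff_forall_commute.1 h1 x hx a ha

/-- a component of `M₁` is a component of `M₂`. -/
theorem compIn_swap [Finite G] (h : Setup M₁ M₂ A₁ B₁ A₂ B₂) {K : Subgroup G}
    (hK : CompIn K M₁) : CompIn K M₂ := by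
  have h1 : K ≤ A₁ := h.compIn_le_A₁ hK h.A₁_le_M₁ le_rfl
  have hKD : K ≤ M₁ ⊓ M₂ := le_inf hK.le (h1.trans h.A₁_le_M₂)
  have hKD' : CompIn K (M₁ ⊓ M₂) := hK.mono hKD inf_le_left
  have hB₁D : B₁ ≤ M₁ ⊓ M₂ := le_inf h.symm.A₁_le_M₂ h.symm.A₁_le_M₁
  have h2 : K ≤ B₁ := h.symm.compIn_le_A₁ hKD' hB₁D inf_le_right
  have h3 : CompIn K B₁ := hKD'.mono h2 hB₁D
  exact h3.of_normal h.symm.A₁_le_M₁ h.symm.M₁_le_normalizer_A₁

theorem not_compIn_M₁ [Finite G] (h : Setup M₁ M₂ A₁ B₁ A₂ B₂) (K : Subgroup G) :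
    ¬ CompIn K M₁ := by
  intro hK
  have htop : M₁ ⊔ M₂ = ⊤ := h.co₁.sup_eq_top_of_ne h.co₂ h.ne
  have key : ∀ x : G, ∀ K : Subgroup G, CompIn K M₁ → CompIn (MulAut.conj x • K) M₁ := by
    intro x
    have hx : x ∈ M₁ ⊔ M₂ := by rw [htop]; exact mem_top x
    rw [sup_eq_closure] at hx
    induction hx using closure_induction with
    | mem y hy =>
      intro K hK
      rcases hy with hy | hy
      · exact hK.conj_of_mem hy
      · exact h.symm.compIn_swap ((h.compIn_swap hK).conj_of_mem hy)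
    | one =>
      intro K hK
      simpa using hK
    | mul y z _ _ hy hz =>
      intro K hK
      rw [map_mul, mul_smul]
      exact hy _ (hz _ hK)
    | inv y _ hy =>
      intro K hK
      -- y⁻¹ = y ^ n
      obtain ⟨n, hn⟩ : ∃ n : ℕ, y⁻¹ = y ^ n :=
        ⟨orderOf y - 1, by
          rw [inv_eq_iff_mul_eq_one, ← pow_succ', Nat.sub_add_cancel (orderOf_pos y),
            pow_orderOf_eq_one]⟩
      rw [hn]
      clear hn
      induction n with
      | zero => simpa using hK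
      | succ n ih =>
        rw [pow_succ', map_mul, mul_smul]
        exact hy _ ih
  have hcore : K ≤ M₁.normalCore := by
    intro k hk b
    have h1 := (key b K hK).le
    apply h1
    have h2 := smul_mem_pointwise_smul k (MulAut.conj b) K hk
    rwa [MulAut.smul_def, MulAut.conj_apply] at h2
  rw [h.core₁] at hcore
  exact hK.ne_bot (le_bot_iff.1 hcore)

theorem not_compIn_A₁ [Finite G] (h : Setup M₁ M₂ A₁ B₁ A₂ B₂) (K : Subgroup G) :
    ¬ CompIn K A₁ := fun hK =>
  h.not_compIn_M₁ K (hK.of_normal h.A₁_le_M₁ h.M₁_le_normalizer_A₁)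

end Setup

end Cfsg.Agent.Helper10.TW
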