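import Mathlib
import Cfsg.Agent.Helper10.TWCore

/-!
Thompson–Wielandt (S5752), key lemma: in the symmetric setup, `A₂` is a `p`-group for every prime
`p` with `O_p(M₁) ≠ 1`.
-/

set_option autoImplicit false

namespace Cfsg.Agent.Helper10.TW

open Subgroup Cfsg
open Cfsg.Agent.Helper14 (pCoreOf_le pCoreOf_isPGroup le_normalizer_pCoreOf le_pCoreOf)

variable {G : Type*} [Group G]

namespace Setup

variable {M₁ M₂ A₁ B₁ A₂ B₂ : Subgroup G}

/-- commutators `[u, z]`, `u ∈ P ⊓ M₂`, `z ∈ B₁`, lie in `O_p(B₁)` when `P` is a `p`-group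
normalized by `B₁`. -/
theorem comm_mem_pCoreOf_B₁ (h : Setup M₁ M₂ A₁ B₁ A₂ B₂) {p : ℕ} {P : Subgroup G}
    (hP : IsPGroup p P) (hPn : B₁ ≤ normalizer (P : Set G)) {u : G} (huP : u ∈ P) (huM : u ∈ M₂)
    {z : G} (hz : z ∈ B₁) : u * z * u⁻¹ * z⁻¹ ∈ pCoreOf p B₁ := by
  apply inf_le_pCoreOf p hP hPn
  constructor
  · have h1 : z * u⁻¹ * z⁻¹ ∈ P := (mem_normalizer_iff.1 (hPn hz) u⁻¹).1 (P.inv_mem huP)
    have e : u * z * u⁻¹ * z⁻¹ = u * (z * u⁻¹ * z⁻¹) := by group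
    rw [e]
    exact P.mul_mem huP h1
  · have h1 : u * z * u⁻¹ ∈ B₁ :=
      (mem_normalizer_iff.1 (h.symm.M₁_le_normalizer_A₁ huM) z).1 hz
    exact B₁.mul_mem h1 (B₁.inv_mem hz)

/-- Lemma W': if `O_p(M₁) ≠ 1` then `A₂` is a `p`-group. -/
theorem isPGroup_A₂ [Finite G] (h : Setup M₁ M₂ A₁ B₁ A₂ B₂) {p : ℕ} [hp : Fact p.Prime]
    (hPne : pCoreOf p M₁ ≠ ⊥) : IsPGroup p A₂ := by
  by_contra hnp
  have hYne : Yp p A₂ ≠ ⊥ := fun hY => hnp (isPGroup_of_Yp_eq_bot hY)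
  have hB₁M₁ : B₁ ≤ M₁ := h.symm.A₁_le_M₂
  have hB₁M₂ : B₁ ≤ M₂ := h.symm.A₁_le_M₁
  have hM₂B₁ : M₂ ≤ normalizer (B₁ : Set G) := h.symm.M₁_le_normalizer_A₁
  have hY : normalizer (Yp p A₂ : Set G) = M₁ :=
    normalizer_eq_of_coatom h.co₁ h.core₁ hYne ((Yp_le p A₂).trans h.A₂_le_M₁)
      (le_normalizer_Yp p h.M₁_le_normalizer_A₂)
  have hPA : IsPGroup p (pCoreOf p M₁) := pCoreOf_isPGroup p M₁
  have hPB : IsPGroup p (pCoreOf p M₂) := pCoreOf_isPGroup p M₂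
  have hQB : IsPGroup p (pCoreOf p B₁) := pCoreOf_isPGroup p B₁
  have hQBle : pCoreOf p B₁ ≤ B₁ := pCoreOf_le p B₁
  have hQBn : M₂ ≤ normalizer (pCoreOf p B₁ : Set G) :=
    le_normalizer_pCoreOf_of_le_normalizer p hM₂B₁
  have hQBPB : pCoreOf p B₁ ≤ pCoreOf p M₂ := pCoreOf_le_pCoreOf p hB₁M₂ hM₂B₁
  have hQBY : pCoreOf p B₁ ≤ normalizer (Yp p A₂ : Set G) := by
    rw [hY]; exact hQBle.trans hB₁M₁
  -- Lemma N
  have keyN : ∀ u : G, (∀ z ∈ B₁, u * z * u⁻¹ * z⁻¹ ∈ pCoreOf p B₁) → u ∈ M₁ := by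
    intro u hu
    rw [← hY]
    exact mem_normalizer_Yp_of hQB hQBY (fun z hz => hu z (h.A₂_le_B₁ hz))
  -- (i)
  have hi : ∀ u ∈ pCoreOf p M₁, u ∈ M₂ → u ∈ pCoreOf p M₂ := by
    intro u huP huM
    have hPAn : B₁ ≤ normalizer (pCoreOf p M₁ : Set G) :=
      hB₁M₁.trans (le_normalizer_pCoreOf p M₁)
    have huB : u ∈ B₁ := by
      rw [h.memB₁]
      refine ⟨huM, fun m hm => ?_⟩
      apply keyN
      intro z hz
      have hz' : m⁻¹ * z * m ∈ B₁ := by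
        have := (mem_normalizer_iff.1 (hM₂B₁ (M₂.inv_mem hm)) z).1 hz
        simpa using this
      have h1 := h.comm_mem_pCoreOf_B₁ hPA hPAn huP huM hz'
      have h2 := (mem_normalizer_iff.1 (hQBn hm) _).1 h1
      have e : m * (u * (m⁻¹ * z * m) * u⁻¹ * (m⁻¹ * z * m)⁻¹) * m⁻¹ =
          m * u * m⁻¹ * z * (m * u * m⁻¹)⁻¹ * z⁻¹ := by group
      rw [e] at h2
      exact h2
    exact hQBPB (inf_le_pCoreOf p hPA hPAn ⟨huP, huB⟩)
  -- (ii)
  have hii : pCoreOf p M₂ ≤ M₁ := by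
    intro u hu
    apply keyN
    intro z hz
    exact h.comm_mem_pCoreOf_B₁ hPB (hB₁M₂.trans (le_normalizer_pCoreOf p M₂)) hu
      (pCoreOf_le p M₂ hu) hz
  -- (iii)
  have hPBne : pCoreOf p M₂ ≠ ⊥ := by
    intro hbot
    apply hPne
    have hc := h.card p
    rw [hbot, card_bot] at hc
    exact card_eq_one.1 hc
  have hnPA : normalizer (pCoreOf p M₁ : Set G) = M₁ :=
    normalizer_eq_of_coatom h.co₁ h.core₁ hPne (pCoreOf_le p M₁) (le_normalizer_pCoreOf p M₁)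
  have hnPB : normalizer (pCoreOf p M₂ : Set G) = M₂ :=
    normalizer_eq_of_coatom h.co₂ h.core₂ hPBne (pCoreOf_le p M₂) (le_normalizer_pCoreOf p M₂)
  have hPBnPA : pCoreOf p M₂ ≤ normalizer (pCoreOf p M₁ : Set G) := by
    rw [hnPA]; exact hii
  have hW : IsPGroup p ↥(pCoreOf p M₁ ⊔ pCoreOf p M₂) := by
    rw [sup_comm]
    exact IsPGroup.to_sup_of_normal_right' hPB hPA hPBnPA
  have hle : pCoreOf p M₁ ≤ pCoreOf p M₂ := by
    by_contra hnle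
    set W := pCoreOf p M₁ ⊔ pCoreOf p M₂ with hWdef
    have hnil : Group.IsNilpotent ↥W := hW.isNilpotent
    have hlt : (pCoreOf p M₂).subgroupOf W < ⊤ := by
      rw [lt_top_iff_ne_top, Ne, subgroupOf_eq_top]
      intro hle'
      exact hnle (le_sup_left.trans hle')
    have hnc := Group.normalizerCondition_of_isNilpotent (G := ↥W) _ hlt
    obtain ⟨w, hwn, hwnot⟩ := SetLike.exists_of_lt hnc
    have hwM₂ : (w : G) ∈ M₂ := by
      rw [← hnPB]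
      apply mem_normalizer_fintype
      intro n hn
      have hnW : n ∈ W := le_sup_right (a := pCoreOf p M₁) hn
      have h1 := (mem_normalizer_iff.1 hwn ⟨n, hnW⟩).1 (by rw [mem_subgroupOf]; exact hn)
      rw [mem_subgroupOf] at h1
      simpa using h1
    obtain ⟨a, ha, b, hb, hab⟩ := (Cfsg.Agent.Helper7.mem_sup_of_le_normalizer hPBnPA).1 w.2
    have haM₂ : a ∈ M₂ := by
      have e : a = (w : G) * b⁻¹ := by rw [← hab]; group
      rw [e]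
      exact M₂.mul_mem hwM₂ (M₂.inv_mem (pCoreOf_le p M₂ hb))
    have haPB := hi a ha haM₂
    apply hwnot
    rw [mem_subgroupOf, ← hab]
    exact mul_mem haPB hb
  have heq : pCoreOf p M₁ = pCoreOf p M₂ :=
    eq_of_le_of_card_ge hle (h.card p).symm.le
  apply h.ne
  rw [← hnPA, ← hnPB, heq]

end Setup

end Cfsg.Agent.Helper10.TW
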