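import Mathlib
import Cfsg.Agent.Helper10.TWKey
import Cfsg.Agent.Helper10.TWComp
import Cfsg.Agent.S1265

/-!
Thompson–Wielandt (S5752): assembly.
-/

set_option autoImplicit false

namespace Cfsg.Agent.Helper10.TW

open Subgroup Cfsg
open Cfsg.Agent.Helper14 (pCoreOf_le pCoreOf_isPGroup le_normalizer_pCoreOf le_pCoreOf)

universe u

/-- no components and `O_q = 1` for all primes `q ≠ p` gives `F* = O_p`. -/
theorem fstar_eq_pCore_of_no_comp {H : Type*} [Group H] [Finite H] {p : ℕ} (hp : p.Prime)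
    (hcomp : ∀ K : Subgroup H, ¬ IsComponent K)
    (hq : ∀ q : ℕ, q.Prime → q ≠ p → pCore q H = ⊥) :
    generalizedFittingSubgroup H = pCore p H := by
  have hlayer : layer H = ⊥ := by
    unfold layer
    rw [eq_bot_iff]
    apply sSup_le
    intro K hK
    exact absurd hK (hcomp K)
  unfold generalizedFittingSubgroup
  rw [hlayer, bot_sup_eq, Cfsg.Agent.Helper7.fittingSubgroup_eq_pCoreSup]
  apply le_antisymm
  · rw [Cfsg.Agent.Helper7.pCoreSup_le_iff]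
    intro q hqp
    by_cases hqe : q = p
    · rw [hqe]
    · rw [hq q hqp hqe]; exact bot_le
  · have : Fact p.Prime := ⟨hp⟩
    exact Cfsg.Agent.Helper7.pCore_le_pCoreSup p

/-- a non-trivial finite group without components has a non-trivial `O_p`. -/
theorem exists_prime_pCore_ne_bot {H : Type*} [Group H] [Finite H] [Nontrivial H]
    (hcomp : ∀ K : Subgroup H, ¬ IsComponent K) : ∃ p : ℕ, p.Prime ∧ pCore p H ≠ ⊥ := by
  by_contra hne
  push Not at hne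
  have hlayer : layer H = ⊥ := by
    unfold layer
    rw [eq_bot_iff]
    apply sSup_le
    intro K hK
    exact absurd hK (hcomp K)
  have hF : generalizedFittingSubgroup H = ⊥ := by
    unfold generalizedFittingSubgroup
    rw [hlayer, bot_sup_eq, Cfsg.Agent.Helper7.fittingSubgroup_eq_pCoreSup, eq_bot_iff,
      Cfsg.Agent.Helper7.pCoreSup_le_iff]
    intro q hq
    rw [hne q hq]
  have h1 := Cfsg.Agent.S1265.result (G := H)
  rw [hF] at h1
  obtain ⟨x, hx⟩ := exists_ne (1 : H)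
  apply hx
  have : x ∈ centralizer ((⊥ : Subgroup H) : Set H) := by
    rw [mem_centralizer_iff]
    intro y hy
    have : y = 1 := hy
    rw [this, one_mul, mul_one]
  exact (mem_bot).1 (h1 this)

variable {G : Type u} [Group G]

theorem pCoreOf_eq_bot_iff (p : ℕ) (M : Subgroup G) : pCoreOf p M = ⊥ ↔ pCore p ↥M = ⊥ := by
  unfold pCoreOf
  exact map_eq_bot_iff_of_injective _ (subtype_injective M)

namespace Setup

variable {M₁ M₂ A₁ B₁ A₂ B₂ : Subgroup G}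

theorem no_comp_M₁ [Finite G] (h : Setup M₁ M₂ A₁ B₁ A₂ B₂) (K : Subgroup ↥M₁) :
    ¬ IsComponent K := fun hK => h.not_compIn_M₁ _ (compIn_of_isComponent hK)

theorem no_comp_A₁ [Finite G] (h : Setup M₁ M₂ A₁ B₁ A₂ B₂) (K : Subgroup ↥A₁) :
    ¬ IsComponent K := fun hK => h.not_compIn_A₁ _ (compIn_of_isComponent hK)

theorem pCoreOf_M₁_eq_bot [Finite G] (h : Setup M₁ M₂ A₁ B₁ A₂ B₂) {p q : ℕ} (hp : p.Prime)
    (hq : q.Prime) (hqp : q ≠ p) (hA₂ : IsPGroup p A₂) : pCoreOf q M₁ = ⊥ := by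
  by_contra hne
  have : Fact p.Prime := ⟨hp⟩
  have : Fact q.Prime := ⟨hq⟩
  have h1 : IsPGroup q A₂ := h.isPGroup_A₂ hne
  have h2 := IsPGroup.disjoint_of_ne q p hqp A₂ A₂ h1 hA₂
  rw [disjoint_self] at h2
  exact h.neA₂ h2

theorem fstar_M₁ [Finite G] (h : Setup M₁ M₂ A₁ B₁ A₂ B₂) {p : ℕ} (hp : p.Prime)
    (hA₂ : IsPGroup p A₂) : generalizedFittingSubgroup ↥M₁ = pCore p ↥M₁ :=
  fstar_eq_pCore_of_no_comp hp h.no_comp_M₁ (fun q hq hqp =>
    (pCoreOf_eq_bot_iff q M₁).1 (h.pCoreOf_M₁_eq_bot hp hq hqp hA₂))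

theorem fstar_A₁ [Finite G] (h : Setup M₁ M₂ A₁ B₁ A₂ B₂) {p : ℕ} (hp : p.Prime)
    (hA₂ : IsPGroup p A₂) : generalizedFittingSubgroup ↥A₁ = pCore p ↥A₁ :=
  fstar_eq_pCore_of_no_comp hp h.no_comp_A₁ (fun q hq hqp => by
    rw [← pCoreOf_eq_bot_iff, eq_bot_iff, ← h.pCoreOf_M₁_eq_bot hp hq hqp hA₂]
    exact pCoreOf_le_pCoreOf q h.A₁_le_M₁ h.M₁_le_normalizer_A₁)

theorem exists_prime [Finite G] (h : Setup M₁ M₂ A₁ B₁ A₂ B₂) :
    ∃ p : ℕ, p.Prime ∧ IsPGroup p A₂ ∧ IsPGroup p B₂ := by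
  have hM₁ne : M₁ ≠ ⊥ := fun hb => h.neA₂ (le_bot_iff.1 (hb ▸ h.A₂_le_M₁))
  have : Nontrivial ↥M₁ := (nontrivial_iff_ne_bot M₁).2 hM₁ne
  obtain ⟨p, hp, hpne⟩ := exists_prime_pCore_ne_bot h.no_comp_M₁
  have : Fact p.Prime := ⟨hp⟩
  have hPA : pCoreOf p M₁ ≠ ⊥ := fun hb => hpne ((pCoreOf_eq_bot_iff p M₁).1 hb)
  have hPB : pCoreOf p M₂ ≠ ⊥ := by
    intro hbot
    apply hPA
    have hc := h.card p
    rw [hbot, card_bot] at hc
    exact card_eq_one.1 hc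
  exact ⟨p, hp, h.isPGroup_A₂ hPA, h.symm.isPGroup_A₂ hPB⟩

end Setup

end Cfsg.Agent.Helper10.TW
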