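import Mathlib
import Cfsg.Agent.Helper10.ChiefAction
import Cfsg.Agent.Helper10.CoatomSylow
import Cfsg.Agent.Helper10.HallHigmanAb
import Cfsg.Agent.Helper9.NPC
import Cfsg.Agent.Helper14.Irreducible4

set_option autoImplicit false
set_option linter.unusedSectionVars false
set_option linter.unusedVariables false

/-! # The Hall–Higman type contradiction used in Thompson's normal `p`-complement theorems -/

namespace Cfsg.Agent.Helper10

open Subgroup
open scoped IsMulCommutative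
open scoped commutatorElement

theorem isCoatom_map_mk {Z : Type*} [Group Z] (P : Subgroup Z) [P.Normal] (T : Subgroup Z)
    (hPT : P ≤ T) (hco : IsCoatom T) : IsCoatom (T.map (QuotientGroup.mk' P)) := by
  have hsurj := QuotientGroup.mk'_surjective P
  have hcm : (T.map (QuotientGroup.mk' P)).comap (QuotientGroup.mk' P) = T := by
    rw [Subgroup.comap_map_eq, QuotientGroup.ker_mk', sup_eq_left.2 hPT]
  constructor
  · intro h
    apply hco.1
    rw [← hcm, h, Subgroup.comap_top]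
  · intro H hH
    have h1 : T ≤ H.comap (QuotientGroup.mk' P) := by
      rw [← hcm]; exact Subgroup.comap_mono hH.le
    rcases eq_or_lt_of_le h1 with h2 | h2
    · exfalso
      apply hH.ne
      rw [h2, Subgroup.map_comap_eq_self_of_surjective hsurj]
    · have h3 := hco.2 _ h2
      rw [← Subgroup.map_comap_eq_self_of_surjective hsurj H, h3,
        Subgroup.map_top_of_surjective _ hsurj]

section LemmaB

variable {G₁ : Type*} [Group G₁] [Finite G₁] {W : Type*} [CommGroup W] [Finite W]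

/-- coprime action: if `g` has "norm" zero on the module `W` on which the abelian normal
`p'`-subgroup `A` acts faithfully, then `g` centralizes `A` -/
theorem centralizes_of_norm (ρ₁ : G₁ →* MulAut W) (A : Subgroup G₁) [hAn : A.Normal]
    (hAcomm : ∀ a ∈ A, ∀ b ∈ A, a * b = b * a) (p : ℕ) (hp : p.Prime)
    (hcopA : (Nat.card ↥A).Coprime p) (hcopW : (Nat.card ↥A).Coprime (Nat.card W))
    (hAker : A ⊓ ρ₁.ker = ⊥) (g : G₁)
    (hnorm : ∀ v : W, ∏ i ∈ Finset.range p, ρ₁ (g ^ i) v = 1) :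
    ∀ a ∈ A, g * a = a * g := by
  classical
  have hpow : ρ₁ g ^ p = 1 := by
    apply pow_eq_one_of_norm
    intro v
    have := hnorm v
    simpa only [map_pow] using this
  -- g^p centralizes A
  have hgp : ∀ a ∈ A, g ^ p * a = a * g ^ p := by
    intro a ha
    have h1 : g ^ p * a * (g ^ p)⁻¹ * a⁻¹ ∈ A ⊓ ρ₁.ker := by
      refine ⟨A.mul_mem (hAn.conj_mem a ha _) (A.inv_mem ha), ?_⟩
      apply MonoidHom.mem_ker.2
      simp only [map_mul, map_inv, map_pow, hpow]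
      group
    rw [hAker, Subgroup.mem_bot] at h1
    calc g ^ p * a = (g ^ p * a * (g ^ p)⁻¹ * a⁻¹) * (a * g ^ p) := by group
      _ = a * g ^ p := by rw [h1, one_mul]
  -- the commutator map
  have hδA : ∀ a : ↥A, g * (a : G₁) * g⁻¹ * (a : G₁)⁻¹ ∈ A := fun a =>
    A.mul_mem (hAn.conj_mem _ a.2 _) (A.inv_mem a.2)
  let δ : ↥A →* ↥A := MonoidHom.mk' (fun a => ⟨g * (a : G₁) * g⁻¹ * (a : G₁)⁻¹, hδA a⟩) (by
    intro a b
    apply Subtype.ext
    have h2 := hAcomm _ (hδA b) _ (A.inv_mem a.2)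
    change g * ((a : G₁) * (b : G₁)) * g⁻¹ * ((a : G₁) * (b : G₁))⁻¹ =
      (g * (a : G₁) * g⁻¹ * (a : G₁)⁻¹) * (g * (b : G₁) * g⁻¹ * (b : G₁)⁻¹)
    calc g * ((a : G₁) * (b : G₁)) * g⁻¹ * ((a : G₁) * (b : G₁))⁻¹
        = g * (a : G₁) * g⁻¹ * ((g * (b : G₁) * g⁻¹ * (b : G₁)⁻¹) * (a : G₁)⁻¹) := by group
      _ = g * (a : G₁) * g⁻¹ * ((a : G₁)⁻¹ * (g * (b : G₁) * g⁻¹ * (b : G₁)⁻¹)) := by rw [h2]
      _ = (g * (a : G₁) * g⁻¹ * (a : G₁)⁻¹) * (g * (b : G₁) * g⁻¹ * (b : G₁)⁻¹) := by group)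
  have hδ : ∀ a : ↥A, ((δ a : ↥A) : G₁) = g * (a : G₁) * g⁻¹ * (a : G₁)⁻¹ := fun a => rfl
  let N : Subgroup G₁ := δ.range.map A.subtype
  have hNA : N ≤ A := Subgroup.map_subtype_le _
  have hNmem : ∀ n ∈ N, ∃ a ∈ A, n = g * a * g⁻¹ * a⁻¹ := by
    rintro _ ⟨_, ⟨a, rfl⟩, rfl⟩
    exact ⟨a, a.2, rfl⟩
  have hmemN : ∀ a ∈ A, g * a * g⁻¹ * a⁻¹ ∈ N := by
    intro a ha
    exact ⟨δ ⟨a, ha⟩, ⟨⟨a, ha⟩, rfl⟩, rfl⟩
  have hgN : ∀ n ∈ N, g * n * g⁻¹ ∈ N := by
    intro n hn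
    obtain ⟨a, ha, rfl⟩ := hNmem n hn
    have h1 := hmemN (g * a * g⁻¹) (hAn.conj_mem a ha g)
    have e : g * (g * a * g⁻¹ * a⁻¹) * g⁻¹ = g * (g * a * g⁻¹) * g⁻¹ * (g * a * g⁻¹)⁻¹ := by group
    rw [e]
    exact h1
  -- powers of g^p centralize A
  have hgpk : ∀ (k : ℕ), ∀ a ∈ A, (g ^ p) ^ k * a = a * (g ^ p) ^ k := by
    intro k a ha
    have hc : Commute (g ^ p) a := hgp a ha
    exact (hc.pow_left k)
  have hfpf : ∀ i, 0 < i → i < p → ∀ n ∈ N, g ^ i * n = n * g ^ i → n = 1 := by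
    intro i hi0 hip n hn hcomm
    have hnA := hNA hn
    -- g commutes with n
    have hgn : Commute g n := by
      have hcop : Nat.Coprime i p :=
        (Nat.coprime_of_lt_prime hi0.ne' hip hp).symm
      obtain ⟨m, -, hm⟩ := Nat.exists_mul_mod_eq_one_of_coprime hcop hp.one_lt
      have h1 : Commute (g ^ (i * m)) n := by
        rw [pow_mul]
        exact Commute.pow_left hcomm m
      have h2 : Commute ((g ^ p) ^ (i * m / p)) n := hgpk _ n hnA
      have h3 : g ^ (i * m) = (g ^ p) ^ (i * m / p) * g := by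
        rw [← pow_mul, ← pow_succ]
        congr 1
        have := Nat.div_add_mod (i * m) p
        omega
      have h4 : g = ((g ^ p) ^ (i * m / p))⁻¹ * g ^ (i * m) := by
        rw [h3]; group
      rw [h4]
      exact Commute.mul_left h2.inv_left h1
    obtain ⟨a, ha, hna⟩ := hNmem n hn
    have hconj : ∀ k : ℕ, g ^ k * a * (g ^ k)⁻¹ = n ^ k * a := by
      intro k
      induction k with
      | zero => simp
      | succ k ih =>
        have h1 : g * n ^ k * g⁻¹ = n ^ k := by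
          have := (hgn.pow_right k).eq
          rw [this, mul_inv_cancel_right]
        calc g ^ (k + 1) * a * (g ^ (k + 1))⁻¹ = g * (g ^ k * a * (g ^ k)⁻¹) * g⁻¹ := by
              rw [pow_succ']; group
          _ = g * (n ^ k * a) * g⁻¹ := by rw [ih]
          _ = (g * n ^ k * g⁻¹) * (g * a * g⁻¹ * a⁻¹) * a := by group
          _ = n ^ (k + 1) * a := by rw [h1, ← hna, ← pow_succ]
    have h5 := hconj p
    have h6 : g ^ p * a * (g ^ p)⁻¹ = a := by
      rw [hgp a ha, mul_inv_cancel_right]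
    rw [h6] at h5
    have h7 : n ^ p = 1 := by
      have := congrArg (· * a⁻¹) h5
      simp only [mul_inv_cancel, mul_inv_cancel_right] at this
      exact this.symm
    have h8 : orderOf n ∣ Nat.gcd (Nat.card ↥A) p :=
      Nat.dvd_gcd (Subgroup.orderOf_dvd_natCard A hnA) (orderOf_dvd_of_pow_eq_one h7)
    rw [Nat.Coprime.gcd_eq_one hcopA, Nat.dvd_one] at h8
    exact orderOf_eq_one_iff.1 h8
  have hNfin : Finite ↥N := inferInstance
  have hcopN : (Nat.card ↥N).Coprime (Nat.card W) :=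
    Nat.Coprime.coprime_dvd_left (Subgroup.card_dvd_of_le hNA) hcopW
  have hres := norm_trivial_action ρ₁ N g p hp.pos hgN hfpf hnorm hcopN
  intro a ha
  have h1 : g * a * g⁻¹ * a⁻¹ ∈ A ⊓ ρ₁.ker := by
    refine ⟨hNA (hmemN a ha), ?_⟩
    apply MonoidHom.mem_ker.2
    ext v
    exact hres _ (hmemN a ha) v
  rw [hAker, Subgroup.mem_bot] at h1
  calc g * a = (g * a * g⁻¹ * a⁻¹) * (a * g) := by group
    _ = a * g := by rw [h1, one_mul]

end LemmaB

section LemmaC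

variable {G₁ : Type*} [Group G₁] [Finite G₁] {p : ℕ} [Fact p.Prime]

/-- elements of a Sylow `p`-subgroup centralizing its normal complement lie in `O_p` -/
theorem mem_pCore_of_centralizes (T₁ : Sylow p G₁) (A : Subgroup G₁) [hAn : A.Normal]
    (hAc : A.IsComplement' (T₁ : Subgroup G₁)) (g : G₁) (hgT : g ∈ (T₁ : Subgroup G₁))
    (hgA : ∀ a ∈ A, g * a = a * g) : g ∈ Cfsg.pCore p G₁ := by
  have hZn : ((T₁ : Subgroup G₁) ⊓ centralizer (A : Set G₁)).Normal := by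
    constructor
    intro z hz x
    obtain ⟨⟨⟨a, ha⟩, ⟨t, ht⟩⟩, hx, -⟩ := hAc.existsUnique x
    have hx' : a * t = x := hx
    have h1 : t * z * t⁻¹ ∈ (T₁ : Subgroup G₁) ⊓ centralizer (A : Set G₁) :=
      ⟨(T₁ : Subgroup G₁).mul_mem ((T₁ : Subgroup G₁).mul_mem ht hz.1) ((T₁ : Subgroup G₁).inv_mem ht),
        (inferInstance : (centralizer (A : Set G₁)).Normal).conj_mem z hz.2 t⟩
    have h2 : a * (t * z * t⁻¹) = (t * z * t⁻¹) * a :=
      (Subgroup.mem_centralizer_iff.1 h1.2 a ha)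
    have e : x * z * x⁻¹ = t * z * t⁻¹ := by
      rw [← hx']
      calc a * t * z * (a * t)⁻¹ = a * (t * z * t⁻¹) * a⁻¹ := by group
        _ = t * z * t⁻¹ := by rw [h2, mul_inv_cancel_right]
    rw [e]
    exact h1
  have hZp : IsPGroup p ↥((T₁ : Subgroup G₁) ⊓ centralizer (A : Set G₁)) :=
    T₁.2.to_le inf_le_left
  apply Cfsg.Agent.Helper14.le_pCore p hZn hZp
  refine ⟨hgT, ?_⟩
  apply Subgroup.mem_centralizer_iff.2
  intro a ha
  exact (hgA a ha).symm

end LemmaC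

section Main

variable {Z : Type*} [Group Z] [Finite Z] {p : ℕ} [Fact p.Prime]

theorem hh_contradiction
    (hquot : Cfsg.HasNormalPComplement p (Z ⧸ Cfsg.pCore p Z)) (T : Sylow p Z)
    (hTco : IsCoatom (T : Subgroup Z)) (g : Z) (hgT : g ∈ (T : Subgroup Z))
    (hgP : g ∉ Cfsg.pCore p Z) (U V : Subgroup Z) (hchief : Cfsg.IsChiefFactor U V)
    (hUP : U ≤ Cfsg.pCore p Z)
    (hiter : Cfsg.iterCommutator U (Subgroup.zpowers g) (p - 1) ≤ V)
    (hnot : ¬ ⁅U, Subgroup.zpowers g⁆ ≤ V) : False := by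
  classical
  have hp : p.Prime := Fact.out
  have hVn : V.Normal := hchief.2.2.1
  have hUn : U.Normal := hchief.2.1
  have hcomm : IsMulCommutative ↥(Ub U V) := ub_isMulCommutative hchief hUP
  have hk1 : Cfsg.pCore p Z ≤ (rhoZ U V).ker := fun x hx =>
    MonoidHom.mem_ker.2 (rhoZ_eq_one_of_comm U V (chief_cent hchief x hx))
  have hk2 : rhoZ U V g ≠ 1 := fun h => hnot (commutator_le_of_rhoZ_eq_one U V h)
  let ρ₁ : Z ⧸ Cfsg.pCore p Z →* MulAut ↥(Ub U V) :=
    QuotientGroup.lift (Cfsg.pCore p Z) (rhoZ U V) hk1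
  have hρ₁ : ∀ z : Z, ρ₁ (QuotientGroup.mk' (Cfsg.pCore p Z) z) = rhoZ U V z := fun z => rfl
  have hsurj := QuotientGroup.mk'_surjective (Cfsg.pCore p Z)
  let T₁ : Sylow p (Z ⧸ Cfsg.pCore p Z) := T.mapSurjective hsurj
  have hT₁ : (T₁ : Subgroup (Z ⧸ Cfsg.pCore p Z)) =
      (T : Subgroup Z).map (QuotientGroup.mk' (Cfsg.pCore p Z)) := Sylow.coe_mapSurjective _ _
  have hT₁co : IsCoatom (T₁ : Subgroup (Z ⧸ Cfsg.pCore p Z)) := by
    rw [hT₁]
    exact isCoatom_map_mk _ _ (Cfsg.Agent.Helper14.pCore_le_sylow p T) hTco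
  obtain ⟨A, hAn, hAc⟩ := (Cfsg.Agent.Helper9.hasNormalPComplement_iff T₁).1 hquot
  have := hAn
  have hAcomm := coatom_sylow_complement_comm T₁ hT₁co A hAc
  have hcopA : (Nat.card ↥A).Coprime p := by
    have h1 : (T₁ : Subgroup (Z ⧸ Cfsg.pCore p Z)).index = Nat.card ↥A := hAc.index_eq_card
    rw [← h1, Nat.coprime_comm, hp.coprime_iff_not_dvd]
    exact T₁.not_dvd_index
  have hcopW : (Nat.card ↥A).Coprime (Nat.card ↥(Ub U V)) := by
    obtain ⟨k, hk⟩ := IsPGroup.iff_card.mp (ub_isPGroup (p := p) (V := V) hUP)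
    rw [hk]
    exact Nat.Coprime.pow_right k hcopA
  -- A acts faithfully
  have hAker : A ⊓ ρ₁.ker = ⊥ := by
    have hTn : (T₁ : Subgroup (Z ⧸ Cfsg.pCore p Z)) ≤
        normalizer ((A ⊓ ρ₁.ker : Subgroup (Z ⧸ Cfsg.pCore p Z)) : Set (Z ⧸ Cfsg.pCore p Z)) := by
      rw [Subgroup.normalizer_eq_top_iff.2 inferInstance]
      exact le_top
    rcases coatom_sylow_minimal T₁ hT₁co A hAc (A ⊓ ρ₁.ker) inf_le_left hTn with h | h
    · exact h
    · exfalso
      have hAle : A ≤ ρ₁.ker := by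
        rw [← h]; exact inf_le_right
      obtain ⟨m, hm, hfix⟩ := exists_fixed_by_pgroup hchief hUP (T : Subgroup Z) T.2
      apply hk2
      apply rhoZ_trivial_of_fixed hchief m hm ?_ g
      intro z
      obtain ⟨⟨⟨a, ha⟩, ⟨t₁, ht₁⟩⟩, hx, -⟩ :=
        hAc.existsUnique (QuotientGroup.mk' (Cfsg.pCore p Z) z)
      have hx' : a * t₁ = QuotientGroup.mk' (Cfsg.pCore p Z) z := hx
      rw [hT₁] at ht₁
      obtain ⟨t, ht, rfl⟩ := ht₁
      rw [← hρ₁ z, ← hx', map_mul, MonoidHom.mem_ker.1 (hAle ha), one_mul, hρ₁]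
      exact hfix t ht
  -- the norm condition
  have hnorm0 := norm_eq_one_of_iterate hp (ub_pow_eq_one hchief hUP) (rhoZ U V g)
    (iterate_eq_one_of_iter_le U V hiter)
  have hnorm : ∀ v : ↥(Ub U V), ∏ i ∈ Finset.range p,
      ρ₁ ((QuotientGroup.mk' (Cfsg.pCore p Z) g) ^ i) v = 1 := by
    intro v
    have := hnorm0 v
    simpa only [map_pow, hρ₁] using this
  have hcent := centralizes_of_norm ρ₁ A hAcomm p hp hcopA hcopW hAker
    (QuotientGroup.mk' (Cfsg.pCore p Z) g) hnorm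
  have hg₁T : QuotientGroup.mk' (Cfsg.pCore p Z) g ∈ (T₁ : Subgroup (Z ⧸ Cfsg.pCore p Z)) := by
    rw [hT₁]; exact ⟨g, hgT, rfl⟩
  have hmem := mem_pCore_of_centralizes T₁ A hAc _ hg₁T hcent
  rw [Cfsg.Agent.Helper14.pCore_quotient (Cfsg.pCore p Z) (Cfsg.Agent.Helper14.pCore_isPGroup p),
    QuotientGroup.map_mk'_self, Subgroup.mem_bot] at hmem
  exact hgP ((QuotientGroup.eq_one_iff g).1 hmem)

end Main

end Cfsg.Agent.Helper10
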