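import Mathlib
import Cfsg.Agent.Helper5.VL.Defs

/-!
# S3777 board, piece TWO (helper10): `(ker φ ⊓ ker ψ).index = p ^ 2`.
-/

set_option autoImplicit false
set_option linter.style.haveILetI false
set_option linter.unusedSectionVars false
set_option linter.unusedVariables false

namespace Cfsg.Agent.Helper5.VL

open Subgroup
open scoped commutatorElement

universe u
variable {p : ℕ} [Fact p.Prime] {G : Type u} [Group G] [Finite G]

/-- own copy of KER: the kernel of a nontrivial functional has index `p`. -/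
theorem TWO_aux_index_ker {φ : Fn p G} (hφ : φ ≠ 1) : φ.ker.index = p := by
  have hp : p.Prime := Fact.out
  rw [Subgroup.index_ker]
  have hcard : Nat.card (Multiplicative (ZMod p)) = p := by
    rw [Nat.card_eq_fintype_card, Fintype.card_multiplicative, ZMod.card]
  have hdvd : Nat.card φ.range ∣ p := by
    have h0 := Subgroup.card_subgroup_dvd_card φ.range
    rwa [hcard] at h0
  rcases (Nat.dvd_prime hp).mp hdvd with h1 | h1
  · exfalso
    apply hφ
    have hbot : φ.range = ⊥ := Subgroup.card_eq_one.mp h1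
    ext x
    have hx : φ x ∈ φ.range := ⟨x, rfl⟩
    rw [hbot, Subgroup.mem_bot] at hx
    rw [hx]; rfl
  · exact h1

/-- TWO -/
theorem index_ker_inf_ker {φ ψ : Fn p G} (hφ : φ ≠ 1) (h : ¬ φ.ker ≤ ψ.ker) :
    (φ.ker ⊓ ψ.ker).index = p ^ 2 := by
  have hp : p.Prime := Fact.out
  have hψ : ψ ≠ 1 := by
    rintro rfl
    apply h
    intro x _
    rw [MonoidHom.mem_ker]; rfl
  have h1 : (φ.ker ⊓ ψ.ker).relIndex φ.ker * φ.ker.index = (φ.ker ⊓ ψ.ker).index :=
    Subgroup.relIndex_mul_index inf_le_left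
  have h2 : (φ.ker ⊓ ψ.ker).relIndex φ.ker = ψ.ker.relIndex φ.ker := by
    rw [inf_comm, Subgroup.inf_relIndex_right]
  have h3 : ψ.ker.relIndex φ.ker ∣ p := by
    have h0 := Subgroup.relIndex_dvd_index_of_normal ψ.ker φ.ker
    rwa [TWO_aux_index_ker hψ] at h0
  have h4 : ψ.ker.relIndex φ.ker ≠ 1 := by
    intro h5
    exact h (Subgroup.relIndex_eq_one.mp h5)
  have h6 : ψ.ker.relIndex φ.ker = p := by
    rcases (Nat.dvd_prime hp).mp h3 with h7 | h7
    · exact absurd h7 h4
    · exact h7
  rw [← h1, h2, h6, TWO_aux_index_ker hφ, sq]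

end Cfsg.Agent.Helper5.VL
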