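import Mathlib
import Cfsg.Agent.Helper5.VL.Defs
import Cfsg.Agent.Helper27.S3777KER

/-!
# S3777 board, piece XCARD (helper10): the number of affine elements outside `K`.
-/

set_option autoImplicit false
set_option linter.style.haveILetI false
set_option linter.unusedSectionVars false
set_option linter.unusedVariables false

namespace Cfsg.Agent.Helper5.VL

open Subgroup
open scoped commutatorElement

universe u
variable {p : ℕ} [Fact p.Prime] {G : Type u} [Group G] [Finite G]

/-- XCARD -/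
theorem card_affine_compl {φ0 : Fn p G} {K : Subgroup G} (hK0 : ¬ K ≤ φ0.ker) {m : ℕ}
    (hm : K.index = p ^ m) :
    Nat.card {x : G // φ0 x ≠ 1 ∧ x ∉ K} * p * p ^ m = Nat.card G * (p - 1) * (p ^ m - 1) := by
  classical
  have hp : p.Prime := Fact.out
  have htop : ¬ (⊤ : Subgroup G) ≤ φ0.ker := fun h => hK0 (le_top.trans h)
  have hA := card_affine_eq φ0 ⊤ htop
  have hB := card_affine_eq φ0 K hK0
  have hsplit : Nat.card {w : G // w ∈ (⊤ : Subgroup G) ∧ φ0 w ≠ 1} =
      Nat.card {x : G // φ0 x ≠ 1 ∧ x ∉ K} + Nat.card {w : G // w ∈ K ∧ φ0 w ≠ 1} := by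
    haveI := Fintype.ofFinite G
    simp only [Nat.card_eq_fintype_card, Fintype.card_subtype]
    rw [← Finset.card_union_of_disjoint]
    · congr 1
      ext x
      simp only [Subgroup.mem_top, true_and, Finset.mem_filter, Finset.mem_univ, Finset.mem_union]
      tauto
    · rw [Finset.disjoint_filter]
      intro x _ h1 h2
      exact h1.2 h2.1
  have hKN : Nat.card K * p ^ m = Nat.card G := by rw [← hm]; exact K.card_mul_index
  rw [Subgroup.card_top] at hA
  have h1 : (Nat.card {x : G // φ0 x ≠ 1 ∧ x ∉ K} + Nat.card {w : G // w ∈ K ∧ φ0 w ≠ 1}) * p =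
      Nat.card G * (p - 1) := by rw [← hsplit]; exact hA
  have h2 : Nat.card {x : G // φ0 x ≠ 1 ∧ x ∉ K} * p * p ^ m + Nat.card G * (p - 1) =
      Nat.card G * (p - 1) * p ^ m := by
    calc Nat.card {x : G // φ0 x ≠ 1 ∧ x ∉ K} * p * p ^ m + Nat.card G * (p - 1)
        = Nat.card {x : G // φ0 x ≠ 1 ∧ x ∉ K} * p * p ^ m
            + Nat.card {w : G // w ∈ K ∧ φ0 w ≠ 1} * p * p ^ m := by rw [hB, ← hKN]; ring
      _ = (Nat.card {x : G // φ0 x ≠ 1 ∧ x ∉ K} + Nat.card {w : G // w ∈ K ∧ φ0 w ≠ 1}) * p * p ^ m := by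
        ring
      _ = _ := by rw [h1]
  have hpm : 1 ≤ p ^ m := Nat.one_le_pow _ _ hp.pos
  rw [Nat.mul_sub, mul_one]
  omega

end Cfsg.Agent.Helper5.VL
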