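import Mathlib

/-!
Counting lemma for the Wielandt bound: the kernel of an action on a family of invariant finite sets
has index dividing the product of the factorials.
-/

set_option autoImplicit false

namespace Cfsg.Agent.Helper10.WB

open Subgroup MulAction

/-- the kernel of the action of `A` on a finite family of invariant finite sets `T i` has index
dividing `∏ i, |T i|!`. -/
theorem index_dvd_prod_factorial {A Ω ι : Type*} [Group A] [MulAction A Ω] [Fintype ι]
    (T : ι → Set Ω) (hfin : ∀ i, (T i).Finite) (hinv : ∀ (x : A) i, ∀ e ∈ T i, x • e ∈ T i)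
    (K : Subgroup A) (hK : ∀ x, x ∈ K ↔ ∀ i, ∀ e ∈ T i, x • e = e) :
    K.index ∣ ∏ i, (Nat.card (T i)).factorial := by
  classical
  let S : ∀ i, SubMulAction A Ω := fun i => ⟨T i, fun x e he => hinv x i e he⟩
  let φ : A →* (∀ i, Equiv.Perm (S i)) := MonoidHom.pi (fun i => MulAction.toPermHom A (S i))
  have hker : φ.ker = K := by
    ext x
    rw [MonoidHom.mem_ker, hK]
    constructor
    · intro h i e he
      have h1 := congrFun h i
      have h2 := congrArg (fun σ : Equiv.Perm (S i) => (σ ⟨e, he⟩ : Ω)) h1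
      simpa [φ] using h2
    · intro h
      funext i
      ext ⟨e, he⟩
      simp [φ, h i e he]
  have : ∀ i, Finite (S i) := fun i => (hfin i).to_subtype
  rw [← hker, Subgroup.index_ker]
  have h1 := Subgroup.card_subgroup_dvd_card φ.range
  rw [Nat.card_pi] at h1
  simp_rw [Nat.card_perm] at h1
  exact h1

end Cfsg.Agent.Helper10.WB

namespace Cfsg.Agent.Helper10.WB

open Subgroup MulAction

variable {G Ω : Type*} [Group G] [MulAction G Ω] {a b : Ω} {A₁ B₁ A₂ : Subgroup G}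

/-- `A₁` is the pointwise stabilizer in `G_a` of the orbit of `b`. -/
theorem mem_A₁_iff
    (memA₁ : ∀ x, x ∈ A₁ ↔ x ∈ stabilizer G a ∧ ∀ m ∈ stabilizer G a, m * x * m⁻¹ ∈ stabilizer G b)
    (x : G) : x ∈ A₁ ↔ x • a = a ∧ ∀ m : G, m • a = a → x • (m • b) = m • b := by
  rw [memA₁, mem_stabilizer_iff]
  constructor
  · rintro ⟨h1, h2⟩
    refine ⟨h1, fun m hm => ?_⟩
    have hm' : m⁻¹ ∈ stabilizer G a := inv_mem (mem_stabilizer_iff.2 hm)
    have := h2 m⁻¹ hm'
    rw [mem_stabilizer_iff, inv_inv, mul_smul, mul_smul, inv_smul_eq_iff] at this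
    exact this
  · rintro ⟨h1, h2⟩
    refine ⟨h1, fun m hm => ?_⟩
    have hm' : m⁻¹ • a = a := mem_stabilizer_iff.1 (inv_mem hm)
    rw [mem_stabilizer_iff, mul_smul, mul_smul, h2 m⁻¹ hm', smul_inv_smul]

/-- `A₂` inside `A₁`. -/
theorem mem_A₂_iff
    (memA₁ : ∀ x, x ∈ A₁ ↔ x ∈ stabilizer G a ∧ ∀ m ∈ stabilizer G a, m * x * m⁻¹ ∈ stabilizer G b)
    (memB₁ : ∀ x, x ∈ B₁ ↔ x ∈ stabilizer G b ∧ ∀ m ∈ stabilizer G b, m * x * m⁻¹ ∈ stabilizer G a)
    (memA₂ : ∀ x, x ∈ A₂ ↔ x ∈ stabilizer G a ∧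
      ∀ m ∈ stabilizer G a, m * x * m⁻¹ ∈ A₁ ∧ m * x * m⁻¹ ∈ B₁)
    (x : G) : x ∈ A₂ ↔ x ∈ A₁ ∧
      ∀ m n : G, m • a = a → n • b = b → x • (m • n • a) = m • n • a := by
  have hA := mem_A₁_iff memA₁
  have hB := mem_A₁_iff memB₁
  constructor
  · intro hx
    obtain ⟨hxa, hx2⟩ := (memA₂ x).1 hx
    refine ⟨by simpa using (hx2 1 (one_mem _)).1, fun m n hm hn => ?_⟩
    have hm' : m⁻¹ ∈ stabilizer G a := inv_mem (mem_stabilizer_iff.2 hm)
    have h1 := (hx2 m⁻¹ hm').2
    rw [inv_inv] at h1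
    have h2 := ((hB _).1 h1).2 n hn
    rw [mul_smul, mul_smul, inv_smul_eq_iff] at h2
    exact h2
  · rintro ⟨hx1, hx2⟩
    obtain ⟨hxa, hxb⟩ := (hA x).1 hx1
    rw [memA₂]
    refine ⟨mem_stabilizer_iff.2 hxa, fun m hm => ?_⟩
    have hma : m • a = a := mem_stabilizer_iff.1 hm
    have hm' : m⁻¹ • a = a := mem_stabilizer_iff.1 (inv_mem hm)
    constructor
    · rw [hA]
      constructor
      · rw [mul_smul, mul_smul, hm', hxa, hma]
      · intro m' hm'a
        have h3 : (m⁻¹ * m') • a = a := by rw [mul_smul, hm'a, hm']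
        have h4 := hxb (m⁻¹ * m') h3
        rw [mul_smul] at h4
        rw [mul_smul, mul_smul, h4, smul_inv_smul]
    · rw [hB]
      constructor
      · rw [mul_smul, mul_smul, hxb m⁻¹ hm', smul_inv_smul]
      · intro n hn
        have h4 := hx2 m⁻¹ n hm' hn
        rw [mul_smul, mul_smul, h4, smul_inv_smul]

end Cfsg.Agent.Helper10.WB
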