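import Mathlib
import Cfsg.Agent.Helper10.WBCount

/-!
Wielandt bound: `|G_a : A₂|` divides `d! ((d-1)!)^d`.
-/

set_option autoImplicit false

namespace Cfsg.Agent.Helper10.WB

open Subgroup MulAction

variable {G Ω : Type*} [Group G] [MulAction G Ω] [Finite Ω] {a b : Ω} {A₁ B₁ A₂ : Subgroup G}

theorem relIndex_A₁_dvd (d : ℕ)
    (hd₁ : Nat.card (orbit (stabilizer G a) b) = d)
    (memA₁ : ∀ x, x ∈ A₁ ↔ x ∈ stabilizer G a ∧
      ∀ m ∈ stabilizer G a, m * x * m⁻¹ ∈ stabilizer G b) :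
    A₁.relIndex (stabilizer G a) ∣ d.factorial := by
  have hA := mem_A₁_iff memA₁
  have key := index_dvd_prod_factorial (A := ↥(stabilizer G a)) (Ω := Ω) (ι := Unit)
    (fun _ => orbit (stabilizer G a) b) (fun _ => Set.toFinite _)
    (fun x _ e he => by
      obtain ⟨m, rfl⟩ := he
      exact ⟨x * m, mul_smul _ _ _⟩)
    (A₁.subgroupOf (stabilizer G a))
    (fun x => by
      rw [mem_subgroupOf, hA]
      constructor
      · rintro ⟨_, h2⟩ _ e ⟨m, rfl⟩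
        exact h2 m m.2
      · intro h
        refine ⟨x.2, fun m hm => ?_⟩
        exact h () _ ⟨⟨m, hm⟩, rfl⟩)
  simpa [hd₁, relIndex] using key

theorem relIndex_A₂_dvd (d : ℕ)
    (hd₁ : Nat.card (orbit (stabilizer G a) b) = d)
    (hd₂ : Nat.card (orbit (stabilizer G b) a) = d)
    (memA₁ : ∀ x, x ∈ A₁ ↔ x ∈ stabilizer G a ∧
      ∀ m ∈ stabilizer G a, m * x * m⁻¹ ∈ stabilizer G b)
    (memB₁ : ∀ x, x ∈ B₁ ↔ x ∈ stabilizer G b ∧
      ∀ m ∈ stabilizer G b, m * x * m⁻¹ ∈ stabilizer G a)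
    (memA₂ : ∀ x, x ∈ A₂ ↔ x ∈ stabilizer G a ∧
      ∀ m ∈ stabilizer G a, m * x * m⁻¹ ∈ A₁ ∧ m * x * m⁻¹ ∈ B₁) :
    A₂.relIndex A₁ ∣ ((d - 1).factorial) ^ d := by
  classical
  have hA := mem_A₁_iff memA₁
  have hA₂ := mem_A₂_iff memA₁ memB₁ memA₂
  have : Fintype ↥(orbit (stabilizer G a) b) := Fintype.ofFinite _
  let T : ↥(orbit (stabilizer G a) b) → Set Ω :=
    fun c => {e | ∃ g : G, g • a = e ∧ g • b = (c : Ω) ∧ e ≠ a}
  have hcard : ∀ c, Nat.card (T c) ≤ d - 1 := by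
    intro c
    obtain ⟨h, hh⟩ := c.2
    have hha : (h : G) • a = a := mem_stabilizer_iff.1 h.2
    have hsub : T c ⊆ ((fun e => (h : G) • e) '' (orbit (stabilizer G b) a)) \ {a} := by
      rintro e ⟨g, hga, hgb, hne⟩
      refine ⟨⟨((h : G)⁻¹ * g) • a, ⟨⟨(h : G)⁻¹ * g, ?_⟩, rfl⟩, ?_⟩, hne⟩
      · rw [mem_stabilizer_iff, mul_smul, hgb, ← hh]
        exact inv_smul_smul _ _
      · simp only [mul_smul, smul_inv_smul]
        exact hga
    have hamem : a ∈ (fun e => (h : G) • e) '' (orbit (stabilizer G b) a) :=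
      ⟨a, mem_orbit_self a, hha⟩
    rw [Nat.card_coe_set_eq]
    calc (T c).ncard ≤ (((fun e => (h : G) • e) '' (orbit (stabilizer G b) a)) \ {a}).ncard :=
          Set.ncard_le_ncard hsub (Set.toFinite _)
      _ = ((fun e => (h : G) • e) '' (orbit (stabilizer G b) a)).ncard - 1 :=
          Set.ncard_sdiff_singleton_of_mem hamem
      _ ≤ (orbit (stabilizer G b) a).ncard - 1 :=
          Nat.sub_le_sub_right (Set.ncard_image_le (Set.toFinite _)) 1
      _ = d - 1 := by rw [← Nat.card_coe_set_eq, hd₂]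
  have key := index_dvd_prod_factorial (A := ↥A₁) (Ω := Ω)
    (ι := ↥(orbit (stabilizer G a) b)) T (fun _ => Set.toFinite _)
    (fun x c e he => by
      obtain ⟨g, hga, hgb, hne⟩ := he
      obtain ⟨m, hm⟩ := c.2
      have hx := (hA _).1 x.2
      refine ⟨(x : G) * g, ?_, ?_, ?_⟩
      · rw [mul_smul, hga]; rfl
      · rw [mul_smul, hgb, ← hm]
        exact hx.2 m (mem_stabilizer_iff.1 m.2)
      · intro h
        apply hne
        have : (x : G) • e = (x : G) • a := by rw [hx.1]; exact h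
        exact smul_left_cancel _ this)
    (A₂.subgroupOf A₁)
    (fun x => by
      rw [mem_subgroupOf, hA₂]
      constructor
      · rintro ⟨_, h2⟩ c e ⟨g, hga, hgb, hne⟩
        obtain ⟨m, hm⟩ := c.2
        have hma : (m : G) • a = a := mem_stabilizer_iff.1 m.2
        have hn : ((m : G)⁻¹ * g) • b = b := by
          rw [mul_smul, hgb, ← hm]
          exact inv_smul_smul _ _
        have := h2 m ((m : G)⁻¹ * g) hma hn
        have e' : (m : G) • ((m : G)⁻¹ * g) • a = e := by rw [mul_smul, smul_inv_smul, hga]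
        rw [e'] at this
        exact this
      · intro h
        refine ⟨x.2, fun m n hm hn => ?_⟩
        by_cases he : m • n • a = a
        · rw [he]
          exact ((hA _).1 x.2).1
        · have hc : m • b ∈ orbit (stabilizer G a) b := ⟨⟨m, mem_stabilizer_iff.2 hm⟩, rfl⟩
          refine h ⟨m • b, hc⟩ (m • n • a) ⟨m * n, mul_smul _ _ _, ?_, he⟩
          rw [mul_smul, hn])
  have h2 : ∏ c : ↥(orbit (stabilizer G a) b), (Nat.card (T c)).factorial ∣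
      ((d - 1).factorial) ^ d := by
    have h3 : ∏ c : ↥(orbit (stabilizer G a) b), (Nat.card (T c)).factorial ∣
        ∏ _c : ↥(orbit (stabilizer G a) b), (d - 1).factorial :=
      Finset.prod_dvd_prod_of_dvd _ _ (fun c _ => Nat.factorial_dvd_factorial (hcard c))
    rw [Finset.prod_const, Finset.card_univ, ← Nat.card_eq_fintype_card, hd₁] at h3
    exact h3
  exact key.trans h2

omit [Finite Ω] in
theorem A₂_le_A₁_of
    (memA₁ : ∀ x, x ∈ A₁ ↔ x ∈ stabilizer G a ∧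
      ∀ m ∈ stabilizer G a, m * x * m⁻¹ ∈ stabilizer G b)
    (memB₁ : ∀ x, x ∈ B₁ ↔ x ∈ stabilizer G b ∧
      ∀ m ∈ stabilizer G b, m * x * m⁻¹ ∈ stabilizer G a)
    (memA₂ : ∀ x, x ∈ A₂ ↔ x ∈ stabilizer G a ∧
      ∀ m ∈ stabilizer G a, m * x * m⁻¹ ∈ A₁ ∧ m * x * m⁻¹ ∈ B₁) : A₂ ≤ A₁ :=
  fun x hx => ((mem_A₂_iff memA₁ memB₁ memA₂ x).1 hx).1

/-- The Wielandt index bound. -/
theorem relIndex_dvd (d : ℕ)
    (hd₁ : Nat.card (orbit (stabilizer G a) b) = d)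
    (hd₂ : Nat.card (orbit (stabilizer G b) a) = d)
    (memA₁ : ∀ x, x ∈ A₁ ↔ x ∈ stabilizer G a ∧
      ∀ m ∈ stabilizer G a, m * x * m⁻¹ ∈ stabilizer G b)
    (memB₁ : ∀ x, x ∈ B₁ ↔ x ∈ stabilizer G b ∧
      ∀ m ∈ stabilizer G b, m * x * m⁻¹ ∈ stabilizer G a)
    (memA₂ : ∀ x, x ∈ A₂ ↔ x ∈ stabilizer G a ∧
      ∀ m ∈ stabilizer G a, m * x * m⁻¹ ∈ A₁ ∧ m * x * m⁻¹ ∈ B₁) :
    A₂.relIndex (stabilizer G a) ∣ d.factorial * ((d - 1).factorial) ^ d := by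
  have h1 := relIndex_A₁_dvd d hd₁ memA₁
  have h2 := relIndex_A₂_dvd d hd₁ hd₂ memA₁ memB₁ memA₂
  have hle₁ : A₁ ≤ stabilizer G a := fun x hx => ((memA₁ x).1 hx).1
  have hle₂ : A₂ ≤ A₁ := A₂_le_A₁_of memA₁ memB₁ memA₂
  rw [← relIndex_mul_relIndex A₂ A₁ (stabilizer G a) hle₂ hle₁, mul_comm]
  exact Nat.mul_dvd_mul h1 h2

end Cfsg.Agent.Helper10.WB
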