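import Mathlib
import Cfsg.Agent.Helper10.WBIndex
import Cfsg.Agent.Helper10.TWFinal

/-!
Wielandt bound: bridge from a primitive action to the Thompson–Wielandt setup.
-/

set_option autoImplicit false

namespace Cfsg.Agent.Helper10.WB

open Subgroup MulAction Cfsg
open Cfsg.Agent.Helper10.TW

variable {G : Type*} [Group G]

/-- first relative core: the core in `M₁` of `M₁ ⊓ M₂`. -/
def cA₁ (M₁ M₂ : Subgroup G) : Subgroup G :=
  ((M₁ ⊓ M₂).subgroupOf M₁).normalCore.map M₁.subtype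

/-- second relative core. -/
def cA₂ (M₁ M₂ : Subgroup G) : Subgroup G :=
  ((cA₁ M₁ M₂ ⊓ cA₁ M₂ M₁).subgroupOf M₁).normalCore.map M₁.subtype

theorem mem_cA₁ {M₁ M₂ : Subgroup G} (x : G) :
    x ∈ cA₁ M₁ M₂ ↔ x ∈ M₁ ∧ ∀ m ∈ M₁, m * x * m⁻¹ ∈ M₂ := by
  unfold cA₁
  rw [mem_coreIn]
  constructor
  · rintro ⟨h1, h2⟩
    exact ⟨h1, fun m hm => (h2 m hm).2⟩
  · rintro ⟨h1, h2⟩
    exact ⟨h1, fun m hm => ⟨M₁.mul_mem (M₁.mul_mem hm h1) (M₁.inv_mem hm), h2 m hm⟩⟩

theorem mem_cA₂ {M₁ M₂ : Subgroup G} (x : G) :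
    x ∈ cA₂ M₁ M₂ ↔ x ∈ M₁ ∧
      ∀ m ∈ M₁, m * x * m⁻¹ ∈ cA₁ M₁ M₂ ∧ m * x * m⁻¹ ∈ cA₁ M₂ M₁ := by
  unfold cA₂
  rw [mem_coreIn]
  simp only [mem_inf]

variable {Ω : Type*} [MulAction G Ω]

theorem normalCore_stabilizer_eq_bot [FaithfulSMul G Ω] [IsPretransitive G Ω] (a : Ω) :
    (stabilizer G a).normalCore = ⊥ := by
  rw [eq_bot_iff]
  intro x hx
  rw [mem_bot]
  apply FaithfulSMul.eq_of_smul_eq_smul (α := Ω)
  intro c
  obtain ⟨g, rfl⟩ := exists_smul_eq G a c
  have := hx g⁻¹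
  rw [mem_stabilizer_iff, inv_inv, mul_smul, mul_smul, inv_smul_eq_iff] at this
  rw [one_smul]
  exact this

theorem card_orbit_stabilizer_eq_relIndex (a b : Ω) :
    Nat.card (orbit (stabilizer G a) b) = (stabilizer G b).relIndex (stabilizer G a) := by
  rw [Nat.card_coe_set_eq, ← index_stabilizer]
  rfl

theorem card_orbit_swap [Finite G] [IsPretransitive G Ω] (a b : Ω) :
    Nat.card (orbit (stabilizer G b) a) = Nat.card (orbit (stabilizer G a) b) := by
  rw [card_orbit_stabilizer_eq_relIndex, card_orbit_stabilizer_eq_relIndex]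
  obtain ⟨g, rfl⟩ := exists_smul_eq G a b
  have hidx : (stabilizer G (g • a)).index = (stabilizer G a).index := by
    rw [stabilizer_smul_eq_stabilizer_map_conj]
    exact index_map_of_bijective (MulAut.conj g).bijective _
  have h1 := relIndex_mul_index (inf_le_left : stabilizer G a ⊓ stabilizer G (g • a) ≤ _)
  have h2 := relIndex_mul_index (inf_le_right : stabilizer G a ⊓ stabilizer G (g • a) ≤ _)
  rw [inf_relIndex_left] at h1
  rw [inf_relIndex_right] at h2
  rw [hidx, ← h1] at h2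
  exact Nat.eq_of_mul_eq_mul_right (Nat.pos_of_ne_zero index_ne_zero_of_finite) h2

theorem card_stabilizer_eq [Finite G] [IsPretransitive G Ω] (a b : Ω) :
    Nat.card (stabilizer G a) = Nat.card (stabilizer G b) := by
  obtain ⟨g, rfl⟩ := exists_smul_eq G a b
  rw [stabilizer_smul_eq_stabilizer_map_conj]
  exact (card_map_of_injective (MulAut.conj g).injective).symm

/-- The Thompson–Wielandt setup from a primitive action. -/
theorem setup_of_action [Finite G] [FaithfulSMul G Ω] [Finite Ω] (hprim : IsPreprimitive G Ω)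
    (a b : Ω) (hne : ∃ m : G, m • a = a ∧ m • b ≠ b)
    (hA₂ : cA₂ (stabilizer G a) (stabilizer G b) ≠ ⊥)
    (hB₂ : cA₂ (stabilizer G b) (stabilizer G a) ≠ ⊥) :
    Setup (stabilizer G a) (stabilizer G b) (cA₁ (stabilizer G a) (stabilizer G b))
      (cA₁ (stabilizer G b) (stabilizer G a)) (cA₂ (stabilizer G a) (stabilizer G b))
      (cA₂ (stabilizer G b) (stabilizer G a)) := by
  obtain ⟨m, hma, hmb⟩ := hne
  have hnt : Nontrivial Ω := ⟨⟨m • b, b, hmb⟩⟩
  have hpt : IsPretransitive G Ω := hprim.toIsPretransitive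
  refine
    { co₁ := IsPreprimitive.isCoatom_stabilizer_of_isPreprimitive G a
      co₂ := IsPreprimitive.isCoatom_stabilizer_of_isPreprimitive G b
      core₁ := normalCore_stabilizer_eq_bot a
      core₂ := normalCore_stabilizer_eq_bot b
      ne := ?_
      card := ?_
      memA₁ := mem_cA₁
      memB₁ := mem_cA₁
      memA₂ := mem_cA₂
      memB₂ := mem_cA₂
      neA₂ := hA₂
      neB₂ := hB₂ }
  · intro h
    have : m ∈ stabilizer G b := h ▸ (mem_stabilizer_iff.2 hma)
    exact hmb (mem_stabilizer_iff.1 this)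
  · intro p
    obtain ⟨g, rfl⟩ := exists_smul_eq G a b
    rw [stabilizer_smul_eq_stabilizer_map_conj]
    exact (card_pCoreOf_map_conj p _ g).symm

/-- The index bounds. -/
theorem relIndex_cA₂_dvd [Finite G] [Finite Ω] [IsPretransitive G Ω] (a b : Ω) (d : ℕ)
    (hd : Nat.card (orbit (stabilizer G a) b) = d) :
    (cA₂ (stabilizer G a) (stabilizer G b)).relIndex (stabilizer G a) ∣
      d.factorial * ((d - 1).factorial) ^ d :=
  relIndex_dvd d hd ((card_orbit_swap a b).trans hd) mem_cA₁ mem_cA₁ mem_cA₂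

theorem relIndex_cA₂_dvd' [Finite G] [Finite Ω] [IsPretransitive G Ω] (a b : Ω) (d : ℕ)
    (hd : Nat.card (orbit (stabilizer G a) b) = d) :
    (cA₂ (stabilizer G b) (stabilizer G a)).relIndex (stabilizer G b) ∣
      d.factorial * ((d - 1).factorial) ^ d :=
  relIndex_dvd d ((card_orbit_swap a b).trans hd) hd mem_cA₁ mem_cA₁ mem_cA₂

/-- if one of the second cores is trivial, the stabilizer order divides the bound. -/
theorem card_stabilizer_dvd [Finite G] [Finite Ω] [IsPretransitive G Ω] (a b : Ω) (d : ℕ)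
    (hd : Nat.card (orbit (stabilizer G a) b) = d)
    (h : cA₂ (stabilizer G a) (stabilizer G b) = ⊥ ∨ cA₂ (stabilizer G b) (stabilizer G a) = ⊥) :
    Nat.card (stabilizer G a) ∣ d.factorial * ((d - 1).factorial) ^ d := by
  rcases h with h | h
  · have := relIndex_cA₂_dvd a b d hd
    rwa [h, relIndex_bot_left] at this
  · have := relIndex_cA₂_dvd' a b d hd
    rwa [h, relIndex_bot_left, ← card_stabilizer_eq a b] at this

theorem exists_moving [Finite Ω] (a b : Ω) (d : ℕ)
    (hd : Nat.card (orbit (stabilizer G a) b) = d) (h2 : 2 ≤ d) :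
    ∃ m : G, m • a = a ∧ m • b ≠ b := by
  by_contra hcon
  push Not at hcon
  have hsub : Subsingleton ↥(orbit (stabilizer G a) b) := by
    constructor
    rintro ⟨_, ⟨m, rfl⟩⟩ ⟨_, ⟨n, rfl⟩⟩
    apply Subtype.ext
    show (m : G) • b = (n : G) • b
    rw [hcon m (mem_stabilizer_iff.1 m.2), hcon n (mem_stabilizer_iff.1 n.2)]
  have : Nat.card ↥(orbit (stabilizer G a) b) ≤ 1 := Finite.card_le_one_iff_subsingleton.2 hsub
  omega

end Cfsg.Agent.Helper10.WB
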