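import Mathlib
import Cfsg.Agent.Helper10.WBBridge

/-!
Wielandt bound (S3693): if the two-point stabilizer induces a group with trivial Fitting subgroup on
the suborbit, then the two-point stabilizer has trivial Fitting subgroup.
-/

set_option autoImplicit false

namespace Cfsg.Agent.Helper10.WB

open Subgroup MulAction Cfsg
open Cfsg.Agent.Helper10.TW
open Cfsg.Agent.Helper14 (pCoreOf_le pCoreOf_isPGroup le_normalizer_pCoreOf le_pCoreOf
  pCore_isPGroup)

variable {G : Type*} [Group G]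

/-- normalizer growth: two `p`-subgroups `R`, `R'` with `R` normalizing `R'` and
`N_{RR'}(R) = R` satisfy `R' ≤ R`. -/
theorem le_of_normalizer_sup_le [Finite G] {p : ℕ} [Fact p.Prime] {R R' : Subgroup G}
    (hR : IsPGroup p R) (hR' : IsPGroup p R') (hn : R ≤ normalizer (R' : Set G))
    (hself : ∀ w ∈ normalizer (R : Set G), w ∈ R ⊔ R' → w ∈ R) : R' ≤ R := by
  by_contra hnle
  have hW : IsPGroup p ↥(R ⊔ R') := IsPGroup.to_sup_of_normal_right' hR hR' hn
  have hnil : Group.IsNilpotent ↥(R ⊔ R') := hW.isNilpotent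
  have hlt : R.subgroupOf (R ⊔ R') < ⊤ := by
    rw [lt_top_iff_ne_top, Ne, subgroupOf_eq_top]
    intro hle'
    exact hnle (le_sup_right.trans hle')
  have hnc := Group.normalizerCondition_of_isNilpotent (G := ↥(R ⊔ R')) _ hlt
  obtain ⟨w, hwn, hwnot⟩ := SetLike.exists_of_lt hnc
  apply hwnot
  rw [mem_subgroupOf]
  apply hself _ _ w.2
  apply mem_normalizer_fintype
  intro n hn'
  have hnW : n ∈ R ⊔ R' := le_sup_left (b := R') hn'
  have h1 := (mem_normalizer_iff.1 hwn ⟨n, hnW⟩).1 (by rw [mem_subgroupOf]; exact hn')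
  rw [mem_subgroupOf] at h1
  simpa using h1

variable {Ω : Type*} [MulAction G Ω]

/-- `O_p(G_{ab}) ≤ A₁` when `G_{ab}` induces a Fitting-free group on the suborbit. -/
theorem pCoreOf_inf_le_cA₁ [Finite G] [Finite Ω] (a b : Ω) (p : ℕ) [Fact p.Prime]
    (hF : fittingSubgroup ↥(((stabilizer G b).subgroupOf (stabilizer G a)).map
      (toPermHom (stabilizer G a) (orbit (stabilizer G a) b))) = ⊥) :
    pCoreOf p (stabilizer G a ⊓ stabilizer G b) ≤ cA₁ (stabilizer G a) (stabilizer G b) := by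
  set φ := toPermHom (stabilizer G a) (orbit (stabilizer G a) b) with hφ
  set I := ((stabilizer G b).subgroupOf (stabilizer G a)).map φ with hI
  let ψ : ↥(stabilizer G a ⊓ stabilizer G b) →* ↥I :=
    (φ.comp (Subgroup.inclusion inf_le_left)).codRestrict I
      (fun x => ⟨Subgroup.inclusion inf_le_left x, mem_subgroupOf.2 x.2.2, rfl⟩)
  have hsurj : Function.Surjective ψ := by
    rintro ⟨y, z, hz, rfl⟩
    refine ⟨⟨(z : G), z.2, mem_subgroupOf.1 hz⟩, ?_⟩
    apply Subtype.ext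
    rfl
  have hN : (pCore p ↥(stabilizer G a ⊓ stabilizer G b)).map ψ ≤ fittingSubgroup ↥I := by
    apply Cfsg.Agent.Helper7.le_fittingSubgroup
    · exact Subgroup.Normal.map (Cfsg.Agent.Helper14.pCore_normal p) ψ hsurj
    · exact ((pCore_isPGroup p).map ψ).isNilpotent
  rw [hF] at hN
  rintro _ ⟨y, hy, rfl⟩
  have h1 : ψ y = 1 := by
    have := hN ⟨y, hy, rfl⟩
    exact (mem_bot).1 this
  have h2 : φ (Subgroup.inclusion inf_le_left y) = 1 := by
    have := congrArg Subtype.val h1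
    exact this
  rw [mem_A₁_iff mem_cA₁]
  refine ⟨mem_stabilizer_iff.1 y.2.1, fun m hm => ?_⟩
  have h3 := congrArg (fun σ : Equiv.Perm ↥(orbit (stabilizer G a) b) =>
    ((σ ⟨m • b, ⟨⟨m, mem_stabilizer_iff.2 hm⟩, rfl⟩⟩ : ↥(orbit (stabilizer G a) b)) : Ω)) h2
  simpa [hφ, toPermHom_apply, toPerm_apply, Subgroup.smul_def] using h3

end Cfsg.Agent.Helper10.WB

namespace Cfsg.Agent.Helper10.WB

open Subgroup MulAction Cfsg
open Cfsg.Agent.Helper10.TW
open Cfsg.Agent.Helper14 (pCoreOf_le pCoreOf_isPGroup le_normalizer_pCoreOf le_pCoreOf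
  pCore_isPGroup)

variable {G Ω : Type*} [Group G] [MulAction G Ω]

theorem pCoreOf_inf_eq_bot [Finite G] [FaithfulSMul G Ω] [Finite Ω]
    (hprim : IsPreprimitive G Ω) (a b : Ω) (hmov : ∃ m : G, m • a = a ∧ m • b ≠ b)
    (p : ℕ) [Fact p.Prime]
    (hF : fittingSubgroup ↥(((stabilizer G b).subgroupOf (stabilizer G a)).map
      (toPermHom (stabilizer G a) (orbit (stabilizer G a) b))) = ⊥) :
    pCoreOf p (stabilizer G a ⊓ stabilizer G b) = ⊥ := by
  by_contra hne
  obtain ⟨m, hma, hmb⟩ := hmov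
  have hnt : Nontrivial Ω := ⟨⟨m • b, b, hmb⟩⟩
  have hpt : IsPretransitive G Ω := hprim.toIsPretransitive
  have hRA := pCoreOf_inf_le_cA₁ a b p hF
  have hA₁M₁ : cA₁ (stabilizer G a) (stabilizer G b) ≤ stabilizer G a :=
    fun x hx => ((mem_cA₁ x).1 hx).1
  have hA₁M₂ : cA₁ (stabilizer G a) (stabilizer G b) ≤ stabilizer G b := fun x hx => by
    simpa using ((mem_cA₁ x).1 hx).2 1 (one_mem _)
  have hA₁D : cA₁ (stabilizer G a) (stabilizer G b) ≤ stabilizer G a ⊓ stabilizer G b :=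
    le_inf hA₁M₁ hA₁M₂
  have hM₁A₁ : stabilizer G a ≤ normalizer (cA₁ (stabilizer G a) (stabilizer G b) : Set G) :=
    le_normalizer_of_mem_iff (P := fun y => y ∈ stabilizer G b) mem_cA₁
  have hRp : IsPGroup p (pCoreOf p (stabilizer G a ⊓ stabilizer G b)) := pCoreOf_isPGroup p _
  have hRD : pCoreOf p (stabilizer G a ⊓ stabilizer G b) ≤ stabilizer G a ⊓ stabilizer G b :=
    pCoreOf_le p _
  have hRQ : pCoreOf p (stabilizer G a ⊓ stabilizer G b) =
      pCoreOf p (cA₁ (stabilizer G a) (stabilizer G b)) :=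
    le_antisymm (le_pCoreOf p hRA (hA₁D.trans (le_normalizer_pCoreOf p _)) hRp)
      (pCoreOf_le_pCoreOf p hA₁D (inf_le_left.trans hM₁A₁))
  have hM₁R : stabilizer G a ≤
      normalizer (pCoreOf p (stabilizer G a ⊓ stabilizer G b) : Set G) := by
    rw [hRQ]
    exact le_normalizer_pCoreOf_of_le_normalizer p hM₁A₁
  have hnR : normalizer (pCoreOf p (stabilizer G a ⊓ stabilizer G b) : Set G) = stabilizer G a :=
    normalizer_eq_of_coatom (IsPreprimitive.isCoatom_stabilizer_of_isPreprimitive G a)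
      (normalCore_stabilizer_eq_bot a) hne (hRD.trans inf_le_left) hM₁R
  obtain ⟨g, hg⟩ := exists_smul_eq G a b
  have hM₂ : stabilizer G b = (stabilizer G a).map (MulAut.conj g).toMonoidHom := by
    rw [← hg]
    exact stabilizer_smul_eq_stabilizer_map_conj g a
  set R := pCoreOf p (stabilizer G a ⊓ stabilizer G b) with hRdef
  set R' := R.map (MulAut.conj g).toMonoidHom with hR'def
  have hR'p : IsPGroup p R' := hRp.map _
  have hM₂R' : stabilizer G b ≤ normalizer (R' : Set G) := by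
    rw [hM₂]
    exact Cfsg.Agent.Helper14.map_conj_le_normalizer g hM₁R
  have hR'M₂ : R' ≤ stabilizer G b := by
    rw [hM₂]
    exact Subgroup.map_mono (hRD.trans inf_le_left)
  have hR'D : R' ⊓ (stabilizer G a ⊓ stabilizer G b) ≤ R :=
    inf_le_pCoreOf p hR'p (inf_le_right.trans hM₂R')
  have hRnR' : R ≤ normalizer (R' : Set G) := (hRD.trans inf_le_right).trans hM₂R'
  have hle : R' ≤ R := by
    apply le_of_normalizer_sup_le hRp hR'p hRnR'
    intro w hwn hwW
    rw [hnR] at hwn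
    have hwM₂ : w ∈ stabilizer G b := (sup_le (hRD.trans inf_le_right) hR'M₂) hwW
    rw [sup_comm] at hwW
    obtain ⟨s, hs, r, hr, hsr⟩ := (Cfsg.Agent.Helper7.mem_sup_of_le_normalizer hRnR').1 hwW
    have hsD : s ∈ stabilizer G a ⊓ stabilizer G b := by
      have e : s = w * r⁻¹ := by rw [← hsr]; group
      rw [e]
      exact mul_mem ⟨hwn, hwM₂⟩ (inv_mem (hRD hr))
    rw [← hsr]
    exact mul_mem (hR'D ⟨hs, hsD⟩) hr
  have heq : R' = R :=
    eq_of_le_of_card_ge hle (card_map_of_injective (MulAut.conj g).injective).ge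
  have hM₂M₁ : stabilizer G b ≤ stabilizer G a := by
    rw [← hnR, ← heq]
    exact hM₂R'
  have hM₂M₁' : stabilizer G b = stabilizer G a :=
    eq_of_le_of_card_ge hM₂M₁ (card_stabilizer_eq a b).le
  have : m ∈ stabilizer G b := hM₂M₁' ▸ (mem_stabilizer_iff.2 hma)
  exact hmb (mem_stabilizer_iff.1 this)

/-- S3693. -/
theorem fitting_free_subconstituent [Finite G] [FaithfulSMul G Ω] [Finite Ω]
    (hprim : IsPreprimitive G Ω) (a b : Ω) (d : ℕ)
    (hd : Nat.card (orbit (stabilizer G a) b) = d) (h2 : 2 ≤ d)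
    (hF : fittingSubgroup ↥(((stabilizer G b).subgroupOf (stabilizer G a)).map
      (toPermHom (stabilizer G a) (orbit (stabilizer G a) b))) = ⊥) :
    fittingSubgroup ↥(stabilizer G a ⊓ stabilizer G b) = ⊥ ∧
      Nat.card (stabilizer G a) ∣ d.factorial * ((d - 1).factorial) ^ d := by
  have hpt : IsPretransitive G Ω := hprim.toIsPretransitive
  have hmov := exists_moving (G := G) a b d hd h2
  have key : ∀ p : ℕ, p.Prime → pCoreOf p (stabilizer G a ⊓ stabilizer G b) = ⊥ := by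
    intro p hp
    have : Fact p.Prime := ⟨hp⟩
    exact pCoreOf_inf_eq_bot hprim a b hmov p hF
  constructor
  · rw [Cfsg.Agent.Helper7.fittingSubgroup_eq_pCoreSup, eq_bot_iff,
      Cfsg.Agent.Helper7.pCoreSup_le_iff]
    intro p hp
    rw [(pCoreOf_eq_bot_iff p _).1 (key p hp)]
  · apply card_stabilizer_dvd a b d hd
    by_contra hcon
    push Not at hcon
    have S := setup_of_action hprim a b hmov hcon.1 hcon.2
    obtain ⟨p, hp, hA₂, _⟩ := S.exists_prime
    have h1 : cA₂ (stabilizer G a) (stabilizer G b) ≤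
        pCoreOf p (stabilizer G a ⊓ stabilizer G b) :=
      le_pCoreOf p (le_inf S.A₂_le_M₁ S.A₂_le_M₂) (inf_le_left.trans S.M₁_le_normalizer_A₂) hA₂
    rw [key p hp] at h1
    exact hcon.1 (le_bot_iff.1 h1)

end Cfsg.Agent.Helper10.WB
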