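import Mathlib
import Cfsg.Prelude.Def_Characters
import Cfsg.Agent.Helper12.WGDefs
import Cfsg.Agent.Helper12.WGDefsC
import Cfsg.Agent.Helper12.WGDefsD
import Cfsg.Agent.Helper12.WGStruct
import Cfsg.Agent.Helper24.Product
import Cfsg.Agent.Helper24.Linear
import Cfsg.Agent.Helper24.Orthogonality
import Cfsg.Agent.Helper24.Expansion
import Cfsg.Agent.Helper8.CharComp
import Cfsg.Agent.Helper18.WGCONSTRANS
import Cfsg.Agent.Helper18.WGSPECADD
import Cfsg.Agent.Helper18.WGSPECNAT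
import Cfsg.Agent.Helper18.WGDUAL
import Cfsg.Agent.Helper22.WGCLASS
import Cfsg.Agent.Helper26.WGNONTRIV
import Cfsg.Agent.Helper28.WGJJDIAG

set_option autoImplicit false

/-! # S2524 part B, piece COMPAT (core): the constituents of the restriction of a character of rank at
most one to `1 × Sp_{2m}` are of pure class. -/

namespace Cfsg.Agent.S2524P

open Matrix Cfsg Cfsg.Agent.S2333P Cfsg.Agent.Helper2.Sp Cfsg.Agent.Helper12.LSp Cfsg.Agent.Helper25

variable {F : Type*} [Field F] [Fintype F]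

/-! ## generic: constituents of characters of a direct product -/

/-- a constituent `κ` of `Φ (1, ·)` comes from a constituent `α ⊗ κ` of `Φ` -/
theorem compat_exists_prod {G₁ : Type*} [Group G₁] [Fintype G₁] {G₂ : Type*} [Group G₂]
    [Fintype G₂] (Φ : G₁ × G₂ → ℂ) (hΦ : IsCharacter (G₁ × G₂) Φ) (κ : G₂ → ℂ)
    (hκ : IsIrrCharacter G₂ κ) (hn : classInner (fun g : G₂ => Φ (1, g)) κ ≠ 0) :
    ∃ α : G₁ → ℂ, IsIrrCharacter G₁ α ∧
      classInner Φ (fun x : G₁ × G₂ => α x.1 * κ x.2) ≠ 0 := by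
  classical
  haveI : Fintype (IrrCharacter (G₁ × G₂)) := Fintype.ofFinite _
  by_contra hcon
  push Not at hcon
  apply hn
  have hexp := Cfsg.Agent.Helper24.IsCharacter.eq_sum_classInner hΦ
  have h1 : (fun g : G₂ => Φ (1, g)) =
      ∑ θ : IrrCharacter (G₁ × G₂), classInner Φ (θ : G₁ × G₂ → ℂ) •
        (fun g : G₂ => (θ : G₁ × G₂ → ℂ) (1, g)) := by
    funext g
    conv_lhs => rw [hexp]
    simp only [Finset.sum_apply, Pi.smul_apply]
  rw [h1, Cfsg.Agent.Helper24.classInner_sum_left]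
  apply Finset.sum_eq_zero
  intro θ _
  rw [Cfsg.Agent.Helper24.classInner_smul_left]
  obtain ⟨p, hp⟩ := Cfsg.Agent.Helper24.irrProd_surjective θ
  have hθ : (θ : G₁ × G₂ → ℂ) = fun x => (p.1 : G₁ → ℂ) x.1 * (p.2 : G₂ → ℂ) x.2 := by
    rw [← hp]; rfl
  by_cases hpk : (p.2 : G₂ → ℂ) = κ
  · have := hcon _ p.1.2
    rw [← hpk, ← hθ] at this
    rw [this, zero_mul]
  · have h0 : classInner (fun g : G₂ => (θ : G₁ × G₂ → ℂ) (1, g)) κ = 0 := by
      rw [hθ]
      have e : (fun g : G₂ => (p.1 : G₁ → ℂ) (1, g).1 * (p.2 : G₂ → ℂ) (1, g).2) =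
          (p.1 : G₁ → ℂ) 1 • (p.2 : G₂ → ℂ) := by
        funext g; rfl
      rw [e, Cfsg.Agent.Helper24.classInner_smul_left,
        Cfsg.Agent.Helper24.classInner_of_isIrrCharacter p.2.2 hκ, if_neg hpk, mul_zero]
    rw [h0, mul_zero]

/-- a constituent `1 ⊗ κ` of `Φ` gives a trivial constituent of `Φ (·, 1)` -/
theorem compat_triv_left {G₁ : Type*} [Group G₁] [Fintype G₁] {G₂ : Type*} [Group G₂]
    [Fintype G₂] (Φ : G₁ × G₂ → ℂ) (hΦ : IsCharacter (G₁ × G₂) Φ) (κ : G₂ → ℂ)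
    (hκ : IsIrrCharacter G₂ κ)
    (hn : classInner Φ (fun x : G₁ × G₂ => (1 : ℂ) * κ x.2) ≠ 0) :
    classInner (fun g : G₁ => Φ (g, 1)) (fun _ => 1) ≠ 0 := by
  classical
  have hirr : IsIrrCharacter (G₁ × G₂) (fun x : G₁ × G₂ => (1 : ℂ) * κ x.2) :=
    Cfsg.Agent.Helper24.isIrrCharacter_prod (φ := fun _ : G₁ => (1 : ℂ))
      Cfsg.Agent.Helper24.isIrrCharacter_const_one hκ
  have key := constituent_trans (MonoidHom.inl G₁ G₂) Φ hΦ _ hirr hn
    (fun _ : G₁ => (1 : ℂ)) Cfsg.Agent.Helper24.isIrrCharacter_const_one ?_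
  · exact key
  · simp only [MonoidHom.inl_apply, one_mul]
    have e : (fun _ : G₁ => κ 1) = κ 1 • (fun _ : G₁ => (1 : ℂ)) := by
      funext g; simp
    rw [e, Cfsg.Agent.Helper24.classInner_smul_left,
      Cfsg.Agent.Helper24.classInner_of_isIrrCharacter
        (Cfsg.Agent.Helper24.isIrrCharacter_const_one (G := G₁))
        Cfsg.Agent.Helper24.isIrrCharacter_const_one, if_pos rfl, mul_one]
    obtain ⟨n, hn0, hn1⟩ := Cfsg.Agent.Helper24.isIrrCharacter_one hκ
    rw [hn1]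
    exact_mod_cast hn0.ne'

/-! ## symmetric matrices of size one, and the splitting of `lamT` on block diagonal matrices -/

/-- the symmetric matrix of size one with entry `a` -/
def compat_s1 (a : F) : ↥(SymM 1 F) := rk1 a (fun _ => 1)

theorem compat_s1_apply (a : F) (i j : Fin 1) : (compat_s1 a).1 i j = a := by
  unfold compat_s1
  rw [rk1_apply, mul_one, mul_one]

theorem compat_eq_s1 (t : ↥(SymM 1 F)) : t = compat_s1 (t.1 0 0) := by
  apply Subtype.ext
  ext i j
  rw [compat_s1_apply, Subsingleton.elim i 0, Subsingleton.elim j 0]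

theorem compat_s1_injective {a b : F} (h : compat_s1 a = compat_s1 b) : a = b := by
  have := congrArg (fun t : ↥(SymM 1 F) => t.1 0 0) h
  simpa only [compat_s1_apply] using this

theorem compat_lamT_s1 (ψ : AddChar F ℂ) (a : F) (y : ↥(SymM 1 F)) :
    lamT ψ (compat_s1 a) (Multiplicative.ofAdd y) = ψ (a * y.1 0 0) := by
  rw [lamT_apply]
  congr 1
  rw [Matrix.trace, Finset.univ_unique, Finset.sum_singleton, Matrix.diag_apply, Matrix.mul_apply,
    Finset.univ_unique, Finset.sum_singleton, compat_s1_apply]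
  rfl

theorem compat_trace_e00 {m : ℕ} (T : ↥(SymM (m + 1) F)) (a : F) :
    Matrix.trace (T.1 * (e00 m a).1) = T.1 0 0 * a := by
  rw [Matrix.trace]
  simp only [Matrix.diag_apply, Matrix.mul_apply, e00_apply]
  rw [Finset.sum_eq_single 0]
  · rw [Finset.sum_eq_single 0]
    · rw [if_pos ⟨rfl, rfl⟩]
    · intro j _ hj
      rw [if_neg (fun h => hj h.1), mul_zero]
    · intro h; exact absurd (Finset.mem_univ _) h
  · intro i _ hi
    apply Finset.sum_eq_zero
    intro j _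
    rw [if_neg (fun h => hi h.2), mul_zero]
  · intro h; exact absurd (Finset.mem_univ _) h

theorem compat_trace_blk {m : ℕ} (T : ↥(SymM (m + 1) F)) (Y : ↥(SymM m F)) :
    Matrix.trace (T.1 * (blk Y).1) = Matrix.trace ((qS T).1 * Y.1) := by
  rw [Matrix.trace, Matrix.trace]
  simp only [Matrix.diag_apply, Matrix.mul_apply]
  rw [Fin.sum_univ_succ]
  have h0 : ∑ j : Fin (m + 1), T.1 0 j * (blk Y).1 j 0 = 0 := by
    apply Finset.sum_eq_zero
    intro j _
    rw [blk_zero_right, mul_zero]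
  rw [h0, zero_add]
  apply Finset.sum_congr rfl
  intro i _
  rw [Fin.sum_univ_succ, blk_zero_left, mul_zero, zero_add]
  apply Finset.sum_congr rfl
  intro j _
  rw [blk_succ, qS_apply]

/-- `lamT ψ T` on a block diagonal matrix -/
theorem compat_lamT_split (ψ : AddChar F ℂ) {m : ℕ} (T : ↥(SymM (m + 1) F)) (y : ↥(SymM 1 F))
    (Y : ↥(SymM m F)) :
    lamT ψ T (Multiplicative.ofAdd (e00 m (y.1 0 0) + blk Y)) =
      lamT ψ (compat_s1 (T.1 0 0)) (Multiplicative.ofAdd y) *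
        lamT ψ (qS T) (Multiplicative.ofAdd Y) := by
  rw [lamT_apply, compat_lamT_s1, lamT_apply, AddSubgroup.coe_add, Matrix.mul_add, Matrix.trace_add,
    AddChar.map_add_eq_mul, compat_trace_e00, compat_trace_blk]

/-- distinct `lamT` are orthogonal -/
theorem compat_orth (h2 : (2 : F) ≠ 0) (ψ : AddChar F ℂ) (hψ : ψ ≠ 1) {n : ℕ}
    {T T' : ↥(SymM n F)} (h : T ≠ T') :
    classInner (fun Y => lamT ψ T Y) (fun Y => lamT ψ T' Y) = 0 := by
  classical
  rw [Cfsg.Agent.Helper24.classInner_of_isIrrCharacter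
    (Cfsg.Agent.Helper24.isIrrCharacter_of_monoidHom (lamT ψ T))
    (Cfsg.Agent.Helper24.isIrrCharacter_of_monoidHom (lamT ψ T')), if_neg]
  intro e
  exact h (lamT_injective h2 ψ hψ (MonoidHom.ext (congrFun e)))

/-- the restriction of `χ` to the block diagonal part of the Siegel radical -/
theorem compat_expand (h2 : (2 : F) ≠ 0) (ψ : AddChar F ℂ) (hψ : ψ ≠ 1) {m : ℕ}
    (χ : ↥(symplecticGroup (Fin (m + 1)) F) → ℂ) (y : ↥(SymM 1 F)) (Y : ↥(SymM m F)) :
    χ (jj m F (US 1 F (Multiplicative.ofAdd y), US m F (Multiplicative.ofAdd Y))) =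
      ∑ T : ↥(SymM (m + 1) F), spec ψ χ T *
        (lamT ψ (compat_s1 (T.1 0 0)) (Multiplicative.ofAdd y) *
          lamT ψ (qS T) (Multiplicative.ofAdd Y)) := by
  rw [jj_US, specU_expand h2 ψ hψ (US (m + 1) F) χ]
  apply Finset.sum_congr rfl
  intro T _
  rw [compat_lamT_split]

/-- the restriction of `rk1 c x` to the lower right block -/
theorem compat_qS_rk1 {m : ℕ} (c : F) (x : Fin (m + 1) → F) :
    qS (rk1 c x) = rk1 c (fun i => x i.succ) := by
  apply Subtype.ext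
  ext i j
  rw [qS_apply, rk1_apply, rk1_apply]

/-- **COMPAT**, with the conclusion of FIXG1 as a hypothesis -/
theorem compat_core (hodd : Odd (Fintype.card F)) {m : ℕ} (hm : 1 ≤ m) (ψ : AddChar F ℂ) (hψ : ψ ≠ 1)
    (χ : ↥(symplecticGroup (Fin (m + 1)) F) → ℂ)
    (hχ : IsIrrCharacter ↥(symplecticGroup (Fin (m + 1)) F) χ) (h1 : χ ≠ (fun _ => 1))
    (hrk : RankLeOne ψ (US (m + 1) F) χ)
    (hfix : classInner (fun g : ↥(symplecticGroup (Fin 1) F) => χ (jj m F (g, 1)))
      (fun _ => 1) = 0)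
    (κ : ↥(symplecticGroup (Fin m) F) → ℂ)
    (hκ : IsIrrCharacter ↥(symplecticGroup (Fin m) F) κ)
    (hn : classInner (fun g : ↥(symplecticGroup (Fin m) F) => χ (jj m F (1, g))) κ ≠ 0) :
    ∃ c : F, c ≠ 0 ∧ PureClass ψ (US m F) κ c := by
  classical
  have h2 : (2 : F) ≠ 0 := class_two_ne_zero hodd
  have hΦ : IsCharacter (↥(symplecticGroup (Fin 1) F) × ↥(symplecticGroup (Fin m) F))
      (fun p => χ (jj m F p)) :=
    Cfsg.Agent.Helper8.isCharacter_comp (jj m F) (Cfsg.Agent.Helper24.IsIrrCharacter.isCharacter hχ)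
  obtain ⟨α, hα, hαn⟩ := compat_exists_prod (fun p => χ (jj m F p)) hΦ κ hκ hn
  -- `α` is not trivial
  have hα1 : α ≠ fun _ => 1 := by
    intro h
    rw [h] at hαn
    exact compat_triv_left (fun p => χ (jj m F p)) hΦ κ hκ hαn hfix
  obtain ⟨t, ht0, ht⟩ := exists_spec_ne_zero hodd le_rfl ψ hψ α hα hα1
  have hc : t.1 0 0 ≠ 0 := by
    intro h
    apply ht0
    apply Subtype.ext
    ext i j
    rw [Subsingleton.elim i 0, Subsingleton.elim j 0, h]
    rfl
  refine ⟨t.1 0 0, hc, ?_⟩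
  intro T' hT'
  by_cases hT0 : T' = 0
  · left; exact hT0
  right
  -- the linear character `lamT t ⊗ lamT T'` is a constituent of `χ` on the block diagonal part
  have hζ : IsIrrCharacter (↥(symplecticGroup (Fin 1) F) × ↥(symplecticGroup (Fin m) F))
      (fun x => α x.1 * κ x.2) := Cfsg.Agent.Helper24.isIrrCharacter_prod hα hκ
  have hlam : IsIrrCharacter (Multiplicative ↥(SymM 1 F) × Multiplicative ↥(SymM m F))
      (fun p => lamT ψ t p.1 * lamT ψ T' p.2) :=
    Cfsg.Agent.Helper24.isIrrCharacter_prod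
      (Cfsg.Agent.Helper24.isIrrCharacter_of_monoidHom (lamT ψ t))
      (Cfsg.Agent.Helper24.isIrrCharacter_of_monoidHom (lamT ψ T'))
  have key := constituent_trans (MonoidHom.prodMap (US 1 F) (US m F))
    (fun p => χ (jj m F p)) hΦ _ hζ hαn _ hlam ?_
  swap
  · simp only [MonoidHom.coe_prodMap, Prod.map_fst, Prod.map_snd]
    rw [Cfsg.Agent.Helper24.classInner_prod (fun y => α (US 1 F y)) (fun y => lamT ψ t y)
      (fun Y => κ (US m F Y)) (fun Y => lamT ψ T' Y)]
    exact mul_ne_zero ht hT'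
  -- so some `T` in the spectrum of `χ` restricts to `(t, T')`
  have hex : ∃ T : ↥(SymM (m + 1) F), spec ψ χ T ≠ 0 ∧ T.1 0 0 = t.1 0 0 ∧ qS T = T' := by
    by_contra hcon
    push Not at hcon
    apply key
    have e : (fun h : Multiplicative ↥(SymM 1 F) × Multiplicative ↥(SymM m F) =>
        χ (jj m F (MonoidHom.prodMap (US 1 F) (US m F) h))) =
        ∑ T : ↥(SymM (m + 1) F), spec ψ χ T •
          (fun p : Multiplicative ↥(SymM 1 F) × Multiplicative ↥(SymM m F) =>
            lamT ψ (compat_s1 (T.1 0 0)) p.1 * lamT ψ (qS T) p.2) := by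
      funext p
      rw [Finset.sum_apply]
      simp only [Pi.smul_apply, smul_eq_mul]
      exact compat_expand h2 ψ hψ χ (Multiplicative.toAdd p.1) (Multiplicative.toAdd p.2)
    rw [e, Cfsg.Agent.Helper24.classInner_sum_left]
    apply Finset.sum_eq_zero
    intro T _
    rw [Cfsg.Agent.Helper24.classInner_smul_left,
      Cfsg.Agent.Helper24.classInner_prod (fun y => lamT ψ (compat_s1 (T.1 0 0)) y)
        (fun y => lamT ψ t y) (fun Y => lamT ψ (qS T) Y) (fun Y => lamT ψ T' Y)]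
    by_cases hs : spec ψ χ T = 0
    · rw [hs, zero_mul]
    by_cases h00 : T.1 0 0 = t.1 0 0
    · rw [compat_orth h2 ψ hψ (hcon T hs h00), mul_zero, mul_zero]
    · have hne : compat_s1 (T.1 0 0) ≠ t := by
        intro h
        apply h00
        rw [compat_eq_s1 t] at h
        exact compat_s1_injective h
      rw [compat_orth h2 ψ hψ hne, zero_mul, mul_zero]
  obtain ⟨T, hTs, hT00, hTq⟩ := hex
  obtain ⟨c', x, hTx⟩ := hrk T hTs
  have hc' : t.1 0 0 = c' * x 0 ^ 2 := by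
    rw [← hT00, hTx, rk1_apply, sq]
  have hx0 : x 0 ≠ 0 := by
    intro h
    apply hc
    rw [hc', h]
    ring
  have hT' : T' = rk1 c' (fun i => x i.succ) := by
    rw [← hTq, hTx, compat_qS_rk1]
  have h3 : rk1 c' (fun i => x i.succ) ≠ 0 := by
    rw [← hT']; exact hT0
  obtain ⟨_, h4⟩ := ofClass_of_rk1_ne_zero h3
  rw [hc', ofClass_mul_sq c' (x 0) hx0 T', hT']
  exact h4

end Cfsg.Agent.S2524P
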