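import Mathlib
import Cfsg.Prelude.Def_Characters
import Cfsg.Agent.Helper10.WGCOMPATa
import Cfsg.Agent.Helper28.WGFIXG1

set_option autoImplicit false

/-! # S2524 part B, piece COMPAT -/

namespace Cfsg.Agent.S2524P

open Matrix Cfsg Cfsg.Agent.S2333P Cfsg.Agent.Helper2.Sp Cfsg.Agent.Helper12.LSp Cfsg.Agent.Helper25

variable {F : Type*} [Field F] [Fintype F]

/-- **COMPAT**: the constituents of the restriction to `1 × Sp_{2m}` are of pure class -/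
theorem compat (hodd : Odd (Fintype.card F)) {m : ℕ} (hm : 1 ≤ m) (ψ : AddChar F ℂ) (hψ : ψ ≠ 1)
    (χ : ↥(symplecticGroup (Fin (m + 1)) F) → ℂ)
    (hχ : IsIrrCharacter ↥(symplecticGroup (Fin (m + 1)) F) χ) (h1 : χ ≠ (fun _ => 1))
    (hrk : RankLeOne ψ (US (m + 1) F) χ) (κ : ↥(symplecticGroup (Fin m) F) → ℂ)
    (hκ : IsIrrCharacter ↥(symplecticGroup (Fin m) F) κ)
    (hn : classInner (fun g : ↥(symplecticGroup (Fin m) F) => χ (jj m F (1, g))) κ ≠ 0) :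
    ∃ c : F, c ≠ 0 ∧ PureClass ψ (US m F) κ c :=
  compat_core hodd hm ψ hψ χ hχ h1 hrk (fixG1 hodd hm ψ hψ χ hχ h1 hrk) κ hκ hn

end Cfsg.Agent.S2524P
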