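import Cfsg.Agent.Helper10.Trace
import Cfsg.Agent.Helper10.PConstrained
import Cfsg.Agent.Helper14.SylowIn

set_option autoImplicit false

/-!
# Weakly closed elements of a Sylow subgroup form a direct factor of its centre
(when the centre lies in `O_{p',p}(G)`)
-/

namespace Cfsg.Agent.Helper10

open Cfsg Cfsg.Agent.Helper14

variable {G : Type*} [Group G] [Finite G] {p : ℕ} [Fact p.Prime]

omit [Finite G] in
theorem map_cj_eq_self_of_normal (L : Subgroup G) [hL : L.Normal] (g : G) : L.map (cj g) = L := by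
  apply mem_normalizer_iff_map_cj.1
  rw [Subgroup.normalizer_eq_top]
  exact Subgroup.mem_top g

/-- `S ⊓ L` is a Sylow subgroup of a normal subgroup `L` -/
theorem isSylowIn_inf_normal (S : Sylow p G) (L : Subgroup G) [L.Normal] :
    IsSylowIn p ((S : Subgroup G) ⊓ L) L := by
  refine ⟨inf_le_right, S.2.to_le inf_le_left, ?_⟩
  intro Q hQL hQ hle
  obtain ⟨Q', hQ'⟩ := hQ.exists_le_sylow
  obtain ⟨g, hg⟩ := MulAction.exists_smul_eq G S Q'
  have h1 : Q ≤ ((S : Subgroup G) ⊓ L).map (cj g) := by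
    rw [map_cj_inf, map_cj_eq_self_of_normal L g]
    refine le_inf ?_ hQL
    have : ((g • S : Sylow p G) : Subgroup G) = (S : Subgroup G).map (cj g) := by
      rw [Sylow.coe_subgroup_smul]; rfl
    rw [← this, hg]
    exact hQ'
  have h2 : Nat.card ↥Q ≤ Nat.card ↥((S : Subgroup G) ⊓ L : Subgroup G) := by
    have := Subgroup.card_le_of_le h1
    rwa [(Nat.card_congr (((S : Subgroup G) ⊓ L).equivMapOfInjective _
      (cj_injective g)).toEquiv).symm] at this
  exact (Subgroup.eq_of_le_of_card_ge hle h2).symm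

/-- S1944 -/
theorem weaklyClosed_direct_factor (S : Sylow p G)
    (hZ : ((S : Subgroup G) ⊓ Subgroup.centralizer ((S : Subgroup G) : Set G)) ≤ pPrimePCore p G) :
    ∃ W K : Subgroup G,
      (∀ x : G, x ∈ W ↔ (x ∈ (S : Subgroup G) ∧
        ∀ g : G, g * x * g⁻¹ ∈ (S : Subgroup G) → g * x * g⁻¹ = x)) ∧
      K ≤ ((S : Subgroup G) ⊓ Subgroup.centralizer ((S : Subgroup G) : Set G)) ∧ W ⊓ K = ⊥ ∧
      W ⊔ K = ((S : Subgroup G) ⊓ Subgroup.centralizer ((S : Subgroup G) : Set G)) := by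
  classical
  have hK₀n : (pPrimeCore p G).Normal := Subgroup.sSup_normal _ (fun _ h => h.1)
  obtain ⟨T, hTdef⟩ : ∃ T : Subgroup G, T = (S : Subgroup G) ⊓ pPrimePCore p G := ⟨_, rfl⟩
  obtain ⟨N, hNdef⟩ : ∃ N : Subgroup G, N = Subgroup.normalizer (T : Set G) := ⟨_, rfl⟩
  obtain ⟨Z, hZdef⟩ : ∃ Z : Subgroup G,
    Z = (S : Subgroup G) ⊓ Subgroup.centralizer ((S : Subgroup G) : Set G) := ⟨_, rfl⟩
  rw [← hZdef] at hZ ⊢
  have hTS : T ≤ (S : Subgroup G) := by rw [hTdef]; exact inf_le_left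
  have hZle : Z ≤ (S : Subgroup G) ⊓ Subgroup.centralizer ((S : Subgroup G) : Set G) := le_of_eq hZdef
  have hZge : (S : Subgroup G) ⊓ Subgroup.centralizer ((S : Subgroup G) : Set G) ≤ Z :=
    le_of_eq hZdef.symm
  have hTsyl : IsSylowIn p T (pPrimePCore p G) := by
    rw [hTdef]; exact isSylowIn_inf_normal S _
  have hSN : (S : Subgroup G) ≤ N := by
    intro s hs
    rw [hNdef, mem_normalizer_iff_map_cj, hTdef, map_cj_inf, map_cj_eq_self_of_mem hs,
      map_cj_eq_self_of_normal]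
  have hTN : T ≤ N := hTS.trans hSN
  -- Frattini factorization
  have hfact : ∀ g : G, ∃ k ∈ pPrimeCore p G, ∃ n ∈ N, g = k * n := by
    intro g
    have h' : IsSylowIn p (T.map (cj g)) (pPrimePCore p G) := by
      have := hTsyl.map_cj g
      rwa [map_cj_eq_self_of_normal (pPrimePCore p G) g] at this
    obtain ⟨l, hl, hlT⟩ := hTsyl.exists_conj h'
    have hlg : l⁻¹ * g ∈ N := by
      rw [hNdef, mem_normalizer_iff_map_cj, ← map_cj_mul, hlT, map_cj_map_cj_inv]
    obtain ⟨s, hs, k, hk, hlsk⟩ := exists_mul_of_mem_pPrimePCore S hl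
    have hsL : s ∈ pPrimePCore p G := by
      have : s = l * k⁻¹ := by rw [hlsk]; group
      rw [this]
      exact Subgroup.mul_mem _ hl (Subgroup.inv_mem _ (pPrimeCore_le_pPrimePCore p hk))
    have hsT : s ∈ T := by rw [hTdef]; exact ⟨hs, hsL⟩
    refine ⟨s * k * s⁻¹, hK₀n.conj_mem k hk s, s * (l⁻¹ * g), N.mul_mem (hTN hsT) hlg, ?_⟩
    rw [hlsk]; group
  -- the weakly closed elements
  have hWchar : ∀ x : G, x ∈ Z ⊓ Subgroup.centralizer (N : Set G) ↔ (x ∈ (S : Subgroup G) ∧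
      ∀ g : G, g * x * g⁻¹ ∈ (S : Subgroup G) → g * x * g⁻¹ = x) := by
    intro x
    constructor
    · rintro ⟨hxZ, hxN⟩
      rw [hZdef] at hxZ
      refine ⟨hxZ.1, ?_⟩
      intro g hg
      obtain ⟨k, hk, n, hn, rfl⟩ := hfact g
      have hnx : n * x * n⁻¹ = x := by
        have := Subgroup.mem_centralizer_iff.1 hxN n hn
        rw [this]; group
      have e1 : k * n * x * (k * n)⁻¹ = k * (n * x * n⁻¹) * k⁻¹ := by group
      rw [e1, hnx] at hg ⊢
      have hc1 : k * x * k⁻¹ * x⁻¹ ∈ (S : Subgroup G) :=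
        Subgroup.mul_mem _ hg (Subgroup.inv_mem _ hxZ.1)
      have hc2 : k * x * k⁻¹ * x⁻¹ ∈ pPrimeCore p G := by
        have e2 : k * x * k⁻¹ * x⁻¹ = k * (x * k⁻¹ * x⁻¹) := by group
        rw [e2]
        exact Subgroup.mul_mem _ hk (hK₀n.conj_mem _ (Subgroup.inv_mem _ hk) x)
      have hc : k * x * k⁻¹ * x⁻¹ ∈ (S : Subgroup G) ⊓ pPrimeCore p G := ⟨hc1, hc2⟩
      rw [sylow_inf_pPrimeCore, Subgroup.mem_bot] at hc
      exact mul_inv_eq_one.1 hc
    · rintro ⟨hxS, hwc⟩
      have hxC : x ∈ Subgroup.centralizer ((S : Subgroup G) : Set G) := by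
        rw [Subgroup.mem_centralizer_iff]
        intro s hs
        have h1 : s * x * s⁻¹ ∈ (S : Subgroup G) :=
          Subgroup.mul_mem _ (Subgroup.mul_mem _ hs hxS) (Subgroup.inv_mem _ hs)
        have h2 := hwc s h1
        calc s * x = s * x * s⁻¹ * s := by group
          _ = x * s := by rw [h2]
      have hxZ : x ∈ Z := by rw [hZdef]; exact ⟨hxS, hxC⟩
      have hxT : x ∈ T := by rw [hTdef]; exact ⟨hxS, hZ hxZ⟩
      refine ⟨hxZ, ?_⟩
      apply Subgroup.mem_centralizer_iff.2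
      intro n hn
      have hn : n ∈ N := hn
      rw [hNdef] at hn
      have h1 : n * x * n⁻¹ ∈ T := (Subgroup.mem_normalizer_iff.1 hn x).1 hxT
      have h2 := hwc n (hTS h1)
      calc n * x = n * x * n⁻¹ * n := by group
        _ = x * n := by rw [h2]
  -- the abelian group A = Z(T)
  obtain ⟨A, hAdef⟩ : ∃ A : Subgroup G, A = T ⊓ Subgroup.centralizer (T : Set G) := ⟨_, rfl⟩
  have hAcomm : ∀ a b : ↥A, a * b = b * a := by
    intro a b
    apply Subtype.ext
    have hle : A ≤ T ⊓ Subgroup.centralizer (T : Set G) := le_of_eq hAdef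
    have ha := hle a.2
    have hb := hle b.2
    change (a : G) * (b : G) = (b : G) * (a : G)
    exact Subgroup.mem_centralizer_iff.1 hb.2 a ha.1
  have hNA : N ≤ Subgroup.normalizer (A : Set G) := by
    intro n hn
    rw [hNdef] at hn
    have hT' := mem_normalizer_iff_map_cj.1 hn
    rw [mem_normalizer_iff_map_cj, hAdef, map_cj_inf, map_cj_centralizer, hT']
  have hZA : Z ≤ A := by
    intro z hz
    have hz' := hz
    rw [hZdef] at hz'
    rw [hAdef]
    refine ⟨by rw [hTdef]; exact ⟨hz'.1, hZ hz⟩, ?_⟩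
    exact Subgroup.centralizer_le (by exact_mod_cast hTS) hz'.2
  have hAS : A ≤ (S : Subgroup G) := by
    rw [hAdef]; exact inf_le_left.trans hTS
  let instA : CommGroup ↥A := { (inferInstance : Group ↥A) with mul_comm := hAcomm }
  let instF : Fintype (↥N ⧸ (S : Subgroup G).subgroupOf N) := Fintype.ofFinite _
  -- the trace as a homomorphism on Z
  let τ : ↥Z →* ↥A := MonoidHom.mk'
    (fun z => trc (conjOn A N hNA) ((S : Subgroup G).subgroupOf N) (Subgroup.inclusion hZA z))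
    (fun a b => by
      show trc _ _ (Subgroup.inclusion hZA (a * b)) = _
      rw [map_mul, trc_mul])
  have hτ : ∀ z : ↥Z, τ z =
      trc (conjOn A N hNA) ((S : Subgroup G).subgroupOf N) (Subgroup.inclusion hZA z) := fun _ => rfl
  -- S fixes Z
  have hfixS : ∀ z : ↥Z, ∀ s ∈ (S : Subgroup G).subgroupOf N,
      conjOn A N hNA s (Subgroup.inclusion hZA z) = Subgroup.inclusion hZA z := by
    intro z s hs
    apply Subtype.ext
    rw [conjOn_apply]
    have hz := hZle z.2
    have := Subgroup.mem_centralizer_iff.1 hz.2 (s : G) (Subgroup.mem_subgroupOf.1 hs)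
    show (s : G) * (z : G) * (s : G)⁻¹ = (z : G)
    rw [this]; group
  -- the trace lands in W
  have hτW : ∀ z : ↥Z, ((τ z : ↥A) : G) ∈ Z ⊓ Subgroup.centralizer (N : Set G) := by
    intro z
    have hfix := trc_fixed (conjOn A N hNA) ((S : Subgroup G).subgroupOf N) (hfixS z)
    have hcent : ((τ z : ↥A) : G) ∈ Subgroup.centralizer (N : Set G) := by
      rw [Subgroup.mem_centralizer_iff]
      intro n hn
      have := congrArg (fun a : ↥A => (a : G)) (hfix ⟨n, hn⟩)
      simp only [conjOn_apply] at this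
      rw [← hτ] at this
      calc n * ((τ z : ↥A) : G) = n * ((τ z : ↥A) : G) * n⁻¹ * n := by group
        _ = ((τ z : ↥A) : G) * n := by rw [this]
    refine ⟨?_, hcent⟩
    exact hZge ⟨hAS (τ z).2, Subgroup.centralizer_le (by exact_mod_cast hSN) hcent⟩
  -- on W the trace is the m-th power
  have hm : (Fintype.card (↥N ⧸ (S : Subgroup G).subgroupOf N)).Coprime p := by
    rw [← Nat.card_eq_fintype_card]
    have h1 : Nat.card (↥N ⧸ (S : Subgroup G).subgroupOf N) = (S : Subgroup G).relIndex N := rfl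
    rw [h1, Nat.coprime_comm, Nat.Prime.coprime_iff_not_dvd Fact.out]
    intro hdvd
    exact S.not_dvd_index (hdvd.trans (Subgroup.relIndex_dvd_index_of_le hSN))
  have hτpow : ∀ z : ↥Z, (z : G) ∈ Subgroup.centralizer (N : Set G) →
      ((τ z : ↥A) : G) = (z : G) ^ Fintype.card (↥N ⧸ (S : Subgroup G).subgroupOf N) := by
    intro z hz
    have hfix : ∀ n : ↥N, conjOn A N hNA n (Subgroup.inclusion hZA z) = Subgroup.inclusion hZA z := by
      intro n
      apply Subtype.ext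
      rw [conjOn_apply]
      have := Subgroup.mem_centralizer_iff.1 hz (n : G) n.2
      show (n : G) * (z : G) * (n : G)⁻¹ = (z : G)
      rw [this]; group
    rw [hτ, trc_of_fixed (conjOn A N hNA) ((S : Subgroup G).subgroupOf N) hfix]
    rfl
  have hZS : Z ≤ (S : Subgroup G) := hZle.trans inf_le_left
  refine ⟨Z ⊓ Subgroup.centralizer (N : Set G), τ.ker.map Z.subtype, hWchar, ?_, ?_, ?_⟩
  · rintro _ ⟨z, -, rfl⟩
    exact z.2
  · rw [eq_bot_iff]
    rintro x ⟨hxW, ⟨z, hzker, rfl⟩⟩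
    rw [Subgroup.mem_bot]
    have h1 := hτpow z hxW.2
    rw [MonoidHom.mem_ker.1 hzker] at h1
    obtain ⟨k, hk⟩ := S.2 ⟨(z : G), hZS z.2⟩
    have hk' : (z : G) ^ p ^ k = 1 := by
      have := congrArg (fun s : ↥(S : Subgroup G) => (s : G)) hk
      simpa using this
    exact (pow_eq_one_iff_of_coprime (Nat.Coprime.pow_right k hm)).1 ⟨h1.symm, hk'⟩
  · apply le_antisymm
    · apply sup_le inf_le_left
      rintro _ ⟨z, -, rfl⟩
      exact z.2
    · intro x hx
      obtain ⟨W, hWdef⟩ : ∃ W : Subgroup G, W = Z ⊓ Subgroup.centralizer (N : Set G) := ⟨_, rfl⟩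
      rw [← hWdef]
      have hWp : IsPGroup p ↥W := S.2.to_le (by rw [hWdef]; exact inf_le_left.trans hZS)
      have htW : ((τ ⟨x, hx⟩ : ↥A) : G) ∈ W := by rw [hWdef]; exact hτW ⟨x, hx⟩
      have hcop : p.Coprime (Fintype.card (↥N ⧸ (S : Subgroup G).subgroupOf N)) := hm.symm
      obtain ⟨w, hw⟩ : ∃ w : ↥W, w ^ Fintype.card (↥N ⧸ (S : Subgroup G).subgroupOf N) =
          ⟨((τ ⟨x, hx⟩ : ↥A) : G), htW⟩ := by
        refine ⟨(hWp.powEquiv hcop).symm ⟨_, htW⟩, ?_⟩
        rw [← IsPGroup.powEquiv_apply hWp hcop, Equiv.apply_symm_apply]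
      have hwW : (w : G) ∈ Z ⊓ Subgroup.centralizer (N : Set G) := by rw [← hWdef]; exact w.2
      have hwpow : (w : G) ^ Fintype.card (↥N ⧸ (S : Subgroup G).subgroupOf N) =
          ((τ ⟨x, hx⟩ : ↥A) : G) := by
        have := congrArg (fun s : ↥W => (s : G)) hw
        simpa using this
      have hker : (⟨x, hx⟩ : ↥Z) * (⟨(w : G), hwW.1⟩ : ↥Z)⁻¹ ∈ τ.ker := by
        rw [MonoidHom.mem_ker, map_mul, map_inv]
        have h2 : τ ⟨(w : G), hwW.1⟩ = τ ⟨x, hx⟩ := by
          apply Subtype.ext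
          rw [hτpow ⟨(w : G), hwW.1⟩ hwW.2]
          exact hwpow
        rw [h2, mul_inv_cancel]
      have hxeq : x = (x * (w : G)⁻¹) * (w : G) := by group
      rw [hxeq, sup_comm]
      refine Subgroup.mul_mem_sup ?_ w.2
      exact ⟨_, hker, rfl⟩

end Cfsg.Agent.Helper10
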