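import Mathlib
import Cfsg.Agent.Helper10.GExtraA

set_option autoImplicit false

/-! Abstract tools for S5178: the `SL₂`-computation with fixed points, and the uniqueness of the
fixed complement of a reflection. -/

namespace Cfsg.Agent.Helper10.XS

open Cfsg.Agent.Helper10.MetaFus Cfsg.Agent.Helper10.GExtra
open scoped commutatorElement

theorem pow_apply_of_fix {V : Type*} [Group V] (f : MulAut V) (t : V) (h : f t = t) (k : ℕ) :
    (f ^ k) t = t := by
  induction k with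
  | zero => simp
  | succ k ih => rw [pow_succ', MulAut.mul_apply, ih, h]

/-- Variant of `GExtra.exists_inverting_comm` recording the fixed points of the inverting element. -/
theorem exists_inverting_fix {V : Type*} [Group V] [Finite V] {p : ℕ} [Fact p.Prime]
    (hcomm : ∀ a b : V, a * b = b * a) (L : Subgroup V) (hL : Nat.card L = p)
    (τ β : MulAut V) (hτL : ∀ y ∈ L, τ y = y) (hτV : ∀ v, τ v * v⁻¹ ∈ L)
    (z : V) (hz : z ∈ L) (hz1 : z ≠ 1) (h1 : τ (β z) ≠ β z) (h2 : τ (β⁻¹ z) ≠ β⁻¹ z) :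
    ∃ k : ℕ, ∃ d ∈ Subgroup.closure ({τ, β} : Set (MulAut V)),
      d z = z⁻¹ ∧ d * τ ^ k = τ ^ k * d ∧ (τ ^ k) (β z) ≠ β z ∧
      ∀ t, τ t = t → τ (β⁻¹ t) = β⁻¹ t → d t = t := by
  have hτform : ∀ t, τ t = t * (τ t * t⁻¹) := fun t => by
    rw [hcomm t, inv_mul_cancel_right]
  set x := β z with hx
  have hx1 : x ≠ 1 := by
    intro h
    apply hz1
    have : β z = β 1 := by rw [map_one]; exact h
    exact β.injective this
  set c := τ x * x⁻¹ with hc
  have hcL : c ∈ L := hτV x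
  have hc1 : c ≠ 1 := fun h => h1 (by rwa [hc, mul_inv_eq_one] at h)
  obtain ⟨k, hk⟩ := exists_pow_eq L hL c z hcL hc1 hz
  set μ := τ ^ k with hμ
  have hμL : ∀ y ∈ L, μ y = y := by
    intro y hy
    exact pow_apply_of_fix τ y (hτL y hy) k
  have hμx : μ x = x * z := by
    rw [hμ, aut_pow_apply τ x c (hτform x) (hτL c hcL) k, hk]
  have hμV : ∀ t, ∃ i : ℕ, μ t = t * z ^ i := by
    intro t
    have heL : τ t * t⁻¹ ∈ L := hτV t
    obtain ⟨j, hj⟩ := exists_pow_eq L hL z _ hz hz1 heL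
    refine ⟨j * k, ?_⟩
    rw [hμ, aut_pow_apply τ t _ (hτform t) (hτL _ heL) k, ← hj, pow_mul]
  -- the second transvection group
  set τ' := β * τ * β⁻¹ with hτ'
  have hτ'app : ∀ t, τ' t = β (τ (β⁻¹ t)) := fun t => by simp [hτ', MulAut.mul_apply]
  set L₂ := L.map β.toMonoidHom with hL₂
  have hL₂card : Nat.card L₂ = p := by
    rw [hL₂, Subgroup.card_map_of_injective β.injective, hL]
  have hxL₂ : x ∈ L₂ := ⟨z, hz, rfl⟩
  have hτ'L₂ : ∀ y ∈ L₂, τ' y = y := by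
    rintro _ ⟨y, hy, rfl⟩
    rw [hτ'app]
    show β (τ (β⁻¹ (β y))) = β y
    rw [MulAut.inv_apply_self, hτL y hy]
  have hτ'V : ∀ t, τ' t * t⁻¹ ∈ L₂ := by
    intro t
    refine ⟨τ (β⁻¹ t) * (β⁻¹ t)⁻¹, hτV _, ?_⟩
    show β (τ (β⁻¹ t) * (β⁻¹ t)⁻¹) = τ' t * t⁻¹
    rw [map_mul, map_inv, MulAut.apply_inv_self, hτ'app]
  have hτ'form : ∀ t, τ' t = t * (τ' t * t⁻¹) := fun t => by
    rw [hcomm t, inv_mul_cancel_right]
  set d₀ := τ' z * z⁻¹ with hd₀
  have hd₀L₂ : d₀ ∈ L₂ := hτ'V z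
  have hd₀1 : d₀ ≠ 1 := by
    intro h
    rw [hd₀, mul_inv_eq_one, hτ'app] at h
    apply h2
    have : β (τ (β⁻¹ z)) = β (β⁻¹ z) := by rw [h, MulAut.apply_inv_self]
    exact β.injective this
  obtain ⟨k', hk'⟩ := exists_pow_eq L₂ hL₂card d₀ x⁻¹ hd₀L₂ hd₀1 (L₂.inv_mem hxL₂)
  set ν := τ' ^ k' with hν
  have hνx : ν x = x := pow_apply_of_fix τ' x (hτ'L₂ x hxL₂) k'
  have hνz : ν z = z * x⁻¹ := by
    rw [hν, aut_pow_apply τ' z d₀ (hτ'form z) (hτ'L₂ d₀ hd₀L₂) k', hk']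
  have hνV : ∀ t, ∃ j : ℕ, ν t = t * x ^ j := by
    intro t
    have heL : τ' t * t⁻¹ ∈ L₂ := hτ'V t
    obtain ⟨j, hj⟩ := exists_pow_eq L₂ hL₂card x _ hxL₂ hx1 heL
    refine ⟨j * k', ?_⟩
    rw [hν, aut_pow_apply τ' t _ (hτ'form t) (hτ'L₂ _ heL) k', ← hj, pow_mul]
  obtain ⟨hdz, hdμ⟩ := inverting_of_normalized hcomm μ ν z x (hμL z hz) hμx hνx hνz hμV hνV
  refine ⟨k, (μ * ν * μ) * (μ * ν * μ), ?_, hdz, hdμ, ?_, ?_⟩
  · have hτm : τ ∈ Subgroup.closure ({τ, β} : Set (MulAut V)) :=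
      Subgroup.subset_closure (by simp)
    have hβm : β ∈ Subgroup.closure ({τ, β} : Set (MulAut V)) :=
      Subgroup.subset_closure (by simp)
    have hμm : μ ∈ Subgroup.closure ({τ, β} : Set (MulAut V)) := Subgroup.pow_mem _ hτm k
    have hτ'm : τ' ∈ Subgroup.closure ({τ, β} : Set (MulAut V)) :=
      Subgroup.mul_mem _ (Subgroup.mul_mem _ hβm hτm) (Subgroup.inv_mem _ hβm)
    have hνm : ν ∈ Subgroup.closure ({τ, β} : Set (MulAut V)) := Subgroup.pow_mem _ hτ'm k'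
    have hwm : μ * ν * μ ∈ Subgroup.closure ({τ, β} : Set (MulAut V)) :=
      Subgroup.mul_mem _ (Subgroup.mul_mem _ hμm hνm) hμm
    exact Subgroup.mul_mem _ hwm hwm
  · rw [hμx]
    intro h
    apply hz1
    have : x * z = x * 1 := by rw [mul_one]; exact h
    exact mul_left_cancel this
  · intro t ht1 ht2
    have hμt : μ t = t := pow_apply_of_fix τ t ht1 k
    have hτ't : τ' t = t := by rw [hτ'app, ht2, MulAut.apply_inv_self]
    have hνt : ν t = t := pow_apply_of_fix τ' t hτ't k'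
    simp only [MulAut.mul_apply, hμt, hνt]

/-- Two "reflections" whose product has order prime to `p` on `c * w` have the same fixed
complement: the `c`-component is trivial. -/
theorem xs_unique {G : Type*} [Group G] {p : ℕ} [Fact p.Prime] (hp2 : p ≠ 2) (a a' : MulAut G)
    (m : ℕ) (hm : m.Coprime p) (c w : G) (hcp : c ^ p = 1)
    (hac : a c = c⁻¹) (ha'c : a' c = c⁻¹) (haw : a w = w) (ha' : a' (c * w) = c * w)
    (hfix : ((a * a') ^ m) (c * w) = c * w) : c = 1 := by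
  have hpp : p.Prime := Fact.out
  set g := a * a' with hg
  have hgc : g c = c := by
    rw [hg, MulAut.mul_apply, ha'c, map_inv, hac, inv_inv]
  have hgy : g (c * w) = c⁻¹ * w := by
    rw [hg, MulAut.mul_apply, ha', map_mul, hac, haw]
  have hpow : ∀ k : ℕ, (g ^ k) (c * w) = (c ^ (2 * k))⁻¹ * (c * w) := by
    intro k
    induction k with
    | zero => simp
    | succ k ih =>
      rw [pow_succ', MulAut.mul_apply, ih, map_mul, map_inv, map_pow, hgc, hgy]
      have : c ^ (2 * (k + 1)) = c ^ (2 * k) * c * c := by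
        rw [show 2 * (k + 1) = 2 * k + 1 + 1 by ring, pow_succ, pow_succ]
      rw [this]
      group
  have h1 := hpow m
  rw [hfix] at h1
  have h2 : c ^ (2 * m) = 1 := by
    have : (c ^ (2 * m))⁻¹ = 1 := by
      have h3 : (c ^ (2 * m))⁻¹ * (c * w) = 1 * (c * w) := by rw [one_mul]; exact h1.symm
      exact mul_right_cancel h3
    rwa [inv_eq_one] at this
  have hcop : Nat.Coprime (2 * m) p := by
    apply Nat.Coprime.mul_left _ hm
    rw [Nat.coprime_comm, hpp.coprime_iff_not_dvd]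
    intro h
    exact hp2 ((Nat.prime_dvd_prime_iff_eq hpp Nat.prime_two).mp h)
  have h3 : orderOf c ∣ 2 * m := orderOf_dvd_of_pow_eq_one h2
  have h4 : orderOf c ∣ p := orderOf_dvd_of_pow_eq_one hcp
  have h5 : orderOf c ∣ Nat.gcd (2 * m) p := Nat.dvd_gcd h3 h4
  rw [hcop.gcd_eq_one, Nat.dvd_one] at h5
  exact orderOf_eq_one_iff.mp h5

end Cfsg.Agent.Helper10.XS
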