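import Mathlib
import Cfsg.Prelude.Def_Transfer
import Cfsg.Agent.Helper25.StabChain
import Cfsg.Agent.Helper10.MetaFusA

set_option autoImplicit false

/-! Abstract pieces for S5178: the product analysis, the four-term chain of two transvections,
and the counting in an elementary abelian group of order `p³`. -/

namespace Cfsg.Agent.Helper10.XS

open Cfsg Cfsg.Agent.Helper25 Cfsg.Agent.Helper10.MetaFus

/-- X2 -/
theorem xs_prod {G : Type*} [Group G] [Finite G] (p : ℕ) [Fact p.Prime]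
    (hZ : Nat.card (Subgroup.center G) = p ^ 2)
    (h : ∃ (E : Type) (_ : Group E) (A : Type) (_ : CommGroup A),
      Cfsg.IsExtraspecial p E ∧ Nat.card E = p ^ 3 ∧ Monoid.exponent E = p ∧
      (∀ a : A, a ^ p = 1) ∧ Nonempty (G ≃* E × A)) :
    Nat.card G = p ^ 4 ∧ ∀ g : G, g ^ p = 1 := by
  have hpp : p.Prime := Fact.out
  obtain ⟨E, instE, A, instA, hext, hEcard, hexp, hAp, ⟨e⟩⟩ := h
  have h1 : Nat.card (Subgroup.center G) = Nat.card (Subgroup.center (E × A)) :=
    Nat.card_congr (Subgroup.centerCongr e).toEquiv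
  have h2 : Nat.card (Subgroup.center (E × A)) = p * Nat.card A := by
    rw [Subgroup.center_prod, Nat.card_congr (Subgroup.prodEquiv _ _).toEquiv, Nat.card_prod,
      hext.2, CommGroup.center_eq_top, Subgroup.card_top]
  have hA : Nat.card A = p := by
    have h3 : p * Nat.card A = p * p := by rw [← h2, ← h1, hZ]; ring
    exact Nat.eq_of_mul_eq_mul_left hpp.pos h3
  constructor
  · rw [Nat.card_congr e.toEquiv, Nat.card_prod, hEcard, hA]
    ring
  · intro g
    apply e.injective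
    rw [map_pow, map_one]
    have h4 : (e g).1 ^ p = 1 := by
      have := Monoid.pow_exponent_eq_one (e g).1
      rwa [hexp] at this
    exact Prod.ext h4 (hAp _)

/-- the four step chain -/
def chainQ {P : Type*} [Group P] (X Y : Subgroup P) : ℕ → Subgroup P
  | 0 => ⊥
  | 1 => X
  | 2 => Y
  | _ => ⊤

theorem chainQ_mono {P : Type*} [Group P] {X Y : Subgroup P} (h : X ≤ Y) :
    Monotone (chainQ X Y) := by
  apply monotone_nat_of_le_succ
  intro n
  match n with
  | 0 => exact bot_le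
  | 1 => exact h
  | 2 => exact le_top
  | (k + 3) => exact le_top

/-- X3 -/
theorem xs_chain {V : Type*} [Group V] [Finite V] {p : ℕ} [Fact p.Prime] (hV : IsPGroup p V)
    (L A : Subgroup V) (hLA : L ≤ A) (τ γ : MulAut V) (hτA : ∀ y ∈ A, τ y = y)
    (hτV : ∀ v, τ v * v⁻¹ ∈ L) (hγ : ∀ z ∈ L, γ z ∈ A) :
    IsPGroup p (Subgroup.closure ({τ, γ * τ * γ⁻¹} : Set (MulAut V))) := by
  set L' : Subgroup V := L.map γ.toMonoidHom with hL'
  have hL'A : L' ≤ A := by
    rintro _ ⟨z, hz, rfl⟩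
    exact hγ z hz
  have hmono := chainQ_mono hL'A
  have h0 : chainQ L' A 0 = ⊥ := rfl
  have h3 : chainQ L' A 3 = ⊤ := rfl
  have hst : ∀ α : MulAut V, (∀ y ∈ L', α y = y) → (∀ y ∈ A, α y * y⁻¹ ∈ L') →
      (∀ v, α v * v⁻¹ ∈ A) → StabilizesChain (chainQ L' A) α := by
    intro α a1 a2 a3 i x hx
    match i with
    | 0 =>
      show α x * x⁻¹ ∈ (⊥ : Subgroup V)
      have hx' : x ∈ L' := hx
      rw [a1 x hx', mul_inv_cancel]
      exact Subgroup.one_mem _
    | 1 => exact a2 x hx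
    | 2 => exact a3 x
    | (k + 3) => exact Subgroup.mem_top _
  have hτs : StabilizesChain (chainQ L' A) τ :=
    hst τ (fun y hy => hτA y (hL'A hy))
      (fun y hy => by rw [hτA y hy, mul_inv_cancel]; exact Subgroup.one_mem _)
      (fun v => hLA (hτV v))
  have hform : ∀ v, (γ * τ * γ⁻¹) v * v⁻¹ ∈ L' := by
    intro v
    refine ⟨τ (γ⁻¹ v) * (γ⁻¹ v)⁻¹, hτV _, ?_⟩
    show γ (τ (γ⁻¹ v) * (γ⁻¹ v)⁻¹) = γ (τ (γ⁻¹ v)) * v⁻¹
    rw [map_mul, map_inv, MulAut.apply_inv_self]
  have hτ's : StabilizesChain (chainQ L' A) (γ * τ * γ⁻¹) := by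
    apply hst
    · rintro _ ⟨z, hz, rfl⟩
      show γ (τ (γ⁻¹ (γ z))) = γ z
      rw [MulAut.inv_apply_self, hτA z (hLA hz)]
    · intro y _
      exact hform y
    · intro v
      exact hL'A (hform v)
  have hle : Subgroup.closure ({τ, γ * τ * γ⁻¹} : Set (MulAut V)) ≤
      chainStabilizer hV (chainQ L' A) h0 hmono h3 := by
    rw [Subgroup.closure_le]
    rintro x (rfl | rfl)
    · exact hτs
    · exact hτ's
  exact (chainStabilizer_isPGroup hV _ h0 hmono h3).to_le hle

/-- X4 -/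
theorem xs_count {V : Type*} [Group V] [Finite V] {p : ℕ} [Fact p.Prime]
    (hcomm : ∀ a b : V, a * b = b * a) (hV : Nat.card V = p ^ 3)
    (L A : Subgroup V) (hLA : L ≤ A) (hL : Nat.card L = p) (hA : Nat.card A = p ^ 2)
    (γ : MulAut V) (z : V) (hz : z ∈ L) (hz1 : z ≠ 1) (hγz : γ⁻¹ z ∉ A) :
    ∀ x ∈ A, ∃ c ∈ L, ∃ w ∈ A, γ⁻¹ w ∈ A ∧ x = c * w := by
  have hpp : p.Prime := Fact.out
  set A' : Subgroup V := A.map γ.toMonoidHom with hA'
  have hA'card : Nat.card A' = p ^ 2 := by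
    rw [hA', Subgroup.card_map_of_injective γ.injective, hA]
  have hmemA' : ∀ w, w ∈ A' → γ⁻¹ w ∈ A := by
    rintro _ ⟨a, ha, rfl⟩
    show γ⁻¹ (γ a) ∈ A
    rw [MulAut.inv_apply_self]
    exact ha
  set B : Subgroup V := A ⊓ A' with hB
  have hidxA : A.index = p := by
    have h1 := Subgroup.card_mul_index A
    rw [hA, hV] at h1
    have h2 : p ^ 2 * A.index = p ^ 2 * p := by rw [h1]; ring
    exact Nat.eq_of_mul_eq_mul_left (pow_pos hpp.pos 2) h2
  have hidxA' : A'.index = p := by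
    have h1 := Subgroup.card_mul_index A'
    rw [hA'card, hV] at h1
    have h2 : p ^ 2 * A'.index = p ^ 2 * p := by rw [h1]; ring
    exact Nat.eq_of_mul_eq_mul_left (pow_pos hpp.pos 2) h2
  have hidxB : B.index ≤ p * p := by
    have := Subgroup.relIndex_inf_le (H := A) (K := A') (L := ⊤)
    simp only [Subgroup.relIndex_top_right] at this
    rwa [hidxA, hidxA'] at this
  have hBcard : p ≤ Nat.card B := by
    have h1 := Subgroup.card_mul_index B
    rw [hV] at h1
    by_contra hlt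
    push Not at hlt
    have h2 : Nat.card B * B.index < p * (p * p) :=
      Nat.mul_lt_mul_of_lt_of_le hlt hidxB (Nat.mul_pos hpp.pos hpp.pos)
    have h3 : p * (p * p) = p ^ 3 := by ring
    omega
  have hLB : ∀ x ∈ L, x ∈ B → x = 1 := by
    intro x hxL hxB
    by_contra hx1
    obtain ⟨k, hk⟩ := exists_pow_eq L hL x z hxL hx1 hz
    apply hγz
    apply hmemA'
    rw [← hk]
    exact A'.pow_mem hxB.2 k
  let f : L × B → A := fun cw => ⟨(cw.1 : V) * (cw.2 : V), A.mul_mem (hLA cw.1.2) cw.2.2.1⟩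
  have hinj : Function.Injective f := by
    rintro ⟨c, w⟩ ⟨c', w'⟩ h
    have h1 : (c : V) * (w : V) = (c' : V) * (w' : V) := congrArg Subtype.val h
    have h2 : (c' : V)⁻¹ * (c : V) = (w' : V) * (w : V)⁻¹ := by
      have : (c' : V)⁻¹ * ((c : V) * (w : V)) * (w : V)⁻¹ =
          (c' : V)⁻¹ * ((c' : V) * (w' : V)) * (w : V)⁻¹ := by rw [h1]
      simpa [mul_assoc] using this
    have h3 : (c' : V)⁻¹ * (c : V) = 1 := by
      apply hLB _ (L.mul_mem (L.inv_mem c'.2) c.2)
      rw [h2]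
      exact B.mul_mem w'.2 (B.inv_mem w.2)
    have hc : (c : V) = (c' : V) := by
      have := inv_mul_eq_one.mp h3
      exact this.symm
    have hw : (w : V) = (w' : V) := by
      rw [hc] at h1
      exact mul_left_cancel h1
    exact Prod.ext (Subtype.ext hc) (Subtype.ext hw)
  have hcardle : Nat.card A ≤ Nat.card (L × B) := by
    rw [Nat.card_prod, hL, hA, pow_two]
    exact Nat.mul_le_mul_left p hBcard
  have hbij := Function.Injective.bijective_of_nat_card_le hinj hcardle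
  intro x hx
  obtain ⟨⟨c, w⟩, hcw⟩ := hbij.2 ⟨x, hx⟩
  refine ⟨c, c.2, w, w.2.1, hmemA' _ w.2.2, ?_⟩
  exact (congrArg Subtype.val hcw).symm

end Cfsg.Agent.Helper10.XS
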