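import Mathlib
import Cfsg.Agent.Helper26.OL6
import Cfsg.Agent.Helper26.FusionInner

set_option autoImplicit false

/-! Fusion pieces for S5178: `Out_F(S)` is a `p'`-group, `Aut_S(R)` is a maximal `p`-subgroup of
`Aut_F(R)` for fully normalized `R`, and extension of normalizing automorphisms from a subgroup of
index `p` to `S`. -/

namespace Cfsg.Agent.Helper10.XS

open Cfsg Cfsg.FusionSystem Cfsg.Agent.Helper25
open scoped commutatorElement

variable {Ω : Type*} [Group Ω] {S : Subgroup Ω}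

/-- X7 -/
theorem xs_sylow_max [Finite S] (p : ℕ) [Fact p.Prime] (hS : IsPGroup p S)
    (F : FusionSystem S) (hF : F.IsSaturated p) {R : Subgroup Ω} (hFN : F.IsFullyNormalized R)
    (K : Subgroup (MulAut ↥R)) (hK : K ≤ F.autGroup R) (hKp : IsPGroup p K)
    (hTK : autInducedBy S R ≤ K) : K = autInducedBy S R := by
  obtain ⟨-, -, Rs, hRs⟩ := Cfsg.Agent.S5077.sylow_axiom p hS F hF R hFN
  have hK'p : IsPGroup p (K.subgroupOf (F.autGroup R)) := hKp.comap_subtype
  have hle : (Rs : Subgroup (F.autGroup R)) ≤ K.subgroupOf (F.autGroup R) := by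
    rw [hRs]
    intro x hx
    exact hTK hx
  have heq := Rs.is_maximal' hK'p hle
  apply le_antisymm _ hTK
  intro k hk
  have h1 : (⟨k, hK hk⟩ : F.autGroup R) ∈ K.subgroupOf (F.autGroup R) := hk
  rw [heq, hRs] at h1
  exact h1

/-- X6 -/
theorem xs_coprime_power [Finite S] (p : ℕ) [Fact p.Prime] (hS : IsPGroup p S)
    (F : FusionSystem S) (hF : F.IsSaturated p) :
    ∃ m : ℕ, m.Coprime p ∧ ∀ γ ∈ F.autGroup S, ∀ x : S,
      (x : Ω) ∈ Subgroup.centralizer (S : Set Ω) → (γ ^ m) x = x := by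
  have hpp : p.Prime := Fact.out
  have hFN := Cfsg.Agent.Helper26.top_isFullyNormalized F
  obtain ⟨-, -, Rs, hRs⟩ := Cfsg.Agent.S5077.sylow_axiom p hS F hF S hFN
  have hfinM : Finite (MulAut S) :=
    Finite.of_injective (fun φ : MulAut S => (φ : S → S)) (fun a b h => MulEquiv.ext (congrFun h))
  set I : Subgroup (F.autGroup S) := (autInducedBy S S).subgroupOf (F.autGroup S) with hI
  have hInorm : I.Normal := by
    constructor
    intro n hn g
    have hn' : (n : MulAut S) ∈ autInducedBy S S := hn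
    show ((g * n * g⁻¹ : F.autGroup S) : MulAut S) ∈ autInducedBy S S
    obtain ⟨s, hs, hsn⟩ := (mem_autInducedBy_iff S S _).mp hn'
    apply (mem_autInducedBy_iff S S _).mpr
    refine ⟨(((g : MulAut S) ⟨s, hs⟩ : S) : Ω), ((g : MulAut S) ⟨s, hs⟩).2, fun x => ?_⟩
    have h1 : (n : MulAut S) ((g : MulAut S)⁻¹ x) =
        ⟨s, hs⟩ * ((g : MulAut S)⁻¹ x) * (⟨s, hs⟩ : S)⁻¹ := Subtype.ext (hsn _)
    show (((g : MulAut S) ((n : MulAut S) ((g : MulAut S)⁻¹ x)) : S) : Ω) = _
    rw [h1, map_mul, map_mul, map_inv, MulAut.apply_inv_self]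
    rfl
  have hidx : ¬ p ∣ I.index := by
    rw [← hRs]
    exact Rs.not_dvd_index
  refine ⟨I.index, ?_, ?_⟩
  · rw [Nat.coprime_comm]
    exact (Nat.Prime.coprime_iff_not_dvd hpp).mpr hidx
  · intro γ hγ x hx
    have h1 : (⟨γ, hγ⟩ : F.autGroup S) ^ I.index ∈ I := Subgroup.pow_index_mem I _
    have h2 : γ ^ I.index ∈ autInducedBy S S := h1
    obtain ⟨s, hs, hsn⟩ := (mem_autInducedBy_iff S S _).mp h2
    apply Subtype.ext
    rw [hsn x]
    have := (Subgroup.mem_centralizer_iff.mp hx) s hs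
    rw [this, mul_inv_cancel_right]

/-- X8 -/
theorem xs_extend [Finite S] (p : ℕ) [Fact p.Prime] (hS : IsPGroup p S)
    (F : FusionSystem S) (hF : F.IsSaturated p) {R : Subgroup Ω}
    (hFN : F.IsFullyNormalized R) (hidx : Nat.card S = p * Nat.card R)
    {n : MulAut ↥R} (hn : n ∈ F.autGroup R)
    (hnorm : ∀ t ∈ autInducedBy S R, n * t * n⁻¹ ∈ autInducedBy S R) :
    ∃ α ∈ F.autGroup S, ∀ (y : Ω) (hyR : y ∈ R),
      ((α ⟨y, hFN.1 hyR⟩ : S) : Ω) = ((n ⟨y, hyR⟩ : R) : Ω) := by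
  have hpp : p.Prime := Fact.out
  have hRS : R ≤ S := hFN.1
  have hfinR : Finite R := finite_of_le hRS
  have hRne : R ≠ S := by
    intro h
    rw [h] at hidx
    have hpos : 0 < Nat.card S := Nat.card_pos
    have h1 : 1 * Nat.card S = p * Nat.card S := by rw [one_mul]; exact hidx
    have h2 := Nat.eq_of_mul_eq_mul_right hpos h1
    exact hpp.one_lt.ne h2
  obtain ⟨Q, hRQ, hQS, hlt, ψ, hψ, hψn⟩ :=
    Cfsg.Agent.Helper26.OL.exists_extension_of_normalizing p hS F hF hFN hRne hn hnorm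
  have hfinQ : Finite Q := finite_of_le hQS
  -- `Q = S`
  have hQeq : Q = S := by
    have h1 : Nat.card R ∣ Nat.card Q := Subgroup.card_dvd_of_le hRQ
    have h2 : Nat.card Q ∣ Nat.card S := Subgroup.card_dvd_of_le hQS
    obtain ⟨a, ha⟩ := h1
    obtain ⟨b, hb⟩ := h2
    have hRpos : 0 < Nat.card R := Nat.card_pos
    have h3 : Nat.card R * (a * b) = Nat.card R * p := by
      rw [← mul_assoc, ← ha, ← hb, hidx, mul_comm]
    have h4 : a * b = p := Nat.eq_of_mul_eq_mul_left hRpos h3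
    have ha1 : a ≠ 1 := by
      rintro rfl
      rw [mul_one] at ha
      omega
    have hap : a = p := by
      have hdvd : a ∣ p := ⟨b, h4.symm⟩
      rcases (Nat.dvd_prime hpp).mp hdvd with h | h
      · exact absurd h ha1
      · exact h
    have hcard : Nat.card Q = Nat.card S := by rw [ha, hap, hidx, mul_comm]
    exact Subgroup.eq_of_le_of_card_ge hQS hcard.ge
  subst hQeq
  have hinj : Function.Injective ψ := F.injective_of_mem hψ
  have hrange : ψ.range = Q := by
    apply Subgroup.eq_of_le_of_card_ge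
    · rintro _ ⟨x, rfl⟩
      exact (F.le_of_mem hψ).2 x
    · rw [Nat.card_congr (MonoidHom.ofInjective hinj).toEquiv.symm]
  set α : MulAut Q := isoOfHom ψ hinj hrange with hα
  refine ⟨α, ?_, ?_⟩
  · rw [mem_autGroup_iff F le_rfl]
    have e : autHom α = ψ := by
      ext x
      rfl
    rw [e]
    exact hψ
  · intro y hyR
    show ψ ⟨y, hRS hyR⟩ = _
    exact hψn y hyR (hRS hyR)

end Cfsg.Agent.Helper10.XS
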