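import Mathlib
import Cfsg.Agent.Helper25.OliverB
import Cfsg.Agent.Helper25.FusionNormal

set_option autoImplicit false

/-! Pieces for S5178: essential subgroups of a group of order `p⁴` with centre of order `p²`, and the
conjugation by an element outside an abelian maximal subgroup. -/

namespace Cfsg.Agent.Helper10.XS

open Cfsg Cfsg.FusionSystem Cfsg.Agent.Helper25
open scoped commutatorElement

variable {Ω : Type*} [Group Ω] {S : Subgroup Ω}

/-- A subgroup strictly between (in cardinality) `R` and `S`, where `|S| = p |R|`, is `S`. -/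
theorem eq_of_card_lt_of_index_prime [Finite S] {p : ℕ} [Fact p.Prime] {R Q : Subgroup Ω}
    (hRQ : R ≤ Q) (hQS : Q ≤ S) (hidx : Nat.card S = p * Nat.card R)
    (hlt : Nat.card R < Nat.card Q) : Q = S := by
  have hpp : p.Prime := Fact.out
  have hfinQ : Finite Q := finite_of_le hQS
  have hfinR : Finite R := finite_of_le (hRQ.trans hQS)
  have h1 : Nat.card R ∣ Nat.card Q := Subgroup.card_dvd_of_le hRQ
  have h2 : Nat.card Q ∣ Nat.card S := Subgroup.card_dvd_of_le hQS
  obtain ⟨a, ha⟩ := h1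
  obtain ⟨b, hb⟩ := h2
  have hRpos : 0 < Nat.card R := Nat.card_pos
  have h3 : Nat.card R * (a * b) = Nat.card R * p := by
    rw [← mul_assoc, ← ha, ← hb, hidx, mul_comm]
  have h4 : a * b = p := Nat.eq_of_mul_eq_mul_left hRpos h3
  have ha1 : a ≠ 1 := by
    rintro rfl
    rw [mul_one] at ha
    omega
  have hap : a = p := by
    have hdvd : a ∣ p := ⟨b, h4.symm⟩
    rcases (Nat.dvd_prime hpp).mp hdvd with h | h
    · exact absurd h ha1
    · exact h
  have hcard : Nat.card Q = Nat.card S := by rw [ha, hap, hidx, mul_comm]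
  exact Subgroup.eq_of_le_of_card_ge hQS hcard.ge

/-- X9 -/
theorem xs_essential [Finite S] (p : ℕ) [Fact p.Prime] (hS : IsPGroup p S)
    (F : FusionSystem S) (hF : F.IsSaturated p)
    (hcard : Nat.card S = p ^ 4) (hZ : Nat.card ↥(centralizerIn S S) = p ^ 2)
    {E : Subgroup Ω} (hE : F.IsEssential p E) :
    centralizerIn S S ≤ E ∧ Nat.card E = p ^ 3 ∧ (∀ a ∈ E, ∀ b ∈ E, a * b = b * a) ∧
      S ≤ Subgroup.normalizer (E : Set Ω) ∧ ∃ s ∈ S, s ∉ E := by
  have hpp : p.Prime := Fact.out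
  have hES : E ≤ S := hE.1.1
  have hC : centralizerIn S E ≤ E := hE.1.2 E (isConj_refl F hES)
  have hZE : centralizerIn S S ≤ E := by
    intro z hz
    apply hC
    exact ⟨hz.1, Subgroup.centralizer_le hES hz.2⟩
  have hEne : E ≠ S := Oliver.ne_of_isEssential p hS F hF hE
  have hfinE : Finite E := finite_of_le hES
  have hfinZ : Finite ↥(centralizerIn S S) := finite_of_le inf_le_left
  obtain ⟨k, hk⟩ := IsPGroup.iff_card.mp (isPGroup_of_le hS hES)
  have hk4 : k ≤ 4 := by
    have h1 : Nat.card E ∣ Nat.card S := Subgroup.card_dvd_of_le hES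
    rw [hk, hcard] at h1
    exact (Nat.pow_dvd_pow_iff_le_right hpp.one_lt).mp h1
  have hk2 : 2 ≤ k := by
    have h1 : Nat.card ↥(centralizerIn S S) ∣ Nat.card E := Subgroup.card_dvd_of_le hZE
    rw [hk, hZ] at h1
    exact (Nat.pow_dvd_pow_iff_le_right hpp.one_lt).mp h1
  have hkne4 : k ≠ 4 := by
    rintro rfl
    apply hEne
    exact Subgroup.eq_of_le_of_card_ge hES (by rw [hk, hcard])
  have hkne2 : k ≠ 2 := by
    rintro rfl
    have heq : centralizerIn S S = E := Subgroup.eq_of_le_of_card_ge hZE (by rw [hk, hZ])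
    apply hEne
    apply le_antisymm hES
    intro g hg
    apply hC
    refine ⟨hg, ?_⟩
    show g ∈ Subgroup.centralizer (E : Set Ω)
    rw [Subgroup.mem_centralizer_iff]
    intro e he
    have he' : e ∈ centralizerIn S S := heq ▸ he
    have := (Subgroup.mem_centralizer_iff.mp he'.2) g hg
    exact this.symm
  have hk3 : k = 3 := by omega
  subst hk3
  refine ⟨hZE, hk, ?_, ?_, ?_⟩
  · -- abelian
    set Z' : Subgroup E := (centralizerIn S S).subgroupOf E with hZ'
    have hZ'cen : Z' ≤ Subgroup.center E := by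
      intro z hz
      rw [Subgroup.mem_center_iff]
      intro g
      apply Subtype.ext
      have hz' : (z : Ω) ∈ centralizerIn S S := hz
      exact (Subgroup.mem_centralizer_iff.mp hz'.2) g (hES g.2)
    have hZ'n : Z'.Normal := by
      constructor
      intro n hn g
      have := Subgroup.mem_center_iff.mp (hZ'cen hn) g
      have e : g * n * g⁻¹ = n := by rw [this, mul_inv_cancel_right]
      rw [e]
      exact hn
    have hZ'card : Nat.card Z' = p ^ 2 := by
      rw [hZ', Nat.card_congr (Subgroup.subgroupOfEquivOfLe hZE).toEquiv, hZ]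
    have hidx : Z'.index = p := by
      have h1 := Subgroup.card_mul_index Z'
      rw [hZ'card, hk] at h1
      have h2 : p ^ 2 * Z'.index = p ^ 2 * p := by rw [h1]; ring
      exact Nat.eq_of_mul_eq_mul_left (pow_pos hpp.pos 2) h2
    have hqcard : Nat.card (E ⧸ Z') = p := by rw [← Subgroup.index_eq_card, hidx]
    have hcyc : IsCyclic (E ⧸ Z') := isCyclic_of_prime_card hqcard
    have hker : (QuotientGroup.mk' Z').ker ≤ Subgroup.center E := by
      rw [QuotientGroup.ker_mk']
      exact hZ'cen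
    intro a ha b hb
    have := (MonoidHom.isMulCommutative_of_isCyclic_of_ker_le_center (QuotientGroup.mk' Z')
      hker).is_comm.comm ⟨a, ha⟩ ⟨b, hb⟩
    exact congrArg Subtype.val this
  · -- normal
    rw [← Subgroup.normal_subgroupOf_iff_le_normalizer hES]
    apply Subgroup.normal_of_index_eq_minFac_card
    have hcardES : Nat.card (E.subgroupOf S) = p ^ 3 := by
      rw [Nat.card_congr (Subgroup.subgroupOfEquivOfLe hES).toEquiv, hk]
    have h1 := Subgroup.card_mul_index (E.subgroupOf S)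
    rw [hcardES, hcard] at h1
    have h2 : p ^ 3 * (E.subgroupOf S).index = p ^ 3 * p := by rw [h1]; ring
    rw [Nat.eq_of_mul_eq_mul_left (pow_pos hpp.pos 3) h2, hcard,
      Nat.pow_minFac (by norm_num), hpp.minFac_eq]
  · exact SetLike.exists_of_lt (lt_of_le_of_ne hES hEne)

/-- X10 -/
theorem xs_tau [Finite S] (p : ℕ) [Fact p.Prime] (hS : IsPGroup p S)
    (hcard : Nat.card S = p ^ 4) {E : Subgroup Ω} (hES : E ≤ S) (hcardE : Nat.card E = p ^ 3)
    (hab : ∀ a ∈ E, ∀ b ∈ E, a * b = b * a)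
    (hN : S ≤ Subgroup.normalizer (E : Set Ω)) (s : Ω) (hs : s ∈ S) (hsE : s ∉ E) :
    (∀ y : E, (y : Ω) ∈ centralizerIn S S → E.normalizerMonoidHom ⟨s, hN hs⟩ y = y) ∧
    (∀ v : E, ((E.normalizerMonoidHom ⟨s, hN hs⟩ v * v⁻¹ : E) : Ω) ∈ ⁅S, S⁆) ∧
    (∀ v : E, E.normalizerMonoidHom ⟨s, hN hs⟩ v = v → (v : Ω) ∈ centralizerIn S S) ∧
    (∀ t ∈ autInducedBy S E, ∃ k : ℕ, t = (E.normalizerMonoidHom ⟨s, hN hs⟩) ^ k) := by
  have hpp : p.Prime := Fact.out
  have hfinE : Finite E := finite_of_le hES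
  -- every element of `S` is `e * s ^ k`
  have hdecomp : ∀ g ∈ S, ∃ e ∈ E, ∃ k : ℕ, g = e * s ^ k := by
    have hzN : Subgroup.zpowers s ≤ Subgroup.normalizer (E : Set Ω) :=
      Subgroup.zpowers_le.mpr (hN hs)
    have hsupS : E ⊔ Subgroup.zpowers s ≤ S := sup_le hES (Subgroup.zpowers_le.mpr hs)
    have hlt : Nat.card E < Nat.card ↥(E ⊔ Subgroup.zpowers s) := by
      have hfin : Finite ↥(E ⊔ Subgroup.zpowers s) := finite_of_le hsupS
      have hlt' : E < E ⊔ Subgroup.zpowers s := by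
        apply lt_of_le_of_ne le_sup_left
        intro h
        apply hsE
        rw [h]
        exact le_sup_right (a := E) (Subgroup.mem_zpowers s)
      by_contra hnot
      push Not at hnot
      have := Subgroup.eq_of_le_of_card_ge (le_sup_left : E ≤ E ⊔ Subgroup.zpowers s) hnot
      exact hlt'.ne this
    have hidx : Nat.card S = p * Nat.card E := by rw [hcard, hcardE]; ring
    have hsup : E ⊔ Subgroup.zpowers s = S :=
      eq_of_card_lt_of_index_prime le_sup_left hsupS hidx hlt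
    have hset := Subgroup.coe_mul_of_right_le_normalizer_left E (Subgroup.zpowers s) hzN
    have hsfin : IsOfFinOrder s := by
      rw [isOfFinOrder_iff_pow_eq_one]
      refine ⟨Nat.card S, Nat.card_pos, ?_⟩
      have h := pow_card_eq_one' (G := S) (x := ⟨s, hs⟩)
      have h2 := congrArg Subtype.val h
      rw [Subgroup.coe_pow] at h2
      exact h2
    intro g hg
    have hg' : g ∈ ((E ⊔ Subgroup.zpowers s : Subgroup Ω) : Set Ω) := by
      rw [hsup]; exact hg
    rw [hset] at hg'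
    obtain ⟨e, he, y, hy, rfl⟩ := Set.mem_mul.mp hg'
    have hy' : y ∈ Submonoid.powers s := hsfin.mem_powers_iff_mem_zpowers.mpr hy
    obtain ⟨k, rfl⟩ := hy'
    exact ⟨e, he, k, rfl⟩
  set τ : MulAut E := E.normalizerMonoidHom ⟨s, hN hs⟩ with hτ
  have hτval : ∀ v : E, ((τ v : E) : Ω) = s * (v : Ω) * s⁻¹ := fun v => rfl
  have hpowval : ∀ (k : ℕ) (v : E), (((τ ^ k) v : E) : Ω) = s ^ k * (v : Ω) * (s ^ k)⁻¹ := by
    intro k v
    have e : τ ^ k = E.normalizerMonoidHom (⟨s, hN hs⟩ ^ k) := (map_pow _ _ _).symm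
    rw [e]
    rfl
  refine ⟨?_, ?_, ?_, ?_⟩
  · intro y hy
    apply Subtype.ext
    rw [hτval]
    have := (Subgroup.mem_centralizer_iff.mp hy.2) s hs
    rw [this, mul_inv_cancel_right]
  · intro v
    show ((τ v : E) : Ω) * ((v : Ω))⁻¹ ∈ ⁅S, S⁆
    rw [hτval]
    have := Subgroup.commutator_mem_commutator hs (hES v.2)
    rwa [commutatorElement_def] at this
  · intro v hv
    have hsv : s * (v : Ω) = (v : Ω) * s := by
      have h1 : s * (v : Ω) * s⁻¹ = (v : Ω) := by rw [← hτval, hv]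
      calc s * (v : Ω) = s * (v : Ω) * s⁻¹ * s := by group
        _ = (v : Ω) * s := by rw [h1]
    refine ⟨hES v.2, ?_⟩
    show (v : Ω) ∈ Subgroup.centralizer (S : Set Ω)
    rw [Subgroup.mem_centralizer_iff]
    intro g hg
    obtain ⟨e, he, k, rfl⟩ := hdecomp g hg
    have h1 : Commute s (v : Ω) := hsv
    have h2 : Commute e (v : Ω) := hab e he v v.2
    exact (h2.mul_left (h1.pow_left k)).eq
  · intro t ht
    obtain ⟨g, hg, hgt⟩ := (mem_autInducedBy_iff S E t).mp ht
    obtain ⟨e, he, k, rfl⟩ := hdecomp g hg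
    refine ⟨k, ?_⟩
    apply MulEquiv.ext
    intro x
    apply Subtype.ext
    rw [hgt x, hpowval k x]
    have hmem : s ^ k * (x : Ω) * (s ^ k)⁻¹ ∈ E := by
      rw [← hpowval k x]
      exact ((τ ^ k) x).2
    have h2 : Commute e (s ^ k * (x : Ω) * (s ^ k)⁻¹) := hab e he _ hmem
    calc e * s ^ k * (x : Ω) * (e * s ^ k)⁻¹
        = e * (s ^ k * (x : Ω) * (s ^ k)⁻¹) * e⁻¹ := by group
      _ = s ^ k * (x : Ω) * (s ^ k)⁻¹ := by rw [h2.eq, mul_inv_cancel_right]

end Cfsg.Agent.Helper10.XS
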