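import Mathlib
import Cfsg.Prelude.Def_Transfer
import Cfsg.Agent.Helper1.PGroup
import Cfsg.Agent.Helper14.Frattini
import Cfsg.Agent.Helper10.GExtraA
import Cfsg.Agent.Helper10.XSG

set_option autoImplicit false

/-! Piece X1 for S5178: a `p`-group `S` with an extraspecial subgroup `Q` of index `p`. Either
`Z(S) = Z(Q)`, or `S = Q Z(S)` with `Φ(S) = [S, S]` of order `p` and `|Z(S)| = p²`. -/

namespace Cfsg.Agent.Helper10.XS

open Cfsg Cfsg.Agent.Helper25
open scoped commutatorElement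

variable {Ω : Type*} [Group Ω] {S : Subgroup Ω}

theorem comm_mul_left_of_comm {G : Type*} [Group G] (a z c : G) (h : z * c = c * z) :
    ⁅a * z, c⁆ = ⁅a, c⁆ := by
  rw [commutatorElement_def, commutatorElement_def]
  calc a * z * c * (a * z)⁻¹ * c⁻¹ = a * (z * c) * z⁻¹ * a⁻¹ * c⁻¹ := by group
    _ = a * (c * z) * z⁻¹ * a⁻¹ * c⁻¹ := by rw [h]
    _ = a * c * a⁻¹ * c⁻¹ := by group

theorem comm_mul_right_of_comm {G : Type*} [Group G] (a c z : G) (h : a * z = z * a) :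
    ⁅a, c * z⁆ = ⁅a, c⁆ := by
  rw [commutatorElement_def, commutatorElement_def]
  have h' : z * a⁻¹ = a⁻¹ * z := by
    calc z * a⁻¹ = a⁻¹ * (a * z) * a⁻¹ := by group
      _ = a⁻¹ * (z * a) * a⁻¹ := by rw [h]
      _ = a⁻¹ * z := by group
  calc a * (c * z) * a⁻¹ * (c * z)⁻¹ = a * c * (z * a⁻¹) * z⁻¹ * c⁻¹ := by group
    _ = a * c * (a⁻¹ * z) * z⁻¹ * c⁻¹ := by rw [h']
    _ = a * c * a⁻¹ * c⁻¹ := by group

/-- X1 -/
theorem xs_basic [Finite S] (p : ℕ) [Fact p.Prime]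
    (hS : IsPGroup p S) (Q : Subgroup Ω) (hQS : Q ≤ S) (hQ : Cfsg.IsExtraspecial p ↥Q)
    (hQi : (Q.subgroupOf S).index = p) :
    Q ⊓ Subgroup.centralizer (Q : Set Ω) ≤ S ⊓ Subgroup.centralizer (S : Set Ω) ∧
    (S ⊓ Subgroup.centralizer (S : Set Ω) ≤ Q →
      S ⊓ Subgroup.centralizer (S : Set Ω) = Q ⊓ Subgroup.centralizer (Q : Set Ω)) ∧
    (¬ S ⊓ Subgroup.centralizer (S : Set Ω) ≤ Q →
      frattini ↥S = commutator ↥S ∧ Nat.card ↥(commutator ↥S) = p ∧
      Nat.card ↥(S ⊓ Subgroup.centralizer (S : Set Ω)) = p ^ 2 ∧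
      ⁅S, S⁆ ≤ S ⊓ Subgroup.centralizer (S : Set Ω)) := by
  have hpp : p.Prime := Fact.out
  have hfinQ : Finite Q := finite_of_le hQS
  obtain ⟨⟨hQp, hfrat, hcomm⟩, hZcard⟩ := hQ
  set Zq : Subgroup Ω := Q ⊓ Subgroup.centralizer (Q : Set Ω) with hZq
  set Zs : Subgroup Ω := S ⊓ Subgroup.centralizer (S : Set Ω) with hZs
  have hmapZ : (Subgroup.center ↥Q).map Q.subtype = Zq := by
    ext y
    constructor
    · rintro ⟨x, hx, rfl⟩
      refine ⟨x.2, ?_⟩
      show (x : Ω) ∈ Subgroup.centralizer (Q : Set Ω)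
      rw [Subgroup.mem_centralizer_iff]
      intro g hg
      have := Subgroup.mem_center_iff.mp hx ⟨g, hg⟩
      exact congrArg Subtype.val this
    · rintro ⟨hyQ, hyC⟩
      refine ⟨⟨y, hyQ⟩, ?_, rfl⟩
      show (⟨y, hyQ⟩ : Q) ∈ Subgroup.center ↥Q
      rw [Subgroup.mem_center_iff]
      intro g
      apply Subtype.ext
      have hyC' : y ∈ Subgroup.centralizer (Q : Set Ω) := hyC
      exact (Subgroup.mem_centralizer_iff.mp hyC') g g.2
  have hZqcard : Nat.card Zq = p := by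
    rw [← hmapZ, Subgroup.card_map_of_injective Q.subtype_injective, hZcard]
  have he2 : ∀ a ∈ Q, ∀ b ∈ Q, ⁅a, b⁆ ∈ Zq := by
    intro a ha b hb
    have h1 : (⁅(⟨a, ha⟩ : Q), ⟨b, hb⟩⁆ : Q) ∈ Subgroup.center ↥Q := by
      rw [← hcomm, commutator_def]
      exact Subgroup.commutator_mem_commutator (Subgroup.mem_top _) (Subgroup.mem_top _)
    rw [← hmapZ]
    exact ⟨_, h1, rfl⟩
  have he3 : ∀ a ∈ Q, a ^ p ∈ Zq := by
    intro a ha
    have h1 : (⟨a, ha⟩ : Q) ^ p ∈ Subgroup.center ↥Q := by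
      rw [← hfrat]
      exact Cfsg.Agent.Helper1.IsPGroup.pow_mem_frattini hQp _
    rw [← hmapZ]
    exact ⟨_, h1, by rw [Subgroup.coe_subtype, Subgroup.coe_pow]⟩
  have he4 : Zq ≤ ⁅Q, Q⁆ := by
    rw [← hmapZ, ← hcomm, Subgroup.map_subtype_commutator]
  -- cardinalities and normality of `Q`
  have hcardS : Nat.card (Q.subgroupOf S) * p = Nat.card S := by
    rw [← hQi]; exact Subgroup.card_mul_index _
  have hcardQ : Nat.card (Q.subgroupOf S) = Nat.card Q :=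
    Nat.card_congr (Subgroup.subgroupOfEquivOfLe hQS).toEquiv
  have hidx : Nat.card S = p * Nat.card Q := by rw [← hcardS, hcardQ, mul_comm]
  have hSNQ : S ≤ Subgroup.normalizer (Q : Set Ω) := by
    rw [← Subgroup.normal_subgroupOf_iff_le_normalizer hQS]
    apply Subgroup.normal_of_index_eq_minFac_card
    obtain ⟨k, hk⟩ := IsPGroup.iff_card.mp hS
    have hk0 : k ≠ 0 := by
      rintro rfl
      rw [pow_zero] at hk
      have h1 : p * Nat.card Q = 1 := by rw [← hidx, hk]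
      have h2 : p ∣ 1 := ⟨Nat.card Q, h1.symm⟩
      exact hpp.one_lt.ne' (Nat.dvd_one.mp h2)
    rw [hQi, hk, Nat.pow_minFac hk0, hpp.minFac_eq]
  have hZqS : Zq ≤ S := inf_le_left.trans hQS
  have hnormZq : ∀ g ∈ S, ∀ z ∈ Zq, g * z * g⁻¹ ∈ Zq := by
    intro g hg z hz
    have hgN := hSNQ hg
    refine ⟨(Subgroup.mem_normalizer_iff.mp hgN z).mp hz.1, ?_⟩
    show g * z * g⁻¹ ∈ Subgroup.centralizer (Q : Set Ω)
    rw [Subgroup.mem_centralizer_iff]
    intro q hq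
    have hq' : g⁻¹ * q * g ∈ Q := by
      have := (Subgroup.mem_normalizer_iff.mp (Subgroup.inv_mem _ hgN) q).mp hq
      simpa using this
    have hzC : z ∈ Subgroup.centralizer (Q : Set Ω) := hz.2
    have hc := (Subgroup.mem_centralizer_iff.mp hzC) _ hq'
    calc q * (g * z * g⁻¹) = g * ((g⁻¹ * q * g) * z) * g⁻¹ := by group
      _ = g * (z * (g⁻¹ * q * g)) * g⁻¹ := by rw [hc]
      _ = g * z * g⁻¹ * q := by group
  haveI hZqn : (Zq.subgroupOf S).Normal := ⟨fun n hn g => hnormZq g g.2 n hn⟩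
  have hZq'card : Nat.card (Zq.subgroupOf S) = p := by
    rw [Nat.card_congr (Subgroup.subgroupOfEquivOfLe hZqS).toEquiv, hZqcard]
  have hcen := Cfsg.Agent.Helper10.GExtra.comm_of_normal_card_prime hS (Zq.subgroupOf S) hZq'card
  have h1 : Zq ≤ Zs := by
    intro z hz
    refine ⟨hZqS hz, ?_⟩
    show z ∈ Subgroup.centralizer (S : Set Ω)
    rw [Subgroup.mem_centralizer_iff]
    intro g hg
    exact congrArg Subtype.val (hcen ⟨z, hZqS hz⟩ hz ⟨g, hg⟩)
  have hQZs : Q ⊓ Zs ≤ Zq := by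
    rintro z ⟨hzQ, hzZ⟩
    exact ⟨hzQ, Subgroup.centralizer_le hQS hzZ.2⟩
  refine ⟨h1, ?_, ?_⟩
  · intro hle
    exact le_antisymm (fun z hz => hQZs ⟨hle hz, hz⟩) h1
  intro hnle
  -- `S = Q Z(S)`
  have hZsS : Zs ≤ S := inf_le_left
  have hsupS : Q ⊔ Zs ≤ S := sup_le hQS hZsS
  have hlt : Nat.card Q < Nat.card ↥(Q ⊔ Zs) := by
    have hfin : Finite ↥(Q ⊔ Zs) := finite_of_le hsupS
    by_contra hnot
    push Not at hnot
    have := Subgroup.eq_of_le_of_card_ge (le_sup_left : Q ≤ Q ⊔ Zs) hnot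
    apply hnle
    rw [this]
    exact le_sup_right
  have hsup : Q ⊔ Zs = S := eq_of_card_lt_of_index_prime le_sup_left hsupS hidx hlt
  have hset := Subgroup.coe_mul_of_right_le_normalizer_left Q Zs (hZsS.trans hSNQ)
  have hdecomp : ∀ g ∈ S, ∃ q ∈ Q, ∃ z ∈ Zs, g = q * z := by
    intro g hg
    have hg' : g ∈ ((Q ⊔ Zs : Subgroup Ω) : Set Ω) := by rw [hsup]; exact hg
    rw [hset] at hg'
    obtain ⟨q, hq, z, hz, rfl⟩ := Set.mem_mul.mp hg'
    exact ⟨q, hq, z, hz, rfl⟩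
  have hZscomm : ∀ z ∈ Zs, ∀ g ∈ S, g * z = z * g := fun z hz g hg =>
    (Subgroup.mem_centralizer_iff.mp hz.2) g hg
  -- `[S, S] = Z(Q)`
  have hCle : ⁅S, S⁆ ≤ Zq := by
    rw [Subgroup.commutator_le]
    intro g hg h hh
    obtain ⟨q, hq, z, hz, rfl⟩ := hdecomp g hg
    obtain ⟨q', hq', z', hz', rfl⟩ := hdecomp h hh
    rw [comm_mul_left_of_comm q z (q' * z') (hZscomm z hz _ hh).symm,
      comm_mul_right_of_comm q q' z' (hZscomm z' hz' q (hQS hq))]
    exact he2 q hq q' hq'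
  have hCeq : ⁅S, S⁆ = Zq :=
    le_antisymm hCle (he4.trans (Subgroup.commutator_mono hQS hQS))
  have hmapC : (commutator ↥S).map S.subtype = ⁅S, S⁆ := Subgroup.map_subtype_commutator S
  have hmemC : ∀ y : S, y ∈ commutator ↥S ↔ (y : Ω) ∈ Zq := by
    intro y
    rw [← hCeq, ← hmapC]
    exact (Subgroup.mem_map_iff_mem S.subtype_injective).symm
  -- `p`-th powers
  haveI hQn : (Q.subgroupOf S).Normal :=
    (Subgroup.normal_subgroupOf_iff_le_normalizer hQS).mpr hSNQ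
  have hpowZ : ∀ z ∈ Zs, z ^ p ∈ Zq := by
    intro z hz
    have h2 : (⟨z, hZsS hz⟩ : S) ^ (Q.subgroupOf S).index ∈ Q.subgroupOf S :=
      Subgroup.pow_index_mem _ _
    rw [hQi] at h2
    have h3 : z ^ p ∈ Q := by
      have : ((⟨z, hZsS hz⟩ : S) ^ p : S) ∈ Q.subgroupOf S := h2
      rw [Subgroup.mem_subgroupOf, Subgroup.coe_pow] at this
      exact this
    exact hQZs ⟨h3, Zs.pow_mem hz p⟩
  have hpow : ∀ a : S, a ^ p ∈ commutator ↥S := by
    intro a
    rw [hmemC, Subgroup.coe_pow]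
    obtain ⟨q, hq, z, hz, hqz⟩ := hdecomp (a : Ω) a.2
    rw [hqz, (show Commute q z from hZscomm z hz q (hQS hq)).mul_pow]
    exact Zq.mul_mem (he3 q hq) (hpowZ z hz)
  have hfr : frattini ↥S = commutator ↥S := by
    apply le_antisymm
    · apply Cfsg.Agent.Helper14.frattini_le_of_elemAb p (commutator ↥S) _ hpow
      intro a b
      rw [commutator_def]
      exact Subgroup.commutator_mem_commutator (Subgroup.mem_top _) (Subgroup.mem_top _)
    · exact Cfsg.Agent.Helper1.IsPGroup.commutator_le_frattini hS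
  have hcC : Nat.card ↥(commutator ↥S) = p := by
    rw [← Subgroup.card_map_of_injective S.subtype_injective, hmapC, hCeq, hZqcard]
  -- `|Z(S)| = p²`
  have hcZ : Nat.card Zs = p ^ 2 := by
    set Q' : Subgroup S := Q.subgroupOf S with hQ'
    set Z' : Subgroup S := Zs.subgroupOf S with hZ'
    have htop : Z' ⊔ Q' = ⊤ := by
      rw [eq_top_iff]
      intro g _
      obtain ⟨q, hq, z, hz, hqz⟩ := hdecomp (g : Ω) g.2
      have e : g = ⟨q, hQS hq⟩ * ⟨z, hZsS hz⟩ := Subtype.ext hqz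
      rw [e]
      exact Subgroup.mul_mem _ (Subgroup.mem_sup_right hq) (Subgroup.mem_sup_left hz)
    have h2 : Q'.relIndex Z' = p := by
      rw [← Subgroup.relIndex_sup_right, htop, Subgroup.relIndex_top_right, hQi]
    have h3 : (Q' ⊓ Z').relIndex Z' = p := by rw [Subgroup.inf_relIndex_right, h2]
    have h4 : Q' ⊓ Z' = Zq.subgroupOf S := by
      ext y
      constructor
      · rintro ⟨hyQ, hyZ⟩
        exact hQZs ⟨hyQ, hyZ⟩
      · intro hy
        exact ⟨(inf_le_left : Zq ≤ Q) hy, h1 hy⟩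
    have h5 : Zq.subgroupOf S ≤ Z' := fun y hy => h1 hy
    have h6 := Subgroup.relIndex_mul_relIndex ⊥ (Zq.subgroupOf S) Z' bot_le h5
    rw [Subgroup.relIndex_bot_left, Subgroup.relIndex_bot_left, ← h4, h3, h4, hZq'card] at h6
    rw [← Nat.card_congr (Subgroup.subgroupOfEquivOfLe hZsS).toEquiv, ← h6, pow_two]
  exact ⟨hfr, hcC, hcZ, hCeq ▸ h1⟩

end Cfsg.Agent.Helper10.XS
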