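import Mathlib
import Cfsg.Agent.Helper10.XSA
import Cfsg.Agent.Helper10.XSE
import Cfsg.Agent.Helper10.XSF
import Cfsg.Agent.Helper10.XSG
import Cfsg.Agent.Helper10.XSH
import Cfsg.Agent.Helper10.GExtraE
import Cfsg.Agent.Helper10.R2FusA

set_option autoImplicit false

/-! S5178, the bad case `|S| = p⁴`: reflections in `Aut_F(S)`. -/

namespace Cfsg.Agent.Helper10.XS

open Cfsg Cfsg.FusionSystem Cfsg.Agent.Helper25 Cfsg.Agent.Helper10.MetaFus
open scoped commutatorElement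

variable {Ω : Type*} [Group Ω] {S : Subgroup Ω}

/-- The hypotheses of the bad case. -/
structure Bad (p : ℕ) (S : Subgroup Ω) : Prop where
  card : Nat.card S = p ^ 4
  cardZ : Nat.card ↥(centralizerIn S S) = p ^ 2
  cardC : Nat.card ↥⁅S, S⁆ = p
  CZ : ⁅S, S⁆ ≤ centralizerIn S S

/-- A reflection: an automorphism in the system inverting `[S, S]` and fixing pointwise a
complement of `[S, S]` in `Z(S)`. -/
def IsRefl (F : FusionSystem S) (α : MulAut S) : Prop :=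
  α ∈ F.autGroup S ∧ (∀ x : S, (x : Ω) ∈ ⁅S, S⁆ → α x = x⁻¹) ∧
    ∀ x : S, (x : Ω) ∈ centralizerIn S S →
      ∃ c w : S, (c : Ω) ∈ ⁅S, S⁆ ∧ (w : Ω) ∈ centralizerIn S S ∧ α w = w ∧ x = c * w

theorem Bad.pow_eq_one {p : ℕ} [Fact p.Prime] (B : Bad p S) {c : Ω} (hc : c ∈ ⁅S, S⁆) :
    c ^ p = 1 := by
  have hfin : Finite ↥⁅S, S⁆ :=
    Nat.finite_of_card_ne_zero (by rw [B.cardC]; exact (Fact.out : p.Prime).ne_zero)
  have h := pow_card_eq_one' (G := ↥⁅S, S⁆) (x := ⟨c, hc⟩)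
  rw [B.cardC] at h
  simpa using congrArg Subtype.val h

/-- Two reflections have the same fixed points on `Z(S)`. -/
theorem refl_unique [Finite S] (p : ℕ) [Fact p.Prime] (hp2 : p ≠ 2) (hS : IsPGroup p S)
    (F : FusionSystem S) (hF : F.IsSaturated p) (B : Bad p S) {α α' : MulAut S}
    (h : IsRefl F α) (h' : IsRefl F α') (x : S) (hx : (x : Ω) ∈ centralizerIn S S)
    (hfix : α' x = x) : α x = x := by
  obtain ⟨m, hm, hpow⟩ := xs_coprime_power p hS F hF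
  obtain ⟨c, w, hc, hw, hαw, rfl⟩ := h.2.2 x hx
  have hcp : c ^ p = 1 := Subtype.ext (by rw [Subgroup.coe_pow]; exact B.pow_eq_one hc)
  have hc1 : c = 1 :=
    xs_unique hp2 α α' m hm c w hcp (h.2.1 c hc) (h'.2.1 c hc) hαw hfix
      (hpow (α * α') ((F.autGroup S).mul_mem h.1 h'.1) (c * w) hx.2)
  rw [hc1, one_mul]
  exact hαw

/-- In a cyclic group of prime order generated by `τ`, a nontrivial power of `τ` generates. -/
theorem exists_pow_pow_eq {G : Type*} [Group G] {p : ℕ} [Fact p.Prime] (τ : G) (hτ : τ ^ p = 1)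
    (k : ℕ) (hk : τ ^ k ≠ 1) : ∃ k' : ℕ, (τ ^ k) ^ k' = τ := by
  have hpp : p.Prime := Fact.out
  have h1 : orderOf τ ∣ p := orderOf_dvd_of_pow_eq_one hτ
  have hτ1 : τ ≠ 1 := by
    rintro rfl
    exact hk (one_pow k)
  have h2 : orderOf τ = p := by
    rcases (Nat.dvd_prime hpp).mp h1 with h | h
    · exact absurd (orderOf_eq_one_iff.mp h) hτ1
    · exact h
  have h3 : Nat.card (Subgroup.zpowers τ) = p := by rw [Nat.card_zpowers, h2]
  have hfin : Finite (Subgroup.zpowers τ) :=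
    Nat.finite_of_card_ne_zero (by rw [h3]; exact hpp.ne_zero)
  have hmem : τ ^ k ∈ Subgroup.zpowers τ := Subgroup.pow_mem _ (Subgroup.mem_zpowers τ) k
  have h4 := exists_pow_eq (V := ↥(Subgroup.zpowers τ)) ⊤ (by rw [Subgroup.card_top, h3])
    ⟨τ ^ k, hmem⟩ ⟨τ, Subgroup.mem_zpowers τ⟩ (Subgroup.mem_top _)
    (fun h => hk (congrArg Subtype.val h)) (Subgroup.mem_top _)
  obtain ⟨k', hk'⟩ := h4
  exact ⟨k', congrArg Subtype.val hk'⟩

/-- If `T` consists of powers of `τ ∈ T` and `γ⁻¹ τ γ ∈ T`, then `γ τ γ⁻¹ ∈ T`. -/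
theorem conj_mem_of_inv_conj_mem {G : Type*} [Group G] (T : Subgroup G) [Finite T] (τ γ : G)
    (hτ : τ ∈ T) (hT : ∀ t ∈ T, ∃ k : ℕ, t = τ ^ k) (h : γ⁻¹ * τ * γ ∈ T) :
    γ * τ * γ⁻¹ ∈ T := by
  have hmap : ∀ t ∈ T, γ⁻¹ * t * γ ∈ T := by
    intro t ht
    obtain ⟨k, rfl⟩ := hT t ht
    have e : γ⁻¹ * τ ^ k * γ = (γ⁻¹ * τ * γ) ^ k := by
      have := map_pow (MulAut.conj γ⁻¹) τ k
      simpa [MulAut.conj_apply] using this
    rw [e]
    exact T.pow_mem h k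
  let f : T → T := fun t => ⟨γ⁻¹ * (t : G) * γ, hmap t t.2⟩
  have hinj : Function.Injective f := by
    intro a b hab
    have h1 : γ⁻¹ * (a : G) * γ = γ⁻¹ * (b : G) * γ := congrArg Subtype.val hab
    apply Subtype.ext
    have h2 := mul_right_cancel h1
    exact mul_left_cancel h2
  obtain ⟨t', ht'⟩ := (Finite.injective_iff_surjective.mp hinj) ⟨τ, hτ⟩
  have h1 : γ⁻¹ * (t' : G) * γ = τ := congrArg Subtype.val ht'
  have h2 : γ * τ * γ⁻¹ = (t' : G) := by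
    rw [← h1]; group
  rw [h2]
  exact t'.2

end Cfsg.Agent.Helper10.XS
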