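import Mathlib
import Cfsg.Agent.Helper10.XSB

set_option autoImplicit false

/-! S5178, the bad case `|S| = p⁴`: a reflection from an essential subgroup and an automorphism
not normalizing `Aut_S(E)`. -/

namespace Cfsg.Agent.Helper10.XS

open Cfsg Cfsg.FusionSystem Cfsg.Agent.Helper25 Cfsg.Agent.Helper10.MetaFus
open scoped commutatorElement

variable {Ω : Type*} [Group Ω] {S : Subgroup Ω}

theorem exists_refl [Finite S] (p : ℕ) [Fact p.Prime] (hp2 : p ≠ 2) (hS : IsPGroup p S)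
    (F : FusionSystem S) (hF : F.IsSaturated p) (B : Bad p S) {E : Subgroup Ω}
    (hE : F.IsEssential p E) (hN : S ≤ Subgroup.normalizer (E : Set Ω)) (s : Ω) (hs : s ∈ S)
    (hsE : s ∉ E) (γ : MulAut E) (hγ : γ ∈ F.autGroup E)
    (hγT : γ * E.normalizerMonoidHom ⟨s, hN hs⟩ * γ⁻¹ ∉ autInducedBy S E) :
    ∃ α : MulAut S, IsRefl F α ∧ ∀ (x : E), (x : Ω) ∈ centralizerIn S S →
      (((γ⁻¹ x : E) : Ω) ∈ centralizerIn S S ↔ α ⟨x, hE.1.1 x.2⟩ = ⟨x, hE.1.1 x.2⟩) := by
  have hpp : p.Prime := Fact.out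
  have hES : E ≤ S := hE.1.1
  obtain ⟨hZE, hcardE, hab, -, -⟩ := xs_essential p hS F hF B.card B.cardZ hE
  have hfinE : Finite E := finite_of_le hES
  set τ : MulAut E := E.normalizerMonoidHom ⟨s, hN hs⟩ with hτ
  obtain ⟨hτ1, hτ2, hτ3, hτ4⟩ := xs_tau p hS B.card hES hcardE hab hN s hs hsE
  have hcomm : ∀ a b : E, a * b = b * a := fun a b => Subtype.ext (hab a a.2 b b.2)
  set T : Subgroup (MulAut E) := autInducedBy S E with hT
  have hτT : τ ∈ T := (mem_autInducedBy_iff S E τ).mpr ⟨s, hs, fun _ => rfl⟩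
  have hTA : T ≤ F.autGroup E := autInducedBy_le_autGroup F hES
  have hCE : ⁅S, S⁆ ≤ E := B.CZ.trans hZE
  set L : Subgroup E := (⁅S, S⁆).subgroupOf E with hL
  set A : Subgroup E := (centralizerIn S S).subgroupOf E with hA
  have hLA : L ≤ A := fun x hx => B.CZ hx
  have hLcard : Nat.card L = p := by
    rw [hL, Nat.card_congr (Subgroup.subgroupOfEquivOfLe hCE).toEquiv, B.cardC]
  have hAcard : Nat.card A = p ^ 2 := by
    rw [hA, Nat.card_congr (Subgroup.subgroupOfEquivOfLe hZE).toEquiv, B.cardZ]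
  have hτA : ∀ y ∈ A, τ y = y := fun y hy => hτ1 y hy
  have hτL : ∀ y ∈ L, τ y = y := fun y hy => hτA y (hLA hy)
  have hτV : ∀ v, τ v * v⁻¹ ∈ L := fun v => hτ2 v
  have hτfix : ∀ v, τ v = v → v ∈ A := fun v hv => hτ3 v hv
  obtain ⟨z, hzL, hz1⟩ : ∃ z : E, z ∈ L ∧ z ≠ 1 := by
    have hne : L ≠ ⊥ := by
      intro h
      rw [h, Subgroup.card_bot] at hLcard
      exact hpp.one_lt.ne hLcard
    obtain ⟨y, hy1⟩ := Subgroup.ne_bot_iff_exists_ne_one.mp hne
    exact ⟨y, y.2, fun h => hy1 (Subtype.ext h)⟩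
  have hEp : IsPGroup p E := isPGroup_of_le hS hES
  have hTpow : ∀ t ∈ T, ∃ k : ℕ, t = τ ^ k := hτ4
  have hfinM : Finite (MulAut E) :=
    Finite.of_injective (fun φ : MulAut E => (φ : E → E)) (fun a b h => MulEquiv.ext (congrFun h))
  have hLpow : ∀ c ∈ L, c ^ p = 1 := by
    intro c hc
    have h := pow_card_eq_one' (G := L) (x := ⟨c, hc⟩)
    rw [hLcard] at h
    simpa using congrArg Subtype.val h
  -- a conjugate of `τ` by `δ ∈ Aut_F(E)` with `δ z ∈ A` lies in `T`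
  have hkey : ∀ δ ∈ F.autGroup E, δ z ∈ A → δ * τ * δ⁻¹ ∈ T := by
    intro δ hδ hδz
    have hδL : ∀ l ∈ L, δ l ∈ A := by
      intro l hl
      obtain ⟨k, hk⟩ := exists_pow_eq L hLcard z l hzL hz1 hl
      rw [← hk, map_pow]
      exact A.pow_mem hδz k
    have hK := xs_chain hEp L A hLA τ δ hτA hτV hδL
    set K := Subgroup.closure ({τ, δ * τ * δ⁻¹} : Set (MulAut E)) with hKdef
    have hKA : K ≤ F.autGroup E := by
      rw [hKdef, Subgroup.closure_le]
      rintro x (rfl | rfl)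
      · exact hTA hτT
      · exact mul_mem (mul_mem hδ (hTA hτT)) (inv_mem hδ)
    have hTK : T ≤ K := by
      intro t ht
      obtain ⟨k, rfl⟩ := hTpow t ht
      exact K.pow_mem (Subgroup.subset_closure (by simp)) k
    have hKT : K = T := xs_sylow_max p hS F hF hE.2.1 K hKA hK hTK
    rw [← hKT]
    exact Subgroup.subset_closure (by simp)
  have h1 : τ (γ z) ≠ γ z := fun h => hγT (hkey γ hγ (hτfix _ h))
  have h2 : τ (γ⁻¹ z) ≠ γ⁻¹ z := by
    intro h
    apply hγT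
    have h3 := hkey γ⁻¹ (inv_mem hγ) (hτfix _ h)
    rw [inv_inv] at h3
    exact conj_mem_of_inv_conj_mem T τ γ hτT hTpow h3
  obtain ⟨k, d, hd, hdz, hdμ, hμne, hdfix⟩ :=
    exists_inverting_fix hcomm L hLcard τ γ hτL hτV z hzL hz1 h1 h2
  have hdA : d ∈ F.autGroup E := by
    have hle : Subgroup.closure ({τ, γ} : Set (MulAut E)) ≤ F.autGroup E := by
      rw [Subgroup.closure_le]
      rintro x (rfl | rfl)
      · exact hTA hτT
      · exact hγ
    exact hle hd
  have hτp : τ ^ p = 1 := by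
    apply MulEquiv.ext
    intro v
    have hform : τ v = v * (τ v * v⁻¹) := by rw [hcomm v, inv_mul_cancel_right]
    rw [aut_pow_apply τ v (τ v * v⁻¹) hform (hτL _ (hτV v)) p, hLpow _ (hτV v), mul_one]
    rfl
  have hμ1 : τ ^ k ≠ 1 := by
    intro h
    apply hμne
    rw [h]
    rfl
  obtain ⟨k', hk'⟩ := exists_pow_pow_eq τ hτp k hμ1
  have hdτ : Commute d τ := by
    have hc : Commute d (τ ^ k) := hdμ
    have := hc.pow_right k'
    rwa [hk'] at this
  have hnorm : ∀ t ∈ autInducedBy S E, d * t * d⁻¹ ∈ autInducedBy S E := by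
    intro t ht
    obtain ⟨j, rfl⟩ := hTpow t ht
    have hc : Commute d (τ ^ j) := hdτ.pow_right j
    have e : d * τ ^ j * d⁻¹ = τ ^ j := by rw [hc.eq, mul_inv_cancel_right]
    rw [e]
    exact T.pow_mem hτT j
  have hidx : Nat.card S = p * Nat.card E := by rw [B.card, hcardE]; ring
  obtain ⟨α, hα, hαd⟩ := xs_extend p hS F hF hE.2.1 hidx hdA hnorm
  have hαE : ∀ x : E, α ⟨x, hES x.2⟩ = ⟨(d x : E), hES (d x).2⟩ := by
    intro x
    apply Subtype.ext
    exact hαd (x : Ω) x.2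
  have hdL : ∀ c ∈ L, d c = c⁻¹ := by
    intro c hc
    obtain ⟨j, hj⟩ := exists_pow_eq L hLcard z c hzL hz1 hc
    rw [← hj, map_pow, hdz, inv_pow]
  have hγz : γ⁻¹ z ∉ A := fun h => h2 (hτA _ h)
  have hdec := xs_count hcomm hcardE L A hLA hLcard hAcard γ z hzL hz1 hγz
  refine ⟨α, ⟨hα, ?_, ?_⟩, ?_⟩
  · intro x hx
    have e : x = ⟨((⟨(x : Ω), hCE hx⟩ : E) : Ω), hES (hCE hx)⟩ := rfl
    rw [e, hαE ⟨(x : Ω), hCE hx⟩]
    apply Subtype.ext
    have h3 : d ⟨(x : Ω), hCE hx⟩ = (⟨(x : Ω), hCE hx⟩ : E)⁻¹ := hdL _ hx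
    rw [h3]
    rfl
  · intro x hx
    obtain ⟨c, hc, w, hw, hγw, hxcw⟩ := hdec ⟨(x : Ω), hZE hx⟩ hx
    refine ⟨⟨(c : Ω), hES c.2⟩, ⟨(w : Ω), hES w.2⟩, hc, hw, ?_, ?_⟩
    · rw [hαE w]
      apply Subtype.ext
      show ((d w : E) : Ω) = (w : Ω)
      rw [hdfix w (hτA w hw) (hτA _ hγw)]
    · apply Subtype.ext
      exact congrArg (fun e : E => (e : Ω)) hxcw
  · intro x hx
    constructor
    · intro hγx
      rw [hαE x]
      apply Subtype.ext
      show ((d x : E) : Ω) = (x : Ω)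
      rw [hdfix x (hτA x hx) (hτA _ hγx)]
    · intro hαx
      have hdx : d x = x := by
        have h3 := hαE x
        rw [hαx] at h3
        have h4 : (x : Ω) = ((d x : E) : Ω) := congrArg (fun y : S => (y : Ω)) h3
        exact Subtype.ext h4.symm
      obtain ⟨c, hc, w, hw, hγw, hxcw⟩ := hdec x hx
      have hdw : d w = w := hdfix w (hτA w hw) (hτA _ hγw)
      have h5 : c⁻¹ * w = c * w := by
        have : d (c * w) = c * w := by rw [← hxcw]; exact hdx
        rwa [map_mul, hdL c hc, hdw] at this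
      have h6 : c⁻¹ = c := mul_right_cancel h5
      have h7 : c ^ 2 = 1 := by
        rw [pow_two]
        nth_rewrite 1 [← h6]
        exact inv_mul_cancel c
      have h8 : orderOf c ∣ 2 := orderOf_dvd_of_pow_eq_one h7
      have h9 : orderOf c ∣ p := orderOf_dvd_of_pow_eq_one (hLpow c hc)
      have h10 : orderOf c ∣ Nat.gcd 2 p := Nat.dvd_gcd h8 h9
      have hcop : Nat.Coprime 2 p := by
        rw [Nat.coprime_comm, hpp.coprime_iff_not_dvd]
        intro h
        exact hp2 ((Nat.prime_dvd_prime_iff_eq hpp Nat.prime_two).mp h)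
      rw [hcop.gcd_eq_one, Nat.dvd_one] at h10
      have hc1 : c = 1 := orderOf_eq_one_iff.mp h10
      rw [hc1, one_mul] at hxcw
      rw [hxcw]
      exact hγw

end Cfsg.Agent.Helper10.XS
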