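import Mathlib
import Cfsg.Agent.Helper10.XSC

set_option autoImplicit false

/-! S5178, the bad case `|S| = p⁴`: the common fixed complement of the reflections is normal in
the system. -/

namespace Cfsg.Agent.Helper10.XS

open Cfsg Cfsg.FusionSystem Cfsg.Agent.Helper25 Cfsg.Agent.Helper10.MetaFus
open scoped commutatorElement

variable {Ω : Type*} [Group Ω] {S : Subgroup Ω}

/-- The fixed points of `α` on `Z(S)`. -/
def fixZ (α : MulAut S) : Subgroup S where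
  carrier := {x | (x : Ω) ∈ centralizerIn S S ∧ α x = x}
  one_mem' := ⟨(centralizerIn S S).one_mem, map_one α⟩
  mul_mem' := fun {a b} ha hb =>
    ⟨(centralizerIn S S).mul_mem ha.1 hb.1, by rw [map_mul, ha.2, hb.2]⟩
  inv_mem' := fun {a} ha => ⟨(centralizerIn S S).inv_mem ha.1, by rw [map_inv, ha.2]⟩

theorem mem_fixZ (α : MulAut S) (x : S) :
    x ∈ fixZ α ↔ (x : Ω) ∈ centralizerIn S S ∧ α x = x := Iff.rfl

theorem map_eq_of_mem {G : Type*} [Group G] (H : Subgroup G) (𝒜 : Subgroup (MulAut G))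
    (h : ∀ α ∈ 𝒜, ∀ x ∈ H, α x ∈ H) (α : MulAut G) (hα : α ∈ 𝒜) :
    H.map α.toMonoidHom = H := by
  apply le_antisymm
  · rintro _ ⟨x, hx, rfl⟩
    exact h α hα x hx
  · intro x hx
    exact ⟨α⁻¹ x, h α⁻¹ (inv_mem hα) x hx, by simp⟩

/-- Automorphisms of `S` preserve `Z(S)`. -/
theorem aut_center_mem (δ : MulAut S) (x : S) (hx : (x : Ω) ∈ centralizerIn S S) :
    ((δ x : S) : Ω) ∈ centralizerIn S S := by
  refine ⟨(δ x).2, ?_⟩
  show ((δ x : S) : Ω) ∈ Subgroup.centralizer (S : Set Ω)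
  rw [Subgroup.mem_centralizer_iff]
  intro g hg
  have hx2 : (x : Ω) ∈ Subgroup.centralizer (S : Set Ω) := hx.2
  rw [Subgroup.mem_centralizer_iff] at hx2
  have h1 : (δ⁻¹ ⟨g, hg⟩ : S) * x = x * (δ⁻¹ ⟨g, hg⟩ : S) :=
    Subtype.ext (hx2 _ (δ⁻¹ ⟨g, hg⟩ : S).2)
  have h2 := congrArg δ h1
  rw [map_mul, map_mul, MulAut.apply_inv_self] at h2
  exact congrArg Subtype.val h2

/-- Automorphisms of `S` preserve `[S, S]`. -/
theorem aut_comm_mem [Finite S] (δ : MulAut S) (x : S) :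
    (x : Ω) ∈ ⁅S, S⁆ ↔ ((δ x : S) : Ω) ∈ ⁅S, S⁆ := by
  have hfin : Finite ↥⁅S, S⁆ := finite_of_le (Subgroup.commutator_le_self S)
  exact Cfsg.Agent.Helper10.GExtra.commutator_pres (P := S) (Q := S) le_rfl (autHom δ)
    (fun a b hab => δ.injective (Subtype.ext hab)) (fun y _ => (δ y).2) x

theorem core_ne_bot_of_bad [Finite S] (p : ℕ) [Fact p.Prime] (hp2 : p ≠ 2) (hS : IsPGroup p S)
    (F : FusionSystem S) (hF : F.IsSaturated p) (B : Bad p S) : F.core ≠ ⊥ := by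
  have hpp : p.Prime := Fact.out
  have hmain : ∀ u : Subgroup Ω, F.IsNormal u → u ≠ ⊥ → F.core ≠ ⊥ := by
    intro u hu hne hcore
    apply hne
    rw [eq_bot_iff, ← hcore]
    exact le_sSup hu
  by_cases hess : ∃ E, F.IsEssential p E
  swap
  · push Not at hess
    apply hmain S (Cfsg.Agent.Helper10.R2Fus.isNormal_of_no_essential p hS F hF hess)
    intro h
    have h1 : Nat.card S = 1 := by rw [h]; exact Subgroup.card_bot
    rw [B.card] at h1
    exact absurd h1 (Nat.one_lt_pow (by norm_num) hpp.one_lt).ne'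
  -- structure of essential subgroups
  have hstruct : ∀ E : Subgroup Ω, F.IsEssential p E →
      centralizerIn S S ≤ E ∧ ∃ (hN : S ≤ Subgroup.normalizer (E : Set Ω)) (s : Ω) (hs : s ∈ S),
        s ∉ E ∧ (∀ t ∈ autInducedBy S E, ∃ k : ℕ, t = (E.normalizerMonoidHom ⟨s, hN hs⟩) ^ k) ∧
        ∃ γ ∈ F.autGroup E,
          γ * E.normalizerMonoidHom ⟨s, hN hs⟩ * γ⁻¹ ∉ autInducedBy S E := by
    intro E hE
    have hES : E ≤ S := hE.1.1
    obtain ⟨hZE, hcardE, hab, hN, s, hs, hsE⟩ := xs_essential p hS F hF B.card B.cardZ hE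
    obtain ⟨-, -, -, hτ4⟩ := xs_tau p hS B.card hES hcardE hab hN s hs hsE
    refine ⟨hZE, hN, s, hs, hsE, hτ4, ?_⟩
    by_contra hall
    push Not at hall
    set τ : MulAut E := E.normalizerMonoidHom ⟨s, hN hs⟩ with hτ
    have hτT : τ ∈ autInducedBy S E := (mem_autInducedBy_iff S E τ).mpr ⟨s, hs, fun _ => rfl⟩
    have hOp : OpAutLeInn F p E := opAutLeInn_of_isEssential F p hE
    have hTI : autInducedBy S E ≤ Inn E := by
      apply hOp _ (autInducedBy_le_autGroup F hES) _ (autInducedBy_isPGroup hS E)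
      intro α hα t ht
      obtain ⟨j, rfl⟩ := hτ4 t ht
      rw [← conj_pow]
      exact Subgroup.pow_mem _ (hall α hα) j
    have hC : centralizerIn S E ≤ E := hE.1.2 E (isConj_refl F hES)
    exact hsE (mem_of_normalizerMonoidHom_mem_inn hES hC ⟨s, hN hs⟩ hs (hTI hτT))
  obtain ⟨E₀, hE₀⟩ := hess
  obtain ⟨hZE₀, hN₀, s₀, hs₀, hs₀E, -, γ₀, hγ₀, hγ₀T⟩ := hstruct E₀ hE₀
  obtain ⟨α₀, hα₀, -⟩ := exists_refl p hp2 hS F hF B hE₀ hN₀ s₀ hs₀ hs₀E γ₀ hγ₀ hγ₀T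
  set u : Subgroup Ω := (fixZ α₀).map S.subtype with hu
  have hmemu : ∀ (y : Ω) (hy : y ∈ S), y ∈ u ↔ (⟨y, hy⟩ : S) ∈ fixZ α₀ := by
    intro y hy
    constructor
    · rintro ⟨x, hx, hxy⟩
      have : x = ⟨y, hy⟩ := Subtype.ext hxy
      rwa [← this]
    · intro h
      exact ⟨⟨y, hy⟩, h, rfl⟩
  have huZ : u ≤ centralizerIn S S := by
    rintro _ ⟨x, hx, rfl⟩
    exact hx.1
  have huS : u ≤ S := huZ.trans inf_le_left
  -- invariance under `Aut_F(S)`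
  have hN1 : ∀ δ ∈ F.autGroup S, ∀ x ∈ fixZ α₀, δ x ∈ fixZ α₀ := by
    intro δ hδ x hx
    have hδx : ((δ x : S) : Ω) ∈ centralizerIn S S := aut_center_mem δ x hx.1
    refine ⟨hδx, ?_⟩
    have hrefl : IsRefl F (δ * α₀ * δ⁻¹) := by
      refine ⟨mul_mem (mul_mem hδ hα₀.1) (inv_mem hδ), ?_, ?_⟩
      · intro y hy
        have hy' : ((δ⁻¹ y : S) : Ω) ∈ ⁅S, S⁆ := (aut_comm_mem δ⁻¹ y).mp hy
        show δ (α₀ (δ⁻¹ y)) = y⁻¹
        rw [hα₀.2.1 _ hy', map_inv, MulAut.apply_inv_self]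
      · intro y hy
        have hy' : ((δ⁻¹ y : S) : Ω) ∈ centralizerIn S S := aut_center_mem δ⁻¹ y hy
        obtain ⟨c, w, hc, hw, hαw, hcw⟩ := hα₀.2.2 _ hy'
        refine ⟨δ c, δ w, (aut_comm_mem δ c).mp hc, aut_center_mem δ w hw, ?_, ?_⟩
        · show δ (α₀ (δ⁻¹ (δ w))) = δ w
          rw [MulAut.inv_apply_self, hαw]
        · rw [← map_mul, ← hcw, MulAut.apply_inv_self]
    apply refl_unique p hp2 hS F hF B hα₀ hrefl (δ x) hδx
    show δ (α₀ (δ⁻¹ (δ x))) = δ x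
    rw [MulAut.inv_apply_self, hx.2]
  -- invariance under `Aut_F(E)` for essential `E`
  have hN2 : ∀ E : Subgroup Ω, F.IsEssential p E → ∀ γ ∈ F.autGroup E,
      ∀ x ∈ u.subgroupOf E, γ x ∈ u.subgroupOf E := by
    intro E hE γ hγ x hx
    have hES : E ≤ S := hE.1.1
    obtain ⟨hZE, hN, s, hs, hsE, hτ4, -⟩ := hstruct E hE
    have hfinE : Finite E := finite_of_le hES
    have hfinM : Finite (MulAut E) :=
      Finite.of_injective (fun φ : MulAut E => (φ : E → E))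
        (fun a b h => MulEquiv.ext (congrFun h))
    set τ : MulAut E := E.normalizerMonoidHom ⟨s, hN hs⟩ with hτ
    have hτT : τ ∈ autInducedBy S E := (mem_autInducedBy_iff S E τ).mpr ⟨s, hs, fun _ => rfl⟩
    have hxu : (x : Ω) ∈ u := hx
    have hxf : (⟨(x : Ω), hES x.2⟩ : S) ∈ fixZ α₀ := (hmemu _ (hES x.2)).mp hxu
    show ((γ x : E) : Ω) ∈ u
    rw [hmemu _ (hES (γ x).2)]
    by_cases hγT : γ * τ * γ⁻¹ ∈ autInducedBy S E
    · -- `γ` normalizes `Aut_S(E)`: extend to `S`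
      have hnorm : ∀ t ∈ autInducedBy S E, γ * t * γ⁻¹ ∈ autInducedBy S E := by
        intro t ht
        obtain ⟨j, rfl⟩ := hτ4 t ht
        rw [← conj_pow]
        exact Subgroup.pow_mem _ hγT j
      obtain ⟨-, hcardE, -, -, -⟩ := xs_essential p hS F hF B.card B.cardZ hE
      have hidx : Nat.card S = p * Nat.card E := by rw [B.card, hcardE]; ring
      obtain ⟨δ, hδ, hδγ⟩ := xs_extend p hS F hF hE.2.1 hidx hγ hnorm
      have h1 := hN1 δ hδ _ hxf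
      have e : δ ⟨(x : Ω), hES x.2⟩ = ⟨((γ x : E) : Ω), hES (γ x).2⟩ :=
        Subtype.ext (hδγ (x : Ω) x.2)
      rwa [e] at h1
    · -- `γ` does not normalize `Aut_S(E)`
      have hγT' : γ⁻¹ * τ * γ⁻¹⁻¹ ∉ autInducedBy S E := by
        intro h
        rw [inv_inv] at h
        exact hγT (conj_mem_of_inv_conj_mem (autInducedBy S E) τ γ hτT hτ4 h)
      obtain ⟨α₁, hα₁, hiff₁⟩ := exists_refl p hp2 hS F hF B hE hN s hs hsE γ hγ hγT
      obtain ⟨α₂, hα₂, hiff₂⟩ :=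
        exists_refl p hp2 hS F hF B hE hN s hs hsE γ⁻¹ (inv_mem hγ) hγT'
      have hx2 : α₂ ⟨(x : Ω), hES x.2⟩ = ⟨(x : Ω), hES x.2⟩ :=
        refl_unique p hp2 hS F hF B hα₂ hα₀ _ hxf.1 hxf.2
      have hγx : ((γ x : E) : Ω) ∈ centralizerIn S S := by
        have := (hiff₂ x hxf.1).mpr hx2
        rwa [inv_inv] at this
      have hx1 : α₁ ⟨((γ x : E) : Ω), hES (γ x).2⟩ = ⟨((γ x : E) : Ω), hES (γ x).2⟩ := by
        apply (hiff₁ (γ x) hγx).mp
        rw [MulAut.inv_apply_self]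
        exact hxf.1
      exact ⟨hγx, refl_unique p hp2 hS F hF B hα₀ hα₁ _ hγx hx1⟩
  -- `u ≠ ⊥`
  have hune : u ≠ ⊥ := by
    intro hbot
    have hnle : ¬ centralizerIn S S ≤ ⁅S, S⁆ := by
      intro hle
      have heq : centralizerIn S S = ⁅S, S⁆ := le_antisymm hle B.CZ
      have h1 := B.cardZ
      rw [heq, B.cardC] at h1
      have h2 : p ^ 1 < p ^ 2 := Nat.pow_lt_pow_right hpp.one_lt (by norm_num)
      rw [pow_one] at h2
      omega
    obtain ⟨x, hxZ, hxC⟩ := SetLike.not_le_iff_exists.mp hnle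
    obtain ⟨c, w, hc, hw, hαw, hcw⟩ := hα₀.2.2 ⟨x, hxZ.1⟩ hxZ
    have hwu : (w : Ω) ∈ u := (hmemu _ w.2).mpr ⟨hw, hαw⟩
    rw [hbot, Subgroup.mem_bot] at hwu
    apply hxC
    have h1 : x = (c : Ω) * (w : Ω) := congrArg Subtype.val hcw
    rw [h1, hwu, mul_one]
    exact hc
  apply hmain u _ hune
  apply isNormal_of_alperin p hS F hF u
  rintro P (rfl | hP)
  · refine ⟨huS, fun δ hδ => ?_⟩
    apply map_eq_of_mem _ (F.autGroup P) _ δ hδ
    intro δ' hδ' x hx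
    have hx' : x ∈ fixZ α₀ := (hmemu _ x.2).mp hx
    exact (hmemu _ (δ' x).2).mpr (hN1 δ' hδ' x hx')
  · obtain ⟨hZP, -⟩ := hstruct P hP
    refine ⟨huZ.trans hZP, fun γ hγ => ?_⟩
    exact map_eq_of_mem _ (F.autGroup P) (hN2 P hP) γ hγ

end Cfsg.Agent.Helper10.XS
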