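import Mathlib

set_option autoImplicit false
set_option linter.unusedSectionVars false
set_option linter.unusedVariables false

/-! # The norm identity `1 + x + ⋯ + x^(p-1) = (x - 1)^(p-1)` in characteristic `p`, dual form -/

namespace Cfsg.Agent.Helper10

open Finset

/-- In a ring where `p = 0`: `1 + x + ⋯ + x^(p-1) = (x - 1)^(p-1)`. -/
theorem geom_sum_eq_sub_one_pow {E : Type*} [Ring E] {p : ℕ} (hp : p.Prime)
    (hpE : (p : E) = 0) (x : E) :
    ∑ i ∈ Finset.range p, x ^ i = (x - 1) ^ (p - 1) := by
  have h1 := congrArg (Polynomial.aeval (R := ℤ) (x - 1))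
    (Polynomial.geom_sum_X_comp_X_add_one_eq_sum (R := ℤ) p)
  rw [Polynomial.aeval_comp] at h1
  simp only [map_sum, map_pow, Polynomial.aeval_X, map_add, map_one, map_mul,
    map_natCast, sub_add_cancel] at h1
  rw [h1]
  have hp1 : p - 1 ∈ Finset.range p := Finset.mem_range.2 (Nat.sub_lt hp.pos one_pos)
  rw [Finset.sum_eq_single_of_mem (p - 1) hp1]
  · have : p - 1 + 1 = p := Nat.sub_add_cancel hp.one_le
    rw [this, Nat.choose_self, Nat.cast_one, one_mul]
  · intro i hi hne
    rw [Finset.mem_range] at hi
    have hlt : i + 1 < p := by omega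
    obtain ⟨m, hm⟩ := hp.dvd_choose_self (Nat.succ_ne_zero i) hlt
    rw [hm, Nat.cast_mul, hpE, zero_mul, zero_mul]

section Norm

variable {V : Type*} [CommGroup V]

/-- on a commutative group of exponent `p`, the norm `∏_{i<p} σ^i` equals the `(p-1)`-st power of
`v ↦ σ v / v` -/
theorem norm_eq_iterate {p : ℕ} (hp : p.Prime) (hexp : ∀ v : V, v ^ p = 1) (σ : MulAut V) (v : V) :
    ∏ i ∈ Finset.range p, (σ ^ i) v = (fun w : V => σ w * w⁻¹)^[p - 1] v := by
  let x : AddMonoid.End (Additive V) := (σ : V →* V).toAdditive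
  have hpE : ((p : ℕ) : AddMonoid.End (Additive V)) = 0 := by
    ext a
    change ((p : ℕ) : AddMonoid.End (Additive V)) a = 0
    rw [AddMonoid.End.natCast_apply]
    change Additive.ofMul ((Additive.toMul a) ^ p) = 0
    rw [hexp]
    rfl
  have hxsub : ∀ (k : ℕ) (w : V), ((x - 1) ^ k) (Additive.ofMul w) =
      Additive.ofMul ((fun w : V => σ w * w⁻¹)^[k] w) := by
    intro k
    induction k with
    | zero => intro w; rfl
    | succ k ih =>
      intro w
      have e1 : ((x - 1) ^ (k + 1)) (Additive.ofMul w) =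
          ((x - 1) ^ k) ((x - 1) (Additive.ofMul w)) := by
        rw [pow_succ]; rfl
      have e2 : (x - 1) (Additive.ofMul w) = Additive.ofMul (σ w * w⁻¹) := by
        rw [← div_eq_mul_inv, ofMul_div]
        exact AddMonoidHom.sub_apply x (AddMonoidHom.id (Additive V)) (Additive.ofMul w)
      rw [e1, e2, ih, Function.iterate_succ_apply]
  have hsum := geom_sum_eq_sub_one_pow hp hpE x
  have hxpow : ∀ (k : ℕ) (w : V), (x ^ k) (Additive.ofMul w) = Additive.ofMul ((σ ^ k) w) := by
    intro k
    induction k with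
    | zero => intro w; rfl
    | succ k ih =>
      intro w
      have e1 : (x ^ (k + 1)) (Additive.ofMul w) = (x ^ k) (x (Additive.ofMul w)) := by
        rw [pow_succ]; rfl
      have e2 : x (Additive.ofMul w) = Additive.ofMul (σ w) := rfl
      rw [e1, e2, ih, pow_succ]
      rfl
  have h2 := congrArg (fun f : AddMonoid.End (Additive V) => f (Additive.ofMul v)) hsum
  beta_reduce at h2
  have h3 : (∑ i ∈ Finset.range p, x ^ i) (Additive.ofMul v) =
      Additive.ofMul (∏ i ∈ Finset.range p, (σ ^ i) v) := by
    rw [ofMul_prod]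
    have : (∑ i ∈ Finset.range p, x ^ i) (Additive.ofMul v) =
        ∑ i ∈ Finset.range p, (x ^ i) (Additive.ofMul v) := by
      exact AddMonoidHom.finsetSum_apply _ _ _
    rw [this]
    apply Finset.sum_congr rfl
    intro i _
    exact hxpow i v
  rw [h3, hxsub] at h2
  exact Additive.ofMul.injective h2

end Norm

section Dual

variable {M : Type*} [Group M] {A : Type*} [CommGroup A]

/-- precomposition with an automorphism, as an automorphism of the group of homomorphisms -/
def precompAut (σ : MulAut M) : MulAut (M →* A) where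
  toFun ν := ν.comp σ.toMonoidHom
  invFun ν := ν.comp σ⁻¹.toMonoidHom
  left_inv ν := by ext y; simp
  right_inv ν := by ext y; simp
  map_mul' ν ν' := by ext y; simp

@[simp] theorem precompAut_apply (σ : MulAut M) (ν : M →* A) (y : M) :
    precompAut σ ν y = ν (σ y) := rfl

theorem precompAut_pow_apply (σ : MulAut M) (ν : M →* A) (y : M) (k : ℕ) :
    ((precompAut (A := A) σ) ^ k) ν y = ν ((σ ^ k) y) := by
  induction k generalizing y with
  | zero => rfl
  | succ k ih =>
    rw [pow_succ, pow_succ]
    change ((precompAut (A := A) σ) ^ k) (precompAut σ ν) y = ν ((σ ^ k * σ) y)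
    have : ∀ (ν' : M →* A) (y : M), ((precompAut (A := A) σ) ^ k) ν' y = ν' ((σ ^ k) y) := by
      intro ν' y'
      clear ih
      induction k generalizing ν' y' with
      | zero => rfl
      | succ k ih2 =>
        rw [pow_succ, pow_succ]
        change ((precompAut (A := A) σ) ^ k) (precompAut σ ν') y' = ν' ((σ ^ k * σ) y')
        rw [ih2]
        simp only [precompAut_apply, MulAut.mul_apply]
        congr 1
        rw [← MulAut.mul_apply, ← MulAut.mul_apply, ← pow_succ, ← pow_succ']
    rw [this]
    simp only [precompAut_apply, MulAut.mul_apply]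
    congr 1
    rw [← MulAut.mul_apply, ← MulAut.mul_apply, ← pow_succ, ← pow_succ']

/-- the norm identity evaluated on homomorphisms into a commutative group of exponent `p` -/
theorem prod_conj_eq_iterate {p : ℕ} (hp : p.Prime) (hexp : ∀ a : A, a ^ p = 1) (σ : MulAut M)
    (ν : M →* A) (y : M) :
    ∏ i ∈ Finset.range p, ν ((σ ^ i) y) = ν ((fun u : M => u⁻¹ * σ u)^[p - 1] y) := by
  have hexpV : ∀ ν' : M →* A, ν' ^ p = 1 := by
    intro ν'
    ext u
    simp [hexp]
  have h := norm_eq_iterate hp hexpV (precompAut (A := A) σ) ν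
  have h1 := congrArg (fun f : M →* A => f y) h
  beta_reduce at h1
  rw [MonoidHom.finsetProd_apply] at h1
  have h2 : ∀ i ∈ Finset.range p, (((precompAut (A := A) σ) ^ i) ν) y = ν ((σ ^ i) y) :=
    fun i _ => precompAut_pow_apply σ ν y i
  rw [Finset.prod_congr rfl h2] at h1
  rw [h1]
  have h3 : ∀ (k : ℕ) (ν' : M →* A) (u : M),
      ((fun w : M →* A => precompAut σ w * w⁻¹)^[k] ν') u = ν' ((fun u : M => u⁻¹ * σ u)^[k] u) := by
    intro k
    induction k with
    | zero => intro ν' u; rfl
    | succ k ih =>
      intro ν' u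
      rw [Function.iterate_succ_apply, ih, Function.iterate_succ_apply']
      simp only [MonoidHom.mul_apply, MonoidHom.inv_apply, precompAut_apply]
      rw [map_mul, map_inv, mul_comm]
  exact h3 (p - 1) ν y

end Dual

end Cfsg.Agent.Helper10
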