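import Mathlib
import Cfsg.Agent.Helper21.Gruen
import Cfsg.Agent.Helper1.PGroup
import Cfsg.Agent.Helper14.Frattini
import Cfsg.Agent.Helper10.YoshidaNorm

set_option autoImplicit false
set_option linter.unusedSectionVars false
set_option linter.unusedVariables false
set_option linter.style.haveILetI false

/-! # The local computation in the Wielandt–Yoshida transfer argument -/

namespace Cfsg.Agent.Helper10

open Subgroup MulAction MonoidHom Cfsg.Agent.Helper21

theorem inv_conj_pow {L : Type*} [Group L] (a z : L) (r : ℕ) :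
    (a⁻¹ * z * a) ^ r = a⁻¹ * z ^ r * a := by
  have := conj_pow (a := a⁻¹) (b := z) (i := r)
  simpa using this

section Fiber

variable {L : Type*} [Group L] [Finite L] {A : Type*} [CommGroup A]

/-- the conjugate `a⁻¹ z a` of an element of the normal subgroup `M`, as an element of `M` -/
def conjIn (M : Subgroup L) [hM : M.Normal] (z : L) (hz : z ∈ M) (a : L) : ↥M :=
  ⟨a⁻¹ * z * a, by
    have := hM.conj_mem z hz a⁻¹
    simpa using this⟩

@[simp] theorem conjIn_coe (M : Subgroup L) [hM : M.Normal] (z : L) (hz : z ∈ M) (a : L) :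
    ((conjIn M z hz a : ↥M) : L) = a⁻¹ * z * a := rfl

/-- restriction of a homomorphism on `R` to `R` viewed inside `M` -/
def resHom {R M : Subgroup L} (hRM : R ≤ M) (μ : ↥R →* A) : ↥(R.subgroupOf M) →* A :=
  μ.comp (Subgroup.subgroupOfEquivOfLe hRM).toMonoidHom

theorem resHom_apply {R M : Subgroup L} (hRM : R ≤ M) (μ : ↥R →* A) (x : ↥(R.subgroupOf M)) :
    resHom hRM μ x = μ ⟨((x : ↥M) : L), x.2⟩ := rfl

/-- decomposition of the product over the fixed cosets of `R` along the cosets of a normal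
subgroup `M ≥ R` -/
theorem prod_fixed_fiberwise (R M : Subgroup L) (hRM : R ≤ M) [hM : M.Normal] (μ : ↥R →* A)
    (z : L) (hz : z ∈ M)
    [Fintype (L ⧸ R)] [DecidableEq (L ⧸ R)] [Fintype (L ⧸ M)] [DecidableEq (L ⧸ M)]
    [Fintype (↥M ⧸ R.subgroupOf M)] [DecidableEq (↥M ⧸ R.subgroupOf M)] :
    ∏ d ∈ Finset.univ.filter (fun d : L ⧸ R => z • d = d), trF R μ z d =
      ∏ q : L ⧸ M, ∏ e ∈ Finset.univ.filter
        (fun e : ↥M ⧸ R.subgroupOf M => conjIn M z hz q.out • e = e),
        trF (R.subgroupOf M) (resHom hRM μ) (conjIn M z hz q.out) e := by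
  classical
  rw [← Finset.prod_fiberwise (Finset.univ.filter (fun d : L ⧸ R => z • d = d))
    (Subgroup.quotientMapOfLE hRM) (fun d => trF R μ z d)]
  apply Finset.prod_congr rfl
  intro q _
  symm
  set a : L := q.out with ha
  -- the map `m R'' ↦ (a m) R`
  let i : ↥M ⧸ R.subgroupOf M → L ⧸ R := Quotient.map' (fun m : ↥M => a * (m : L)) (by
    intro m₁ m₂ h
    rw [QuotientGroup.leftRel_apply] at h ⊢
    rw [Subgroup.mem_subgroupOf] at h
    have : (a * (m₁ : L))⁻¹ * (a * (m₂ : L)) = ((m₁⁻¹ * m₂ : ↥M) : L) := by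
      simp only [Subgroup.coe_mul, Subgroup.coe_inv]; group
    rw [this]; exact h)
  have hi : ∀ m : ↥M, i (QuotientGroup.mk m) = QuotientGroup.mk (a * (m : L)) := fun m => rfl
  have hfix : ∀ m : ↥M, (conjIn M z hz a • (QuotientGroup.mk m : ↥M ⧸ R.subgroupOf M) =
      QuotientGroup.mk m) ↔ (z • (QuotientGroup.mk (a * (m : L)) : L ⧸ R) = QuotientGroup.mk (a * (m : L))) := by
    intro m
    rw [smul_mk_eq_iff, smul_mk_eq_iff, Subgroup.mem_subgroupOf]
    have : ((m⁻¹ * conjIn M z hz a * m : ↥M) : L) = (a * (m : L))⁻¹ * z * (a * (m : L)) := by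
      simp only [Subgroup.coe_mul, Subgroup.coe_inv, conjIn_coe]; group
    rw [this]
  apply Finset.prod_bij (fun e _ => i e)
  · intro e he
    obtain ⟨m, rfl⟩ := QuotientGroup.mk_surjective e
    simp only [Finset.mem_filter, Finset.mem_univ, true_and] at he ⊢
    refine ⟨?_, ?_⟩
    · rw [hi]; exact (hfix m).1 he
    · rw [hi, Subgroup.quotientMapOfLE_apply_mk]
      have hq : (QuotientGroup.mk a : L ⧸ M) = q := by rw [ha]; exact QuotientGroup.out_eq' q
      rw [← hq, QuotientGroup.eq]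
      have : (a * (m : L))⁻¹ * a = (m : L)⁻¹ := by group
      rw [this]
      exact M.inv_mem m.2
  · intro e₁ _ e₂ _ h
    obtain ⟨m₁, rfl⟩ := QuotientGroup.mk_surjective e₁
    obtain ⟨m₂, rfl⟩ := QuotientGroup.mk_surjective e₂
    rw [hi, hi, QuotientGroup.eq] at h
    rw [QuotientGroup.eq, Subgroup.mem_subgroupOf]
    have : ((m₁⁻¹ * m₂ : ↥M) : L) = (a * (m₁ : L))⁻¹ * (a * (m₂ : L)) := by
      simp only [Subgroup.coe_mul, Subgroup.coe_inv]; group
    rw [this]; exact h
  · intro d hd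
    obtain ⟨b, rfl⟩ := QuotientGroup.mk_surjective d
    simp only [Finset.mem_filter, Finset.mem_univ, true_and] at hd
    obtain ⟨hd1, hd2⟩ := hd
    rw [Subgroup.quotientMapOfLE_apply_mk] at hd2
    have hq : (QuotientGroup.mk a : L ⧸ M) = q := by rw [ha]; exact QuotientGroup.out_eq' q
    rw [← hq, QuotientGroup.eq] at hd2
    have hm : a⁻¹ * b ∈ M := by
      have := M.inv_mem hd2
      simpa using this
    refine ⟨QuotientGroup.mk ⟨a⁻¹ * b, hm⟩, ?_, ?_⟩
    · simp only [Finset.mem_filter, Finset.mem_univ, true_and]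
      rw [hfix]
      have : a * ((⟨a⁻¹ * b, hm⟩ : ↥M) : L) = b := by simp
      rw [this]; exact hd1
    · rw [hi]
      congr 1
      simp
  · intro e he
    obtain ⟨m, rfl⟩ := QuotientGroup.mk_surjective e
    simp only [Finset.mem_filter, Finset.mem_univ, true_and] at he
    have h1 : m⁻¹ * conjIn M z hz a * m ∈ R.subgroupOf M := (smul_mk_eq_iff _ _ _).1 he
    have h2 : (a * (m : L))⁻¹ * z * (a * (m : L)) ∈ R := (smul_mk_eq_iff _ _ _).1 ((hfix m).1 he)
    rw [hi, trF_mk _ _ _ _ h1, trF_mk _ _ _ _ h2, resHom_apply]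
    congr 1
    apply Subtype.ext
    simp only [Subgroup.coe_mul, Subgroup.coe_inv, conjIn_coe]; group

/-- under the vanishing hypothesis on non-fixed orbits, the product over the fixed cosets of `R` is the
product over the cosets of `M` of the transfers from `M` to `R` -/
theorem prod_fixed_eq_prod_transfer (R M : Subgroup L) (hRM : R ≤ M) [hM : M.Normal] (μ : ↥R →* A)
    (z : L) (hz : z ∈ M)
    (kill : ∀ (k : L) (r : ℕ), r ≠ 1 → r ∣ orderOf z → ∀ h : k⁻¹ * z ^ r * k ∈ R,
      μ ⟨k⁻¹ * z ^ r * k, h⟩ = 1)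
    [Fintype (L ⧸ R)] [DecidableEq (L ⧸ R)] [Fintype (L ⧸ M)] [DecidableEq (L ⧸ M)] :
    ∏ d ∈ Finset.univ.filter (fun d : L ⧸ R => z • d = d), trF R μ z d =
      ∏ q : L ⧸ M, (transfer (resHom hRM μ)) (conjIn M z hz q.out) := by
  classical
  haveI : Fintype (↥M ⧸ R.subgroupOf M) := Fintype.ofFinite _
  rw [prod_fixed_fiberwise R M hRM μ z hz]
  apply Finset.prod_congr rfl
  intro q _
  symm
  apply transfer_eq_prod_fixed
  intro k r hr1 hrd h
  have hord : orderOf (conjIn M z hz q.out) = orderOf z := by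
    rw [← Subgroup.orderOf_coe, conjIn_coe]
    exact orderOf_conj_eq _ _
  rw [hord] at hrd
  rw [resHom_apply]
  have e : (((k⁻¹ * conjIn M z hz q.out ^ r * k : ↥M) : ↥M) : L) =
      (q.out * (k : L))⁻¹ * z ^ r * (q.out * (k : L)) := by
    simp only [Subgroup.coe_mul, Subgroup.coe_inv, Subgroup.coe_pow, conjIn_coe]
    rw [inv_conj_pow]
    group
  have h' : (q.out * (k : L))⁻¹ * z ^ r * (q.out * (k : L)) ∈ R := by
    rw [← e]; exact h
  have := kill (q.out * (k : L)) r hr1 hrd h'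
  rw [← this]
  congr 1
  exact Subtype.ext e

/-- `ν (a⁻¹ z a)` only depends on the coset `a M` -/
theorem apply_conjIn_eq_of_mk_eq (M : Subgroup L) [hM : M.Normal] (ν : ↥M →* A) (z : L) (hz : z ∈ M)
    {a b : L} (h : (QuotientGroup.mk a : L ⧸ M) = QuotientGroup.mk b) :
    ν (conjIn M z hz a) = ν (conjIn M z hz b) := by
  rw [QuotientGroup.eq] at h
  have e : conjIn M z hz b = (⟨a⁻¹ * b, h⟩ : ↥M)⁻¹ * conjIn M z hz a * ⟨a⁻¹ * b, h⟩ := by
    apply Subtype.ext
    simp only [Subgroup.coe_mul, Subgroup.coe_inv, conjIn_coe]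
    group
  rw [e, map_mul, map_mul, map_inv, mul_comm, ← mul_assoc, mul_inv_cancel, one_mul]

/-- reindexing the cosets of a normal subgroup of prime index by the powers of an element outside -/
theorem prod_quot_eq_prod_range {p : ℕ} [Fact p.Prime] (M : Subgroup L) [hM : M.Normal]
    (hidx : M.index = p) (w : L) (hw : w ∉ M) (ν : ↥M →* A) (z : L) (hz : z ∈ M)
    [Fintype (L ⧸ M)] :
    ∏ q : L ⧸ M, ν (conjIn M z hz q.out) = ∏ j ∈ Finset.range p, ν (conjIn M z hz (w ^ j)) := by
  classical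
  have hp : p.Prime := Fact.out
  have hcard : Nat.card (L ⧸ M) = p := by rw [← Subgroup.index_eq_card]; exact hidx
  have hw1 : (QuotientGroup.mk w : L ⧸ M) ≠ 1 := by
    intro h
    exact hw ((QuotientGroup.eq_one_iff w).1 h)
  have hord : orderOf (QuotientGroup.mk w : L ⧸ M) = p := by
    apply orderOf_eq_prime
    · rw [← hcard]; exact pow_card_eq_one'
    · exact hw1
  have hinj : Set.InjOn (fun j : ℕ => (QuotientGroup.mk (w ^ j) : L ⧸ M)) (Finset.range p : Set ℕ) := by
    intro i hi j hj h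
    simp only [QuotientGroup.mk_pow] at h
    have := pow_injOn_Iio_orderOf (x := (QuotientGroup.mk w : L ⧸ M))
    apply this
    · rw [hord]; simpa using hi
    · rw [hord]; simpa using hj
    · exact h
  have himg : (Finset.range p).image (fun j : ℕ => (QuotientGroup.mk (w ^ j) : L ⧸ M)) = Finset.univ := by
    apply Finset.eq_univ_of_card
    rw [Finset.card_image_of_injOn hinj, Finset.card_range, ← Nat.card_eq_fintype_card, hcard]
  rw [← himg, Finset.prod_image hinj]
  apply Finset.prod_congr rfl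
  intro j _
  apply apply_conjIn_eq_of_mk_eq
  exact QuotientGroup.out_eq' _

end Fiber

section Local

variable {L : Type*} [Group L] [Finite L] {A : Type*} [CommGroup A]

/-- the iterated commutator map `u ↦ [u, w] = u⁻¹ w⁻¹ u w` -/
def cw (w : L) : L → L := fun u => u⁻¹ * w⁻¹ * u * w

theorem cw_mem_normal (M : Subgroup L) [hM : M.Normal] (w : L) {u : L} (hu : u ∈ M) : cw w u ∈ M := by
  unfold cw
  have h1 : w⁻¹ * u * w ∈ M := by
    have := hM.conj_mem u hu w⁻¹
    simpa using this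
  have : u⁻¹ * w⁻¹ * u * w = u⁻¹ * (w⁻¹ * u * w) := by group
  rw [this]
  exact M.mul_mem (M.inv_mem hu) h1

theorem cw_mem_of_mem (W : Subgroup L) [hW : W.Normal] {w : L} (hw : w ∈ W) (u : L) : cw w u ∈ W := by
  unfold cw
  have h1 : u⁻¹ * w⁻¹ * u ∈ W := by
    have := hW.conj_mem w⁻¹ (W.inv_mem hw) u⁻¹
    simpa using this
  exact W.mul_mem h1 hw

theorem cw_iterate_mem (M W : Subgroup L) [M.Normal] [W.Normal] {w : L} (hw : w ∈ W) {u : L}
    (hu : u ∈ M) : ∀ k : ℕ, 1 ≤ k → (cw w)^[k] u ∈ W ⊓ M := by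
  have hM : ∀ k : ℕ, (cw w)^[k] u ∈ M := by
    intro k
    induction k with
    | zero => exact hu
    | succ k ih =>
      rw [Function.iterate_succ_apply']
      exact cw_mem_normal M w ih
  intro k hk
  obtain ⟨k, rfl⟩ := Nat.exists_eq_succ_of_ne_zero (by omega : k ≠ 0)
  refine ⟨?_, hM _⟩
  rw [Function.iterate_succ_apply']
  exact cw_mem_of_mem W hw _

/-- **The local lemma.**  `L` a `p`-group, `W` normal, `R` a subgroup with `RW = L` not containing `W`,
`z ∈ R`, `μ` a homomorphism from `R` into a commutative group of exponent `p` which kills the `R`-parts of the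
non-fixed orbits of `z`.  If the iterated commutators `[x, w; p - 1]` (`w ∈ W`) which lie in a subgroup
`W₀` of index `p` of `W` lie in its Frattini subgroup, the fixed-point product of `μ` is trivial. -/
theorem yoshida_local {p : ℕ} [hp : Fact p.Prime] (hL : IsPGroup p L) (W R : Subgroup L) [hW : W.Normal]
    (hRW : R ⊔ W = ⊤) (hWR : ¬ W ≤ R) (μ : ↥R →* A) (hexp : ∀ a : A, a ^ p = 1) (z : L) (hz : z ∈ R)
    (kill : ∀ (k : L) (r : ℕ), r ≠ 1 → r ∣ orderOf z → ∀ h : k⁻¹ * z ^ r * k ∈ R,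
      μ ⟨k⁻¹ * z ^ r * k, h⟩ = 1)
    (HW : ∀ (x w : L), w ∈ W → ∀ W₀ : Subgroup L, W₀ ≤ W → W₀.relIndex W = p →
      (cw w)^[p - 1] x ∈ W₀ → (cw w)^[p - 1] x ∈ (frattini ↥W₀).map W₀.subtype)
    [Fintype (L ⧸ R)] [DecidableEq (L ⧸ R)] :
    ∏ d ∈ Finset.univ.filter (fun d : L ⧸ R => z • d = d), trF R μ z d = 1 := by
  classical
  have hpp : p.Prime := hp.out
  have hRtop : R ≠ ⊤ := fun h => hWR (h ▸ le_top)
  obtain h | ⟨M, hMco, hRM⟩ := eq_top_or_exists_le_coatom R
  · exact absurd h hRtop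
  haveI hMn : M.Normal := Cfsg.Agent.Helper1.IsPGroup.coatom_normal hL hMco
  have hidx : M.index = p := Cfsg.Agent.Helper1.IsPGroup.coatom_index hL hMco
  have hWM : ¬ W ≤ M := by
    intro h
    have : (⊤ : Subgroup L) ≤ M := hRW ▸ sup_le hRM h
    exact hMco.1 (top_le_iff.1 this)
  obtain ⟨w, hwW, hwM⟩ := Set.not_subset.1 hWM
  have hzM : z ∈ M := hRM hz
  haveI : Fintype (L ⧸ M) := Fintype.ofFinite _
  rw [prod_fixed_eq_prod_transfer R M hRM μ z hzM kill]
  set ν : ↥M →* A := transfer (resHom hRM μ) with hν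
  rw [prod_quot_eq_prod_range M hidx w hwM ν z hzM]
  -- the automorphism `u ↦ w⁻¹ u w` of `M`
  let σ : MulAut ↥M := MulAut.conjNormal (w⁻¹)
  have hσ : ∀ (j : ℕ) (y : ↥M), (((σ ^ j) y : ↥M) : L) = (w ^ j)⁻¹ * (y : L) * w ^ j := by
    intro j y
    have : σ ^ j = MulAut.conjNormal ((w⁻¹) ^ j) := by rw [map_pow]
    rw [this, MulAut.conjNormal_apply]
    simp
  have h1 : ∀ j ∈ Finset.range p, ν (conjIn M z hzM (w ^ j)) = ν ((σ ^ j) ⟨z, hzM⟩) := by
    intro j _
    congr 1
    apply Subtype.ext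
    rw [hσ]
    rfl
  rw [Finset.prod_congr rfl h1, prod_conj_eq_iterate hpp hexp σ ν ⟨z, hzM⟩]
  -- identify the iterate
  have hit : ∀ (k : ℕ) (y : ↥M),
      (((fun u : ↥M => u⁻¹ * σ u)^[k] y : ↥M) : L) = (cw w)^[k] (y : L) := by
    intro k
    induction k with
    | zero => intro y; rfl
    | succ k ih =>
      intro y
      rw [Function.iterate_succ_apply, Function.iterate_succ_apply, ih]
      congr 1
      have := hσ 1 y
      simp only [pow_one] at this
      simp only [Subgroup.coe_mul, Subgroup.coe_inv, this, cw]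
      group
  set c : L := (cw w)^[p - 1] z with hc
  have hp1 : 1 ≤ p - 1 := by have := hpp.two_le; omega
  have hcW0 : c ∈ W ⊓ M := cw_iterate_mem M W hwW hzM (p - 1) hp1
  have hrel : (W ⊓ M).relIndex W = p := by
    rw [Subgroup.inf_relIndex_left]
    have hsup : W ⊔ M = ⊤ := by
      by_contra hne
      have hlt : M < W ⊔ M := lt_of_le_of_ne le_sup_right (fun h => hWM (h ▸ le_sup_left))
      exact hne (hMco.2 _ hlt)
    rw [← Subgroup.relIndex_sup_right W M, hsup, Subgroup.relIndex_top_right, hidx]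
  have hfr := HW z w hwW (W ⊓ M) inf_le_left hrel hcW0
  obtain ⟨x', hx'F, hx'c⟩ := hfr
  -- `ν` restricted to `W ⊓ M` kills the Frattini subgroup
  let ν' : ↥(W ⊓ M) →* A := ν.comp (Subgroup.inclusion (inf_le_right : W ⊓ M ≤ M))
  have hker : frattini ↥(W ⊓ M) ≤ ν'.ker := by
    apply Cfsg.Agent.Helper14.frattini_le_of_elemAb p
    · intro a b
      rw [MonoidHom.mem_ker, map_commutatorElement]
      exact commutatorElement_eq_one_iff_commute.2 (Commute.all _ _)
    · intro a
      rw [MonoidHom.mem_ker, map_pow]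
      exact hexp _
  have h2 := hker hx'F
  rw [MonoidHom.mem_ker] at h2
  have h3 : (fun u : ↥M => u⁻¹ * σ u)^[p - 1] ⟨z, hzM⟩ = Subgroup.inclusion (inf_le_right : W ⊓ M ≤ M) x' := by
    apply Subtype.ext
    rw [hit]
    change c = ((x' : ↥(W ⊓ M)) : L)
    exact hx'c.symm
  rw [h3]
  exact h2

end Local

end Cfsg.Agent.Helper10
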