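import Mathlib
import Cfsg.Agent.Helper21.Gruen
import Cfsg.Agent.Helper10.YoshidaCore

set_option autoImplicit false
set_option linter.unusedSectionVars false
set_option linter.unusedVariables false
set_option linter.style.haveILetI false

/-! # The Mackey decomposition of the fixed-point product along the orbits of a subgroup -/

namespace Cfsg.Agent.Helper10

open Subgroup MulAction MonoidHom Cfsg.Agent.Helper21

section Mackey

variable {G : Type*} [Group G] {A : Type*} [CommGroup A]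

/-- the conjugation map `l ↦ g⁻¹ l g` from `L` to `G` -/
def conjFrom (L : Subgroup G) (g : G) : ↥L →* G := (MulAut.conj g⁻¹).toMonoidHom.comp L.subtype

theorem conjFrom_apply (L : Subgroup G) (g : G) (l : ↥L) :
    conjFrom L g l = g⁻¹ * (l : G) * g := by
  simp [conjFrom]

/-- the stabilizer in `L` of the coset `g N` -/
abbrev stabL (N L : Subgroup G) (g : G) : Subgroup ↥L := N.comap (conjFrom L g)

theorem mem_stabL {N L : Subgroup G} {g : G} {l : ↥L} :
    l ∈ stabL N L g ↔ g⁻¹ * (l : G) * g ∈ N := by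
  rw [stabL, Subgroup.mem_comap, conjFrom_apply]

/-- the homomorphism `r ↦ lam (g⁻¹ r g)` on the stabilizer of `g N` in `L` -/
def muL (N L : Subgroup G) (g : G) (lam : ↥N →* A) : ↥(stabL N L g) →* A :=
  lam.comp ((conjFrom L g).subgroupComap N)

theorem muL_apply (N L : Subgroup G) (g : G) (lam : ↥N →* A) (r : ↥(stabL N L g)) :
    muL N L g lam r = lam ⟨g⁻¹ * ((r : ↥L) : G) * g, mem_stabL.1 r.2⟩ := by
  unfold muL
  rw [MonoidHom.comp_apply]
  congr 1
  apply Subtype.ext
  exact conjFrom_apply L g (r : ↥L)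

/-- **Mackey block.**  The part of the fixed-point product over the `L`-orbit of the coset `g N`
is the fixed-point product for the stabilizer of `g N` in `L`. -/
theorem prod_orbit_fixed_eq [Finite G] (N L : Subgroup G) (g : G) (lam : ↥N →* A) (z : G)
    (hz : z ∈ L)
    [Fintype (G ⧸ N)] [DecidableEq (G ⧸ N)]
    [Fintype (↥L ⧸ stabL N L g)] [DecidableEq (↥L ⧸ stabL N L g)]
    [DecidablePred (fun c' : G ⧸ N => c' ∈ MulAction.orbit ↥L (QuotientGroup.mk g : G ⧸ N))] :
    ∏ c' ∈ Finset.univ.filter (fun c' : G ⧸ N =>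
        c' ∈ MulAction.orbit ↥L (QuotientGroup.mk g : G ⧸ N) ∧ z • c' = c'), trF N lam z c' =
      ∏ d ∈ Finset.univ.filter (fun d : ↥L ⧸ stabL N L g => (⟨z, hz⟩ : ↥L) • d = d),
        trF (stabL N L g) (muL N L g lam) ⟨z, hz⟩ d := by
  classical
  symm
  let i : ↥L ⧸ stabL N L g → G ⧸ N := Quotient.map' (fun l : ↥L => (l : G) * g) (by
    intro l₁ l₂ h
    rw [QuotientGroup.leftRel_apply] at h ⊢
    rw [mem_stabL] at h
    have : ((l₁ : G) * g)⁻¹ * ((l₂ : G) * g) = g⁻¹ * ((l₁⁻¹ * l₂ : ↥L) : G) * g := by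
      simp only [Subgroup.coe_mul, Subgroup.coe_inv]; group
    rw [this]; exact h)
  have hi : ∀ l : ↥L, i (QuotientGroup.mk l) = QuotientGroup.mk ((l : G) * g) := fun l => rfl
  have hfix : ∀ l : ↥L,
      ((⟨z, hz⟩ : ↥L) • (QuotientGroup.mk l : ↥L ⧸ stabL N L g) = QuotientGroup.mk l) ↔
      (z • (QuotientGroup.mk ((l : G) * g) : G ⧸ N) = QuotientGroup.mk ((l : G) * g)) := by
    intro l
    rw [smul_mk_eq_iff, smul_mk_eq_iff, mem_stabL]
    have : g⁻¹ * ((l⁻¹ * ⟨z, hz⟩ * l : ↥L) : G) * g = ((l : G) * g)⁻¹ * z * ((l : G) * g) := by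
      simp only [Subgroup.coe_mul, Subgroup.coe_inv]; group
    rw [this]
  have horb : ∀ l : ↥L, l • (QuotientGroup.mk g : G ⧸ N) = QuotientGroup.mk ((l : G) * g) := by
    intro l
    rfl
  apply Finset.prod_bij (fun d _ => i d)
  · intro d hd
    obtain ⟨l, rfl⟩ := QuotientGroup.mk_surjective d
    simp only [Finset.mem_filter, Finset.mem_univ, true_and] at hd ⊢
    refine ⟨?_, ?_⟩
    · rw [hi]; exact ⟨l, horb l⟩
    · rw [hi]; exact (hfix l).1 hd
  · intro d₁ _ d₂ _ h
    obtain ⟨l₁, rfl⟩ := QuotientGroup.mk_surjective d₁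
    obtain ⟨l₂, rfl⟩ := QuotientGroup.mk_surjective d₂
    rw [hi, hi, QuotientGroup.eq] at h
    rw [QuotientGroup.eq, mem_stabL]
    have : g⁻¹ * ((l₁⁻¹ * l₂ : ↥L) : G) * g = ((l₁ : G) * g)⁻¹ * ((l₂ : G) * g) := by
      simp only [Subgroup.coe_mul, Subgroup.coe_inv]; group
    rw [this]; exact h
  · intro c' hc'
    simp only [Finset.mem_filter, Finset.mem_univ, true_and] at hc'
    obtain ⟨⟨l, hl⟩, hc2⟩ := hc'
    have hl' : c' = QuotientGroup.mk ((l : G) * g) := by rw [← horb l]; exact hl.symm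
    refine ⟨QuotientGroup.mk l, ?_, ?_⟩
    · simp only [Finset.mem_filter, Finset.mem_univ, true_and]
      rw [hfix, ← hl']; exact hc2
    · rw [hi, hl']
  · intro d hd
    obtain ⟨l, rfl⟩ := QuotientGroup.mk_surjective d
    simp only [Finset.mem_filter, Finset.mem_univ, true_and] at hd
    have h1 : l⁻¹ * (⟨z, hz⟩ : ↥L) * l ∈ stabL N L g := (smul_mk_eq_iff _ _ _).1 hd
    have h2 : ((l : G) * g)⁻¹ * z * ((l : G) * g) ∈ N := (smul_mk_eq_iff _ _ _).1 ((hfix l).1 hd)
    rw [hi, trF_mk _ _ _ _ h1, trF_mk _ _ _ _ h2, muL_apply]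
    congr 1
    apply Subtype.ext
    simp only [Subgroup.coe_mul, Subgroup.coe_inv]; group

end Mackey

end Cfsg.Agent.Helper10
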