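import Mathlib
import Cfsg.Prelude.Def_Transfer
import Cfsg.Agent.Helper21.Gruen
import Cfsg.Agent.Helper10.YoshidaCore
import Cfsg.Agent.Helper10.YoshidaMackey

set_option autoImplicit false
set_option linter.unusedSectionVars false
set_option linter.unusedVariables false
set_option linter.style.haveILetI false

/-! # The Wielandt–Yoshida transfer argument: global part -/

namespace Cfsg.Agent.Helper10

open Subgroup MulAction MonoidHom Cfsg.Agent.Helper21

section Aux

variable {G : Type*} [Group G]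

/-- the Frattini subgroup of a subgroup of a subgroup, pushed to the ambient group -/
theorem frattini_map_map_subtype (K : Subgroup G) (V : Subgroup ↥K) :
    ((frattini ↥V).map V.subtype).map K.subtype =
      (frattini ↥(V.map K.subtype)).map (V.map K.subtype).subtype := by
  let e : ↥V ≃* ↥(V.map K.subtype) := V.equivMapOfInjective K.subtype K.subtype_injective
  have h1 : (frattini ↥V).map e.toMonoidHom = frattini ↥(V.map K.subtype) :=
    OrderIso.map_radical (MulEquiv.mapSubgroup e)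
  rw [← h1, Subgroup.map_map, Subgroup.map_map]
  congr 1

/-- transport of the Frattini image along an equality of subgroups -/
theorem frattini_map_subtype_congr {V V' : Subgroup G} (h : V = V') :
    (frattini ↥V).map V.subtype = (frattini ↥V').map V'.subtype := by
  subst h; rfl

theorem cw_iterate_coe (K : Subgroup G) (w x : ↥K) (k : ℕ) :
    (((cw w)^[k] x : ↥K) : G) = (cw (w : G))^[k] (x : G) := by
  induction k generalizing x with
  | zero => rfl
  | succ k ih =>
    rw [Function.iterate_succ_apply, Function.iterate_succ_apply, ih]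
    rfl

variable [Finite G] {p : ℕ} [hp : Fact p.Prime]

/-- Sylow conjugacy inside a subgroup containing a Sylow subgroup -/
theorem exists_conj_le_sylow_in (S : Sylow p G) {N T : Subgroup G}
    (hSN : (S : Subgroup G) ≤ N) (hTN : T ≤ N) (hT : IsPGroup p ↥T) :
    ∃ n ∈ N, ∀ t ∈ T, n * t * n⁻¹ ∈ (S : Subgroup G) := by
  have hT' : IsPGroup p ↥(T.subgroupOf N) := hT.comap_subtype
  obtain ⟨Q₁, hQ₁⟩ := hT'.exists_le_sylow
  obtain ⟨m, hm⟩ := MulAction.exists_smul_eq ↥N Q₁ (S.subtype hSN)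
  refine ⟨m, m.2, ?_⟩
  intro t ht
  have h1 : (⟨t, hTN ht⟩ : ↥N) ∈ (Q₁ : Subgroup ↥N) := hQ₁ (mem_subgroupOf.mpr ht)
  have h2 : m * ⟨t, hTN ht⟩ * m⁻¹ ∈ ((m • Q₁ : Sylow p ↥N) : Subgroup ↥N) := by
    rw [Sylow.coe_subgroup_smul, Subgroup.mem_pointwise_smul_iff_inv_smul_mem]
    have : (MulAut.conj m)⁻¹ • (m * ⟨t, hTN ht⟩ * m⁻¹) = (⟨t, hTN ht⟩ : ↥N) := by
      simp [MulAut.smul_def]
      group
    rw [this]
    exact h1
  rw [hm, Sylow.coe_subtype, mem_subgroupOf] at h2
  exact h2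

end Aux

section Main

variable {G : Type*} [Group G] [Finite G] {p : ℕ} [hp : Fact p.Prime] {A : Type*} [CommGroup A]

/-- **Main lemma of the Wielandt–Yoshida argument.**  `W` weakly closed in the Sylow subgroup `S`,
`lam` a homomorphism from `N_G(W)` into a commutative group of exponent `p`.  Under the commutator
hypothesis `HW`, `lam` kills `S ∩ G'`. -/
theorem yoshida_main (S : Sylow p G) (W : Subgroup G)
    (hW : Cfsg.IsWeaklyClosed W (S : Subgroup G))
    (hexp : ∀ a : A, a ^ p = 1)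
    (N : Subgroup G) (hN : N = normalizer (W : Set G)) (lam : ↥N →* A)
    (HW : ∀ x ∈ (S : Subgroup G), ∀ w ∈ W, ∀ V : Subgroup G, V ≤ W → V.relIndex W = p →
      (cw w)^[p - 1] x ∈ V → (cw w)^[p - 1] x ∈ (frattini ↥V).map V.subtype) :
    ∀ (n : ℕ) (z : G), orderOf z = n → z ∈ (S : Subgroup G) → z ∈ commutator G →
      ∀ hzN : z ∈ N, lam ⟨z, hzN⟩ = 1 := by
  classical
  have hpp : p.Prime := hp.out
  have hWS : W ≤ (S : Subgroup G) := hW.1
  have hSN : (S : Subgroup G) ≤ N := by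
    intro s hs
    rw [hN, Subgroup.mem_normalizer_iff_map_conj_eq]
    apply hW.2 s
    rintro _ ⟨w, hw, rfl⟩
    have : (MulAut.conj s).toMonoidHom w = s * w * s⁻¹ := by simp [MulAut.conj_apply]
    rw [this]
    exact (S : Subgroup G).mul_mem ((S : Subgroup G).mul_mem hs (hWS hw)) ((S : Subgroup G).inv_mem hs)
  intro n
  induction n using Nat.strong_induction_on with
  | _ n ih =>
  intro z hzn hzS hzG hzN
  have kill : ∀ (k : G) (r : ℕ), r ≠ 1 → r ∣ orderOf z → ∀ h : k⁻¹ * z ^ r * k ∈ N,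
      lam ⟨k⁻¹ * z ^ r * k, h⟩ = 1 := by
    intro k r hr1 hrd h
    obtain ⟨j, hj⟩ : ∃ j, orderOf z = p ^ j := by
      obtain ⟨j, hj⟩ := S.2 ⟨z, hzS⟩
      have h1 : z ^ p ^ j = 1 := by simpa using congrArg Subtype.val hj
      obtain ⟨i, _, hi⟩ := (Nat.dvd_prime_pow hpp).1 (orderOf_dvd_of_pow_eq_one h1)
      exact ⟨i, hi⟩
    have hpr : p ∣ r := by
      rw [hj] at hrd
      obtain ⟨i, _, hi⟩ := (Nat.dvd_prime_pow hpp).1 hrd
      rcases i with _ | i
      · exact absurd (by simpa using hi) hr1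
      · rw [hi, pow_succ]; exact dvd_mul_left _ _
    have hpz : p ∣ orderOf z := dvd_trans hpr hrd
    have hlt : orderOf (z ^ r) < orderOf z := orderOf_pow_lt_of_prime_dvd hpp z hpz r hpr
    have hyo : orderOf (k⁻¹ * z ^ r * k) = orderOf (z ^ r) := orderOf_conj_eq k (z ^ r)
    have hTp : IsPGroup p ↥(zpowers (k⁻¹ * z ^ r * k)) := by
      have hd : orderOf (z ^ r) ∣ p ^ j := by rw [← hj]; exact orderOf_pow_dvd r
      obtain ⟨i, _, hi⟩ := (Nat.dvd_prime_pow hpp).1 hd
      apply IsPGroup.of_card (n := i)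
      rw [Nat.card_zpowers, hyo, hi]
    obtain ⟨m, hmN, hm⟩ := exists_conj_le_sylow_in S hSN (zpowers_le.2 h) hTp
    have hy' : m * (k⁻¹ * z ^ r * k) * m⁻¹ ∈ (S : Subgroup G) := hm _ (mem_zpowers _)
    have hyG : m * (k⁻¹ * z ^ r * k) * m⁻¹ ∈ commutator G := by
      have hn : (commutator G).Normal := inferInstance
      apply hn.conj_mem
      have := hn.conj_mem (z ^ r) ((commutator G).pow_mem hzG r) k⁻¹
      simpa using this
    have hyN : m * (k⁻¹ * z ^ r * k) * m⁻¹ ∈ N := hSN hy'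
    have hyo' : orderOf (m * (k⁻¹ * z ^ r * k) * m⁻¹) = orderOf (k⁻¹ * z ^ r * k) := by
      have := orderOf_conj_eq m⁻¹ (k⁻¹ * z ^ r * k)
      simpa using this
    have h1 := ih (orderOf (m * (k⁻¹ * z ^ r * k) * m⁻¹)) (by rw [hyo', hyo, ← hzn]; exact hlt)
      (m * (k⁻¹ * z ^ r * k) * m⁻¹) rfl hy' hyG hyN
    have e : (⟨m * (k⁻¹ * z ^ r * k) * m⁻¹, hyN⟩ : ↥N) =
        ⟨m, hmN⟩ * ⟨k⁻¹ * z ^ r * k, h⟩ * ⟨m, hmN⟩⁻¹ := rfl
    rw [e, map_mul, map_mul, map_inv, mul_comm, inv_mul_cancel_left] at h1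
    exact h1
  haveI : Fintype (G ⧸ N) := Fintype.ofFinite _
  have htr : transfer lam z = 1 := by
    have h1 : commutator G ≤ (transfer lam).ker := Abelianization.commutator_subset_ker _
    exact MonoidHom.mem_ker.1 (h1 hzG)
  rw [transfer_eq_prod_fixed N lam z kill] at htr
  obtain ⟨c₀, hc₀⟩ : ∃ c₀ : G ⧸ N, c₀ = QuotientGroup.mk 1 := ⟨_, rfl⟩
  have hc₀fix : z • c₀ = c₀ := by
    rw [hc₀, smul_mk_eq_iff]; simpa using hzN
  have hc₀mem : c₀ ∈ Finset.univ.filter (fun c : G ⧸ N => z • c = c) := by simp [hc₀fix]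
  rw [← Finset.mul_prod_erase _ _ hc₀mem] at htr
  have hval : trF N lam z c₀ = lam ⟨z, hzN⟩ := by
    have h1 : (1 : G)⁻¹ * z * 1 ∈ N := by simpa using hzN
    rw [hc₀, trF_mk N lam z 1 h1]; congr 1; apply Subtype.ext; simp
  rw [hval] at htr
  suffices hrest : ∏ c ∈ (Finset.univ.filter (fun c : G ⧸ N => z • c = c)).erase c₀,
      trF N lam z c = 1 by
    rw [hrest, mul_one] at htr; exact htr
  -- the group `L = ⟨z⟩ W`
  obtain ⟨L, hL⟩ : ∃ L : Subgroup G, L = zpowers z ⊔ W := ⟨_, rfl⟩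
  have hzL : z ∈ L := by rw [hL]; exact (le_sup_left : zpowers z ≤ _) (mem_zpowers z)
  have hWL : W ≤ L := by rw [hL]; exact le_sup_right
  have hLS : L ≤ (S : Subgroup G) := by rw [hL]; exact sup_le (zpowers_le.2 hzS) hWS
  have hLN : L ≤ N := hLS.trans hSN
  apply prod_eq_one_of_blocks (fun c => trF N lam z c)
    (fun c => Finset.univ.filter (fun c' : G ⧸ N => c' ∈ MulAction.orbit ↥L c ∧ z • c' = c'))
  · intro c hc
    simp only [Finset.mem_erase, Finset.mem_filter, Finset.mem_univ, true_and] at hc ⊢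
    exact ⟨MulAction.mem_orbit_self c, hc.2⟩
  · intro c hc c' hc'
    simp only [Finset.mem_erase, Finset.mem_filter, Finset.mem_univ, true_and] at hc hc' ⊢
    refine ⟨?_, hc'.2⟩
    intro hcc
    obtain ⟨l, hl⟩ := hc'.1
    apply hc.1
    have h1 : c = l⁻¹ • c₀ := by rw [← hcc, ← hl, inv_smul_smul]
    rw [h1]
    show ((l⁻¹ : ↥L) : G) • c₀ = c₀
    rw [hc₀, smul_mk_eq_iff]
    simpa using N.inv_mem (hLN l.2)
  · intro c hc c' hc'
    simp only [Finset.mem_filter, Finset.mem_univ, true_and] at hc'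
    have h1 : MulAction.orbit ↥L c' = MulAction.orbit ↥L c := MulAction.orbit_eq_iff.2 hc'.1
    simp only [h1]
  · intro c hc
    simp only [Finset.mem_erase, Finset.mem_filter, Finset.mem_univ, true_and] at hc
    obtain ⟨g, rfl⟩ := QuotientGroup.mk_surjective c
    obtain ⟨hgc₀, hgfix⟩ := hc
    have hgN : g ∉ N := by
      intro hg
      apply hgc₀
      rw [hc₀, QuotientGroup.eq]
      simpa using N.inv_mem hg
    have hzR : g⁻¹ * z * g ∈ N := (smul_mk_eq_iff N z g).1 hgfix
    haveI : Fintype (↥L ⧸ stabL N L g) := Fintype.ofFinite _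
    rw [prod_orbit_fixed_eq N L g lam z hzL]
    haveI hWn : (W.subgroupOf L).Normal :=
      Subgroup.normal_subgroupOf_of_le_normalizer (hN ▸ hLN)
    apply yoshida_local (S.2.to_le hLS) (W.subgroupOf L) (stabL N L g) ?_ ?_ (muL N L g lam) hexp
      ⟨z, hzL⟩ ?_ ?_ ?_
    · -- `R ⊔ W = ⊤`
      have h1 : (zpowers z ⊔ W).subgroupOf L = (zpowers z).subgroupOf L ⊔ W.subgroupOf L :=
        Subgroup.subgroupOf_sup (by rw [hL]; exact le_sup_left) hWL
      have h2 : (zpowers z ⊔ W).subgroupOf L = ⊤ := by rw [← hL]; exact Subgroup.subgroupOf_self L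
      rw [eq_top_iff, ← h2, h1]
      apply sup_le_sup_right
      intro l hl
      rw [Subgroup.mem_subgroupOf] at hl
      obtain ⟨k, hk⟩ := mem_zpowers_iff.1 hl
      rw [mem_stabL, ← hk]
      have h3 : g⁻¹ * z ^ k * g = (g⁻¹ * z * g) ^ k := by
        have := conj_zpow (a := g⁻¹) (b := z) (i := k)
        simpa using this.symm
      rw [h3]
      exact N.zpow_mem hzR k
    · -- `¬ W ≤ R`
      intro hle
      apply hgN
      have hTN : W.map (MulAut.conj g⁻¹).toMonoidHom ≤ N := by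
        rintro _ ⟨w, hw, rfl⟩
        have := hle (show (⟨w, hWL hw⟩ : ↥L) ∈ W.subgroupOf L from Subgroup.mem_subgroupOf.2 hw)
        rw [mem_stabL] at this
        simpa [MulAut.conj_apply] using this
      have hTp : IsPGroup p ↥(W.map (MulAut.conj g⁻¹).toMonoidHom) := (S.2.to_le hWS).map _
      obtain ⟨m, hmN, hm⟩ := exists_conj_le_sylow_in S hSN hTN hTp
      have hmap : W.map (MulAut.conj (m * g⁻¹)).toMonoidHom ≤ (S : Subgroup G) := by
        rintro _ ⟨w, hw, rfl⟩
        have := hm (g⁻¹ * w * g) ⟨w, hw, by simp⟩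
        simpa [MulAut.conj_apply, mul_assoc] using this
      have heq := hW.2 (m * g⁻¹) hmap
      have hmg : m * g⁻¹ ∈ N := by
        rw [hN, Subgroup.mem_normalizer_iff_map_conj_eq]; exact heq
      have h1 : g⁻¹ ∈ N := by
        have := N.mul_mem (N.inv_mem hmN) hmg
        simpa using this
      simpa using N.inv_mem h1
    · exact mem_stabL.2 hzR
    · -- kill
      intro k r hr1 hrd h
      rw [muL_apply]
      have hord : orderOf (⟨z, hzL⟩ : ↥L) = orderOf z := Subgroup.orderOf_mk z hzL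
      rw [hord] at hrd
      have e : g⁻¹ * (((k⁻¹ * (⟨z, hzL⟩ : ↥L) ^ r * k : ↥L) : ↥L) : G) * g =
          ((k : G) * g)⁻¹ * z ^ r * ((k : G) * g) := by
        simp only [Subgroup.coe_mul, Subgroup.coe_inv, Subgroup.coe_pow]; group
      have h' : ((k : G) * g)⁻¹ * z ^ r * ((k : G) * g) ∈ N := by rw [← e]; exact mem_stabL.1 h
      rw [← kill ((k : G) * g) r hr1 hrd h']
      congr 1
      exact Subtype.ext e
    · -- HW
      intro x w hw W₀ hW₀ hrel hc
      have hVW : W₀.map L.subtype ≤ W := by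
        rintro _ ⟨v, hv, rfl⟩
        exact Subgroup.mem_subgroupOf.1 (hW₀ hv)
      have hWmap : (W.subgroupOf L).map L.subtype = W := Subgroup.map_subgroupOf_eq_of_le hWL
      have hrelV : (W₀.map L.subtype).relIndex W = p := by
        have h1 := Subgroup.relIndex_map_map_of_injective W₀ (W.subgroupOf L) L.subtype_injective
        rw [hWmap] at h1
        rw [h1]; exact hrel
      have hcoe := cw_iterate_coe L w x (p - 1)
      have hcV : (cw (w : G))^[p - 1] (x : G) ∈ W₀.map L.subtype := ⟨_, hc, hcoe⟩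
      have h2 := HW (x : G) (hLS x.2) (w : G) (Subgroup.mem_subgroupOf.1 hw) (W₀.map L.subtype) hVW
        hrelV hcV
      rw [← frattini_map_map_subtype L W₀] at h2
      obtain ⟨y, hy, hyc⟩ := h2
      have h3 : y = (cw w)^[p - 1] x := Subtype.ext (hyc.trans hcoe.symm)
      rw [← h3]; exact hy

end Main

end Cfsg.Agent.Helper10
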