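import Mathlib
import Cfsg.Agent.Helper1.PGroup
import Cfsg.Agent.Helper14.Frattini

set_option autoImplicit false
set_option linter.unusedSectionVars false
set_option linter.unusedVariables false
set_option linter.style.haveILetI false

/-! # Tate's lemma on transfer into a Sylow subgroup (elementary form) -/

namespace Cfsg.Agent.Helper10

open Subgroup MulAction MonoidHom
open scoped commutatorElement

section Transfer

variable {X : Type*} [Group X] {A : Type*} [CommGroup A] {B : Type*} [CommGroup B]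

/-- the transfer is natural in the target -/
theorem transfer_comp_hom {H : Subgroup X} [H.FiniteIndex] (ϕ : ↥H →* A) (f : A →* B) :
    transfer (f.comp ϕ) = f.comp (transfer ϕ) := by
  classical
  ext g
  have : Fintype (Quotient (MulAction.orbitRel (zpowers g) (X ⧸ H))) := Fintype.ofFinite _
  rw [MonoidHom.comp_apply, transfer_eq_prod_quotient_orbitRel_zpowers_quot,
    transfer_eq_prod_quotient_orbitRel_zpowers_quot, map_prod]
  rfl

/-- Evaluation of the transfer on an element `x` of `H` when `ϕ` takes the same value on all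
conjugates of powers of `x` lying in `H`. -/
theorem transfer_eq_pow_of_fusion' {H : Subgroup X} [H.FiniteIndex] (ϕ : ↥H →* A) (x : ↥H)
    (key : ∀ (k : ℕ) (g₀ : X) (h : g₀⁻¹ * (x : X) ^ k * g₀ ∈ H),
      ϕ ⟨g₀⁻¹ * (x : X) ^ k * g₀, h⟩ = ϕ x ^ k) :
    transfer ϕ (x : X) = ϕ x ^ H.index := by
  classical
  have : Fintype (Quotient (MulAction.orbitRel (zpowers (x : X)) (X ⧸ H))) :=
    Fintype.ofFinite _
  rw [index_eq_sum_minimalPeriod H (x : X), ← Finset.prod_pow_eq_pow_sum,
    transfer_eq_prod_quotient_orbitRel_zpowers_quot]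
  apply Finset.prod_congr rfl
  intro q _
  exact key _ _ _

/-- if `π` kills `H ∩ X'` then the transfer of `π` is the `|X : H|`-th power of `π` on `H` -/
theorem transfer_eq_pow_of_kills_commutator {H : Subgroup X} [H.FiniteIndex] (π : ↥H →* A)
    (hπ : ∀ h : ↥H, (h : X) ∈ commutator X → π h = 1) (x : ↥H) :
    transfer π (x : X) = π x ^ H.index := by
  apply transfer_eq_pow_of_fusion'
  intro k g₀ h
  have hc : ((x : X) ^ k)⁻¹ * (g₀⁻¹ * (x : X) ^ k * g₀) ∈ H :=
    H.mul_mem (H.inv_mem (H.pow_mem x.2 k)) h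
  have e : (⟨g₀⁻¹ * (x : X) ^ k * g₀, h⟩ : ↥H) = x ^ k * ⟨_, hc⟩ := by
    apply Subtype.ext
    simp only [Subgroup.coe_mul, Subgroup.coe_pow]
    group
  rw [e, map_mul, map_pow, hπ ⟨_, hc⟩ ?_, mul_one]
  show ((x : X) ^ k)⁻¹ * (g₀⁻¹ * (x : X) ^ k * g₀) ∈ commutator X
  have h1 : ((x : X) ^ k)⁻¹ * (g₀⁻¹ * (x : X) ^ k * g₀) = ⁅((x : X) ^ k)⁻¹, g₀⁻¹⁆ := by
    rw [commutatorElement_def]; group
  rw [h1, _root_.commutator_def]
  exact Subgroup.commutator_mem_commutator (mem_top _) (mem_top _)

end Transfer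

section Tate

variable {G : Type*} [Group G] [Finite G] {p : ℕ} [hp : Fact p.Prime]

/-- **Tate's lemma** (elementary form): if `S' ≤ D ≤ S ∩ G'` and `S ∩ G' ≤ D Φ(S)` then
`S ∩ G' ≤ D`. -/
theorem tate_le (S : Sylow p G) (D : Subgroup ↥(S : Subgroup G)) [hDn : D.Normal]
    (hD1 : commutator ↥(S : Subgroup G) ≤ D)
    (hD2 : D ≤ (commutator G).subgroupOf (S : Subgroup G))
    (hD3 : (commutator G).subgroupOf (S : Subgroup G) ≤ D ⊔ frattini ↥(S : Subgroup G)) :
    (commutator G).subgroupOf (S : Subgroup G) ≤ D := by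
  classical
  have hpp : p.Prime := hp.out
  have hcomm : ∀ a b : ↥(S : Subgroup G) ⧸ D, a * b = b * a := by
    intro a b
    obtain ⟨a, rfl⟩ := QuotientGroup.mk_surjective a
    obtain ⟨b, rfl⟩ := QuotientGroup.mk_surjective b
    rw [← QuotientGroup.mk_mul, ← QuotientGroup.mk_mul, QuotientGroup.eq]
    apply hD1
    have h1 : (a * b)⁻¹ * (b * a) = ⁅b⁻¹, a⁻¹⁆ := by rw [commutatorElement_def]; group
    rw [h1, _root_.commutator_def]
    exact Subgroup.commutator_mem_commutator (mem_top _) (mem_top _)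
  letI : CommGroup (↥(S : Subgroup G) ⧸ D) :=
    { (inferInstance : Group (↥(S : Subgroup G) ⧸ D)) with mul_comm := hcomm }
  let π : ↥(S : Subgroup G) →* ↥(S : Subgroup G) ⧸ D := QuotientGroup.mk' D
  let τ : G →* ↥(S : Subgroup G) ⧸ D := transfer π
  let τS : ↥(S : Subgroup G) →* ↥(S : Subgroup G) ⧸ D := τ.comp (S : Subgroup G).subtype
  have hsurj : τS.range = ⊤ := by
    by_contra hne
    obtain h | ⟨M, hMco, hle⟩ := eq_top_or_exists_le_coatom τS.range
    · exact hne h
    have hA : IsPGroup p (↥(S : Subgroup G) ⧸ D) := S.2.to_quotient D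
    haveI hMn : M.Normal := inferInstance
    have hidx : M.index = p := Cfsg.Agent.Helper1.IsPGroup.coatom_index hA hMco
    let f : (↥(S : Subgroup G) ⧸ D) →* (↥(S : Subgroup G) ⧸ D) ⧸ M := QuotientGroup.mk' M
    have hcard : Nat.card ((↥(S : Subgroup G) ⧸ D) ⧸ M) = p := by
      rw [← Subgroup.index_eq_card]; exact hidx
    have hfexp : ∀ a : (↥(S : Subgroup G) ⧸ D) ⧸ M, a ^ p = 1 := by
      intro a
      have h0 : a ^ Nat.card ((↥(S : Subgroup G) ⧸ D) ⧸ M) = 1 := pow_card_eq_one'
      rwa [hcard] at h0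
    have hkill : ∀ h : ↥(S : Subgroup G), (h : G) ∈ commutator G → (f.comp π) h = 1 := by
      intro h hh
      have h1 : h ∈ D ⊔ frattini ↥(S : Subgroup G) := hD3 (mem_subgroupOf.2 hh)
      have h2 : D ⊔ frattini ↥(S : Subgroup G) ≤ (f.comp π).ker := by
        apply sup_le
        · intro d hd
          rw [MonoidHom.mem_ker, MonoidHom.comp_apply]
          have h3 : π d = 1 := (QuotientGroup.eq_one_iff d).2 hd
          rw [h3, map_one]
        · apply Cfsg.Agent.Helper14.frattini_le_of_elemAb p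
          · intro a b
            rw [MonoidHom.mem_ker, map_commutatorElement]
            exact commutatorElement_eq_one_iff_commute.2 (Commute.all _ _)
          · intro a
            rw [MonoidHom.mem_ker, map_pow]
            exact hfexp _
      exact MonoidHom.mem_ker.1 (h2 h1)
    have hall : ∀ s : ↥(S : Subgroup G), (f.comp π) s = 1 := by
      intro s
      have h1 := transfer_eq_pow_of_kills_commutator (f.comp π) hkill s
      rw [transfer_comp_hom, MonoidHom.comp_apply] at h1
      have h2 : transfer π (s : G) ∈ M := hle ⟨s, rfl⟩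
      have h3 : f (transfer π (s : G)) = 1 := (QuotientGroup.eq_one_iff _).2 h2
      rw [h3] at h1
      have h4 : orderOf ((f.comp π) s) ∣ Nat.gcd (S : Subgroup G).index p :=
        Nat.dvd_gcd (orderOf_dvd_of_pow_eq_one h1.symm) (orderOf_dvd_of_pow_eq_one (hfexp _))
      have hcop : Nat.Coprime (S : Subgroup G).index p := by
        rw [Nat.coprime_comm, hpp.coprime_iff_not_dvd]; exact S.not_dvd_index
      rw [hcop.gcd_eq_one, Nat.dvd_one] at h4
      exact orderOf_eq_one_iff.1 h4
    apply hMco.1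
    rw [eq_top_iff]
    intro a _
    obtain ⟨s, rfl⟩ := QuotientGroup.mk_surjective a
    exact (QuotientGroup.eq_one_iff _).1 (hall s)
  have hker : (commutator G).subgroupOf (S : Subgroup G) ≤ τS.ker := by
    intro s hs
    rw [MonoidHom.mem_ker]
    have h1 : commutator G ≤ τ.ker := Abelianization.commutator_subset_ker τ
    exact MonoidHom.mem_ker.1 (h1 (mem_subgroupOf.1 hs))
  have hi1 : D.index = Nat.card (↥(S : Subgroup G) ⧸ D) := Subgroup.index_eq_card D
  have hi2 : τS.ker.index = Nat.card (↥(S : Subgroup G) ⧸ D) := by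
    rw [Subgroup.index_ker, hsurj]; exact Nat.card_congr (Subgroup.topEquiv).toEquiv
  have hDk : D ≤ τS.ker := hD2.trans hker
  have h1 := Subgroup.relIndex_mul_index hDk
  rw [hi1, hi2] at h1
  have hpos : 0 < Nat.card (↥(S : Subgroup G) ⧸ D) := Nat.card_pos
  have h2 : D.relIndex τS.ker = 1 := Nat.eq_of_mul_eq_mul_right hpos (by rw [h1, one_mul])
  exact hker.trans (Subgroup.relIndex_eq_one.1 h2)

end Tate

end Cfsg.Agent.Helper10
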