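import Mathlib
import Cfsg.Prelude.Def_Transfer
import Cfsg.Agent.Helper1.PGroup
import Cfsg.Agent.Helper10.YoshidaMain
import Cfsg.Agent.Helper10.YoshidaTate

set_option autoImplicit false
set_option linter.unusedSectionVars false
set_option linter.unusedVariables false
set_option linter.style.haveILetI false

/-! # The Wielandt–Yoshida theorem: control of transfer by the normalizer of a weakly closed
subgroup -/

namespace Cfsg.Agent.Helper10

open Subgroup MulAction MonoidHom
open scoped commutatorElement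

section Final

variable {G : Type*} [Group G]

theorem isCoatom_of_index_prime {p : ℕ} (hp : p.Prime) {M : Subgroup G} (hM : M.index = p) :
    IsCoatom M := by
  refine ⟨?_, ?_⟩
  · intro h
    rw [h, index_top] at hM
    exact hp.one_lt.ne hM
  · intro L hML
    have h1 : L.index ∣ M.index := index_dvd_of_le hML.le
    rw [hM] at h1
    rcases (Nat.dvd_prime hp).mp h1 with h | h
    · exact index_eq_one.mp h
    · exfalso
      have : M.relIndex L = 1 := by
        have h2 := relIndex_mul_index hML.le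
        rw [h, hM] at h2
        have hp0 : 0 < p := hp.pos
        exact Nat.eq_of_mul_eq_mul_right hp0 (by rw [h2, one_mul])
      rw [relIndex_eq_one] at this
      exact absurd this (not_le_of_gt hML)

/-- a subgroup normalizes its own derived subgroup -/
theorem le_normalizer_commutator_self (N : Subgroup G) : N ≤ normalizer ((⁅N, N⁆ : Subgroup G) : Set G) := by
  intro n hn
  have h1 : N.map (MulAut.conj n).toMonoidHom = N :=
    Subgroup.mem_normalizer_iff_map_conj_eq.1 (Subgroup.le_normalizer hn)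
  have h2 : (⁅N, N⁆ : Subgroup G).map (MulAut.conj n).toMonoidHom = ⁅N, N⁆ := by
    rw [Subgroup.map_commutator, h1]
  exact Subgroup.mem_normalizer_iff_map_conj_eq.2 h2

theorem map_commutator_subtype (N : Subgroup G) :
    (commutator ↥N).map N.subtype = ⁅N, N⁆ := by
  rw [_root_.commutator_def, Subgroup.map_commutator, ← MonoidHom.range_eq_map,
    Subgroup.range_subtype]

theorem le_normalizer_of_isWeaklyClosed {W P : Subgroup G} (hW : Cfsg.IsWeaklyClosed W P) :
    P ≤ normalizer (W : Set G) := by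
  intro s hs
  rw [Subgroup.mem_normalizer_iff_map_conj_eq]
  apply hW.2 s
  rintro _ ⟨w, hw, rfl⟩
  have : (MulAut.conj s).toMonoidHom w = s * w * s⁻¹ := by simp [MulAut.conj_apply]
  rw [this]
  exact P.mul_mem (P.mul_mem hs (hW.1 hw)) (P.inv_mem hs)

variable [Finite G] {p : ℕ} [hp : Fact p.Prime]

/-- **Wielandt–Yoshida.**  `W` weakly closed in the Sylow `p`-subgroup `S`.  If every iterated
commutator `[x, w; p-1]` (`x ∈ S`, `w ∈ W`) lying in a subgroup `V` of index `p` in `W` lies in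
`Φ(V)`, then `N_G(W)` controls `p`-transfer. -/
theorem yoshida_control (S : Sylow p G) (W : Subgroup G)
    (hW : Cfsg.IsWeaklyClosed W (S : Subgroup G))
    (HW : ∀ x ∈ (S : Subgroup G), ∀ w ∈ W, ∀ V : Subgroup G, V ≤ W → V.relIndex W = p →
      (cw w)^[p - 1] x ∈ V → (cw w)^[p - 1] x ∈ (frattini ↥V).map V.subtype) :
    (S : Subgroup G) ⊓ commutator G =
      (S : Subgroup G) ⊓ ⁅normalizer (W : Set G), normalizer (W : Set G)⁆ := by
  classical
  have hpp : p.Prime := hp.out
  obtain ⟨N, hN⟩ : ∃ N : Subgroup G, N = normalizer (W : Set G) := ⟨_, rfl⟩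
  rw [← hN]
  have hSN : (S : Subgroup G) ≤ N := hN ▸ le_normalizer_of_isWeaklyClosed hW
  have hSp : IsPGroup p ↥(S : Subgroup G) := S.2
  have hNG : ⁅N, N⁆ ≤ commutator G := by
    rw [_root_.commutator_def]; exact Subgroup.commutator_mono le_top le_top
  obtain ⟨D, hD⟩ : ∃ D : Subgroup ↥(S : Subgroup G), D = (⁅N, N⁆).subgroupOf (S : Subgroup G) :=
    ⟨_, rfl⟩
  haveI hDn : D.Normal := by
    rw [hD]
    exact Subgroup.normal_subgroupOf_of_le_normalizer (hSN.trans (le_normalizer_commutator_self N))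
  have hD1 : commutator ↥(S : Subgroup G) ≤ D := by
    intro x hx
    rw [hD, Subgroup.mem_subgroupOf]
    have h1 : (x : G) ∈ (commutator ↥(S : Subgroup G)).map (S : Subgroup G).subtype := ⟨x, hx, rfl⟩
    rw [map_commutator_subtype] at h1
    exact Subgroup.commutator_mono hSN hSN h1
  have hD2 : D ≤ (commutator G).subgroupOf (S : Subgroup G) := by
    rw [hD]
    intro x hx
    rw [Subgroup.mem_subgroupOf] at hx ⊢
    exact hNG hx
  suffices hD3 : (commutator G).subgroupOf (S : Subgroup G) ≤ D ⊔ frattini ↥(S : Subgroup G) by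
    have hT := tate_le S D hD1 hD2 hD3
    apply le_antisymm
    · intro x hx
      refine ⟨hx.1, ?_⟩
      have h1 : (⟨x, hx.1⟩ : ↥(S : Subgroup G)) ∈ D := hT (Subgroup.mem_subgroupOf.2 hx.2)
      rw [hD, Subgroup.mem_subgroupOf] at h1
      exact h1
    · exact inf_le_inf_left _ hNG
  -- the elementary abelian quotient
  obtain ⟨D₁, hD₁⟩ : ∃ D₁ : Subgroup ↥(S : Subgroup G), D₁ = D ⊔ frattini ↥(S : Subgroup G) :=
    ⟨_, rfl⟩
  rw [← hD₁]
  haveI hD₁n : D₁.Normal := by rw [hD₁]; infer_instance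
  have hDD₁ : D ≤ D₁ := by rw [hD₁]; exact le_sup_left
  have hFD₁ : frattini ↥(S : Subgroup G) ≤ D₁ := by rw [hD₁]; exact le_sup_right
  have hcomm : ∀ a b : ↥(S : Subgroup G) ⧸ D₁, a * b = b * a := by
    intro a b
    obtain ⟨a, rfl⟩ := QuotientGroup.mk_surjective a
    obtain ⟨b, rfl⟩ := QuotientGroup.mk_surjective b
    rw [← QuotientGroup.mk_mul, ← QuotientGroup.mk_mul, QuotientGroup.eq]
    apply hDD₁
    apply hD1
    have h1 : (a * b)⁻¹ * (b * a) = ⁅b⁻¹, a⁻¹⁆ := by rw [commutatorElement_def]; group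
    rw [h1, _root_.commutator_def]
    exact Subgroup.commutator_mem_commutator (mem_top _) (mem_top _)
  letI : CommGroup (↥(S : Subgroup G) ⧸ D₁) :=
    { (inferInstance : Group (↥(S : Subgroup G) ⧸ D₁)) with mul_comm := hcomm }
  have hexp : ∀ a : ↥(S : Subgroup G) ⧸ D₁, a ^ p = 1 := by
    intro a
    obtain ⟨a, rfl⟩ := QuotientGroup.mk_surjective a
    rw [← QuotientGroup.mk_pow, QuotientGroup.eq_one_iff]
    exact hFD₁ (Cfsg.Agent.Helper1.IsPGroup.pow_mem_frattini hSp a)
  let π₁ : ↥(S : Subgroup G) →* ↥(S : Subgroup G) ⧸ D₁ := QuotientGroup.mk' D₁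
  let e : ↥((S : Subgroup G).subgroupOf N) ≃* ↥(S : Subgroup G) := Subgroup.subgroupOfEquivOfLe hSN
  let π₁' : ↥((S : Subgroup G).subgroupOf N) →* ↥(S : Subgroup G) ⧸ D₁ := π₁.comp e.toMonoidHom
  let lam : ↥N →* ↥(S : Subgroup G) ⧸ D₁ := transfer π₁'
  have hmain := yoshida_main S W hW hexp N hN lam HW
  have hπ' : ∀ h : ↥((S : Subgroup G).subgroupOf N), (h : ↥N) ∈ commutator ↥N → π₁' h = 1 := by
    intro h hh
    have h1 : ((h : ↥N) : G) ∈ (commutator ↥N).map N.subtype := ⟨(h : ↥N), hh, rfl⟩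
    rw [map_commutator_subtype] at h1
    have h2 : e h ∈ D := by
      rw [hD, Subgroup.mem_subgroupOf]
      exact h1
    exact (QuotientGroup.eq_one_iff _).2 (hDD₁ h2)
  intro z hz
  rw [Subgroup.mem_subgroupOf] at hz
  have hzN : (z : G) ∈ N := hSN z.2
  have h1 := hmain _ (z : G) rfl z.2 hz hzN
  have hzH : (⟨(z : G), hzN⟩ : ↥N) ∈ (S : Subgroup G).subgroupOf N := Subgroup.mem_subgroupOf.2 z.2
  have h2 := transfer_eq_pow_of_kills_commutator π₁' hπ' ⟨⟨(z : G), hzN⟩, hzH⟩
  have h3 : π₁' ⟨⟨(z : G), hzN⟩, hzH⟩ = π₁ z := rfl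
  rw [h3] at h2
  have h4 : π₁ z ^ ((S : Subgroup G).subgroupOf N).index = 1 := by
    rw [← h2]; exact h1
  have hcop : Nat.Coprime ((S : Subgroup G).subgroupOf N).index p := by
    rw [Nat.coprime_comm, hpp.coprime_iff_not_dvd]
    intro hdvd
    apply S.not_dvd_index
    have h5 := Subgroup.relIndex_mul_index hSN
    rw [← h5]
    exact dvd_mul_of_dvd_left hdvd _
  have h6 : orderOf (π₁ z) ∣ Nat.gcd ((S : Subgroup G).subgroupOf N).index p :=
    Nat.dvd_gcd (orderOf_dvd_of_pow_eq_one h4) (orderOf_dvd_of_pow_eq_one (hexp _))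
  rw [hcop.gcd_eq_one, Nat.dvd_one] at h6
  exact (QuotientGroup.eq_one_iff z).1 (orderOf_eq_one_iff.1 h6)

end Final

end Cfsg.Agent.Helper10
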