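import Mathlib
import Cfsg.Prelude.Def_Transfer
import Cfsg.Agent.Helper1.PGroup
import Cfsg.Agent.Helper10.YoshidaNorm
import Cfsg.Agent.Helper10.YoshidaCore
import Cfsg.Agent.S1952

set_option autoImplicit false
set_option linter.unusedSectionVars false
set_option linter.unusedVariables false
set_option linter.style.haveILetI false

/-! # From a nontrivial iterated commutator to a wreath product quotient -/

namespace Cfsg.Agent.Helper10

open Subgroup MonoidHom
open scoped commutatorElement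

theorem list_prod_map_range {M : Type*} [CommMonoid M] (f : ℕ → M) (n : ℕ) :
    ((List.range n).map f).prod = ∏ i ∈ Finset.range n, f i := by
  induction n with
  | zero => simp
  | succ n ih =>
    rw [List.range_succ, List.map_append, List.prod_append, ih, Finset.prod_range_succ]
    simp

section Wreath

variable {P : Type*} [Group P] [Finite P] {p : ℕ} [hp : Fact p.Prime]

/-- the product of the `p` conjugates of `a ∈ S₀` under `y` lies in `Φ(S₀)` iff the iterated
commutator `[a, y; p-1]` does -/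
theorem conj_list_prod_mem_iff (S₀ : Subgroup P) [hn : S₀.Normal] (hS₀ : IsPGroup p ↥S₀)
    (a : P) (ha : a ∈ S₀) (y : P) :
    ((List.range p).map (fun i => (y ^ i)⁻¹ * a * y ^ i)).prod ∈ (frattini ↥S₀).map S₀.subtype ↔
      (cw y)^[p - 1] a ∈ (frattini ↥S₀).map S₀.subtype := by
  classical
  have hpp : p.Prime := hp.out
  have hcomm : ∀ a b : ↥S₀ ⧸ frattini ↥S₀, a * b = b * a := by
    intro a b
    obtain ⟨a, rfl⟩ := QuotientGroup.mk_surjective a
    obtain ⟨b, rfl⟩ := QuotientGroup.mk_surjective b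
    rw [← QuotientGroup.mk_mul, ← QuotientGroup.mk_mul, QuotientGroup.eq]
    apply Cfsg.Agent.Helper1.IsPGroup.commutator_le_frattini hS₀
    have h1 : (a * b)⁻¹ * (b * a) = ⁅b⁻¹, a⁻¹⁆ := by rw [commutatorElement_def]; group
    rw [h1, _root_.commutator_def]
    exact Subgroup.commutator_mem_commutator (mem_top _) (mem_top _)
  letI : CommGroup (↥S₀ ⧸ frattini ↥S₀) :=
    { (inferInstance : Group (↥S₀ ⧸ frattini ↥S₀)) with mul_comm := hcomm }
  have hexp : ∀ a : ↥S₀ ⧸ frattini ↥S₀, a ^ p = 1 := by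
    intro a
    obtain ⟨a, rfl⟩ := QuotientGroup.mk_surjective a
    rw [← QuotientGroup.mk_pow, QuotientGroup.eq_one_iff]
    exact Cfsg.Agent.Helper1.IsPGroup.pow_mem_frattini hS₀ a
  let ν : ↥S₀ →* ↥S₀ ⧸ frattini ↥S₀ := QuotientGroup.mk' (frattini ↥S₀)
  let σ : MulAut ↥S₀ := MulAut.conjNormal (y⁻¹)
  have hσ : ∀ (j : ℕ) (u : ↥S₀), (((σ ^ j) u : ↥S₀) : P) = (y ^ j)⁻¹ * (u : P) * y ^ j := by
    intro j u
    have : σ ^ j = MulAut.conjNormal ((y⁻¹) ^ j) := by rw [map_pow]
    rw [this, MulAut.conjNormal_apply]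
    simp
  have hit : ∀ (k : ℕ) (u : ↥S₀),
      (((fun u : ↥S₀ => u⁻¹ * σ u)^[k] u : ↥S₀) : P) = (cw y)^[k] (u : P) := by
    intro k
    induction k with
    | zero => intro u; rfl
    | succ k ih =>
      intro u
      rw [Function.iterate_succ_apply, Function.iterate_succ_apply, ih]
      congr 1
      have := hσ 1 u
      simp only [pow_one] at this
      simp only [Subgroup.coe_mul, Subgroup.coe_inv, this, cw]
      group
  have hlist : ((List.range p).map (fun i => (y ^ i)⁻¹ * a * y ^ i)).prod =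
      ((((List.range p).map (fun i => (σ ^ i) (⟨a, ha⟩ : ↥S₀))).prod : ↥S₀) : P) := by
    rw [SubmonoidClass.coe_list_prod, List.map_map]
    congr 1
    apply List.map_congr_left
    intro i _
    exact (hσ i ⟨a, ha⟩).symm
  have key := prod_conj_eq_iterate hpp hexp σ ν ⟨a, ha⟩
  have h1 : ν (((List.range p).map (fun i => (σ ^ i) (⟨a, ha⟩ : ↥S₀))).prod) =
      ∏ i ∈ Finset.range p, ν ((σ ^ i) ⟨a, ha⟩) := by
    rw [map_list_prod, List.map_map, list_prod_map_range]
    rfl
  have hmem : ∀ t : ↥S₀, ((t : P) ∈ (frattini ↥S₀).map S₀.subtype ↔ ν t = 1) := by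
    intro t
    rw [QuotientGroup.mk'_apply, QuotientGroup.eq_one_iff]
    constructor
    · rintro ⟨t', ht', h⟩
      have : t' = t := S₀.subtype_injective h
      rw [← this]; exact ht'
    · intro h
      exact ⟨t, h, rfl⟩
  rw [hlist, hmem, h1, key, ← hmem, hit]

/-- finding the pair for the wreath product criterion -/
theorem exists_norm_pair (hP : IsPGroup p P) (S₀ : Subgroup P) (hco : IsCoatom S₀) (x z : P)
    (hcK : (cw z)^[p - 1] x ∉ (frattini ↥S₀).map S₀.subtype) :
    ∃ a ∈ S₀, ∃ y, y ∉ S₀ ∧ (cw y)^[p - 1] a ∉ (frattini ↥S₀).map S₀.subtype := by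
  classical
  have hpp : p.Prime := hp.out
  have h2p : 2 ≤ p := hpp.two_le
  haveI hn : S₀.Normal := Cfsg.Agent.Helper1.IsPGroup.coatom_normal hP hco
  have hidx : S₀.index = p := Cfsg.Agent.Helper1.IsPGroup.coatom_index hP hco
  have hS₀ : IsPGroup p ↥S₀ := hP.to_subgroup S₀
  by_cases hz : z ∈ S₀
  · -- `z ∈ S₀`
    have key : ∀ u ∈ S₀, cw z u ∈ (frattini ↥S₀).map S₀.subtype := by
      intro u hu
      refine ⟨⁅(⟨u, hu⟩ : ↥S₀)⁻¹, (⟨z, hz⟩ : ↥S₀)⁻¹⁆, ?_, ?_⟩
      · apply Cfsg.Agent.Helper1.IsPGroup.commutator_le_frattini hS₀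
        rw [_root_.commutator_def]
        exact Subgroup.commutator_mem_commutator (mem_top _) (mem_top _)
      · simp only [commutatorElement_def, Subgroup.coe_subtype, Subgroup.coe_mul, Subgroup.coe_inv,
          inv_inv, cw]
    have hu : (cw z)^[p - 2] x ∉ S₀ := by
      intro h
      apply hcK
      have h1 := key _ h
      rw [← Function.iterate_succ_apply' (cw z) (p - 2) x] at h1
      have h2 : (p - 2).succ = p - 1 := by omega
      rw [h2] at h1
      exact h1
    have hp2 : p = 2 := by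
      by_contra hne
      apply hu
      have h3 : p - 2 = (p - 3).succ := by omega
      rw [h3, Function.iterate_succ_apply']
      exact cw_mem_of_mem S₀ hz _
    have h20 : p - 2 = 0 := by omega
    have h21 : p - 1 = 1 := by omega
    rw [h20, Function.iterate_zero, _root_.id] at hu
    refine ⟨z, hz, x, hu, ?_⟩
    rw [h21, Function.iterate_one] at hcK ⊢
    intro h
    apply hcK
    have h4 : cw z x = (cw x z)⁻¹ := by
      simp only [cw]; group
    rw [h4]
    exact Subgroup.inv_mem _ h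
  · -- `z ∉ S₀`
    have hcard : Nat.card (P ⧸ S₀) = p := by rw [← Subgroup.index_eq_card]; exact hidx
    have hz1 : (QuotientGroup.mk z : P ⧸ S₀) ≠ 1 := by
      intro h
      exact hz ((QuotientGroup.eq_one_iff z).1 h)
    have htop := zpowers_eq_top_of_prime_card hcard hz1
    have hxm : (QuotientGroup.mk x : P ⧸ S₀) ∈ zpowers (QuotientGroup.mk z : P ⧸ S₀) := by
      rw [htop]; exact mem_top _
    obtain ⟨k, hk⟩ := mem_zpowers_iff.1 hxm
    have hs₀ : (z ^ k)⁻¹ * x ∈ S₀ := by
      rw [← QuotientGroup.mk_zpow, QuotientGroup.eq] at hk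
      exact hk
    refine ⟨(z ^ k)⁻¹ * x, hs₀, z, hz, ?_⟩
    have h5 : cw z ((z ^ k)⁻¹ * x) = cw z x := by
      simp only [cw]; group
    have h6 : p - 1 = (p - 2).succ := by omega
    rw [h6, Function.iterate_succ_apply, h5, ← Function.iterate_succ_apply, ← h6]
    exact hcK

/-- a finite `p`-group with a maximal subgroup `S₀` and elements `x, z` such that the iterated
commutator `[x, z; p-1]` is not in `Φ(S₀)` maps onto `Z_p ≀ Z_p` -/
theorem wreath_quotient_of_commutator (hP : IsPGroup p P) (S₀ : Subgroup P) (hco : IsCoatom S₀)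
    (x z : P) (hcK : (cw z)^[p - 1] x ∉ (frattini ↥S₀).map S₀.subtype) :
    ∃ (Q : Sylow p (Equiv.Perm (Fin (p ^ 2))))
      (f : P →* ↥(Q : Subgroup (Equiv.Perm (Fin (p ^ 2))))), Function.Surjective f := by
  classical
  have hpp : p.Prime := hp.out
  haveI hn : S₀.Normal := Cfsg.Agent.Helper1.IsPGroup.coatom_normal hP hco
  have hidx : S₀.index = p := Cfsg.Agent.Helper1.IsPGroup.coatom_index hP hco
  have hS₀ : IsPGroup p ↥S₀ := hP.to_subgroup S₀
  obtain ⟨a, ha, y, hy, hay⟩ := exists_norm_pair hP S₀ hco x z hcK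
  rw [← conj_list_prod_mem_iff S₀ hS₀ a ha y] at hay
  obtain ⟨K, hK⟩ : ∃ K : Subgroup P, K = (frattini ↥S₀).map S₀.subtype := ⟨_, rfl⟩
  rw [← hK] at hay
  haveI hKn : K.Normal := by
    rw [hK]
    exact ConjAct.normal_of_characteristic_of_normal
  have hKS₀ : K ≤ S₀ := by rw [hK]; exact Subgroup.map_subtype_le _
  have hcommK : ∀ u ∈ S₀, ∀ v ∈ S₀, (u * v)⁻¹ * (v * u) ∈ K := by
    intro u hu v hv
    rw [hK]
    refine ⟨⁅(⟨v, hv⟩ : ↥S₀)⁻¹, (⟨u, hu⟩ : ↥S₀)⁻¹⁆, ?_, ?_⟩
    · apply Cfsg.Agent.Helper1.IsPGroup.commutator_le_frattini hS₀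
      rw [_root_.commutator_def]
      exact Subgroup.commutator_mem_commutator (mem_top _) (mem_top _)
    · simp only [commutatorElement_def, Subgroup.coe_subtype, Subgroup.coe_mul, Subgroup.coe_inv,
        inv_inv]
      group
  have hpowK : ∀ u ∈ S₀, u ^ p ∈ K := by
    intro u hu
    rw [hK]
    exact ⟨(⟨u, hu⟩ : ↥S₀) ^ p, Cfsg.Agent.Helper1.IsPGroup.pow_mem_frattini hS₀ _, rfl⟩
  let q : P →* P ⧸ K := QuotientGroup.mk' K
  have hq : Function.Surjective q := QuotientGroup.mk'_surjective K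
  have hker : q.ker = K := QuotientGroup.ker_mk' K
  haveI hAn : (S₀.map q).Normal := hn.map q hq
  have hAidx : (S₀.map q).index = p := by
    rw [Subgroup.index_map_eq S₀ hq (by rw [hker]; exact hKS₀)]; exact hidx
  have hAel : Cfsg.IsElementaryAbelian p (S₀.map q) := by
    refine ⟨⟨⟨?_⟩⟩, ?_⟩
    · rintro ⟨_, u, hu, rfl⟩ ⟨_, v, hv, rfl⟩
      apply Subtype.ext
      show q u * q v = q v * q u
      rw [← map_mul, ← map_mul]
      exact QuotientGroup.eq.2 (hcommK u hu v hv)
    · rintro _ ⟨u, hu, rfl⟩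
      rw [← map_pow]
      exact (QuotientGroup.eq_one_iff _).2 (hpowK u hu)
  have hxA : q a ∈ S₀.map q := ⟨a, ha, rfl⟩
  have hyA : q y ∉ S₀.map q := by
    rintro ⟨s, hs, hsy⟩
    apply hy
    have h1 : s⁻¹ * y ∈ K := QuotientGroup.eq.1 hsy
    have h2 := S₀.mul_mem hs (hKS₀ h1)
    simpa using h2
  have hprod : ((List.range p).map (fun i => (q y ^ i)⁻¹ * q a * q y ^ i)).prod ≠ 1 := by
    intro h
    apply hay
    have h1 : q (((List.range p).map (fun i => (y ^ i)⁻¹ * a * y ^ i)).prod) = 1 := by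
      rw [map_list_prod, List.map_map, ← h]
      congr 1
    exact (QuotientGroup.eq_one_iff _).1 h1
  obtain ⟨Q, f, hf⟩ := Cfsg.Agent.S1952.result (hP.to_quotient K) (S₀.map q) hAel hAidx (q a) (q y)
    hxA hyA hprod
  exact ⟨Q, f.comp q, hf.comp hq⟩

end Wreath

end Cfsg.Agent.Helper10
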