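import Mathlib

/-! Helper lemmas for Zassenhaus groups with a regular normal subgroup (S0341). -/

namespace Cfsg.Agent.Helper10.ZassReg

/-- An involution acting on an elementary abelian 2-group `N` with `C_N(x) ⊆ {1, nb}` forces
`|N| ≤ 4`. -/
theorem card_le_four_of_involution {G : Type*} [Group G] (N : Subgroup G) [hN : N.Normal] [Finite N]
    (hcomm : ∀ u v : N, u * v = v * u) (hexp : ∀ v : N, v * v = 1)
    (x : G) (hx : x * x = 1) (nb : N)
    (hcent : ∀ n : N, x * n * x⁻¹ = n → n = 1 ∨ n = nb) : Nat.card N ≤ 4 := by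
  classical
  let c : N → N := fun v => ⟨x * v * x⁻¹, hN.conj_mem v v.2 x⟩
  have hc_mul : ∀ u v : N, c (u * v) = c u * c v := by
    intro u v
    apply Subtype.ext
    simp only [c, Subgroup.coe_mul]
    group
  have hxinv : x⁻¹ = x := by
    rw [inv_eq_iff_mul_eq_one]; exact hx
  have hcc : ∀ v : N, c (c v) = v := by
    intro v
    apply Subtype.ext
    simp only [c]
    have : x * (x * ↑v * x⁻¹) * x⁻¹ = (x * x) * v * (x * x)⁻¹ := by group
    rw [this, hx]; simp
  let f : N →* N := MonoidHom.mk' (fun v => v * c v) (by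
    intro u v
    show u * v * c (u * v) = u * c u * (v * c v)
    rw [hc_mul, mul_assoc, mul_assoc, ← mul_assoc v, hcomm v (c u)]
    simp only [mul_assoc])
  have hS : ∀ w : N, c w = w → w = 1 ∨ w = nb := by
    intro w hw
    apply hcent
    have := congrArg Subtype.val hw
    exact this
  have hker : (f.ker : Set N) ⊆ {1, nb} := by
    intro v hv
    have h1 : v * c v = 1 := hv
    have h2 : c v = v := by
      have : c v = v⁻¹ := by rw [eq_inv_iff_mul_eq_one, hcomm]; exact h1
      rw [this, inv_eq_iff_mul_eq_one]; exact hexp v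
    rcases hS v h2 with h | h
    · left; exact h
    · right; exact h
  have hrange : (f.range : Set N) ⊆ {1, nb} := by
    rintro w ⟨v, rfl⟩
    have h2 : c (f v) = f v := by
      show c (v * c v) = v * c v
      rw [hc_mul, hcc, hcomm]
    rcases hS _ h2 with h | h
    · left; exact h
    · right; exact h
  have hpair : ({1, nb} : Set N).ncard ≤ 2 := by
    have := Set.ncard_insert_le (1 : N) ({nb} : Set N)
    rw [Set.ncard_singleton] at this
    exact this
  have hk : Nat.card f.ker ≤ 2 := by
    have e : Nat.card f.ker = (f.ker : Set N).ncard := Nat.card_coe_set_eq (f.ker : Set N)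
    rw [e]
    exact le_trans (Set.ncard_le_ncard hker (Set.toFinite _)) hpair
  have hr : Nat.card f.range ≤ 2 := by
    have e : Nat.card f.range = (f.range : Set N).ncard := Nat.card_coe_set_eq (f.range : Set N)
    rw [e]
    exact le_trans (Set.ncard_le_ncard hrange (Set.toFinite _)) hpair
  have h1 := Subgroup.index_mul_card f.ker
  rw [Subgroup.index_ker] at h1
  rw [← h1]
  calc Nat.card f.range * Nat.card f.ker ≤ 2 * 2 := Nat.mul_le_mul hr hk
    _ = 4 := rfl

end Cfsg.Agent.Helper10.ZassReg
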