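import Mathlib
import Cfsg.Agent.Helper1.FrobGroup
import Cfsg.Agent.Helper5.FrobModF
import Cfsg.Agent.Helper10.RankTwoB

/-! Frobenius group `K ⋊ ⟨x⟩` (x of odd prime order ℓ) acting on an elementary abelian 2-group `V`
with `C_V(K) = 1` and `|C_V(x)| = 2` forces `|V| = 2 ^ ℓ`. -/

namespace Cfsg.Agent.Helper10.ZassReg

open Cfsg Cfsg.Agent.Helper1

theorem card_eq_two_pow {H V : Type*} [Group H] [Finite H] [CommGroup V] [Finite V]
    (φ : H →* Monoid.End V) (C K : Subgroup H) (hC : IsFrobeniusComplement C)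
    (hK : (K : Set H) = frobeniusKernel C)
    (hKodd : Odd (Nat.card K)) (hexp : ∀ v : V, v ^ 2 = 1)
    (x : H) (hxC : x ∈ C) (ℓ : ℕ) (hℓ : ℓ.Prime) (hℓ2 : ℓ ≠ 2) (hxo : orderOf x = ℓ)
    (hfixK : ∀ v : V, (∀ k ∈ K, φ k v = v) → v = 1)
    (hfixx : Nat.card {v : V // φ x v = v} = 2) : Nat.card V = 2 ^ ℓ := by
  classical
  have hKn : K.Normal := FrobGroup.normal hC hK
  set X : Subgroup H := Subgroup.zpowers x with hX
  have hXC : X ≤ C := by rw [hX, Subgroup.zpowers_le]; exact hxC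
  set L : Subgroup H := K ⊔ X with hL
  set U : Subgroup L := K.subgroupOf L with hU
  set E : Subgroup L := X.subgroupOf L with hE
  have hKL : K ≤ L := le_sup_left
  have hXL : X ≤ L := le_sup_right
  have hUE : U ⊔ E = ⊤ := by
    rw [hU, hE, ← Subgroup.subgroupOf_sup hKL hXL, Subgroup.subgroupOf_self]
  have hUn : ∀ e ∈ E, ∀ u ∈ U, e * u * e⁻¹ ∈ U := by
    intro e _ u hu
    rw [hU, Subgroup.mem_subgroupOf] at hu ⊢
    simp only [Subgroup.coe_mul, Subgroup.coe_inv]
    exact hKn.conj_mem _ hu _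
  have hfpf : ∀ e ∈ E, e ≠ 1 → ∀ u ∈ U, e * u = u * e → u = 1 := by
    intro e he he1 u hu hcomm
    rw [hE, Subgroup.mem_subgroupOf] at he
    rw [hU, Subgroup.mem_subgroupOf] at hu
    have heC : (e : H) ∈ C := hXC he
    have heK : (e : H) ∉ K := by
      intro h
      apply he1
      apply Subtype.ext
      exact FrobGroup.disjoint hK h heC
    have := FrobGroup.kernel_fpf hC hK heK hu (by
      have := congrArg Subtype.val hcomm
      simpa using this)
    exact Subtype.ext this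
  -- cardinalities
  have hcardE : Nat.card E = ℓ := by
    rw [hE, Nat.card_congr (Subgroup.subgroupOfEquivOfLe hXL).toEquiv, hX, Nat.card_zpowers, hxo]
  have hcardL : ¬ 2 ∣ Nat.card L := by
    have h1 : Nat.card K * K.relIndex L = Nat.card L :=
      Cfsg.Agent.Helper10.RankTwo.card_mul_relIndex hKL
    have h2 : K.relIndex L = K.relIndex X := by
      rw [hL]
      exact Subgroup.relIndex_sup_left X K
    have h3 : K.relIndex X ∣ ℓ := by
      have := Subgroup.relIndex_dvd_card K X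
      rwa [hX, Nat.card_zpowers, hxo] at this
    rw [← h1, h2]
    intro h
    rcases (Nat.Prime.dvd_mul Nat.prime_two).mp h with h | h
    · exact (Nat.not_even_iff_odd.mpr hKodd) (even_iff_two_dvd.mpr h)
    · have h4 : 2 ∣ ℓ := dvd_trans h h3
      exact hℓ2 ((Nat.prime_dvd_prime_iff_eq Nat.prime_two hℓ).mp h4).symm
  have : Fact (Nat.Prime 2) := ⟨Nat.prime_two⟩
  have key := Cfsg.Agent.Helper5.FrobMod.card_formula_of_elementary U E hUE hUn hfpf 2 hexp
    (φ.comp L.subtype) hcardL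
  -- the three fixed point sets
  have hA : Nat.card {v : V // ∀ g ∈ U, (φ.comp L.subtype) g v = v} = 1 := by
    rw [Nat.card_eq_one_iff_unique]
    refine ⟨⟨?_⟩, ⟨⟨1, fun g _ => map_one _⟩⟩⟩
    rintro ⟨v, hv⟩ ⟨w, hw⟩
    apply Subtype.ext
    show v = w
    have hv1 : v = 1 := hfixK v (fun k hk => hv ⟨k, hKL hk⟩ (by rw [hU, Subgroup.mem_subgroupOf]; exact hk))
    have hw1 : w = 1 := hfixK w (fun k hk => hw ⟨k, hKL hk⟩ (by rw [hU, Subgroup.mem_subgroupOf]; exact hk))
    rw [hv1, hw1]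
  have hB : Nat.card {v : V // ∀ g : L, (φ.comp L.subtype) g v = v} = 1 := by
    rw [Nat.card_eq_one_iff_unique]
    refine ⟨⟨?_⟩, ⟨⟨1, fun g => map_one _⟩⟩⟩
    rintro ⟨v, hv⟩ ⟨w, hw⟩
    apply Subtype.ext
    show v = w
    have hv1 : v = 1 := hfixK v (fun k hk => hv ⟨k, hKL hk⟩)
    have hw1 : w = 1 := hfixK w (fun k hk => hw ⟨k, hKL hk⟩)
    rw [hv1, hw1]
  have hD : Nat.card {v : V // ∀ g ∈ E, (φ.comp L.subtype) g v = v} = 2 := by
    rw [← hfixx]
    apply Nat.card_congr
    refine Equiv.subtypeEquivRight ?_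
    intro v
    constructor
    · intro h
      exact h ⟨x, hXL (Subgroup.mem_zpowers x)⟩ (by
        rw [hE, Subgroup.mem_subgroupOf]; exact Subgroup.mem_zpowers x)
    · intro h g hg
      rw [hE, Subgroup.mem_subgroupOf] at hg
      obtain ⟨k, hk⟩ := Subgroup.mem_zpowers_iff.mp hg
      show φ (g : H) v = v
      rw [← hk]
      -- φ (x ^ k) v = v
      have hfix : ∀ n : ℕ, φ (x ^ n) v = v := by
        intro n
        induction n with
        | zero => simp
        | succ n ih =>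
          rw [pow_succ, map_mul]
          show φ (x ^ n) (φ x v) = v
          rw [h, ih]
      have hfin : ∃ n : ℕ, x ^ k = x ^ n := by
        have hxfin : IsOfFinOrder x := isOfFinOrder_of_finite x
        obtain ⟨n, hn⟩ := (hxfin.mem_powers_iff_mem_zpowers).mpr ⟨k, rfl⟩
        exact ⟨n, hn.symm⟩
      obtain ⟨n, hn⟩ := hfin
      rw [hn]
      exact hfix n
  rw [hA, hB, hD, hcardE, one_pow, one_mul, mul_one] at key
  exact key

end Cfsg.Agent.Helper10.ZassReg
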